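import Mathlib

open Polynomial

namespace Groth.Agent.Lib.Helper68.FactorJac

variable {R : Type*} [CommRing R] {S : Type*} [CommRing S] (n m : ℕ)

/-- low part: coefficients `a (castAdd i)`, `i < n` -/
noncomputable def uP (a : Fin (n + (m + 1)) → R) : R[X] :=
  ∑ i : Fin n, C (a (Fin.castAdd (m + 1) i)) * X ^ (i : ℕ)

/-- high part: coefficients `a (natAdd n j)`, `j ≤ m` -/
noncomputable def vP (a : Fin (n + (m + 1)) → R) : R[X] :=
  ∑ j : Fin (m + 1), C (a (Fin.natAdd n j)) * X ^ (j : ℕ)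

lemma uP_map (φ : R →+* S) (a : Fin (n + (m + 1)) → R) :
    (uP n m a).map φ = uP n m (fun l => φ (a l)) := by
  simp [uP, Polynomial.map_sum]

lemma vP_map (φ : R →+* S) (a : Fin (n + (m + 1)) → R) :
    (vP n m a).map φ = vP n m (fun l => φ (a l)) := by
  simp [vP, Polynomial.map_sum]

lemma degree_uP_lt (a : Fin (n + (m + 1)) → R) : (uP n m a).degree < n :=
  degree_sum_fin_lt _

lemma degree_vP_lt (a : Fin (n + (m + 1)) → R) : (vP n m a).degree < (m + 1 : ℕ) :=
  degree_sum_fin_lt _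

lemma uP_coeff (a : Fin (n + (m + 1)) → R) (i : Fin n) :
    (uP n m a).coeff i = a (Fin.castAdd (m + 1) i) := by
  simp only [uP, finsetSum_coeff, coeff_C_mul_X_pow]
  rw [Finset.sum_eq_single i]
  · simp
  · intro b _ hb
    rw [if_neg]
    intro h
    exact hb (Fin.ext h.symm)
  · simp

lemma vP_coeff (a : Fin (n + (m + 1)) → R) (j : Fin (m + 1)) :
    (vP n m a).coeff j = a (Fin.natAdd n j) := by
  simp only [vP, finsetSum_coeff, coeff_C_mul_X_pow]
  rw [Finset.sum_eq_single j]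
  · simp
  · intro b _ hb
    rw [if_neg]
    intro h
    exact hb (Fin.ext h.symm)
  · simp

lemma uP_coeff_nat (a : Fin (n + (m + 1)) → R) (i : ℕ) :
    (uP n m a).coeff i = if h : i < n then a (Fin.castAdd (m + 1) ⟨i, h⟩) else 0 := by
  split_ifs with h
  · exact uP_coeff n m a ⟨i, h⟩
  · exact coeff_eq_zero_of_degree_lt
      (lt_of_lt_of_le (degree_uP_lt n m a) (by exact_mod_cast not_lt.mp h))

/-- `uP` as a linear map -/
noncomputable def uPₗ : (Fin (n + (m + 1)) → R) →ₗ[R] R[X] where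
  toFun := uP n m
  map_add' a b := by simp [uP, add_mul, Finset.sum_add_distrib]
  map_smul' c a := by simp [uP, Finset.smul_sum, smul_eq_C_mul, mul_assoc]

noncomputable def vPₗ : (Fin (n + (m + 1)) → R) →ₗ[R] R[X] where
  toFun := vP n m
  map_add' a b := by simp [vP, add_mul, Finset.sum_add_distrib]
  map_smul' c a := by simp [vP, Finset.smul_sum, smul_eq_C_mul, mul_assoc]

lemma uPₗ_apply (a : Fin (n + (m + 1)) → R) : uPₗ n m a = uP n m a := rfl

lemma vPₗ_apply (a : Fin (n + (m + 1)) → R) : vPₗ n m a = vP n m a := rfl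

lemma single_eq (l : Fin (n + (m + 1))) :
    (fun j => if l = j then (1 : R) else 0) = Pi.single l 1 := by
  funext j
  simp [Pi.single_apply, eq_comm]

lemma uP_eq_sum (w : Fin (n + (m + 1)) → R) :
    uP n m w = ∑ l, C (w l) * uP n m (Pi.single l 1) := by
  rw [← uPₗ_apply, LinearMap.pi_apply_eq_sum_univ (uPₗ (R := R) n m) w]
  refine Finset.sum_congr rfl fun l _ => ?_
  rw [smul_eq_C_mul, uPₗ_apply, single_eq]

lemma vP_eq_sum (w : Fin (n + (m + 1)) → R) :
    vP n m w = ∑ l, C (w l) * vP n m (Pi.single l 1) := by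
  rw [← vPₗ_apply, LinearMap.pi_apply_eq_sum_univ (vPₗ (R := R) n m) w]
  refine Finset.sum_congr rfl fun l _ => ?_
  rw [smul_eq_C_mul, vPₗ_apply, single_eq]

lemma eq_zero_of_uP_vP (w : Fin (n + (m + 1)) → R) (hu : uP n m w = 0) (hv : vP n m w = 0) :
    w = 0 := by
  ext l
  refine Fin.addCases (fun i => ?_) (fun j => ?_) l
  · rw [← uP_coeff n m w i, hu]; simp
  · rw [← vP_coeff n m w j, hv]; simp

/-- the key injectivity -/
lemma eq_zero_of_coprime {g₀ h₀ u v : R[X]} (hg : g₀.Monic) (hc : IsCoprime g₀ h₀)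
    (hu : u.degree < g₀.degree) (h : u * h₀ + g₀ * v = 0) : u = 0 ∧ v = 0 := by
  have hdvd : g₀ ∣ u * h₀ := ⟨-v, by linear_combination h⟩
  have hdvd' : g₀ ∣ u := hc.dvd_of_dvd_mul_right hdvd
  have hu0 : u = 0 := by
    by_contra hne
    exact hg.not_dvd_of_degree_lt hne hu hdvd'
  subst hu0
  refine ⟨rfl, ?_⟩
  rw [zero_mul, zero_add] at h
  exact (hg.mul_right_eq_zero_iff).mp h

section Leibniz

variable {A : Type*} [CommRing A]

/-- coefficientwise application of an additive map -/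
noncomputable def dmap (δ : A →+ R) (p : A[X]) : R[X] :=
  ∑ i ∈ p.support, monomial i (δ (p.coeff i))

@[simp] lemma dmap_coeff (δ : A →+ R) (p : A[X]) (i : ℕ) :
    (dmap δ p).coeff i = δ (p.coeff i) := by
  simp only [dmap, finsetSum_coeff, coeff_monomial]
  rw [Finset.sum_ite_eq' p.support i]
  split_ifs with h
  · rfl
  · rw [notMem_support_iff.mp h, map_zero]

lemma coeff_mul_leibniz (ev : A →+* R) (δ : A →+ R)
    (hδ : ∀ x y, δ (x * y) = ev x * δ y + ev y * δ x) (p q : A[X]) (k : ℕ) :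
    δ ((p * q).coeff k) = (p.map ev * dmap δ q + dmap δ p * q.map ev).coeff k := by
  simp only [coeff_mul, coeff_add, map_sum, hδ, coeff_map, dmap_coeff, Finset.sum_add_distrib]
  congr 1
  apply Finset.sum_congr rfl
  intros
  ring

end Leibniz

end Groth.Agent.Lib.Helper68.FactorJac
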