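import Mathlib
import Groth.Agent.Lib.Helper68.FactorJac1
import Groth.Agent.S17972

open Polynomial IsLocalRing

namespace Groth.Agent.Lib.Helper68.FactorJac

universe u

lemma vP_coeff_nat {R : Type*} [CommRing R] (n m : ℕ) (a : Fin (n + (m + 1)) → R) (j : ℕ) :
    (vP n m a).coeff j = if h : j < m + 1 then a (Fin.natAdd n ⟨j, h⟩) else 0 := by
  split_ifs with h
  · exact vP_coeff n m a ⟨j, h⟩
  · exact coeff_eq_zero_of_degree_lt
      (lt_of_lt_of_le (degree_vP_lt n m a) (by exact_mod_cast not_lt.mp h))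

lemma coeff_mul_eq_zero_of_degree_lt {K : Type*} [CommRing K] {p q : K[X]} {a b k : ℕ}
    (hp : p.degree < a) (hq : q.degree < b) (hk : a + b ≤ k + 1) : (p * q).coeff k = 0 := by
  rw [coeff_mul]
  refine Finset.sum_eq_zero fun ij hij => ?_
  rw [Finset.HasAntidiagonal.mem_antidiagonal] at hij
  by_cases hi : a ≤ ij.1
  · rw [coeff_eq_zero_of_degree_lt (lt_of_lt_of_le hp (by exact_mod_cast hi)), zero_mul]
  · have hj : b ≤ ij.2 := by omega
    rw [coeff_eq_zero_of_degree_lt (lt_of_lt_of_le hq (by exact_mod_cast hj)), mul_zero]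

section Jac

variable {R : Type u} [CommRing R] (n m : ℕ)

/-- the system of equations: coefficients of `(X^n + uP X) * vP X - f` -/
noncomputable def sys (f : R[X]) (k : Fin (n + (m + 1))) : MvPolynomial (Fin (n + (m + 1))) R :=
  ((X ^ n + uP n m (fun l => (MvPolynomial.X l : MvPolynomial (Fin (n + (m + 1))) R))) *
    vP n m (fun l => (MvPolynomial.X l : MvPolynomial (Fin (n + (m + 1))) R))).coeff k -
    MvPolynomial.C (f.coeff k)

lemma eval_sys (f : R[X]) (a : Fin (n + (m + 1)) → R) (k : Fin (n + (m + 1))) :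
    MvPolynomial.eval a (sys n m f k) =
      ((X ^ n + uP n m a) * vP n m a).coeff k - f.coeff k := by
  rw [sys, map_sub, MvPolynomial.eval_C, ← coeff_map, Polynomial.map_mul, Polynomial.map_add,
    Polynomial.map_pow, map_X, uP_map, vP_map]
  simp only [MvPolynomial.eval_X]

/-- derivative-then-evaluate as an additive map -/
noncomputable def δ (a₀ : Fin (n + (m + 1)) → R) (l : Fin (n + (m + 1))) :
    MvPolynomial (Fin (n + (m + 1))) R →+ R :=
  (MvPolynomial.eval a₀).toAddMonoidHom.comp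
    (MvPolynomial.pderiv l).toLinearMap.toAddMonoidHom

lemma δ_apply (a₀ : Fin (n + (m + 1)) → R) (l : Fin (n + (m + 1)))
    (p : MvPolynomial (Fin (n + (m + 1))) R) :
    δ n m a₀ l p = MvPolynomial.eval a₀ (MvPolynomial.pderiv l p) := rfl

lemma δ_mul (a₀ : Fin (n + (m + 1)) → R) (l : Fin (n + (m + 1)))
    (x y : MvPolynomial (Fin (n + (m + 1))) R) :
    δ n m a₀ l (x * y) = MvPolynomial.eval a₀ x * δ n m a₀ l y +
      MvPolynomial.eval a₀ y * δ n m a₀ l x := by
  simp only [δ_apply, Derivation.leibniz, map_add, smul_eq_mul, map_mul]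

lemma δ_X (a₀ : Fin (n + (m + 1)) → R) (l j : Fin (n + (m + 1))) :
    δ n m a₀ l (MvPolynomial.X j) = (Pi.single l 1 : Fin (n + (m + 1)) → R) j := by
  rw [δ_apply, MvPolynomial.pderiv_X]
  by_cases h : j = l
  · subst h; simp
  · simp [h]

lemma dmap_uP (a₀ : Fin (n + (m + 1)) → R) (l : Fin (n + (m + 1))) :
    dmap (δ n m a₀ l) (X ^ n + uP n m (fun l => (MvPolynomial.X l :
      MvPolynomial (Fin (n + (m + 1))) R))) = uP n m (Pi.single l 1) := by
  ext i
  rw [dmap_coeff, coeff_add, coeff_X_pow, uP_coeff_nat, uP_coeff_nat, map_add]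
  have h1 : δ n m a₀ l (if i = n then 1 else 0) = 0 := by
    split_ifs
    · rw [δ_apply]; simp
    · simp
  rw [h1, zero_add]
  split_ifs with h
  · exact δ_X n m a₀ l _
  · simp

lemma dmap_vP (a₀ : Fin (n + (m + 1)) → R) (l : Fin (n + (m + 1))) :
    dmap (δ n m a₀ l) (vP n m (fun l => (MvPolynomial.X l :
      MvPolynomial (Fin (n + (m + 1))) R))) = vP n m (Pi.single l 1) := by
  ext i
  rw [dmap_coeff, vP_coeff_nat, vP_coeff_nat]
  split_ifs with h
  · exact δ_X n m a₀ l _
  · simp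

/-- the Jacobian applied to a vector -/
lemma jac_mulVec (f : R[X]) (a₀ w : Fin (n + (m + 1)) → R) (k : Fin (n + (m + 1))) :
    ∑ l, MvPolynomial.eval a₀ (MvPolynomial.pderiv l (sys n m f k)) * w l =
      ((X ^ n + uP n m a₀) * vP n m w + uP n m w * vP n m a₀).coeff k := by
  have h1 : ∀ l, MvPolynomial.eval a₀ (MvPolynomial.pderiv l (sys n m f k)) =
      ((X ^ n + uP n m a₀) * vP n m (Pi.single l 1) +
        uP n m (Pi.single l 1) * vP n m a₀).coeff k := by
    intro l
    rw [sys, map_sub, MvPolynomial.pderiv_C, sub_zero, ← δ_apply,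
      coeff_mul_leibniz (MvPolynomial.eval a₀) (δ n m a₀ l) (δ_mul n m a₀ l), dmap_uP, dmap_vP,
      Polynomial.map_add, Polynomial.map_pow, map_X, uP_map, vP_map]
    simp only [MvPolynomial.eval_X]
  simp_rw [h1]
  rw [uP_eq_sum n m w, vP_eq_sum n m w, Finset.mul_sum, Finset.sum_mul, ← Finset.sum_add_distrib,
    finsetSum_coeff]
  refine Finset.sum_congr rfl fun l _ => ?_
  rw [mul_comm _ (w l), ← coeff_C_mul]
  congr 1
  ring

end Jac

end Groth.Agent.Lib.Helper68.FactorJac
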