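import Mathlib
import Groth.Agent.Lib.Helper68.FactorJac2

open Polynomial IsLocalRing

namespace Groth.Agent.Lib.Helper68.FactorJac

universe u

section

variable (R : Type u) [CommRing R] [IsLocalRing R]

lemma jac_isUnit (n m : ℕ) (f : R[X]) (g₀ h₀ : (ResidueField R)[X]) (hg : g₀.Monic)
    (hc : IsCoprime g₀ h₀) (hg₀deg : g₀.degree = n) (hh₀deg : h₀.degree < (m + 1 : ℕ))
    (a₀ : Fin (n + (m + 1)) → R) (hu₀ : (X ^ n + uP n m a₀).map (residue R) = g₀)
    (hv₀ : (vP n m a₀).map (residue R) = h₀) :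
    IsUnit (Matrix.of (fun k l => MvPolynomial.eval a₀
      (MvPolynomial.pderiv l (sys n m f k)))).det := by
  classical
  have hinj : Function.Injective ((residue R).mapMatrix (Matrix.of (fun k l =>
      MvPolynomial.eval a₀ (MvPolynomial.pderiv l (sys n m f k))))).mulVec := by
    intro w₁ w₂ h12
    rw [← sub_eq_zero]
    have h0 : ((residue R).mapMatrix (Matrix.of (fun k l =>
      MvPolynomial.eval a₀ (MvPolynomial.pderiv l (sys n m f k))))).mulVec (w₁ - w₂) = 0 := by
      rw [Matrix.mulVec_sub, h12, sub_self]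
    generalize w₁ - w₂ = wb at h0
    obtain ⟨w, rfl⟩ : ∃ w : Fin (n + (m + 1)) → R, (fun l => residue R (w l)) = wb :=
      ⟨fun l => (residue_surjective (wb l)).choose,
        funext fun l => (residue_surjective (wb l)).choose_spec⟩
    have hk : ∀ k : Fin (n + (m + 1)),
        (g₀ * vP n m (fun l => residue R (w l)) +
          uP n m (fun l => residue R (w l)) * h₀).coeff k = 0 := by
      intro k
      have h1 : ((residue R).mapMatrix (Matrix.of (fun k l =>
          MvPolynomial.eval a₀ (MvPolynomial.pderiv l (sys n m f k))))).mulVec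
          (fun l => residue R (w l)) k = residue R (∑ l, MvPolynomial.eval a₀
            (MvPolynomial.pderiv l (sys n m f k)) * w l) := by
        simp only [Matrix.mulVec, dotProduct, RingHom.mapMatrix_apply, Matrix.map_apply,
          Matrix.of_apply, map_sum, map_mul]
      rw [h0, jac_mulVec, ← coeff_map, Polynomial.map_add, Polynomial.map_mul,
        Polynomial.map_mul, hu₀, hv₀, uP_map, vP_map] at h1
      exact h1.symm
    have hpoly : g₀ * vP n m (fun l => residue R (w l)) +
        uP n m (fun l => residue R (w l)) * h₀ = 0 := by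
      ext k
      rw [coeff_zero]
      by_cases hkN : k < n + (m + 1)
      · exact hk ⟨k, hkN⟩
      · rw [coeff_add, coeff_mul_eq_zero_of_degree_lt (a := n + 1) (b := m + 1)
          (by rw [hg₀deg]; exact_mod_cast Nat.lt_succ_self n) (degree_vP_lt n m _) (by omega),
          coeff_mul_eq_zero_of_degree_lt (a := n) (b := m + 1) (degree_uP_lt n m _) hh₀deg
            (by omega), add_zero]
    obtain ⟨hu, hv⟩ := eq_zero_of_coprime (u := uP n m (fun l => residue R (w l)))
      (v := vP n m (fun l => residue R (w l))) hg hc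
      (by rw [hg₀deg]; exact degree_uP_lt n m _)
      (by rw [add_comm] at hpoly; exact hpoly)
    exact eq_zero_of_uP_vP n m _ hu hv
  have h1 := Matrix.mulVec_injective_iff_isUnit.mp hinj
  have h2 := (Matrix.isUnit_iff_isUnit_det _).mp h1
  rw [← RingHom.map_det] at h2
  exact isUnit_of_map_unit (residue R) _ h2


end

variable (R : Type u) [CommRing R] [HenselianLocalRing R]

theorem factor_lift_aux (n m : ℕ) (f gt ht : R[X])
    (g₀ h₀ : (ResidueField R)[X]) (hg : g₀.Monic)
    (hc : IsCoprime g₀ h₀) (hf : f.map (residue R) = g₀ * h₀)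
    (hgt_map : gt.map (residue R) = g₀) (hgt_deg : gt.natDegree = n) (hgt_monic : gt.Monic)
    (hg₀_deg : g₀.natDegree = n)
    (hht_map : ht.map (residue R) = h₀) (hht_nat : ht.natDegree ≤ m) (hfm : f.natDegree ≤ m)
    (hh₀deg : h₀.degree < (m + 1 : ℕ)) :
    ∃ g h : R[X], f = g * h ∧ g.Monic ∧ g.map (residue R) = g₀ ∧ h.map (residue R) = h₀ := by
  classical
  -- the initial point
  let a₀ : Fin (n + (m + 1)) → R :=
    Fin.addCases (fun i : Fin n => gt.coeff i) (fun j : Fin (m + 1) => ht.coeff j)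
  have hu₀ : X ^ n + uP n m a₀ = gt := by
    conv_rhs => rw [hgt_monic.as_sum, hgt_deg]
    congr 1
    rw [uP, ← Fin.sum_univ_eq_sum_range (fun i => C (gt.coeff i) * X ^ i) n]
    refine Finset.sum_congr rfl fun i _ => ?_
    simp [a₀]
  have hv₀ : vP n m a₀ = ht := by
    conv_rhs => rw [ht.as_sum_range_C_mul_X_pow' (Nat.lt_succ_of_le hht_nat)]
    rw [vP, ← Fin.sum_univ_eq_sum_range (fun i => C (ht.coeff i) * X ^ i) (m + 1)]
    refine Finset.sum_congr rfl fun i _ => ?_
    simp [a₀]
  have hg₀deg : g₀.degree = n := by rw [degree_eq_natDegree hg.ne_zero, hg₀_deg]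
  -- approximate solution
  have h₀' : ∀ k, MvPolynomial.eval a₀ (sys n m f k) ∈ maximalIdeal R := by
    intro k
    rw [eval_sys, hu₀, hv₀, ← coeff_sub, ← residue_eq_zero_iff, ← coeff_map, Polynomial.map_sub,
      Polynomial.map_mul, hgt_map, hht_map, hf, sub_self, coeff_zero]
  have hJ := jac_isUnit R n m f g₀ h₀ hg hc hg₀deg hh₀deg a₀ (by rw [hu₀, hgt_map])
    (by rw [hv₀, hht_map])
  obtain ⟨a, ha, haa⟩ := Groth.Agent.S17972.Aux.main R (n + (m + 1)) (sys n m f) a₀ h₀' hJ
  have hres : (fun l => residue R (a l)) = fun l => residue R (a₀ l) := by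
    funext l
    rw [← sub_eq_zero, ← map_sub, residue_eq_zero_iff]
    exact haa l
  have hmonic : (X ^ n + uP n m a).Monic := monic_X_pow_add (degree_uP_lt n m a)
  have hdeg : (X ^ n + uP n m a).degree < ((n + 1 : ℕ) : WithBot ℕ) := by
    refine lt_of_le_of_lt (degree_add_le _ _) (max_lt ?_ ?_)
    · exact lt_of_le_of_lt (degree_X_pow_le n) (by exact_mod_cast Nat.lt_succ_self n)
    · exact lt_trans (degree_uP_lt n m a) (by exact_mod_cast Nat.lt_succ_self n)
  refine ⟨X ^ n + uP n m a, vP n m a, ?_, hmonic, ?_, ?_⟩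
  · ext k
    by_cases hkN : k < n + (m + 1)
    · have := ha ⟨k, hkN⟩
      rw [eval_sys, sub_eq_zero] at this
      exact this.symm
    · rw [coeff_mul_eq_zero_of_degree_lt (a := n + 1) (b := m + 1) hdeg
        (degree_vP_lt n m a) (by omega)]
      exact coeff_eq_zero_of_natDegree_lt (by omega)
  · rw [Polynomial.map_add, Polynomial.map_pow, map_X, uP_map, hres, ← uP_map, ← hgt_map, ← hu₀,
      Polynomial.map_add, Polynomial.map_pow, map_X]
  · rw [vP_map, hres, ← vP_map, hv₀, hht_map]

theorem factor_lift (f : R[X]) (g₀ h₀ : (ResidueField R)[X])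
    (hg : g₀.Monic) (hc : IsCoprime g₀ h₀) (hf : f.map (residue R) = g₀ * h₀) :
    ∃ g h : R[X], f = g * h ∧ g.Monic ∧ g.map (residue R) = g₀ ∧ h.map (residue R) = h₀ := by
  obtain ⟨gt, hgt_map, hgt_deg, hgt_monic⟩ := lifts_and_natDegree_eq_and_monic
    ((mem_lifts g₀).mpr (map_surjective _ residue_surjective g₀)) hg
  obtain ⟨ht, hht_map, hht_deg⟩ := exists_degree_eq_of_mem_lifts
    ((mem_lifts h₀).mpr (map_surjective _ residue_surjective h₀))
  have hht_nat : ht.natDegree ≤ f.natDegree + h₀.natDegree := by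
    rw [natDegree, hht_deg, ← natDegree]
    exact Nat.le_add_left _ _
  refine factor_lift_aux R g₀.natDegree (f.natDegree + h₀.natDegree) f gt ht g₀ h₀ hg hc hf
    hgt_map hgt_deg hgt_monic rfl hht_map hht_nat (Nat.le_add_right _ _) ?_
  rw [← hht_deg]
  exact lt_of_le_of_lt degree_le_natDegree (by exact_mod_cast Nat.lt_succ_of_le hht_nat)

end Groth.Agent.Lib.Helper68.FactorJac
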