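import Mathlib

/-!
# Hopf ideals and base change to the fraction field (helper68)

* `comulMk I : B →ₐ[k] (B ⧸ I) ⊗[k] (B ⧸ I)`, and `isHopfIdeal_iff` : a criterion for Hopf ideals
  of a commutative Hopf algebra in terms of algebra homs.
* Base change `A → K ⊗[R] A` : compatibility of counit/comul/antipode with `includeRight`.
-/

open scoped TensorProduct

universe u v

namespace Groth.Agent.Lib.Helper68.HopfIdealBC

section general

variable {k : Type*} [CommRing k] {B : Type*} [CommRing B] [Bialgebra k B] (I : Ideal B)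

variable (k) in
/-- The algebra hom `B → B/I ⊗ B/I`, `x ↦ (mk ⊗ mk) (Δ x)`. -/
noncomputable def comulMk : B →ₐ[k] (B ⧸ I) ⊗[k] (B ⧸ I) :=
  (Algebra.TensorProduct.map (Ideal.Quotient.mkₐ k I) (Ideal.Quotient.mkₐ k I)).comp
    (Bialgebra.comulAlgHom k B)

theorem map_mkQ_comul_eq_zero_iff (x : B) :
    TensorProduct.map (I.restrictScalars k).mkQ (I.restrictScalars k).mkQ (Coalgebra.comul x) = 0 ↔
      comulMk k I x = 0 := by
  let ρ := Submodule.Quotient.restrictScalarsEquiv k I
  let q := Ideal.Quotient.mkₐ k I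
  have hρ : (ρ : _ →ₗ[k] _) ∘ₗ (I.restrictScalars k).mkQ = q.toLinearMap := by
    ext a; rfl
  have h1 : TensorProduct.congr ρ ρ
      (TensorProduct.map (I.restrictScalars k).mkQ (I.restrictScalars k).mkQ
        (Coalgebra.comul x)) = comulMk k I x := by
    change _ = TensorProduct.map q.toLinearMap q.toLinearMap (Coalgebra.comul x)
    rw [← hρ, TensorProduct.map_comp]
    rfl
  rw [← h1]
  exact (LinearEquiv.map_eq_zero_iff _).symm

theorem isCoideal_iff :
    (I.restrictScalars k).IsCoideal ↔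
      (∀ x ∈ I, Coalgebra.counit (R := k) x = 0) ∧ ∀ x ∈ I, comulMk k I x = 0 := by
  rw [Submodule.isCoideal_iff]
  constructor
  · rintro ⟨h1, h2⟩
    exact ⟨fun x hx => h1 hx, fun x hx => (map_mkQ_comul_eq_zero_iff I x).mp (h2 hx)⟩
  · rintro ⟨h1, h2⟩
    exact ⟨fun x hx => h1 x hx, fun x hx => (map_mkQ_comul_eq_zero_iff I x).mpr (h2 x hx)⟩

end general

section hopf

variable {k : Type*} [CommRing k] {B : Type*} [CommRing B] [HopfAlgebra k B] (I : Ideal B)

theorem isHopfIdeal_iff :
    I.IsHopfIdeal k ↔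
      (∀ x ∈ I, Coalgebra.counit (R := k) x = 0) ∧ (∀ x ∈ I, comulMk k I x = 0) ∧
        ∀ x ∈ I, HopfAlgebra.antipode k x ∈ I := by
  rw [Ideal.isHopfIdeal_iff, isCoideal_iff]
  constructor
  · rintro ⟨⟨h1, h2⟩, h3⟩
    exact ⟨h1, h2, fun x hx => h3 hx⟩
  · rintro ⟨h1, h2, h3⟩
    exact ⟨⟨h1, h2⟩, fun x hx => h3 x hx⟩

/-- It suffices to check the Hopf ideal conditions on generators. -/
theorem isHopfIdeal_span {s : Set B} {J : Ideal B} (hJ : J = Ideal.span s)
    (h1 : ∀ x ∈ s, Coalgebra.counit (R := k) x = 0)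
    (h2 : ∀ x ∈ s, comulMk k J x = 0)
    (h3 : ∀ x ∈ s, HopfAlgebra.antipode k x ∈ J) : J.IsHopfIdeal k := by
  rw [isHopfIdeal_iff]
  refine ⟨?_, ?_, ?_⟩
  · have : J ≤ RingHom.ker (Bialgebra.counitAlgHom k B) := by
      rw [hJ, Ideal.span_le]
      intro x hx
      exact h1 x hx
    intro x hx
    exact this hx
  · have : J ≤ RingHom.ker (comulMk k J) := by
      conv_lhs => rw [hJ]
      rw [Ideal.span_le]
      intro x hx
      exact h2 x hx
    intro x hx
    exact this hx
  · have : J ≤ Ideal.comap (HopfAlgebra.antipodeAlgHom k B) J := by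
      conv_lhs => rw [hJ]
      rw [Ideal.span_le]
      intro x hx
      exact h3 x hx
    intro x hx
    exact this hx

end hopf

section baseChange

variable (R : Type u) [CommRing R] (K : Type u) [CommRing K] [Algebra R K]
  (A : Type u) [CommRing A] [HopfAlgebra R A]

/-- `A → K ⊗[R] A`. -/
noncomputable abbrev incl : A →ₐ[R] K ⊗[R] A := Algebra.TensorProduct.includeRight

theorem counit_incl (a : A) :
    Coalgebra.counit (R := K) (incl R K A a) = algebraMap R K (Coalgebra.counit (R := R) a) := by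
  simp [incl, Algebra.algebraMap_eq_smul_one]

theorem antipode_incl (a : A) :
    HopfAlgebra.antipode K (incl R K A a) = incl R K A (HopfAlgebra.antipode R a) := by
  simp [incl, TensorProduct.antipode_def]

/-- `A ⊗[R] A → (K ⊗[R] A) ⊗[K] (K ⊗[R] A)`. -/
noncomputable def inclTensor : A ⊗[R] A →+* (K ⊗[R] A) ⊗[K] (K ⊗[R] A) :=
  Algebra.TensorProduct.mapRingHom (algebraMap R K)
    (RingHomClass.toRingHom (incl R K A)) (RingHomClass.toRingHom (incl R K A))
    (by simp [← IsScalarTower.algebraMap_eq]) (by simp [← IsScalarTower.algebraMap_eq])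

theorem inclTensor_tmul (a b : A) :
    inclTensor R K A (a ⊗ₜ b) = (incl R K A a) ⊗ₜ[K] (incl R K A b) := by
  simp [inclTensor]

theorem comul_incl (a : A) :
    Bialgebra.comulAlgHom K (K ⊗[R] A) (incl R K A a) =
      inclTensor R K A (Bialgebra.comulAlgHom R A a) := by
  have := congrArg (fun f => f a) (Bialgebra.comul_includeRight
    (R := R) (A := K) (B := A))
  exact this

section quot

variable {J' : Ideal A} {J : Ideal (K ⊗[R] A)} (h : J' ≤ J.comap (incl R K A))

/-- `A/J' → (K ⊗ A)/J`. -/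
noncomputable def quotIncl : (A ⧸ J') →ₐ[R] (K ⊗[R] A) ⧸ J :=
  Ideal.quotientMapₐ J (incl R K A) h

theorem quotIncl_mk (a : A) :
    quotIncl R K A h (Ideal.Quotient.mk J' a) = Ideal.Quotient.mk J (incl R K A a) := rfl

/-- `(A/J') ⊗[R] (A/J') → (K ⊗ A)/J ⊗[K] (K ⊗ A)/J`. -/
noncomputable def quotTensor :
    (A ⧸ J') ⊗[R] (A ⧸ J') →ₗ[R] ((K ⊗[R] A) ⧸ J) ⊗[K] ((K ⊗[R] A) ⧸ J) :=
  (TensorProduct.mapOfCompatibleSMul K R R ((K ⊗[R] A) ⧸ J) ((K ⊗[R] A) ⧸ J)) ∘ₗ
    TensorProduct.map (quotIncl R K A h).toLinearMap (quotIncl R K A h).toLinearMap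

theorem quotTensor_tmul (x y : A ⧸ J') :
    quotTensor R K A h (x ⊗ₜ y) = (quotIncl R K A h x) ⊗ₜ[K] (quotIncl R K A h y) := rfl

theorem map_mk_inclTensor (t : A ⊗[R] A) :
    Algebra.TensorProduct.map (Ideal.Quotient.mkₐ K J) (Ideal.Quotient.mkₐ K J)
      (inclTensor R K A t) =
    quotTensor R K A h
      (Algebra.TensorProduct.map (Ideal.Quotient.mkₐ R J') (Ideal.Quotient.mkₐ R J') t) := by
  induction t using TensorProduct.induction_on with
  | zero => simp
  | tmul a b =>
    rw [inclTensor_tmul, Algebra.TensorProduct.map_tmul, Algebra.TensorProduct.map_tmul,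
      quotTensor_tmul]
    rfl
  | add x y hx hy => rw [map_add, map_add, map_add, map_add, hx, hy]

theorem comulMk_incl (a : A) :
    comulMk K J (incl R K A a) = quotTensor R K A h (comulMk R J' a) := by
  unfold comulMk
  rw [AlgHom.comp_apply, AlgHom.comp_apply, comul_incl, map_mk_inclTensor R K A h]

end quot

/-- The ideal generated by a Hopf ideal in the base change is a Hopf ideal. -/
theorem isHopfIdeal_map_incl {J' : Ideal A} (hJ' : J'.IsHopfIdeal R) :
    (Ideal.map (incl R K A) J').IsHopfIdeal K := by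
  rw [isHopfIdeal_iff] at hJ'
  obtain ⟨h1, h2, h3⟩ := hJ'
  have hle : J' ≤ (Ideal.map (incl R K A) J').comap (incl R K A) := Ideal.le_comap_map
  refine isHopfIdeal_span (s := (incl R K A) '' J') rfl ?_ ?_ ?_
  · rintro _ ⟨a, ha, rfl⟩
    rw [counit_incl, h1 a ha, map_zero]
  · rintro _ ⟨a, ha, rfl⟩
    rw [comulMk_incl R K A hle, h2 a ha, map_zero]
  · rintro _ ⟨a, ha, rfl⟩
    rw [antipode_incl]
    exact Ideal.mem_map_of_mem _ (h3 a ha)

/-- If `A/J'` is flat and `R → K` is injective, `J'` is recovered from its extension. -/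
theorem comap_map_incl_of_flat (hK : Function.Injective (algebraMap R K)) (J' : Ideal A)
    [Module.Flat R (A ⧸ J')] :
    (Ideal.map (incl R K A) J').comap (incl R K A) = J' := by
  apply le_antisymm _ Ideal.le_comap_map
  intro a ha
  rw [Ideal.mem_comap] at ha
  let φ : K ⊗[R] A →ₐ[K] K ⊗[R] (A ⧸ J') :=
    Algebra.TensorProduct.map (AlgHom.id K K) (Ideal.Quotient.mkₐ R J')
  have hφ : Ideal.map (incl R K A) J' ≤ RingHom.ker φ := by
    rw [Ideal.map_le_iff_le_comap]
    intro x hx
    rw [Ideal.mem_comap, RingHom.mem_ker]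
    change φ (1 ⊗ₜ x) = 0
    rw [Algebra.TensorProduct.map_tmul]
    have : Ideal.Quotient.mkₐ R J' x = 0 := Ideal.Quotient.eq_zero_iff_mem.mpr hx
    rw [this, TensorProduct.tmul_zero]
  have h0 : φ (incl R K A a) = 0 := hφ ha
  change φ (1 ⊗ₜ a) = 0 at h0
  rw [Algebra.TensorProduct.map_tmul] at h0
  have hinj : Function.Injective
      ((Algebra.linearMap R K).rTensor (A ⧸ J') ∘ₗ (TensorProduct.lid R (A ⧸ J')).symm.toLinearMap) :=
    (Module.Flat.rTensor_preserves_injective_linearMap (Algebra.linearMap R K) hK).comp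
      (TensorProduct.lid R (A ⧸ J')).symm.injective
  have h1 : ((Algebra.linearMap R K).rTensor (A ⧸ J') ∘ₗ
      (TensorProduct.lid R (A ⧸ J')).symm.toLinearMap) (Ideal.Quotient.mk J' a) = 0 := by
    simpa using h0
  have h2 := hinj (h1.trans (map_zero _).symm)
  exact Ideal.Quotient.eq_zero_iff_mem.mp h2

end baseChange

section fractionField

variable (R : Type u) [CommRing R] [IsDomain R] (K : Type u) [Field K] [Algebra R K]
  [IsFractionRing R K] (A : Type u) [CommRing A] [HopfAlgebra R A]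

/-- Every element of `K ⊗[R] A` has a nonzero multiple coming from `A`. -/
theorem exists_smul_eq_incl (x : K ⊗[R] A) : ∃ s : R, s ≠ 0 ∧ ∃ a : A, s • x = incl R K A a := by
  induction x using TensorProduct.induction_on with
  | zero => exact ⟨1, one_ne_zero, 0, by simp⟩
  | tmul c a =>
    obtain ⟨⟨s, hs⟩, r, hr⟩ := IsLocalization.exists_integer_multiple (nonZeroDivisors R) c
    refine ⟨s, nonZeroDivisors.ne_zero hs, r • a, ?_⟩
    have hr' : algebraMap R K r = s • c := hr
    rw [TensorProduct.smul_tmul', ← hr', Algebra.algebraMap_eq_smul_one, ← TensorProduct.smul_tmul',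
      map_smul]
    rfl
  | add x y hx hy =>
    obtain ⟨s, hs, a, ha⟩ := hx
    obtain ⟨t, ht, b, hb⟩ := hy
    refine ⟨s * t, mul_ne_zero hs ht, t • a + s • b, ?_⟩
    rw [smul_add, map_add, map_smul, map_smul, ← ha, ← hb, smul_smul, smul_smul, mul_comm t s]

/-- Every ideal of `K ⊗[R] A` is generated by its preimage in `A`. -/
theorem map_comap_incl (J : Ideal (K ⊗[R] A)) :
    Ideal.map (incl R K A) (J.comap (incl R K A)) = J := by
  apply le_antisymm Ideal.map_comap_le
  intro x hx
  obtain ⟨s, hs, a, ha⟩ := exists_smul_eq_incl R K A x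
  have hsK : algebraMap R K s ≠ 0 := by
    rwa [Ne, map_eq_zero_iff _ (IsFractionRing.injective R K)]
  have ha' : a ∈ J.comap (incl R K A) := by
    rw [Ideal.mem_comap, ← ha, Algebra.smul_def]
    exact Ideal.mul_mem_left _ _ hx
  have hx' : x = (algebraMap R K s)⁻¹ • incl R K A a := by
    rw [← ha, ← algebraMap_smul K s x, inv_smul_smul₀ hsK]
  rw [hx', Algebra.smul_def]
  exact Ideal.mul_mem_left _ _ (Ideal.mem_map_of_mem _ ha')

/-- A `K`-vector space is `R`-torsion-free. -/
theorem isTorsionFree_of_fractionField (M : Type*) [AddCommGroup M] [Module R M] [Module K M]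
    [IsScalarTower R K M] : Module.IsTorsionFree R M where
  isSMulRegular r hr x y hxy := by
    have hr0 : r ≠ 0 := hr.ne_zero
    have hsK : algebraMap R K r ≠ 0 := by
      rwa [Ne, map_eq_zero_iff _ (IsFractionRing.injective R K)]
    have h : algebraMap R K r • x = algebraMap R K r • y := by
      rw [algebraMap_smul, algebraMap_smul]; exact hxy
    have : (algebraMap R K r)⁻¹ • (algebraMap R K r • x) =
        (algebraMap R K r)⁻¹ • (algebraMap R K r • y) := by rw [h]
    rwa [inv_smul_smul₀ hsK, inv_smul_smul₀ hsK] at this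

variable {J : Ideal (K ⊗[R] A)}

theorem quotIncl_injective :
    Function.Injective (quotIncl R K A (le_refl (J.comap (incl R K A)))) := by
  rw [injective_iff_map_eq_zero]
  intro x hx
  obtain ⟨a, rfl⟩ := Ideal.Quotient.mk_surjective x
  rw [quotIncl_mk, Ideal.Quotient.eq_zero_iff_mem] at hx
  exact Ideal.Quotient.eq_zero_iff_mem.mpr hx

theorem isTorsionFree_quot_comap :
    Module.IsTorsionFree R (A ⧸ J.comap (incl R K A)) := by
  have := isTorsionFree_of_fractionField R K ((K ⊗[R] A) ⧸ J)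
  exact Function.Injective.moduleIsTorsionFree _ (quotIncl_injective R K A (J := J))
    (fun r m => map_smul _ r m)

end fractionField

section dedekind

variable (R : Type u) [CommRing R] [IsDedekindDomain R] (K : Type u) [Field K] [Algebra R K]
  [IsFractionRing R K] (A : Type u) [CommRing A] [HopfAlgebra R A]

variable {J : Ideal (K ⊗[R] A)}

theorem flat_quot_comap : Module.Flat R (A ⧸ J.comap (incl R K A)) := by
  have := isTorsionFree_quot_comap R K A (J := J)
  infer_instance

theorem quotTensor_injective :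
    Function.Injective (quotTensor R K A (le_refl (J.comap (incl R K A)))) := by
  have h1 := isTorsionFree_of_fractionField R K ((K ⊗[R] A) ⧸ J)
  have h2 : Module.Flat R ((K ⊗[R] A) ⧸ J) := inferInstance
  have h3 := flat_quot_comap R K A (J := J)
  have hc : TensorProduct.CompatibleSMul R K ((K ⊗[R] A) ⧸ J) ((K ⊗[R] A) ⧸ J) :=
    IsLocalization.tensorProduct_compatibleSMul (nonZeroDivisors R) K _ _
  unfold quotTensor
  rw [LinearMap.coe_comp]
  refine Function.Injective.comp ?_ ?_
  · exact (TensorProduct.equivOfCompatibleSMul R K R ((K ⊗[R] A) ⧸ J) ((K ⊗[R] A) ⧸ J)).symm.injective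
  · exact TensorProduct.map_injective_of_flat_flat _ _ (quotIncl_injective R K A)
      (quotIncl_injective R K A)

/-- The preimage in `A` of a Hopf ideal of `K ⊗[R] A` is a Hopf ideal. -/
theorem isHopfIdeal_comap_incl (hJ : J.IsHopfIdeal K) : (J.comap (incl R K A)).IsHopfIdeal R := by
  rw [isHopfIdeal_iff] at hJ ⊢
  obtain ⟨h1, h2, h3⟩ := hJ
  refine ⟨?_, ?_, ?_⟩
  · intro a ha
    have := h1 _ (Ideal.mem_comap.mp ha)
    rw [counit_incl] at this
    exact (map_eq_zero_iff _ (IsFractionRing.injective R K)).mp this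
  · intro a ha
    have := h2 _ (Ideal.mem_comap.mp ha)
    rw [comulMk_incl R K A (le_refl _)] at this
    exact quotTensor_injective R K A (this.trans (map_zero _).symm)
  · intro a ha
    rw [Ideal.mem_comap, ← antipode_incl]
    exact h3 _ (Ideal.mem_comap.mp ha)

end dedekind

end Groth.Agent.Lib.Helper68.HopfIdealBC
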