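import Mathlib.RingTheory.PolynomialLaw.Basic
import Mathlib.RingTheory.MvPolynomial.Basic
import Mathlib.RingTheory.TensorProduct.Basic
import Mathlib.LinearAlgebra.TensorProduct.RightExactness
import Mathlib.RingTheory.TensorProduct.DirectLimitFG

namespace Groth.Agent.Lib.Helper68

open scoped TensorProduct
open MvPolynomial LinearMap

universe u v w

variable {A : Type u} [CommRing A] {M : Type v} [AddCommGroup M] [Module A M]
  {N : Type w} [AddCommGroup N] [Module A N]

/-- A family of maps on polynomial rings compatible with algebra homomorphisms. -/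
def PolyCompat (T : ∀ n : ℕ, MvPolynomial (Fin n) A ⊗[A] M → MvPolynomial (Fin n) A ⊗[A] N) : Prop :=
  ∀ (n m : ℕ) (φ : MvPolynomial (Fin n) A →ₐ[A] MvPolynomial (Fin m) A),
    φ.toLinearMap.rTensor N ∘ T n = T m ∘ φ.toLinearMap.rTensor M

theorem PolyCompat.apply {T : ∀ n : ℕ, MvPolynomial (Fin n) A ⊗[A] M → MvPolynomial (Fin n) A ⊗[A] N}
    (hT : PolyCompat T) {n m : ℕ} (φ : MvPolynomial (Fin n) A →ₐ[A] MvPolynomial (Fin m) A)
    (p : MvPolynomial (Fin n) A ⊗[A] M) :
    φ.toLinearMap.rTensor N (T n p) = T m (φ.toLinearMap.rTensor M p) :=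
  congrFun (hT n m φ) p

/-- The kernel trick: adding an element of `K ⊗ M`, where `ψ` kills `K`, does not change the
image of `T` under `ψ`. -/
theorem PolyCompat.rTensor_add_ker
    {T : ∀ n : ℕ, MvPolynomial (Fin n) A ⊗[A] M → MvPolynomial (Fin n) A ⊗[A] N}
    (hT : PolyCompat T) {n : ℕ} {S : Type u} [CommSemiring S] [Algebra A S]
    (ψ : MvPolynomial (Fin n) A →ₐ[A] S) (K : Submodule A (MvPolynomial (Fin n) A))
    (hK : ∀ a ∈ K, ψ a = 0) (z : K ⊗[A] M) (q' : MvPolynomial (Fin n) A ⊗[A] M) :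
    ψ.toLinearMap.rTensor N (T n (q' + rTensor M K.subtype z)) =
      ψ.toLinearMap.rTensor N (T n q') := by
  induction z using TensorProduct.induction_on generalizing q' with
  | zero => simp
  | add z₁ z₂ h₁ h₂ =>
    rw [map_add, ← add_assoc, h₂, h₁]
  | tmul a m =>
    obtain ⟨a, ha⟩ := a
    have hψa : ψ a = 0 := hK a ha
    -- one more variable
    let j : MvPolynomial (Fin n) A →ₐ[A] MvPolynomial (Fin (n + 1)) A := rename Fin.castSucc
    let α : MvPolynomial (Fin (n + 1)) A →ₐ[A] MvPolynomial (Fin n) A :=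
      aeval (Fin.snoc (fun i => X i) a : Fin (n + 1) → MvPolynomial (Fin n) A)
    let β : MvPolynomial (Fin (n + 1)) A →ₐ[A] MvPolynomial (Fin n) A :=
      aeval (Fin.snoc (fun i => X i) 0 : Fin (n + 1) → MvPolynomial (Fin n) A)
    have hαj : α.comp j = AlgHom.id A _ := by
      apply MvPolynomial.algHom_ext
      intro i
      simp [α, j]
    have hβj : β.comp j = AlgHom.id A _ := by
      apply MvPolynomial.algHom_ext
      intro i
      simp [β, j]
    have hψαβ : ψ.comp α = ψ.comp β := by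
      apply MvPolynomial.algHom_ext
      intro i
      refine Fin.lastCases ?_ (fun i' => ?_) i
      · simp [α, β, hψa]
      · simp [α, β]
    let q'' : MvPolynomial (Fin (n + 1)) A ⊗[A] M :=
      j.toLinearMap.rTensor M q' + X (Fin.last n) ⊗ₜ[A] m
    have hα : α.toLinearMap.rTensor M q'' = q' + rTensor M K.subtype (⟨a, ha⟩ ⊗ₜ[A] m) := by
      simp only [q'', map_add, rTensor_tmul, AlgHom.toLinearMap_apply]
      rw [← LinearMap.comp_apply, ← rTensor_comp, ← AlgHom.comp_toLinearMap, hαj]
      simp [α]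
    have hβ : β.toLinearMap.rTensor M q'' = q' := by
      simp only [q'', map_add, rTensor_tmul, AlgHom.toLinearMap_apply]
      rw [← LinearMap.comp_apply, ← rTensor_comp, ← AlgHom.comp_toLinearMap, hβj]
      simp [β]
    rw [← hα, ← hT.apply, ← LinearMap.comp_apply, ← rTensor_comp, ← AlgHom.comp_toLinearMap,
      hψαβ]
    conv_rhs => rw [← hβ, ← hT.apply, ← LinearMap.comp_apply, ← rTensor_comp,
      ← AlgHom.comp_toLinearMap]

/-- If `x, x'` have the same image in `Ψ.range ⊗ M` then `x - x'` comes from `ker Ψ ⊗ M`. -/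
theorem sub_mem_range_rTensor_ker_of_rangeRestrict_eq {P : Type*} [CommRing P] [Algebra A P]
    {S : Type*} [CommSemiring S] [Algebra A S] (Ψ : P →ₐ[A] S) (x x' : P ⊗[A] M)
    (hd : rTensor M Ψ.rangeRestrict.toLinearMap x = rTensor M Ψ.rangeRestrict.toLinearMap x') :
    x - x' ∈ LinearMap.range
      (rTensor M ((RingHom.ker Ψ.rangeRestrict).restrictScalars A).subtype) := by
  set g := Ψ.rangeRestrict with hg
  have hsurj : Function.Surjective g := Ψ.rangeRestrict_surjective
  let e := Ideal.quotientKerAlgEquivOfSurjective hsurj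
  let I := RingHom.ker g
  let K : Submodule A P := I.restrictScalars A
  let r := Submodule.Quotient.restrictScalarsEquiv A I
  have hcomp : K.mkQ = (r.symm.toLinearMap ∘ₗ e.symm.toLinearMap) ∘ₗ g.toLinearMap := by
    ext x
    simp only [LinearMap.comp_apply, AlgHom.toLinearMap_apply, AlgEquiv.toLinearMap_apply,
      LinearEquiv.coe_coe, Submodule.mkQ_apply]
    have : e.symm (g x) = Ideal.Quotient.mk I x := by
      rw [AlgEquiv.symm_apply_eq]
      exact (Ideal.quotientKerAlgEquivOfSurjective_mk hsurj x).symm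
    rw [this]
    exact (Submodule.Quotient.restrictScalarsEquiv_symm_mk A I x).symm
  rw [← rTensor_mkQ, LinearMap.mem_ker, map_sub, sub_eq_zero, hcomp, rTensor_comp,
    LinearMap.comp_apply, LinearMap.comp_apply, hd]

/-- Well-definedness for a fixed chart `ψ`. -/
theorem PolyCompat.rTensor_eq_of_eq
    {T : ∀ n : ℕ, MvPolynomial (Fin n) A ⊗[A] M → MvPolynomial (Fin n) A ⊗[A] N}
    (hT : PolyCompat T) {n : ℕ} {S : Type u} [CommSemiring S] [Algebra A S]
    (ψ : MvPolynomial (Fin n) A →ₐ[A] S) (q q' : MvPolynomial (Fin n) A ⊗[A] M)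
    (h : ψ.toLinearMap.rTensor M q = ψ.toLinearMap.rTensor M q') :
    ψ.toLinearMap.rTensor N (T n q) = ψ.toLinearMap.rTensor N (T n q') := by
  classical
  have hA₀ : Subalgebra.FG (R := A) ψ.range := by
    rw [← Algebra.map_top]
    exact Subalgebra.FG.map _ Algebra.FiniteType.out
  set u := rTensor M ψ.rangeRestrict.toLinearMap q with hu
  set u' := rTensor M ψ.rangeRestrict.toLinearMap q' with hu'
  have huu' : rTensor M ψ.range.val.toLinearMap u = rTensor M ψ.range.val.toLinearMap u' := by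
    simp only [hu, hu', ← LinearMap.comp_apply, ← rTensor_comp, ← AlgHom.comp_toLinearMap,
      AlgHom.val_comp_rangeRestrict, h]
  obtain ⟨B, hAB, hBfg, hB⟩ := TensorProduct.Algebra.eq_of_fg_of_subtype_eq hA₀ huu'
  obtain ⟨s, hs⟩ := hBfg
  let b : Fin s.card → S := fun k => (s.equivFin.symm k : S)
  let Ψ : MvPolynomial (Fin (n + s.card)) A →ₐ[A] S :=
    aeval (Fin.append (fun i => ψ (X i)) b)
  let j : MvPolynomial (Fin n) A →ₐ[A] MvPolynomial (Fin (n + s.card)) A :=
    rename (Fin.castAdd s.card)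
  have hΨj : Ψ.comp j = ψ := by
    apply MvPolynomial.algHom_ext
    intro i
    simp [Ψ, j]
  have hBle : B ≤ Ψ.range := by
    rw [← hs]
    apply Algebra.adjoin_le
    intro x hx
    refine ⟨X (Fin.natAdd n (s.equivFin ⟨x, hx⟩)), ?_⟩
    simp [Ψ, b]
  have hA₀le : ψ.range ≤ Ψ.range := le_trans hAB hBle
  have hkey : Ψ.rangeRestrict.comp j = (Subalgebra.inclusion hA₀le).comp ψ.rangeRestrict := by
    ext x
    simp only [AlgHom.coe_comp, Function.comp_apply, AlgHom.coe_codRestrict,
      Subalgebra.coe_inclusion]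
    rw [← hΨj]
    rfl
  have hincl : Subalgebra.inclusion hA₀le =
      (Subalgebra.inclusion hBle).comp (Subalgebra.inclusion hAB) := by
    ext x
    rfl
  have hd : rTensor M Ψ.rangeRestrict.toLinearMap (j.toLinearMap.rTensor M q) =
      rTensor M Ψ.rangeRestrict.toLinearMap (j.toLinearMap.rTensor M q') := by
    simp only [← LinearMap.comp_apply, ← rTensor_comp, ← AlgHom.comp_toLinearMap, hkey]
    simp only [AlgHom.comp_toLinearMap, rTensor_comp, LinearMap.comp_apply, hincl]
    rw [← hu, ← hu', hB]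
  obtain ⟨z, hz⟩ := sub_mem_range_rTensor_ker_of_rangeRestrict_eq Ψ _ _ hd
  have hK : ∀ a ∈ (RingHom.ker Ψ.rangeRestrict).restrictScalars A, Ψ a = 0 := by
    intro a ha
    have : Ψ.rangeRestrict a = 0 := ha
    have h2 := congrArg Subtype.val this
    exact h2
  have hmain := hT.rTensor_add_ker Ψ _ hK z (j.toLinearMap.rTensor M q')
  rw [hz, add_sub_cancel] at hmain
  rw [← hΨj]
  simp only [AlgHom.comp_toLinearMap, rTensor_comp, LinearMap.comp_apply, hT.apply]
  exact hmain


/-- Well-definedness for two charts. -/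
theorem PolyCompat.rTensor_eq_of_eq'
    {T : ∀ n : ℕ, MvPolynomial (Fin n) A ⊗[A] M → MvPolynomial (Fin n) A ⊗[A] N}
    (hT : PolyCompat T) {n n' : ℕ} {S : Type u} [CommSemiring S] [Algebra A S]
    (ψ : MvPolynomial (Fin n) A →ₐ[A] S) (ψ' : MvPolynomial (Fin n') A →ₐ[A] S)
    (q : MvPolynomial (Fin n) A ⊗[A] M) (q' : MvPolynomial (Fin n') A ⊗[A] M)
    (h : ψ.toLinearMap.rTensor M q = ψ'.toLinearMap.rTensor M q') :
    ψ.toLinearMap.rTensor N (T n q) = ψ'.toLinearMap.rTensor N (T n' q') := by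
  let Ψ : MvPolynomial (Fin (n + n')) A →ₐ[A] S :=
    aeval (Fin.append (fun i => ψ (X i)) (fun i => ψ' (X i)))
  let j : MvPolynomial (Fin n) A →ₐ[A] MvPolynomial (Fin (n + n')) A :=
    rename (Fin.castAdd n')
  let j' : MvPolynomial (Fin n') A →ₐ[A] MvPolynomial (Fin (n + n')) A :=
    rename (Fin.natAdd n)
  have hΨj : Ψ.comp j = ψ := by
    apply MvPolynomial.algHom_ext
    intro i
    simp [Ψ, j]
  have hΨj' : Ψ.comp j' = ψ' := by
    apply MvPolynomial.algHom_ext
    intro i
    simp [Ψ, j']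
  have h1 : Ψ.toLinearMap.rTensor M (j.toLinearMap.rTensor M q) =
      Ψ.toLinearMap.rTensor M (j'.toLinearMap.rTensor M q') := by
    simp only [← LinearMap.comp_apply, ← rTensor_comp, ← AlgHom.comp_toLinearMap, hΨj, hΨj', h]
  have h2 := hT.rTensor_eq_of_eq Ψ _ _ h1
  rw [← hT.apply, ← hT.apply] at h2
  simpa only [← LinearMap.comp_apply, ← rTensor_comp, ← AlgHom.comp_toLinearMap, hΨj, hΨj']
    using h2

open Classical in
/-- The polynomial law built from a compatible family on polynomial rings. -/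
noncomputable def PolyCompat.toPolynomialLaw
    {T : ∀ n : ℕ, MvPolynomial (Fin n) A ⊗[A] M → MvPolynomial (Fin n) A ⊗[A] N}
    (hT : PolyCompat T) : M →ₚₗ[A] N where
  toFun' S _ _ t :=
    (PolynomialLaw.exists_lift t).choose_spec.choose.toLinearMap.rTensor N
      (T _ (PolynomialLaw.exists_lift t).choose_spec.choose_spec.choose)
  isCompat' {S _ _ S' _ _} φ := by
    funext t
    simp only [Function.comp_apply]
    have ht := (PolynomialLaw.exists_lift t).choose_spec.choose_spec.choose_spec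
    have ht' := (PolynomialLaw.exists_lift
      (φ.toLinearMap.rTensor M t)).choose_spec.choose_spec.choose_spec
    set n := (PolynomialLaw.exists_lift t).choose
    set ψ := (PolynomialLaw.exists_lift t).choose_spec.choose
    set p := (PolynomialLaw.exists_lift t).choose_spec.choose_spec.choose
    set n' := (PolynomialLaw.exists_lift (φ.toLinearMap.rTensor M t)).choose
    set ψ' := (PolynomialLaw.exists_lift (φ.toLinearMap.rTensor M t)).choose_spec.choose
    set p' := (PolynomialLaw.exists_lift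
      (φ.toLinearMap.rTensor M t)).choose_spec.choose_spec.choose
    rw [← LinearMap.comp_apply, ← rTensor_comp, ← AlgHom.comp_toLinearMap]
    apply hT.rTensor_eq_of_eq'
    rw [AlgHom.comp_toLinearMap, rTensor_comp, LinearMap.comp_apply, ht, ht']

theorem PolyCompat.toPolynomialLaw_toFun'
    {T : ∀ n : ℕ, MvPolynomial (Fin n) A ⊗[A] M → MvPolynomial (Fin n) A ⊗[A] N}
    (hT : PolyCompat T) {S : Type u} [CommSemiring S] [Algebra A S] {n : ℕ}
    (ψ : MvPolynomial (Fin n) A →ₐ[A] S) (p : MvPolynomial (Fin n) A ⊗[A] M) :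
    hT.toPolynomialLaw.toFun' S (ψ.toLinearMap.rTensor M p) =
      ψ.toLinearMap.rTensor N (T n p) := by
  have ht := (PolynomialLaw.exists_lift
    (ψ.toLinearMap.rTensor M p)).choose_spec.choose_spec.choose_spec
  exact hT.rTensor_eq_of_eq' _ _ _ _ ht

theorem PolyCompat.toPolynomialLaw_toFun'_mvPolynomial
    {T : ∀ n : ℕ, MvPolynomial (Fin n) A ⊗[A] M → MvPolynomial (Fin n) A ⊗[A] N}
    (hT : PolyCompat T) (n : ℕ) :
    hT.toPolynomialLaw.toFun' (MvPolynomial (Fin n) A) = T n := by
  funext p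
  have := hT.toPolynomialLaw_toFun' (AlgHom.id A (MvPolynomial (Fin n) A)) p
  simpa using this

/-- Roby: polynomial laws are the same as compatible families on polynomial rings. -/
theorem polynomialLaw_restrict_bijective :
    Function.Bijective (fun F : M →ₚₗ[A] N =>
      (⟨fun n => F.toFun' (MvPolynomial (Fin n) A), fun n m φ => F.isCompat' φ⟩ :
        {T : ∀ n : ℕ, MvPolynomial (Fin n) A ⊗[A] M → MvPolynomial (Fin n) A ⊗[A] N //
          ∀ (n m : ℕ) (φ : MvPolynomial (Fin n) A →ₐ[A] MvPolynomial (Fin m) A),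
            φ.toLinearMap.rTensor N ∘ T n = T m ∘ φ.toLinearMap.rTensor M})) := by
  constructor
  · intro F G hFG
    have hFG' : ∀ n, F.toFun' (MvPolynomial (Fin n) A) = G.toFun' (MvPolynomial (Fin n) A) :=
      fun n => congrFun (congrArg Subtype.val hFG) n
    apply PolynomialLaw.ext
    funext S _ _ t
    obtain ⟨n, ψ, p, rfl⟩ := PolynomialLaw.exists_lift t
    rw [← PolynomialLaw.isCompat_apply', ← PolynomialLaw.isCompat_apply', hFG']
  · rintro ⟨T, hT⟩
    have hT' : PolyCompat T := hT
    refine ⟨hT'.toPolynomialLaw, ?_⟩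
    apply Subtype.ext
    funext n
    exact hT'.toPolynomialLaw_toFun'_mvPolynomial n

end Groth.Agent.Lib.Helper68
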