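import Groth.Agent.Lib.Helper68.NeronDescA
import Groth.Agent.Lib.Helper51.QuotSpKernel
import Groth.Agent.H52.Bootstrap5
import Groth.Agent.Lib.Helper54.FpqcDescent
import Groth.Agent.Lib.Helper66.SmBoot9

/-!
# Descent of Néron models along a smooth cover, part B (helper68)

The quotient sheaf `N = N'/R`, its atlas `h_{N'} ⟶ N` (representable, smooth, surjective) and the
fact that `N` is an algebraic space.
-/

set_option autoImplicit false
universe u
open CategoryTheory CategoryTheory.Limits AlgebraicGeometry AlgSp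

namespace Groth.Agent.Lib.Helper68.NeronDesc

variable {S : Scheme.{u}}

/-- An epimorphism from a representable sheaf whose kernel pair is a scheme smooth over the source
is representable by smooth morphisms. -/
theorem repWith_smooth_of_epi_of_kernelPair {G : Sp S} {P : Over S} (π : (yon S).obj P ⟶ G) [Epi π]
    (hrep : Representable π) {W : Over S} (s t : W ⟶ P)
    (sq : IsPullback ((yon S).map s) ((yon S).map t) π π) (hs : Smooth s.left) :
    RepWith @Smooth π := by
  refine Groth.Agent.Lib.Helper54.repWith_of_fpqc_local @Smooth π hrep ?_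
  intro T hT y
  obtain ⟨m, W', c, l, haff, hflat, hsurj, hl⟩ :=
    Groth.Agent.H53.Residual.exists_flat_affine_lifts_of_epi π hT y
  refine ⟨m, W', c, haff, hflat, hsurj, fun j => ?_⟩
  obtain ⟨l', hl'⟩ := (yon S).map_surjective (l j)
  have sqL := (IsPullback.of_hasPullback s l').map (yon S)
  have big := sqL.paste_horiz sq.flip
  rw [hl', hl j] at big
  refine ⟨_, _, _, big, ?_⟩
  rw [repWith_yon_map_iff]
  have sqO := (IsPullback.of_hasPullback s l').map (Over.forget S)
  exact MorphismProperty.of_isPullback (P := @Smooth) sqO hs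

namespace Pkg

variable (P : Pkg S)

/-- `h_{N'}` -/
noncomputable abbrev X' : Sp S := (yon S).obj P.N'

/-- `h_R` -/
noncomputable abbrev hR : Sp S := (yon S).obj P.R

/-- `h_s` -/
noncomputable abbrev sS : P.hR ⟶ P.X' := (yon S).map P.s

/-- `h_t` -/
noncomputable abbrev tS : P.hR ⟶ P.X' := (yon S).map P.t

theorem isEqvRelSp : IsEqvRelSp P.sS P.tS where
  injective := by
    intro T r r' h1 h2
    obtain ⟨r, rfl⟩ := (yon S).map_surjective r
    obtain ⟨r', rfl⟩ := (yon S).map_surjective r'
    rw [← Functor.map_comp, ← Functor.map_comp] at h1 h2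
    have h1' := (yon S).map_injective h1
    have h2' := (yon S).map_injective h2
    congr 1
    apply P.R_ext _ _ h2'
    rw [← P.t_pr, ← Category.assoc, ← Category.assoc, h1']
  equivalence := by
    intro T
    refine ⟨fun a => ?_, fun {a b} => ?_, fun {a b c} => ?_⟩
    · obtain ⟨a, rfl⟩ := (yon S).map_surjective a
      refine ⟨(yon S).map (a ≫ P.eR), ?_, ?_⟩
      · rw [← Functor.map_comp, Category.assoc, P.eR_t, Category.comp_id]
      · rw [← Functor.map_comp, Category.assoc, P.eR_s, Category.comp_id]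
    · rintro ⟨r, rfl, rfl⟩
      refine ⟨r ≫ (yon S).map P.iR, ?_, ?_⟩
      · rw [Category.assoc, ← Functor.map_comp, P.iR_t]
      · rw [Category.assoc, ← Functor.map_comp, P.iR_s]
    · rintro ⟨r₁, rfl, h1⟩ ⟨r₂, h2, rfl⟩
      obtain ⟨r₁, rfl⟩ := (yon S).map_surjective r₁
      obtain ⟨r₂, rfl⟩ := (yon S).map_surjective r₂
      rw [← h2, ← Functor.map_comp, ← Functor.map_comp] at h1
      have h := (yon S).map_injective h1
      refine ⟨(yon S).map (prod.lift (r₂ ≫ P.s) (r₁ ≫ P.q)), ?_, ?_⟩
      · rw [← Functor.map_comp, ← Functor.map_comp, P.trans_pts r₂ r₁ h.symm]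
      · rw [← Functor.map_comp, ← Functor.map_comp, prod.lift_fst]

/-- The Néron model as a sheaf. -/
noncomputable def N : Sp S := quotSp P.sS P.tS

/-- The atlas. -/
noncomputable def πN : P.X' ⟶ P.N := quotSpπ P.sS P.tS

instance : Epi P.πN := by
  unfold πN quotSpπ
  exact coequalizer.π_epi

theorem πN_condition : P.sS ≫ P.πN = P.tS ≫ P.πN := coequalizer.condition _ _

theorem isPullback_πN : IsPullback P.tS P.sS P.πN P.πN :=
  Groth.Agent.Lib.Helper51.isPullback_quotSpπ_of_isEqvRelSp P.sS P.tS P.isEqvRelSp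

/-- Points of `N'` with the same image in `N` are related by a point of `R`. -/
theorem exists_rel {T : Over S} (n₁ n₂ : T ⟶ P.N')
    (h : (yon S).map n₁ ≫ P.πN = (yon S).map n₂ ≫ P.πN) :
    ∃ r : T ⟶ P.R, r ≫ P.s = n₁ ∧ r ≫ P.t = n₂ := by
  obtain ⟨r, hr⟩ := (yon S).map_surjective (P.isPullback_πN.lift _ _ h.symm)
  refine ⟨r, ?_, ?_⟩
  · apply (yon S).map_injective
    rw [Functor.map_comp, hr, P.isPullback_πN.lift_snd]
  · apply (yon S).map_injective
    rw [Functor.map_comp, hr, P.isPullback_πN.lift_fst]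

theorem representable_πN : Representable P.πN :=
  Groth.Agent.H52.Bootstrap.representable_of_epi_of_kernelPair P.πN P.t P.s P.isPullback_πN.flip
    (by have := P.smooth_s; infer_instance)

theorem repWith_smooth_πN : RepWith @Smooth P.πN :=
  repWith_smooth_of_epi_of_kernelPair P.πN P.representable_πN P.s P.t P.isPullback_πN.flip
    P.smooth_s

theorem repWith_surjective_πN : RepWith @Surjective P.πN :=
  Groth.Agent.H52.repWith_surjective_of_epi _ P.representable_πN

theorem isAlgSpace_N : IsAlgSpace P.N := by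
  refine Groth.Agent.Lib.Helper66.SmBoot.isAlgSpace_of_repBySpWith_smooth_surjective
    (IsAlgSpace.yon_obj P.N') P.πN ?_
  refine (repBySpWith_hom_iff _ P.πN).2 ?_
  intro U ξ F' fst snd sq
  have hrep := P.representable_πN
  have sq' := hrep.isPullback ξ
  let i : F' ≅ (yon S).obj (hrep.pullback ξ) := sq.isoIsPullback _ _ sq'
  have hi : i.hom ≫ (yon S).map (hrep.snd ξ) = snd := sq.isoIsPullback_hom_snd _ _ sq'
  have hsm : RepWith @Smooth ((yon S).map (hrep.snd ξ)) :=
    MorphismProperty.of_isPullback sq' P.repWith_smooth_πN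
  have hsu : RepWith @Surjective ((yon S).map (hrep.snd ξ)) :=
    MorphismProperty.of_isPullback sq' P.repWith_surjective_πN
  refine ⟨(IsAlgSpace.yon_obj _).of_iso i.symm, ?_, ?_⟩
  · rw [← hi]
    intro y
    obtain ⟨x, hx⟩ := Groth.Agent.H52.surjective_points_of_repWith_surjective _ hsu y
    refine ⟨Points.map i.inv x, ?_⟩
    rw [← Points.map_comp, ← Category.assoc, Iso.inv_hom_id, Category.id_comp, hx]
  · rw [← hi]
    exact Groth.Agent.H52.Bootstrap.locP_iso_comp i _
      (Groth.Agent.H52.isEtLocal_smooth.locP_of_repWith' _ hsm)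

end Pkg

end Groth.Agent.Lib.Helper68.NeronDesc
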