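import Mathlib
import Groth.Prelude.Def_AlgSp
import Groth.Prelude.Def_AlgSp3
import Groth.Prelude.Def_AlgSpGpd
import Groth.Agent.Lib.Helper68.NeronDescB
import Groth.Agent.Lib.Helper51.YonCoprod
import Groth.Agent.Lib.Helper51.OverCoprod
import Groth.Agent.S0412

/-!
# Quotients by smooth equivalence relations of schemes (helper68)

* `SmoothQuot.isAlgSpace_quotSp`: the fppf quotient of a scheme by a smooth equivalence relation
  (in schemes) is an algebraic space, with smooth surjective representable atlas and kernel pair
  the relation.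
* `exists_etale_cover_section`: a smooth surjective morphism of schemes over `S` has a section
  over an étale covering of the target.
-/

set_option autoImplicit false
universe u
open CategoryTheory CategoryTheory.Limits AlgebraicGeometry AlgSp

namespace Groth.Agent.Lib.Helper68.SmoothQuot

variable {S : Scheme.{u}}

section Quot

variable {U R : Over S} (s t : R ⟶ U)

/-- the quotient sheaf -/
noncomputable abbrev Q : Sp S := quotSp ((yon S).map s) ((yon S).map t)

/-- the quotient map -/
noncomputable abbrev π : (yon S).obj U ⟶ Q s t := quotSpπ ((yon S).map s) ((yon S).map t)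

instance : Epi (π s t) := by
  unfold π quotSpπ
  exact coequalizer.π_epi

variable (hE : IsEqvRelSp ((yon S).map s) ((yon S).map t))

include hE in
theorem isPullback_π : IsPullback ((yon S).map t) ((yon S).map s) (π s t) (π s t) :=
  Groth.Agent.Lib.Helper51.isPullback_quotSpπ_of_isEqvRelSp _ _ hE

include hE in
theorem representable_π (hs : Smooth s.left) : Representable (π s t) :=
  Groth.Agent.H52.Bootstrap.representable_of_epi_of_kernelPair (π s t) t s (isPullback_π s t hE).flip
    (by infer_instance)

include hE in
theorem repWith_smooth_π (hs : Smooth s.left) : RepWith @Smooth (π s t) :=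
  Groth.Agent.Lib.Helper68.NeronDesc.repWith_smooth_of_epi_of_kernelPair (π s t)
    (representable_π s t hE hs) s t (isPullback_π s t hE).flip hs

include hE in
theorem repWith_surjective_π (hs : Smooth s.left) : RepWith @Surjective (π s t) :=
  Groth.Agent.H52.repWith_surjective_of_epi _ (representable_π s t hE hs)

include hE in
theorem isAlgSpace_Q (hs : Smooth s.left) : IsAlgSpace (Q s t) := by
  refine Groth.Agent.Lib.Helper66.SmBoot.isAlgSpace_of_repBySpWith_smooth_surjective
    (IsAlgSpace.yon_obj U) (π s t) ?_
  refine (repBySpWith_hom_iff _ (π s t)).2 ?_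
  intro T ξ F' fst snd sq
  have hrep := representable_π s t hE hs
  have sq' := hrep.isPullback ξ
  let i : F' ≅ (yon S).obj (hrep.pullback ξ) := sq.isoIsPullback _ _ sq'
  have hi : i.hom ≫ (yon S).map (hrep.snd ξ) = snd := sq.isoIsPullback_hom_snd _ _ sq'
  have hsm : RepWith @Smooth ((yon S).map (hrep.snd ξ)) :=
    MorphismProperty.of_isPullback sq' (repWith_smooth_π s t hE hs)
  have hsu : RepWith @Surjective ((yon S).map (hrep.snd ξ)) :=
    MorphismProperty.of_isPullback sq' (repWith_surjective_π s t hE hs)
  refine ⟨(IsAlgSpace.yon_obj _).of_iso i.symm, ?_, ?_⟩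
  · rw [← hi]
    intro y
    obtain ⟨x, hx⟩ := Groth.Agent.H52.surjective_points_of_repWith_surjective _ hsu y
    refine ⟨Points.map i.inv x, ?_⟩
    rw [← Points.map_comp, ← Category.assoc, Iso.inv_hom_id, Category.id_comp, hx]
  · rw [← hi]
    exact Groth.Agent.H52.Bootstrap.locP_iso_comp i _
      (Groth.Agent.H52.isEtLocal_smooth.locP_of_repWith' _ hsm)

end Quot

/-- A smooth surjective morphism of schemes over `S` has a section over an étale covering of the
target. -/
theorem exists_etale_cover_section {W T : Over S} (w : W ⟶ T) (hsm : Smooth w.left)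
    (hsurj : Surjective w.left) :
    ∃ (V : Over S) (v : V ⟶ T) (σ : V ⟶ W), σ ≫ w = v ∧ Etale v.left ∧ Surjective v.left := by
  classical
  have hx : ∀ x : T.left, x ∈ Set.range w.left := fun x => hsurj.surj x
  choose S' g s' hg hgs h hh using fun x : T.left => Groth.Agent.S0412.result w.left x (hx x)
  have hdesc : Sigma.desc g ≫ T.hom = Sigma.desc (fun x => g x ≫ T.hom) := by
    apply Sigma.hom_ext
    intro x
    simp
  let V : Over S := Over.mk (Sigma.desc (fun x => g x ≫ T.hom))
  let v : V ⟶ T := Over.homMk (Sigma.desc g) hdesc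
  have hσ : Sigma.desc h ≫ W.hom = Sigma.desc (fun x => g x ≫ T.hom) := by
    apply Sigma.hom_ext
    intro x
    have : h x ≫ W.hom = g x ≫ T.hom := by
      rw [← hh x, Category.assoc, Over.w w]
    simp [this]
  let σ : V ⟶ W := Over.homMk (Sigma.desc h) hσ
  refine ⟨V, v, σ, ?_, ?_, ?_⟩
  · ext
    change Sigma.desc h ≫ w.left = Sigma.desc g
    apply Sigma.hom_ext
    intro x
    simp [hh x]
  · change Etale (Sigma.desc g)
    have : ∀ x, Etale (g x) := hg
    exact IsZariskiLocalAtSource.sigmaDesc this
  · change Surjective (Sigma.desc g)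
    constructor
    intro x
    refine ⟨(Sigma.ι S' x) (s' x), ?_⟩
    rw [← Scheme.Hom.comp_apply, Sigma.ι_desc]
    exact hgs x

end Groth.Agent.Lib.Helper68.SmoothQuot
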