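import Mathlib
import Groth.Prelude.Def_HopfRep
import Groth.Prelude.Def_CoactBr
import Groth.Prelude.Def_RedSub

/-!
# Affine quotient `G/H`: extracting ring-level data from the fppf-quotient square (helper68)

For `G = Spec AG`, `H = Spec AH ↪ G` (via `ψ : AG ↠ AH`) and `q : G ⟶ Q ≅ Spec B` presenting the
fppf quotient: `q = Spec f` with `f : B → AG` faithfully flat (`faithfullyFlat_f`), `f` lands in the
right coinvariants (`lTensor_comul_f`), and two points of `G` with the same image in `Q` differ by a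
unique point of `H` (`exists_eta`).
-/

set_option autoImplicit false
universe u
open CategoryTheory MonoidalCategory CartesianMonoidalCategory MonObj GrpObj AlgebraicGeometry Opposite
open TensorProduct

namespace Groth.Agent.Lib.Helper68.AffQuot

/-- every morphism `Spec K ⟶ Spec B` over `Spec R` comes from an algebra map. -/
theorem exists_pt_eq {R : Type u} [CommRing R] {B K : Type u} [CommRing B] [CommRing K]
    [Algebra R B] [Algebra R K] (g : CoactBr.sp R K ⟶ CoactBr.sp R B) :
    ∃ φ : B →ₐ[R] K, CoactBr.pt φ = g := by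
  let FF : (algSpec (CommRingCat.of R)).FullyFaithful := algSpec.fullyFaithful
  let g' : (algSpec (CommRingCat.of R)).obj (op (CommAlgCat.of R K)) ⟶
      (algSpec (CommRingCat.of R)).obj (op (CommAlgCat.of R B)) := g
  refine ⟨(FF.preimage g').unop.hom, ?_⟩
  change (algSpec (CommRingCat.of R)).map
    (CommAlgCat.ofHom (FF.preimage g').unop.hom).op = g
  have h : (CommAlgCat.ofHom (FF.preimage g').unop.hom).op = FF.preimage g' := rfl
  rw [h, FF.map_preimage]

end Groth.Agent.Lib.Helper68.AffQuot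

namespace Groth.Agent.Lib.Helper68.AffQuot
open CoactBr WithConv

section Ext
variable {k : Type u} [Field k] {AG AH : Type u} [CommRing AG] [HopfAlgebra k AG]
  [CommRing AH] [HopfAlgebra k AH] (ψ : AG →ₐc[k] AH)
  {Q : Over (Spec (CommRingCat.of k))} (q : sp k AG ⟶ Q)
  (hpb : IsPullback (fst (sp k AG) (sp k AH))
    ((sp k AG ◁ pt (ψ : AG →ₐ[k] AH)) ≫ μ[sp k AG]) q q)
  {B : Type u} [CommRing B] [Algebra k B] (e : Q ≅ sp k B) (f : B →ₐ[k] AG)
  (hf : q ≫ e.hom = pt f)

theorem pt_mul_pt' {K : Type u} [CommRing K] [Algebra k K] (g h : AG →ₐ[k] K) :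
    pt g * pt h = pt (toConv g * toConv h).ofConv :=
  (map_mul Spec.mapMulEquiv (toConv g) (toConv h)).symm

include hpb hf in
/-- (c): the torsor property on points. -/
theorem exists_eta {R' : Type u} [CommRing R'] [Algebra k R'] (γ₁ γ₂ : AG →ₐ[k] R')
    (hγ : γ₁.comp f = γ₂.comp f) :
    ∃ et : AH →ₐ[k] R', toConv γ₁ * toConv (et.comp (ψ : AG →ₐ[k] AH)) = toConv γ₂ := by
  have hq : q = pt f ≫ e.inv := by rw [← hf, Category.assoc, e.hom_inv_id, Category.comp_id]
  have hx : pt γ₁ ≫ q = pt γ₂ ≫ q := by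
    rw [hq, ← Category.assoc, ← Category.assoc, ← pt_comp, ← pt_comp, hγ]
  obtain ⟨et, het⟩ := exists_pt_eq (hpb.lift (pt γ₁) (pt γ₂) hx ≫ snd _ _)
  refine ⟨et, ?_⟩
  have hz : hpb.lift (pt γ₁) (pt γ₂) hx = lift (pt γ₁) (pt et) := by
    rw [← lift_comp_fst_snd (hpb.lift (pt γ₁) (pt γ₂) hx), hpb.lift_fst, het]
  have h2 := hpb.lift_snd (pt γ₁) (pt γ₂) hx
  rw [hz, ← Category.assoc, lift_whiskerLeft, ← Hom.mul_def, ← pt_comp, pt_mul_pt'] at h2
  have h3 := pt_injective h2
  rw [← h3]

include hpb hf in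
/-- (b): `f` lands in the right coinvariants of `ψ`. -/
theorem lTensor_comul_f (b : B) :
    (ψ : AG →ₐ[k] AH).toLinearMap.lTensor AG (Coalgebra.comul (R := k) (f b)) =
      f b ⊗ₜ[k] (1 : AH) := by
  have hq : q = pt f ≫ e.inv := by rw [← hf, Category.assoc, e.hom_inv_id, Category.comp_id]
  let iL : AG →ₐ[k] AG ⊗[k] AH := Algebra.TensorProduct.includeLeft
  let iR : AH →ₐ[k] AG ⊗[k] AH := Algebra.TensorProduct.includeRight
  have hw := congrArg (fun z => lift (pt iL) (pt iR) ≫ z ≫ e.hom) hpb.w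
  simp only [Category.assoc] at hw
  rw [hf, lift_fst_assoc, lift_whiskerLeft_assoc, ← Category.assoc _ μ[sp k AG], ← Hom.mul_def,
    ← pt_comp, ← pt_comp, pt_mul_pt', ← pt_comp] at hw
  have h3 := congrArg (fun g : B →ₐ[k] AG ⊗[k] AH => g b) (pt_injective hw)
  simp only [AlgHom.comp_apply] at h3
  have h4 : ∀ t : AG ⊗[k] AG,
      Algebra.TensorProduct.lift iL (iR.comp (ψ : AG →ₐ[k] AH)) (fun _ _ => .all _ _) t =
        (ψ : AG →ₐ[k] AH).toLinearMap.lTensor AG t := by
    intro t
    induction t using TensorProduct.induction_on with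
    | zero => simp
    | tmul x y => simp [iL, iR, Algebra.TensorProduct.tmul_mul_tmul]
    | add x y hx hy => simp only [map_add, hx, hy]
  rw [← h4]
  have h5 : (toConv iL * toConv (iR.comp (ψ : AG →ₐ[k] AH))) (f b) = iL (f b) := h3.symm
  rw [AlgHom.convMul_apply] at h5
  exact h5

include hf in
/-- (a): `f` is faithfully flat when `q` is flat and surjective. -/
theorem faithfullyFlat_f (hs : Surjective q.left) (hfl : Flat q.left) :
    f.toRingHom.FaithfullyFlat := by
  have h1 : q.left ≫ e.hom.left = Spec.map (CommRingCat.ofHom f.toRingHom) := by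
    rw [← Over.comp_left, hf, pt_left]
  have : IsIso e.hom.left := inferInstanceAs (IsIso ((Over.forget _).map e.hom))
  have := hs
  have := hfl
  have h2' : Flat (q.left ≫ e.hom.left) := inferInstance
  have h3' : Surjective (q.left ≫ e.hom.left) := inferInstance
  have h2 : Flat (Spec.map (CommRingCat.ofHom f.toRingHom)) := by
    rw [← h1]; exact h2'
  have h3 : Surjective (Spec.map (CommRingCat.ofHom f.toRingHom)) := by
    rw [← h1]; exact h3'
  exact (flat_and_surjective_SpecMap_iff _).1 ⟨h2, h3⟩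

end Ext

end Groth.Agent.Lib.Helper68.AffQuot
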