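import Mathlib
import Groth.Prelude.Def_Lie2
import Groth.Prelude.Def_ComodSub
import Groth.Prelude.Def_ComodTens
import Groth.Agent.Lib.Helper68.HopfLieIdeal
import Groth.Agent.Lib.Helper84.Stabilizer
import Groth.Agent.Lib.Helper84.SmallestSubcomod
import Groth.Agent.Lib.Helper86.CartierRed
import Groth.Agent.Lib.Helper93.Comod

/-!
# Comodules of a connected smooth group are controlled by the Lie algebra

`k` algebraically closed of characteristic zero, `A` a finite type commutative Hopf algebra without
nontrivial idempotents.  A subspace of a comodule stable under all `ε`-derivations (acting through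
`dualAct`) is a subcomodule (`isSubcomod_of_lie_stable`).  Proof: reduce to a finite-dimensional
comodule, take the stabilizer Hopf ideal (helper84), observe all `ε`-derivations vanish on it, the
quotient is smooth (Cartier, helper86), and apply `HopfLieIdeal.eq_bot_of_lie`.
-/

set_option autoImplicit false
set_option linter.unusedSectionVars false
set_option linter.style.haveILetI false
open TensorProduct HopfRep
universe u

namespace Groth.Agent.Lib.Helper68.LieComod
open Groth.Agent.Lib.Helper93.Comod
open Groth.Agent.Lib.Helper84.Stabilizer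

section lieForm
variable {k : Type u} [Field k] {A : Type u} [CommRing A] [HopfAlgebra k A]

/-- an `ε`-derivation as a linear form -/
def lieForm (ξ : LieHopf.Lie k A) : A →ₗ[k] k := ξ.toLinearMap.restrictScalars k

theorem lieForm_apply (ξ : LieHopf.Lie k A) (a : A) : lieForm ξ a = ξ a := rfl

end lieForm

section coeff
variable {k : Type u} [Field k] {A : Type u} [CommRing A] [HopfAlgebra k A]
variable {V : Type u} [AddCommGroup V] [Module k V] [Comod k A V]

theorem form_lid_rTensor (φ : A →ₗ[k] k) (lam : V →ₗ[k] k) (t : V ⊗[k] A) :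
    φ (TensorProduct.lid k A (lam.rTensor A t)) = lam (TensorProduct.rid k V (φ.lTensor V t)) := by
  induction t using TensorProduct.induction_on with
  | zero => simp
  | tmul v a => simp [mul_comm]
  | add x y hx hy => simp only [map_add, hx, hy]

theorem form_coeff (φ : A →ₗ[k] k) (lam : V →ₗ[k] k) (v : V) :
    φ (coeff (A := A) lam v) = lam (dualAct A V φ v) := by
  rw [coeff, form_lid_rTensor, dualAct_apply]

theorem dualAct_counit (v : V) :
    dualAct A V (Coalgebra.counit (R := k) (A := A)) v = v := by
  rw [dualAct_apply]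
  have := LinearMap.congr_fun (Comod.counit_comp (k := k) (A := A) (V := V)) v
  simp only [LinearMap.comp_apply, LinearMap.flip_apply, TensorProduct.mk_apply] at this
  rw [this]
  simp

/-- If `W` is stable under all `ε`-derivations, they all vanish on the stabilizer ideal. -/
theorem lie_vanish_stabIdeal (W : Submodule k V)
    (h : ∀ (ξ : LieHopf.Lie k A) (w : V), w ∈ W → dualAct A V (lieForm ξ) w ∈ W)
    (D : LieHopf.Lie k A) (a : A) (ha : a ∈ stabIdeal A W) : D a = 0 := by
  have key : ∀ a ∈ stabIdeal A W, D a = 0 ∧ Coalgebra.counit (R := k) a = 0 := by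
    intro a ha
    unfold stabIdeal at ha
    induction ha using Submodule.span_induction with
    | mem x hx =>
      obtain ⟨lam, hlam, w, hw, rfl⟩ := hx
      constructor
      · have := form_coeff (lieForm D) lam w
        rw [lieForm_apply] at this
        rw [this]
        exact hlam _ (h D w hw)
      · rw [form_coeff, dualAct_counit]
        exact hlam w hw
    | zero => exact ⟨map_zero _, map_zero _⟩
    | add x y _ _ hx hy =>
      exact ⟨by rw [map_add, hx.1, hy.1, add_zero], by rw [map_add, hx.2, hy.2, add_zero]⟩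
    | smul b x _ hx =>
      constructor
      · rw [smul_eq_mul, Derivation.leibniz, hx.1, smul_zero, zero_add, LieHopf.smul_def]
        have : (Bialgebra.counitAlgHom k A x : k) = 0 := hx.2
        rw [this, zero_smul]
      · rw [smul_eq_mul]
        have : Coalgebra.counit (R := k) (b * x) = Bialgebra.counitAlgHom k A (b * x) := rfl
        rw [this, map_mul]
        have : (Bialgebra.counitAlgHom k A x : k) = 0 := hx.2
        rw [this, mul_zero]
  exact (key a ha).1

end coeff


section smooth
variable (k : Type u) [Field k] [IsAlgClosed k] [CharZero k] (B : Type u) [CommRing B]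
  [HopfAlgebra k B] [Algebra.FiniteType k B]

/-- Over an algebraically closed field of characteristic zero every finite type commutative Hopf
algebra is smooth. -/
theorem formallySmooth_of_charZero : Algebra.FormallySmooth k B := by
  have hred : IsReduced B := Groth.Agent.Lib.Helper86.Cartier.isReduced_of_charZero k B
  have h1 : Algebra.FormallySmooth k (B ⧸ nilradical B) :=
    Groth.Agent.Lib.Helper68.HopfSmooth.formallySmooth_quotient_nilradical k B
  have h2 : nilradical B = ⊥ := nilradical_eq_zero B
  have e : (B ⧸ nilradical B) ≃ₐ[k] B :=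
    (Ideal.quotientEquivAlgOfEq k h2).trans (AlgEquiv.quotientBot k B)
  exact Algebra.FormallySmooth.of_equiv e

end smooth

section fd
variable {k : Type u} [Field k] [IsAlgClosed k] [CharZero k] {A : Type u} [CommRing A]
  [HopfAlgebra k A] [Algebra.FiniteType k A]
variable {V : Type u} [AddCommGroup V] [Module k V] [Comod k A V] [Module.Finite k V]

theorem isSubcomod_of_lie_stable_fd (hconn : ∀ e : A, IsIdempotentElem e → e = 0 ∨ e = 1)
    (W : Submodule k V)
    (h : ∀ (ξ : LieHopf.Lie k A) (w : V), w ∈ W →
      dualAct A V (lieForm ξ) w ∈ W) :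
    IsSubcomod (k := k) (A := A) W := by
  have : (stabIdeal A W).IsHopfIdeal k := isHopfIdeal_stabIdeal W
  have : Algebra.FiniteType k (A ⧸ stabIdeal A W) :=
    Algebra.FiniteType.of_surjective (Ideal.Quotient.mkₐ k _) (Ideal.Quotient.mkₐ_surjective k _)
  have : Algebra.FormallySmooth k (A ⧸ stabIdeal A W) :=
    formallySmooth_of_charZero k (A ⧸ stabIdeal A W)
  have hbot : stabIdeal A W = ⊥ :=
    Groth.Agent.Lib.Helper68.HopfLieIdeal.eq_bot_of_lie hconn (stabIdeal A W)
      (fun D a ha => lie_vanish_stabIdeal W h D a ha)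
  have hst : StabP W A (AlgHom.id k A) := by
    rw [← kills_stabIdeal_iff]
    intro a ha
    rw [hbot] at ha
    simpa using ha
  intro w hw
  have := hst w hw
  simpa using this

end fd

section general
variable {k : Type u} [Field k] [IsAlgClosed k] [CharZero k] {A : Type u} [CommRing A]
  [HopfAlgebra k A] [Algebra.FiniteType k A]
variable {M : Type u} [AddCommGroup M] [Module k M] [c : Comod k A M]

open Groth.Agent.Lib.Helper84 in
theorem isSubcomod_of_lie_stable (hconn : ∀ e : A, IsIdempotentElem e → e = 0 ∨ e = 1)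
    (V : Submodule k M)
    (h : ∀ (ξ : LieHopf.Lie k A) (v : M), v ∈ V → dualAct A M (lieForm ξ) v ∈ V) :
    IsSubcomod (k := k) (A := A) V := by
  intro v hv
  obtain ⟨F, hF, hvF, -, hfg⟩ :=
    SmallestSubcomod.exists_smallest_subcomod (C := A) (Submodule.span k {v})
  have hFfg : F.FG := hfg (Submodule.fg_span_singleton v)
  have hvF' : v ∈ F := hvF (Submodule.mem_span_singleton_self v)
  letI cF : Comod k A F := ComodSub.Comod.restr c F hF
  haveI : Module.Finite k F := Module.Finite.iff_fg.mpr hFfg
  let V' : Submodule k F := V.comap F.subtype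
  have hV' : IsSubcomod (k := k) (A := A) V' := by
    apply isSubcomod_of_lie_stable_fd hconn V'
    intro ξ w hw
    change F.subtype (dualAct A F (lieForm ξ) w) ∈ V
    rw [← dualAct_comm_of_isComodHom F.subtype (ComodSub.isComodHom_subtype c F hF)]
    exact h ξ _ hw
  obtain ⟨z, hz⟩ := hV' ⟨v, hvF'⟩ hv
  have h1 := ComodSub.restr_coact_coe c F hF ⟨v, hvF'⟩
  have h2 : F.subtype ∘ₗ V'.subtype = V.subtype ∘ₗ
      (F.subtype.restrict (p := V') (q := V) (fun w hw => hw)) := by
    ext w
    rfl
  refine ⟨(F.subtype.restrict (p := V') (q := V) (fun w hw => hw)).rTensor A z, ?_⟩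
  rw [← LinearMap.comp_apply, ← LinearMap.rTensor_comp, ← h2, LinearMap.rTensor_comp,
    LinearMap.comp_apply, hz]
  exact h1

end general


section conv
variable {k : Type u} [Field k] {A : Type u} [CommRing A] [HopfAlgebra k A]
variable {M : Type u} [AddCommGroup M] [Module k M] [Comod k A M]

theorem rid_rTensor_subtype (V : Submodule k M) (z : V ⊗[k] k) :
    TensorProduct.rid k M (V.subtype.rTensor k z) = ((TensorProduct.rid k V z : V) : M) := by
  induction z using TensorProduct.induction_on with
  | zero => simp
  | tmul v a => simp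
  | add x y hx hy => simp only [map_add, hx, hy, Submodule.coe_add]

theorem lie_mem_range_iff (V : Submodule k M) (ξ : LieHopf.Lie k A) (v : M) :
    LinearMap.lTensor M (ξ.toLinearMap.restrictScalars k) (Comod.coact (k := k) (A := A) v) ∈
        LinearMap.range (LinearMap.rTensor (LieHopf.K k A) V.subtype) ↔
      dualAct A M (lieForm ξ) v ∈ V := by
  change LinearMap.lTensor M (lieForm ξ) (Comod.coact (k := k) (A := A) v) ∈
        LinearMap.range (LinearMap.rTensor k V.subtype) ↔ _
  rw [dualAct_apply]
  constructor
  · rintro ⟨z, hz⟩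
    rw [← hz, rid_rTensor_subtype]
    exact Submodule.coe_mem _
  · intro hd
    refine ⟨(TensorProduct.rid k V).symm ⟨_, hd⟩, ?_⟩
    apply (TensorProduct.rid k M).injective
    rw [rid_rTensor_subtype, LinearEquiv.apply_symm_apply]

theorem lie_eq_zero_iff (ξ : LieHopf.Lie k A) (v : M) :
    LinearMap.lTensor M (ξ.toLinearMap.restrictScalars k) (Comod.coact (k := k) (A := A) v) = 0 ↔
      dualAct A M (lieForm ξ) v = 0 := by
  change LinearMap.lTensor M (lieForm ξ) (Comod.coact (k := k) (A := A) v) = 0 ↔ _
  rw [dualAct_apply]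
  exact (map_eq_zero_iff _ (TensorProduct.rid k M).injective).symm

end conv

section unip
variable {k : Type u} [Field k] {A : Type u} [CommRing A] [HopfAlgebra k A]
variable {M : Type u} [AddCommGroup M] [Module k M] [c : Comod k A M]

/-- In a unipotent group, a vector spanning a stable line is fixed. -/
theorem coact_eq_of_isSubcomod_span (hU : IsUnipotent k A) (f : M)
    (hW : IsSubcomod (k := k) (A := A) (Submodule.span k {f})) :
    Comod.coact (k := k) (A := A) f = f ⊗ₜ[k] (1 : A) := by
  by_cases hf : f = 0
  · rw [hf, map_zero, zero_tmul]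
  set W : Submodule k M := Submodule.span k {f} with hWdef
  letI cW : Comod k A W := ComodSub.Comod.restr c W hW
  haveI : Module.Finite k W := Module.Finite.iff_fg.mpr (Submodule.fg_span_singleton f)
  haveI : Nontrivial W := by
    refine ⟨⟨⟨f, Submodule.mem_span_singleton_self f⟩, 0, ?_⟩⟩
    intro h
    exact hf (congrArg Subtype.val h)
  have hfix := hU W inferInstance inferInstance
  obtain ⟨w, hw, hw0⟩ := (Submodule.ne_bot_iff _).mp hfix
  have hwfix : cW.coact w = w ⊗ₜ[k] (1 : A) := hw
  have h1 := ComodSub.restr_coact_coe c W hW w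
  rw [hwfix, LinearMap.rTensor_tmul, Submodule.subtype_apply] at h1
  obtain ⟨a, ha⟩ := Submodule.mem_span_singleton.mp w.2
  have ha0 : a ≠ 0 := by
    rintro rfl
    apply hw0
    apply Subtype.ext
    rw [← ha, zero_smul]
    rfl
  rw [← ha, map_smul, ← smul_tmul'] at h1
  have h2 := congrArg (fun t => a⁻¹ • t) h1
  simp only [smul_smul, inv_mul_cancel₀ ha0, one_smul] at h2
  exact h2.symm

end unip


section graph
variable {k : Type u} [Field k] [IsAlgClosed k] [CharZero k] {A : Type u} [CommRing A]
  [HopfAlgebra k A] [Algebra.FiniteType k A]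
variable {M₁ M₂ : Type u} [AddCommGroup M₁] [Module k M₁] [c₁ : Comod k A M₁]
  [AddCommGroup M₂] [Module k M₂] [c₂ : Comod k A M₂]

theorem dualAct_prod (φ : A →ₗ[k] k) (x : M₁) (y : M₂) :
    @dualAct k _ A _ _ _ (M₁ × M₂) _ _ (ComodTens.Comod.prod c₁ c₂) φ (x, y) =
      (dualAct A M₁ φ x, dualAct A M₂ φ y) := by
  letI : Comod k A (M₁ × M₂) := ComodTens.Comod.prod c₁ c₂
  rw [dualAct_apply]
  have h : Comod.coact (k := k) (A := A) ((x, y) : M₁ × M₂) =
      (LinearMap.inl k M₁ M₂).rTensor A (c₁.coact x) +
        (LinearMap.inr k M₁ M₂).rTensor A (c₂.coact y) := ComodTens.prod_coact c₁ c₂ x y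
  rw [h, map_add, map_add, rid_lTensor_rTensor, rid_lTensor_rTensor]
  simp only [LinearMap.inl_apply, LinearMap.inr_apply, Prod.mk_add_mk, add_zero, zero_add]
  rfl

/-- A linear map commuting with the infinitesimal action of a connected smooth group is a comodule
map. -/
theorem coact_comm_of_lie_comm (hconn : ∀ e : A, IsIdempotentElem e → e = 0 ∨ e = 1)
    (e : M₁ →ₗ[k] M₂)
    (h : ∀ (ξ : LieHopf.Lie k A) (x : M₁),
      dualAct A M₂ (lieForm ξ) (e x) = e (dualAct A M₁ (lieForm ξ) x)) (x : M₁) :
    c₂.coact (e x) = e.rTensor A (c₁.coact x) := by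
  letI : Comod k A (M₁ × M₂) := ComodTens.Comod.prod c₁ c₂
  have hsub : IsSubcomod (k := k) (A := A) (LinearMap.graph e) := by
    apply isSubcomod_of_lie_stable hconn
    rintro ξ ⟨a, b⟩ hab
    rw [LinearMap.mem_graph_iff] at hab
    simp only at hab
    subst hab
    rw [dualAct_prod, LinearMap.mem_graph_iff]
    exact h ξ a
  obtain ⟨z, hz⟩ := hsub (x, e x) (by rw [LinearMap.mem_graph_iff])
  have hcoact : Comod.coact (k := k) (A := A) ((x, e x) : M₁ × M₂) =
      (LinearMap.inl k M₁ M₂).rTensor A (c₁.coact x) +
        (LinearMap.inr k M₁ M₂).rTensor A (c₂.coact (e x)) := ComodTens.prod_coact c₁ c₂ x (e x)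
  have hp : (LinearMap.snd k M₁ M₂) ∘ₗ (LinearMap.graph e).subtype =
      e ∘ₗ (LinearMap.fst k M₁ M₂) ∘ₗ (LinearMap.graph e).subtype := by
    ext ⟨⟨a, b⟩, hab⟩
    rw [LinearMap.mem_graph_iff] at hab
    simpa using hab
  have e1 : (LinearMap.snd k M₁ M₂).rTensor A (Comod.coact (k := k) (A := A) ((x, e x) : M₁ × M₂)) =
      c₂.coact (e x) := by
    rw [hcoact, map_add, ← LinearMap.rTensor_comp_apply, ← LinearMap.rTensor_comp_apply,
      LinearMap.snd_comp_inl, LinearMap.snd_comp_inr,
      LinearMap.rTensor_zero, LinearMap.rTensor_id, LinearMap.zero_apply, zero_add,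
      LinearMap.id_apply]
  have e2 : (LinearMap.fst k M₁ M₂).rTensor A (Comod.coact (k := k) (A := A) ((x, e x) : M₁ × M₂)) =
      c₁.coact x := by
    rw [hcoact, map_add, ← LinearMap.rTensor_comp_apply, ← LinearMap.rTensor_comp_apply,
      LinearMap.fst_comp_inl, LinearMap.fst_comp_inr,
      LinearMap.rTensor_zero, LinearMap.rTensor_id, LinearMap.zero_apply, add_zero,
      LinearMap.id_apply]
  rw [← e1, ← e2, ← hz, ← LinearMap.rTensor_comp_apply, hp, LinearMap.rTensor_comp_apply,
    LinearMap.rTensor_comp_apply]

end graph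


section ridlemma
variable {k : Type u} [Field k] {M₁ M₂ : Type u} [AddCommGroup M₁] [Module k M₁]
  [AddCommGroup M₂] [Module k M₂]

theorem rid_rTensor (e : M₁ →ₗ[k] M₂) (y : M₁ ⊗[k] k) :
    TensorProduct.rid k M₂ (e.rTensor k y) = e (TensorProduct.rid k M₁ y) := by
  induction y using TensorProduct.induction_on with
  | zero => simp
  | tmul v a => simp
  | add x y hx hy => simp only [map_add, hx, hy]

end ridlemma

end Groth.Agent.Lib.Helper68.LieComod
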