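import Mathlib
import Groth.Agent.Lib.Helper54.KPGroupoid
import Groth.Agent.Lib.Helper37.GrpdPull

/-!
# fppf bootstrap (helper68), part KP: the kernel pair of a restricted chart

If `(R; t, s)` is the kernel pair of `π : h_U ⟶ F` and `φ : U' ⟶ U` is a morphism of schemes over
`S`, then the kernel pair of `h_φ ≫ π` is the scheme `R' = (R ×_{t,U,φ} U') ×_{s,U,φ} U'`, with
exactly the shape of helper37's restricted groupoid.
-/

set_option autoImplicit false
universe u
open CategoryTheory CategoryTheory.Limits AlgebraicGeometry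

namespace Groth.Agent.Lib.Helper68.FppfBoot

open AlgSp

variable {S : Scheme.{u}}

/-- the `Over S`-lift of a pullback of schemes -/
noncomputable def ovPullback {A B C : Over S} (f : A ⟶ C) (g : B ⟶ C) : Over S :=
  Over.mk (pullback.fst f.left g.left ≫ A.hom)

/-- first projection -/
noncomputable def ovFst {A B C : Over S} (f : A ⟶ C) (g : B ⟶ C) : ovPullback f g ⟶ A :=
  Over.homMk (pullback.fst f.left g.left) rfl

/-- second projection -/
noncomputable def ovSnd {A B C : Over S} (f : A ⟶ C) (g : B ⟶ C) : ovPullback f g ⟶ B :=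
  Over.homMk (pullback.snd f.left g.left) (by
    change pullback.snd f.left g.left ≫ B.hom = pullback.fst f.left g.left ≫ A.hom
    rw [← Over.w f, ← Over.w g, ← Category.assoc, ← Category.assoc, pullback.condition])

theorem isPullback_ov {A B C : Over S} (f : A ⟶ C) (g : B ⟶ C) :
    IsPullback (ovFst f g) (ovSnd f g) f g := by
  refine IsPullback.of_map (Over.forget S) ?_ ?_
  · ext1
    exact pullback.condition
  · exact IsPullback.of_hasPullback f.left g.left

/-- Pullback squares of schemes lift to `Over S`. -/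
theorem isPullback_over_of_left {A B C D : Over S} {a : A ⟶ B} {b : A ⟶ C} {c : B ⟶ D}
    {d : C ⟶ D} (sq : IsPullback a.left b.left c.left d.left) : IsPullback a b c d := by
  refine IsPullback.of_map (Over.forget S) ?_ sq
  ext1
  exact sq.w

section

variable {F : Sp S} {U R : Over S} {π : (yon S).obj U ⟶ F} (s t : R ⟶ U) {U' : Over S}
  (φ : U' ⟶ U)

/-- arrows with source and target in `U'` -/
noncomputable abbrev pullR : Over S := ovPullback (ovFst t φ ≫ s) φ

/-- the target -/
noncomputable abbrev pullT : pullR s t φ ⟶ U' := ovFst (ovFst t φ ≫ s) φ ≫ ovSnd t φ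

/-- the source -/
noncomputable abbrev pullS : pullR s t φ ⟶ U' := ovSnd (ovFst t φ ≫ s) φ

/-- the underlying arrow -/
noncomputable abbrev pullρ : pullR s t φ ⟶ R := ovFst (ovFst t φ ≫ s) φ ≫ ovFst t φ

variable {s t}

/-- The kernel pair of a restricted chart. -/
theorem isPullback_pull (sq : IsPullback ((yon S).map t) ((yon S).map s) π π) :
    IsPullback ((yon S).map (pullT s t φ)) ((yon S).map (pullS s t φ))
      ((yon S).map φ ≫ π) ((yon S).map φ ≫ π) := by
  have sq1 := (isPullback_ov t φ).map (yon S)
  have st1 : IsPullback ((yon S).map (ovFst t φ) ≫ (yon S).map s) ((yon S).map (ovSnd t φ)) π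
      ((yon S).map φ ≫ π) := sq1.paste_horiz sq.flip
  have sq2 := (isPullback_ov (ovFst t φ ≫ s) φ).map (yon S)
  rw [Functor.map_comp] at sq2
  have st2 := sq2.paste_horiz st1.flip
  rw [← Functor.map_comp] at st2
  exact st2

theorem pullρ_t : pullρ s t φ ≫ t = pullT s t φ ≫ φ := by
  rw [Category.assoc, Category.assoc, (isPullback_ov t φ).w]

theorem pullρ_s : pullρ s t φ ≫ s = pullS s t φ ≫ φ := by
  rw [Category.assoc]
  exact (isPullback_ov (ovFst t φ ≫ s) φ).w

end

end Groth.Agent.Lib.Helper68.FppfBoot
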