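import Mathlib
import Groth.Agent.Lib.Helper7.FlatDescent
import Groth.Agent.Lib.Helper71.FppfChart
import Groth.Agent.H52.Descent

/-!
# fppf bootstrap (helper68), part E: an étaleness criterion for charts of quotient sheaves

* `etale_of_fppf_cover`: `f : V ⟶ T` is étale as soon as there is an fppf covering `c : X ⟶ V`
  with `c ≫ f` flat, locally of finite presentation and `X ×_V X ⟶ X ×_T X` an open immersion.
* `exists_isPullback_kernelPair`: a categorical lemma on kernel pairs.
* `repWith_etale_of_open_kernelPair`: the map `h_M ⟶ F` from a finite locally free (or just fppf)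
  quotient `U' ⟶ M` of a chart `h_{U'} ⟶ F` whose kernel pair is an open subscheme of the kernel
  pair of the chart is representable étale.
-/

set_option autoImplicit false
universe u
open CategoryTheory CategoryTheory.Limits AlgebraicGeometry

namespace Groth.Agent.Lib.Helper68.FppfBoot

/-- the class of fppf coverings -/
abbrev fppfCov : MorphismProperty Scheme.{u} :=
  @Surjective ⊓ @Flat ⊓ @LocallyOfFinitePresentation

theorem fppfCov_iff {X Y : Scheme.{u}} (f : X ⟶ Y) :
    fppfCov f ↔ Surjective f ∧ Flat f ∧ LocallyOfFinitePresentation f :=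
  ⟨fun h => ⟨h.1.1, h.1.2, h.2⟩, fun h => ⟨⟨h.1, h.2.1⟩, h.2.2⟩⟩

theorem fppfCov_pullbackMap {S X X' Y Y' : Scheme.{u}} {f : X ⟶ S} {g : Y ⟶ S} {f' : X' ⟶ S}
    {g' : Y' ⟶ S} {i₁ : X ⟶ X'} {i₂ : Y ⟶ Y'} (h₁ : fppfCov i₁) (h₂ : fppfCov i₂)
    (e₁ : f = i₁ ≫ f') (e₂ : g = i₂ ≫ g') :
    fppfCov (pullback.map f g f' g' i₁ i₂ (𝟙 _) ((Category.comp_id _).trans e₁)
        ((Category.comp_id _).trans e₂)) := by
  have : MorphismProperty.IsStableUnderComposition (@Surjective : MorphismProperty Scheme.{u}) :=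
    (inferInstance : MorphismProperty.IsMultiplicative
      (@Surjective : MorphismProperty Scheme.{u})).toIsStableUnderComposition
  exact ⟨⟨MorphismProperty.pullbackMap (P := @Surjective) h₁.1.1 h₂.1.1 e₁ e₂,
    MorphismProperty.pullbackMap (P := @Flat) h₁.1.2 h₂.1.2 e₁ e₂⟩,
    MorphismProperty.pullbackMap (P := @LocallyOfFinitePresentation) h₁.2 h₂.2 e₁ e₂⟩

/-- A morphism `f : V ⟶ T` is étale as soon as there is an fppf covering `c : X ⟶ V` such that
`c ≫ f` is flat and locally of finite presentation and `X ×_V X ⟶ X ×_T X` is an open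
immersion. -/
theorem etale_of_fppf_cover {X V T : Scheme.{u}} (c : X ⟶ V) (f : V ⟶ T)
    [Surjective c] [Flat c] [LocallyOfFinitePresentation c] [Flat (c ≫ f)]
    [LocallyOfFinitePresentation (c ≫ f)]
    (hm : IsOpenImmersion (pullback.map c c (c ≫ f) (c ≫ f) (𝟙 X) (𝟙 X) f
      (Category.id_comp _).symm (Category.id_comp _).symm)) : Etale f := by
  have h1 : Flat f := Groth.Agent.Lib.Helper7.flat_of_flat_comp_of_flat_surjective c f
  have h2 : LocallyOfFinitePresentation f :=
    Groth.Agent.Lib.Helper71.FppfChart.locallyOfFinitePresentation_of_fppf_comp c f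
  have sq := pullback_map_diagonal_isPullback c c f
  have hc : fppfCov c := ⟨⟨inferInstance, inferInstance⟩, inferInstance⟩
  have hcov : fppfCov (pullback.map (c ≫ f) (c ≫ f) f f c c (𝟙 _) (Category.comp_id _)
      (Category.comp_id _)) := fppfCov_pullbackMap hc hc rfl rfl
  have h3 : IsOpenImmersion (pullback.diagonal f) :=
    MorphismProperty.of_isPullback_of_descendsAlong (P := @IsOpenImmersion)
      (Q := fppfCov) sq.flip hcov hm
  exact Etale.of_formallyUnramified_of_flat f

/-- Variant of `etale_of_fppf_cover` with arbitrary pullback squares. -/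
theorem etale_of_fppf_cover' {X V T YV YT : Scheme.{u}} (c : X ⟶ V) (f : V ⟶ T)
    [Surjective c] [Flat c] [LocallyOfFinitePresentation c] [Flat (c ≫ f)]
    [LocallyOfFinitePresentation (c ≫ f)] {p₁ p₂ : YV ⟶ X} (hV : IsPullback p₁ p₂ c c)
    {p₁' p₂' : YT ⟶ X} (hT : IsPullback p₁' p₂' (c ≫ f) (c ≫ f)) (m : YV ⟶ YT)
    (hm1 : m ≫ p₁' = p₁) (hm2 : m ≫ p₂' = p₂) [IsOpenImmersion m] : Etale f := by
  refine etale_of_fppf_cover c f ?_
  have : pullback.map c c (c ≫ f) (c ≫ f) (𝟙 X) (𝟙 X) f
      (Category.id_comp _).symm (Category.id_comp _).symm =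
      hV.isoPullback.inv ≫ m ≫ hT.isoPullback.hom := by
    apply pullback.hom_ext
    · simp only [pullback.lift_fst, Category.assoc, IsPullback.isoPullback_hom_fst, hm1,
        IsPullback.isoPullback_inv_fst, Category.comp_id]
    · simp only [pullback.lift_snd, Category.assoc, IsPullback.isoPullback_hom_snd, hm2,
        IsPullback.isoPullback_inv_snd, Category.comp_id]
  rw [this]
  infer_instance

/-- If `(a, b)` is the kernel pair of `f : A ⟶ B` and `X = A ×_B T`, then `X ×_T X` is the base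
change of `b : K ⟶ A` along `X ⟶ A`. -/
theorem exists_isPullback_kernelPair {C : Type*} [Category C] {A B T X K Y : C} {f : A ⟶ B}
    {a b : K ⟶ A} (hK : IsPullback a b f f) {ξ : T ⟶ B} {x₁ : X ⟶ A} {x₂ : X ⟶ T}
    (hX : IsPullback x₁ x₂ f ξ) {p₁ p₂ : Y ⟶ X} (hY : IsPullback p₁ p₂ x₂ x₂) :
    ∃ k : Y ⟶ K, k ≫ a = p₁ ≫ x₁ ∧ k ≫ b = p₂ ≫ x₁ ∧ IsPullback k p₂ b x₁ := by
  have big : IsPullback (p₁ ≫ x₁) p₂ f (x₂ ≫ ξ) := hY.paste_horiz hX
  rw [← hX.w] at big
  refine ⟨hK.lift (p₁ ≫ x₁) (p₂ ≫ x₁) (by rw [big.w, Category.assoc]), hK.lift_fst _ _ _,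
    hK.lift_snd _ _ _, ?_⟩
  refine IsPullback.of_right ?_ (hK.lift_snd _ _ _) hK
  rw [hK.lift_fst]
  exact big

open AlgSp

variable {S : Scheme.{u}}

/-- Let `π' : h_{U'} ⟶ F` be representable, flat and locally of finite presentation with kernel pair
the scheme `R'`, let `ρ : U' ⟶ M` be an fppf covering whose kernel pair `P` is an open subscheme
of `R'`, and let `q : h_M ⟶ F` be a representable map with `h_ρ ≫ q = π'`.  Then `q` is étale. -/
theorem repWith_etale_of_open_kernelPair {F : Sp S} {U' M P R' : Over S}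
    (π' : (yon S).obj U' ⟶ F) (hπ'f : RepWith @Flat π')
    (hπ'p : RepWith @LocallyOfFinitePresentation π')
    (a' b' : R' ⟶ U') (hR' : IsPullback ((yon S).map a') ((yon S).map b') π' π')
    (ρ : U' ⟶ M) [Surjective ρ.left] [Flat ρ.left] [LocallyOfFinitePresentation ρ.left]
    (ι : P ⟶ R') [IsOpenImmersion ι.left] (hP : IsPullback (ι ≫ a') (ι ≫ b') ρ ρ)
    (q : (yon S).obj M ⟶ F) (hq : Representable q) (hqρ : (yon S).map ρ ≫ q = π') :
    RepWith @Etale q := by
  refine ⟨hq, fun T V ξ v₁ v₂ sqV => ?_⟩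
  obtain ⟨v₁, rfl⟩ := (yon S).map_surjective v₁
  obtain ⟨X, x₂, x₁, sqX⟩ := hπ'f.rep ξ
  obtain ⟨x₁, rfl⟩ := (yon S).map_surjective x₁
  have hx₂f : Flat x₂.left := hπ'f.2 ξ _ _ sqX
  have hx₂p : LocallyOfFinitePresentation x₂.left := hπ'p.2 ξ _ _ sqX
  -- the covering `c : X ⟶ V`
  obtain ⟨c, hc⟩ := (yon S).map_surjective (sqV.lift ((yon S).map x₁ ≫ (yon S).map ρ)
    ((yon S).map x₂) (by rw [Category.assoc, hqρ, sqX.w]))
  have hc1 : (yon S).map c ≫ (yon S).map v₁ = (yon S).map x₁ ≫ (yon S).map ρ := by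
    rw [hc, sqV.lift_fst]
  have hc2 : (yon S).map c ≫ (yon S).map v₂ = (yon S).map x₂ := by rw [hc, sqV.lift_snd]
  have hc2' : c ≫ v₂ = x₂ := (yon S).map_injective (by rw [Functor.map_comp, hc2])
  have sqC : IsPullback ((yon S).map c) ((yon S).map x₁) ((yon S).map v₁) ((yon S).map ρ) := by
    refine IsPullback.of_right ?_ hc1 sqV.flip
    rw [hc2, hqρ]
    exact sqX.flip
  have sqC' : IsPullback c x₁ v₁ ρ := IsPullback.of_map (yon S)
    (by apply (yon S).map_injective; rw [Functor.map_comp, Functor.map_comp]; exact hc1) sqC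
  have sqCs := sqC'.flip.map (Over.forget S)
  have hcs : Surjective c.left := MorphismProperty.of_isPullback (P := @Surjective) sqCs ‹_›
  have hcf : Flat c.left := MorphismProperty.of_isPullback (P := @Flat) sqCs ‹_›
  have hcp : LocallyOfFinitePresentation c.left :=
    MorphismProperty.of_isPullback (P := @LocallyOfFinitePresentation) sqCs ‹_›
  -- the two kernel pair squares
  obtain ⟨kA, hkA1, hkA2, sqA⟩ := exists_isPullback_kernelPair hR' sqX
    ((IsPullback.of_hasPullback x₂ x₂).map (yon S))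
  obtain ⟨kA, rfl⟩ := (yon S).map_surjective kA
  obtain ⟨kB, hkB1, hkB2, sqB⟩ := exists_isPullback_kernelPair hP sqC'.flip
    (IsPullback.of_hasPullback c c)
  let m : pullback c c ⟶ pullback x₂ x₂ := pullback.lift (pullback.fst c c) (pullback.snd c c)
    (by rw [← hc2', ← Category.assoc, pullback.condition, Category.assoc])
  have hm1 : m ≫ pullback.fst x₂ x₂ = pullback.fst c c := pullback.lift_fst _ _ _
  have hm2 : m ≫ pullback.snd x₂ x₂ = pullback.snd c c := pullback.lift_snd _ _ _
  have hmk : m ≫ kA = kB ≫ ι := by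
    apply (yon S).map_injective
    apply hR'.hom_ext
    · rw [Functor.map_comp, Category.assoc, hkA1, ← Functor.map_comp, ← Functor.map_comp,
        ← Functor.map_comp, ← Category.assoc, hm1, Category.assoc, ← hkB1]
    · rw [Functor.map_comp, Category.assoc, hkA2, ← Functor.map_comp, ← Functor.map_comp,
        ← Functor.map_comp, ← Category.assoc, hm2, Category.assoc, ← hkB2]
  have sqA' : IsPullback kA (pullback.snd x₂ x₂) b' x₁ := IsPullback.of_map (yon S)
    (by apply (yon S).map_injective; rw [Functor.map_comp, Functor.map_comp]; exact hkA2) sqA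
  have sqM : IsPullback m kB kA ι := by
    refine IsPullback.of_right ?_ hmk sqA'.flip
    rw [hm2]
    exact sqB.flip
  have hmo : IsOpenImmersion m.left :=
    MorphismProperty.of_isPullback (P := @IsOpenImmersion) (sqM.flip.map (Over.forget S)) ‹_›
  have hYV := (IsPullback.of_hasPullback c c).map (Over.forget S)
  have hYT := (IsPullback.of_hasPullback x₂ x₂).map (Over.forget S)
  have e : x₂.left = c.left ≫ v₂.left := by rw [← hc2']; rfl
  simp only [Over.forget_obj, Over.forget_map] at hYV hYT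
  rw [e] at hYT hx₂f hx₂p
  exact etale_of_fppf_cover' c.left v₂.left hYV hYT m.left
    (by rw [← Over.comp_left, hm1]) (by rw [← Over.comp_left, hm2])

end Groth.Agent.Lib.Helper68.FppfBoot
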