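import Groth.Agent.Lib.Helper68.QSplitMain
import Groth.Agent.Lib.Helper54.LqfSepScheme

/-!
# Étale localisation of groupoids: the final statements (helper68)

The main theorem in the form of the milestones S12202, S12203 and S19957, and the three
translation-stable sets of arrows to which it is applied.
-/

set_option autoImplicit false
set_option linter.style.haveILetI false
set_option linter.unusedSectionVars false
universe u

namespace Groth.Agent.Lib.Helper68.QSplit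

open CategoryTheory CategoryTheory.Limits AlgebraicGeometry Grpd
open Groth.Agent.Lib.Helper37 Groth.Agent.Lib.Helper37.Pull Groth.Agent.Lib.Helper7.EtaleNbhd

/-! ### Field-valued points landing in a section -/

lemma isIso_residueFieldMap_of_eq_id {X : Scheme.{u}} (f : X ⟶ X) (hf : f = 𝟙 X) (x : X) :
    IsIso (f.residueFieldMap x) := by
  subst hf
  rw [Scheme.residueFieldMap_id]
  exact IsIso.id _

lemma isPurelyInseparable_of_surjective {F E : Type u} [Field F] [Field E] (f : F →+* E)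
    (hf : Function.Surjective f) : f.IsPurelyInseparable := by
  unfold RingHom.IsPurelyInseparable
  letI : Algebra F E := f.toAlgebra
  rw [isPurelyInseparable_iff]
  intro x
  obtain ⟨y, rfl⟩ := hf x
  exact ⟨isIntegral_algebraMap (R := F) (A := E) (x := y), fun _ => ⟨y, rfl⟩⟩

/-- A field-valued point of `Y` landing in the image of a section `σ` of `π : Y ⟶ U` factors through
`σ`. -/
theorem eq_comp_section {U Y : Scheme.{u}} (σ : U ⟶ Y) (π : Y ⟶ U) (hσπ : σ ≫ π = 𝟙 U)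
    {K : Type u} [Field K] (y : Spec (.of K) ⟶ Y)
    (hy : y (IsLocalRing.closedPoint K) ∈ Set.range σ) : y = (y ≫ π) ≫ σ := by
  obtain ⟨u₀, hu₀⟩ := hy
  have hπσ : π (σ u₀) = u₀ := by
    rw [← Scheme.Hom.comp_apply, hσπ]; rfl
  refine Groth.Agent.Lib.Helper54.eq_of_comp_eq_of_isPurelyInseparable π y ((y ≫ π) ≫ σ) ?_ ?_ ?_
  · rw [Category.assoc, Category.assoc, hσπ, Category.comp_id]
  · rw [Scheme.Hom.comp_apply, Scheme.Hom.comp_apply, ← hu₀, hπσ]
  · rw [← hu₀]
    have h1 : IsIso ((σ ≫ π).residueFieldMap u₀) := isIso_residueFieldMap_of_eq_id _ hσπ u₀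
    have h2 := isIso_residueFieldMap_of_comp σ π u₀ h1
    exact isPurelyInseparable_of_surjective _
      (ConcreteCategory.bijective_of_isIso (π.residueFieldMap (σ u₀))).2

variable {S : Scheme.{u}} (G : GroupoidScheme S)

/-! ### The main theorem in the form of the milestones -/

theorem exists_grpd_nbhd [IsSeparated G.s] [Flat G.s] [LocallyOfFinitePresentation G.s]
    (u : G.U) (F : Set G.R) (hFfin : F.Finite) (hFs : ∀ r ∈ F, G.s r = u)
    (hFt : ∀ r ∈ F, G.t r = u) (hFe : G.e u ∈ F) (hFq : ∀ r ∈ F, G.s.QuasiFiniteAt r)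
    (hF2 : TranslStable G F) :
    ∃ (G' : Grpd.GroupoidScheme S) (φ : Grpd.GroupoidScheme.Hom G' G) (u' : ↥G'.U),
      IsAffine G'.U ∧ Etale φ.fU ∧ φ.fU u' = u ∧ IsIso (φ.fU.residueFieldMap u') ∧
      IsPullback φ.fR G'.j G.j
        (pullback.map G'.pU G'.pU G.pU G.pU φ.fU φ.fU (𝟙 S)
          ((Category.comp_id _).trans φ.fU_over.symm) ((Category.comp_id _).trans φ.fU_over.symm)) ∧
      ∃ (P : Scheme.{u}) (ιP : P ⟶ G'.R), IsOpenImmersion ιP ∧
        (∃ eP : G'.U ⟶ P, eP ≫ ιP = G'.e) ∧ (∃ iP : P ⟶ P, iP ≫ ιP = ιP ≫ G'.i) ∧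
        (∃ cP : pullback (ιP ≫ G'.s) (ιP ≫ G'.t) ⟶ P,
          cP ≫ ιP = pullback.map (ιP ≫ G'.s) (ιP ≫ G'.t) G'.s G'.t ιP ιP (𝟙 G'.U)
            (Category.comp_id _) (Category.comp_id _) ≫ G'.c) ∧
        IsFinite (ιP ≫ G'.s) ∧ IsFinite (ιP ≫ G'.t) ∧
        ∀ r' : ↥G'.R, G'.s r' = u' → G'.t r' = u' → φ.fR r' ∈ F → ∃ p : ↥P, ιP p = r' := by
  obtain ⟨U', φ₀, u', P, hAff, hEt, hu', hiso, hsub, hfs, hft, hlast⟩ :=
    exists_split_nbhd G u F hFfin hFs hFt hFe hFq hF2
  obtain ⟨hE, hI, hC⟩ := hsub.exists_maps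
  have hoi : IsOpenImmersion P.ι := inferInstance
  refine ⟨pullGrpd G φ₀, pullHom G φ₀, u', hAff, hEt, hu', hiso, isPullback_pull_j G φ₀ _ _,
    P, P.ι, hoi, hE, hI, hC, hfs, hft, fun r' h1 h2 h3 => ?_⟩
  exact ⟨⟨r', hlast r' h1 h2 h3⟩, rfl⟩

end Groth.Agent.Lib.Helper68.QSplit
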