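import Groth.Agent.Lib.Helper68.QSplitFinal

/-!
# Étale localisation of groupoids: three translation-stable sets of arrows (helper68)
-/

set_option autoImplicit false
set_option linter.style.haveILetI false
set_option linter.unusedSectionVars false
universe u

namespace Groth.Agent.Lib.Helper68.QSplit

open CategoryTheory CategoryTheory.Limits AlgebraicGeometry Grpd
open Groth.Agent.Lib.Helper37 Groth.Agent.Lib.Helper37.Pull Groth.Agent.Lib.Helper7.EtaleNbhd

variable {S : Scheme.{u}} (G : GroupoidScheme S)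

/-- The identity at `u`. -/
theorem translStable_singleton_e (u : G.U) : TranslStable G {G.e u} := by
  intro K _ x r h hr
  have hr' : r = (r ≫ G.s) ≫ G.e :=
    eq_comp_section G.e G.s G.e_s r ⟨u, (Set.mem_singleton_iff.1 hr).symm⟩
  have e1 : gcomp G x (r ≫ G.i) (by rw [Category.assoc, G.i_t, h]) = x := by
    refine gcomp_e G x _ ?_ _
    rw [hr', Category.assoc, e_i, ← h, Category.assoc]
  rw [e1]

/-- The arrows from `u` to `u`. -/
theorem translStable_st (u : G.U) : TranslStable G {r | G.s r = u ∧ G.t r = u} := by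
  intro K _ x r h hr
  obtain ⟨hrs, hrt⟩ := hr
  simp only [Set.mem_setOf_eq]
  have h1 : G.s (x (IsLocalRing.closedPoint K)) = u := by
    rw [← Scheme.Hom.comp_apply, h, Scheme.Hom.comp_apply, hrs]
  have h2 : G.s (gcomp G x (r ≫ G.i) (by rw [Category.assoc, G.i_t, h])
      (IsLocalRing.closedPoint K)) = u := by
    rw [← Scheme.Hom.comp_apply, gcomp_s, Category.assoc, G.i_s, Scheme.Hom.comp_apply, hrt]
  have h3 : G.t (gcomp G x (r ≫ G.i) (by rw [Category.assoc, G.i_t, h])
      (IsLocalRing.closedPoint K)) = G.t (x (IsLocalRing.closedPoint K)) := by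
    rw [← Scheme.Hom.comp_apply, gcomp_t, Scheme.Hom.comp_apply]
  rw [h3]
  exact ⟨fun hx => ⟨h2, hx.2⟩, fun hx => ⟨h1, hx.2⟩⟩

/-- The images in `R` of the points of the stabiliser over `u`. -/
def stabSet (u : G.U) : Set G.R :=
  (pullback.fst G.j G.diag : G.stabilizer ⟶ G.R) '' {g | G.stabilizerToU g = u}

lemma mem_stabSet_iff (u : G.U) {K : Type u} [Field K] (z : Spec (.of K) ⟶ G.R) :
    z (IsLocalRing.closedPoint K) ∈ stabSet G u ↔
      z ≫ G.s = z ≫ G.t ∧ (z ≫ G.s) (IsLocalRing.closedPoint K) = u := by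
  constructor
  · rintro ⟨g, hg, hgz⟩
    have hg' : pullback.snd G.j G.diag g = u := hg
    have h1 : (z ≫ G.j) (IsLocalRing.closedPoint K) ∈ Set.range G.diag := by
      refine ⟨pullback.snd G.j G.diag g, ?_⟩
      rw [Scheme.Hom.comp_apply, ← hgz, ← Scheme.Hom.comp_apply, ← Scheme.Hom.comp_apply,
        pullback.condition]
    have h2 := eq_comp_section G.diag (pullback.fst G.pU G.pU) (diag_fst G) (z ≫ G.j) h1
    have h3 := (comp_j_eq_comp_diag_iff G z _).1 h2
    refine ⟨h3.2.trans h3.1.symm, ?_⟩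
    rw [Scheme.Hom.comp_apply, ← hgz, ← Scheme.Hom.comp_apply, stab_s]
    exact hg'
  · rintro ⟨h1, h2⟩
    have hc : z ≫ G.j = (z ≫ G.s) ≫ G.diag := (comp_j_eq_comp_diag_iff G z _).2 ⟨h1.symm, rfl⟩
    refine ⟨pullback.lift z (z ≫ G.s) hc (IsLocalRing.closedPoint K), ?_, ?_⟩
    · change pullback.snd G.j G.diag _ = u
      rw [← Scheme.Hom.comp_apply, pullback.lift_snd]
      exact h2
    · rw [← Scheme.Hom.comp_apply, pullback.lift_fst]

theorem translStable_stabSet (u : G.U) : TranslStable G (stabSet G u) := by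
  intro K _ x r h hr
  have hr' := ((mem_stabSet_iff G u r).1 hr).1
  rw [mem_stabSet_iff, mem_stabSet_iff]
  have hs : gcomp G x (r ≫ G.i) (by rw [Category.assoc, G.i_t, h]) ≫ G.s = x ≫ G.s := by
    rw [gcomp_s, Category.assoc, G.i_s, ← hr', h]
  have ht : gcomp G x (r ≫ G.i) (by rw [Category.assoc, G.i_t, h]) ≫ G.t = x ≫ G.t := by
    rw [gcomp_t]
  rw [hs, ht]

lemma stabSet_s (u : G.U) (r : G.R) (hr : r ∈ stabSet G u) : G.s r = u := by
  obtain ⟨g, hg, rfl⟩ := hr
  rw [← Scheme.Hom.comp_apply, stab_s]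
  exact hg

lemma stabSet_t (u : G.U) (r : G.R) (hr : r ∈ stabSet G u) : G.t r = u := by
  obtain ⟨g, hg, rfl⟩ := hr
  rw [← Scheme.Hom.comp_apply, stab_t]
  exact hg

lemma e_mem_stabSet (u : G.U) : G.e u ∈ stabSet G u := by
  have hc : G.e ≫ G.j = 𝟙 G.U ≫ G.diag :=
    (comp_j_eq_comp_diag_iff G G.e _).2 ⟨G.e_t, G.e_s⟩
  refine ⟨pullback.lift G.e (𝟙 G.U) hc u, ?_, ?_⟩
  · change pullback.snd G.j G.diag _ = u
    rw [← Scheme.Hom.comp_apply, pullback.lift_snd]
    rfl
  · rw [← Scheme.Hom.comp_apply, pullback.lift_fst]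

/-- Functoriality of the stabiliser on points. -/
lemma map_mem_stabSet {G' : GroupoidScheme S} (φ : GroupoidScheme.Hom G' G) (u' : G'.U)
    (g' : G'.stabilizer) (hg' : G'.stabilizerToU g' = u') :
    φ.fR ((pullback.fst G'.j G'.diag : G'.stabilizer ⟶ G'.R) g') ∈ stabSet G (φ.fU u') := by
  have hc : (pullback.fst G'.j G'.diag ≫ φ.fR) ≫ G.j =
      (pullback.snd G'.j G'.diag ≫ φ.fU) ≫ G.diag := by
    refine (comp_j_eq_comp_diag_iff G _ _).2 ⟨?_, ?_⟩
    · rw [Category.assoc, φ.comm_t, ← Category.assoc, stab_t]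
    · rw [Category.assoc, φ.comm_s, ← Category.assoc, stab_s]
  refine ⟨pullback.lift _ _ hc g', ?_, ?_⟩
  · change pullback.snd G.j G.diag _ = _
    rw [← Scheme.Hom.comp_apply, pullback.lift_snd, Scheme.Hom.comp_apply]
    have : pullback.snd G'.j G'.diag g' = u' := hg'
    rw [this]
  · rw [← Scheme.Hom.comp_apply, pullback.lift_fst, Scheme.Hom.comp_apply]

end Groth.Agent.Lib.Helper68.QSplit
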