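import Mathlib
import Groth.Agent.Lib.Helper68.FppfBootE
import Groth.Agent.Lib.Helper68.FppfBootKP
import Groth.Agent.Lib.Helper68.QSplitFinal
import Groth.Agent.Lib.Helper68.QSplitSets
import Groth.Agent.S1877
import Groth.Agent.S7488
import Groth.Agent.S1878
import Groth.Agent.Lib.Helper51.EffEqvRel

set_option autoImplicit false
set_option linter.style.haveILetI false
universe u
open CategoryTheory CategoryTheory.Limits AlgebraicGeometry

namespace Groth.Agent.Lib.Helper68.FppfBoot

open AlgSp Grpd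
open Groth.Agent.Lib.Helper37 Groth.Agent.Lib.Helper37.Pull Groth.Agent.Lib.Helper54
open Groth.Agent.Lib.Helper68.QSplit

variable {S : Scheme.{u}}

section

variable {F : Sp S} {U R : Over S} {π : (yon S).obj U ⟶ F} {s t : R ⟶ U}
  (hsq : IsPullback ((yon S).map t) ((yon S).map s) π π)

include hsq in

/-- restriction of the kernel pair groupoid to an affine open has separated source map -/
theorem isSeparated_pullS_of_isAffine {U' : Over S} (φ : U' ⟶ U) [IsAffine U'.left] :
    IsSeparated (pullS s t φ).left := by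
  have sq' := isPullback_pull φ hsq
  let j : (pullR s t φ).left ⟶ pullback U'.hom U'.hom :=
    pullback.lift (pullT s t φ).left (pullS s t φ).left (by rw [Over.w, Over.w])
  have hj : Mono j := by
    constructor
    intro Z a b hab
    apply kp_ext_left sq'
    · have := congrArg (fun f => f ≫ pullback.fst _ _) hab
      simpa only [Category.assoc, j, pullback.lift_fst] using this
    · have := congrArg (fun f => f ≫ pullback.snd _ _) hab
      simpa only [Category.assoc, j, pullback.lift_snd] using this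
  have : (pullS s t φ).left = j ≫ pullback.snd _ _ := by rw [pullback.lift_snd]
  rw [this]
  infer_instance

end

end Groth.Agent.Lib.Helper68.FppfBoot

namespace Groth.Agent.Lib.Helper68.FppfBoot

open AlgSp Grpd
open Groth.Agent.Lib.Helper37 Groth.Agent.Lib.Helper37.Pull Groth.Agent.Lib.Helper54
open Groth.Agent.Lib.Helper68.QSplit

variable {S : Scheme.{u}}

/-- The map from the quotient by a sub-relation. -/
theorem exists_desc_of_isQuotient {F : Sp S} {U' M P : Over S} (sP tP : P ⟶ U') (ρ : U' ⟶ M)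
    (hQ : QuotSh.IsQuotient Scheme.fppfPrecoverage sP tP ρ) (π' : (yon S).obj U' ⟶ F)
    (h : (yon S).map sP ≫ π' = (yon S).map tP ≫ π') :
    ∃ q : (yon S).obj M ⟶ F, (yon S).map ρ ≫ q = π' := by
  obtain ⟨w, hiso⟩ := hQ
  have cond : QuotSh.repMap Scheme.fppfPrecoverage sP ≫
      (QuotSh.repIsoUliftYoneda Scheme.fppfPrecoverage U').hom ≫ π' =
      QuotSh.repMap Scheme.fppfPrecoverage tP ≫
      (QuotSh.repIsoUliftYoneda Scheme.fppfPrecoverage U').hom ≫ π' := by
    rw [← Category.assoc, ← Category.assoc,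
      Groth.Agent.Lib.Helper51.repMap_comp_repIsoUliftYoneda_hom,
      Groth.Agent.Lib.Helper51.repMap_comp_repIsoUliftYoneda_hom, Category.assoc, Category.assoc]
    exact congrArg _ h
  let d : QuotSh.quot Scheme.fppfPrecoverage sP tP ⟶ F := coequalizer.desc _ cond
  have hd : QuotSh.quotπ Scheme.fppfPrecoverage sP tP ≫ d =
      (QuotSh.repIsoUliftYoneda Scheme.fppfPrecoverage U').hom ≫ π' := coequalizer.π_desc _ _
  have hρ : QuotSh.quotπ Scheme.fppfPrecoverage sP tP ≫
      QuotSh.quotDesc Scheme.fppfPrecoverage ρ w = QuotSh.repMap Scheme.fppfPrecoverage ρ :=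
    coequalizer.π_desc _ _
  refine ⟨(QuotSh.repIsoUliftYoneda Scheme.fppfPrecoverage M).inv ≫
    inv (QuotSh.quotDesc Scheme.fppfPrecoverage ρ w) ≫ d, ?_⟩
  have h1 : (yon S).map ρ ≫ (QuotSh.repIsoUliftYoneda Scheme.fppfPrecoverage M).inv =
      (QuotSh.repIsoUliftYoneda Scheme.fppfPrecoverage U').inv ≫
        QuotSh.repMap Scheme.fppfPrecoverage ρ :=
    (Groth.Agent.Lib.Helper51.repIsoUliftYoneda_inv_naturality Scheme.fppfPrecoverage ρ).symm
  rw [← Category.assoc, h1, Category.assoc, ← hρ, Category.assoc, IsIso.hom_inv_id_assoc, hd,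
    Iso.inv_hom_id_assoc]

end Groth.Agent.Lib.Helper68.FppfBoot

namespace Groth.Agent.Lib.Helper68.FppfBoot

open AlgSp Grpd
open Groth.Agent.Lib.Helper37 Groth.Agent.Lib.Helper37.Pull Groth.Agent.Lib.Helper54
open Groth.Agent.Lib.Helper68.QSplit

variable {S : Scheme.{u}}

theorem exists_etale_chart {F : Sp S} (hF : Representable (Limits.diag F)) {U R : Over S}
    {π : (yon S).obj U ⟶ F} {s t : R ⟶ U}
    (hsq : IsPullback ((yon S).map t) ((yon S).map s) π π)
    (hπf : RepWith @Flat π) (hπp : RepWith @LocallyOfFinitePresentation π)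
    [Flat s.left] [LocallyOfFinitePresentation s.left] [LocallyQuasiFinite s.left] (u : U.left) :
    ∃ (M : Scheme.{u}) (m : M ⟶ S) (U'' : Over S) (φ : U'' ⟶ U) (ρ : U'' ⟶ Over.mk m)
      (q : (yon S).obj (Over.mk m) ⟶ F) (u'' : U''.left),
      φ.left u'' = u ∧ (yon S).map ρ ≫ q = (yon S).map φ ≫ π ∧ RepWith @Etale q := by
  -- Step 1: an affine open neighbourhood
  obtain ⟨_, ⟨W, hW, rfl⟩, huW, -⟩ := U.left.isBasis_affineOpens.exists_subset_of_mem_open
    (Set.mem_univ u) isOpen_univ
  obtain ⟨W, rfl⟩ : ∃ W' : U.left.Opens, W' = W := ⟨W, rfl⟩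
  let Wov : Over S := Over.mk (W.ι ≫ U.hom)
  let jW : Wov ⟶ U := Over.homMk W.ι rfl
  have hWaff : IsAffine Wov.left := hW
  have sqW := isPullback_pull jW hsq
  let GW : GroupoidScheme S := kpGroupoid sqW
  have hsep : IsSeparated GW.s := isSeparated_pullS_of_isAffine hsq jW
  have hfl : Flat GW.s := by
    change Flat (pullback.snd (pullback.fst t.left W.ι ≫ s.left) W.ι)
    infer_instance
  have hfp : LocallyOfFinitePresentation GW.s := by
    change LocallyOfFinitePresentation (pullback.snd (pullback.fst t.left W.ι ≫ s.left) W.ι)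
    infer_instance
  have hqf : LocallyQuasiFinite GW.s := by
    change LocallyQuasiFinite (pullback.snd (pullback.fst t.left W.ι ≫ s.left) W.ι)
    infer_instance
  -- Step 2: the étale neighbourhood with a finite open subgroupoid
  obtain ⟨uW, huW'⟩ : ∃ uW : ↥GW.U, uW = (show ↥(W : Scheme.{u}) from ⟨u, huW⟩) := ⟨_, rfl⟩
  obtain ⟨U₂, φ₂, u₂, P, hAff, hEt, hu₂, -, hsub, hfs, hft, -⟩ :=
    exists_split_nbhd GW uW {GW.e uW} (Set.finite_singleton _)
      (fun r hr => by
        rw [Set.mem_singleton_iff.1 hr, ← Scheme.Hom.comp_apply, GW.e_s]; rfl)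
      (fun r hr => by
        rw [Set.mem_singleton_iff.1 hr, ← Scheme.Hom.comp_apply, GW.e_t]; rfl)
      (Set.mem_singleton _) (fun r _ => GW.s.quasiFiniteAt r) (translStable_singleton_e GW _)
  -- Step 3: the kernel pair of the restricted chart
  let U₂ov : Over S := Over.mk (φ₂ ≫ Wov.hom)
  let φ₂ov : U₂ov ⟶ Wov := Over.homMk φ₂ rfl
  have sq₂ := isPullback_pull φ₂ov sqW
  -- Step 4: the finite locally free groupoid
  let PG : GroupoidScheme S := hsub.grpd
  have hflb : Flat (b' GW φ₂) := by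
    change Flat (pullback.snd (pullback.fst GW.t φ₂ ≫ GW.s) φ₂)
    infer_instance
  have hfpb : LocallyOfFinitePresentation (b' GW φ₂) := by
    change LocallyOfFinitePresentation (pullback.snd (pullback.fst GW.t φ₂ ≫ GW.s) φ₂)
    infer_instance
  have i1 : IsAffine PG.U := hAff
  have i2 : IsFinite PG.s := hfs
  have i3 : IsFinite PG.t := hft
  have i4 : IsAffine PG.R := isAffine_of_isAffineHom PG.s
  have i5 : Flat PG.s := by
    change Flat (P.ι ≫ b' GW φ₂)
    infer_instance
  have i6 : LocallyOfFinitePresentation PG.s := by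
    change LocallyOfFinitePresentation (P.ι ≫ b' GW φ₂)
    infer_instance
  have i7 : Flat PG.t := hsub.t_of_s @Flat i5
  have i8 : LocallyOfFinitePresentation PG.t := hsub.t_of_s @LocallyOfFinitePresentation i6
  have i9 : Mono PG.j := by
    constructor
    intro Z a b hab
    have h1 : a ≫ PG.t = b ≫ PG.t := by
      have := congrArg (fun f => f ≫ pullback.fst _ _) hab
      simpa only [Category.assoc, GroupoidScheme.j, pullback.lift_fst] using this
    have h2 : a ≫ PG.s = b ≫ PG.s := by
      have := congrArg (fun f => f ≫ pullback.snd _ _) hab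
      simpa only [Category.assoc, GroupoidScheme.j, pullback.lift_snd] using this
    let a' : Z ⟶ (P : Scheme.{u}) := a
    let b' : Z ⟶ (P : Scheme.{u}) := b
    have h3 : a' ≫ P.ι = b' ≫ P.ι := by
      apply kp_ext_left sq₂
      · exact (Category.assoc _ _ _).trans (h1.trans (Category.assoc _ _ _).symm)
      · exact (Category.assoc _ _ _).trans (h2.trans (Category.assoc _ _ _).symm)
    exact (cancel_mono P.ι).1 h3
  obtain ⟨⟨-, hqfl, hqfp⟩, φiso, hφ1, hφ2⟩ := Groth.Agent.S1877.result S PG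
  obtain ⟨⟨hqsurj, -⟩, -⟩ := Groth.Agent.S1878.result S PG
  obtain ⟨m, ⟨hm, hQ⟩, -⟩ := Groth.Agent.S7488.result S PG
  have hqs : Surjective PG.toQuot := ⟨hqsurj⟩
  -- Step 5: the chart
  let U'' : Over S := Over.mk PG.pU
  let Mov : Over S := Over.mk m
  let Pov : Over S := Over.mk PG.pR
  let ρ : U'' ⟶ Mov := Over.homMk PG.toQuot hm
  let sP : Pov ⟶ U'' := Over.homMk PG.s PG.s_over
  let tP : Pov ⟶ U'' := Over.homMk PG.t PG.t_over
  let R₂ : Over S := pullR (pullS s t jW) (pullT s t jW) φ₂ov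
  let a₂ : R₂ ⟶ U'' := pullT (pullS s t jW) (pullT s t jW) φ₂ov
  let b₂ : R₂ ⟶ U'' := pullS (pullS s t jW) (pullT s t jW) φ₂ov
  let ι : Pov ⟶ R₂ := Over.homMk P.ι (by
    change P.ι ≫ pullback.fst _ _ ≫ pullback.fst _ _ ≫ _ = P.ι ≫ (pullback.fst _ _ ≫ pullback.fst _ _) ≫ _
    simp only [Category.assoc]
    rfl)
  have hιa : ι ≫ a₂ = tP := by ext1; rfl
  have hιb : ι ≫ b₂ = sP := by ext1; rfl
  have hιo : IsOpenImmersion ι.left := inferInstanceAs (IsOpenImmersion P.ι)
  -- the chart map
  let π'' : (yon S).obj U'' ⟶ F := (yon S).map φ₂ov ≫ (yon S).map jW ≫ π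
  have hcoeq : (yon S).map sP ≫ π'' = (yon S).map tP ≫ π'' := by
    rw [← hιa, ← hιb, Functor.map_comp, Functor.map_comp, Category.assoc, Category.assoc]
    exact congrArg _ sq₂.w.symm
  obtain ⟨q, hq⟩ := exists_desc_of_isQuotient sP tP ρ hQ π'' hcoeq
  refine ⟨_, m, U'', φ₂ov ≫ jW, ρ, q, u₂, ?_, ?_, ?_⟩
  · change W.ι (φ₂ u₂) = u
    rw [hu₂, huW']
    rfl
  · rw [hq, Functor.map_comp, Category.assoc]
  · have hflφ : Flat φ₂ := inferInstance
    have hfpφ : LocallyOfFinitePresentation φ₂ := inferInstance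
    have hπ''f : RepWith @Flat π'' :=
      (RepWith @Flat).comp_mem _ _ ((repWith_yon_map_iff @Flat φ₂ov).2 hflφ)
        ((RepWith @Flat).comp_mem _ _ ((repWith_yon_map_iff @Flat jW).2
          (inferInstanceAs (Flat W.ι))) hπf)
    have hπ''p : RepWith @LocallyOfFinitePresentation π'' :=
      (RepWith @LocallyOfFinitePresentation).comp_mem _ _
        ((repWith_yon_map_iff @LocallyOfFinitePresentation φ₂ov).2 hfpφ)
        ((RepWith @LocallyOfFinitePresentation).comp_mem _ _
          ((repWith_yon_map_iff @LocallyOfFinitePresentation jW).2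
            (inferInstanceAs (LocallyOfFinitePresentation W.ι))) hπp)
    have hP : IsPullback (ι ≫ a₂) (ι ≫ b₂) ρ ρ := by
      apply isPullback_over_of_left
      change IsPullback PG.t PG.s PG.toQuot PG.toQuot
      exact IsPullback.of_iso_pullback
        ⟨by rw [← hφ1, ← hφ2, Category.assoc, Category.assoc, pullback.condition]⟩ φiso hφ1 hφ2
    have hρs : Surjective ρ.left := hqs
    have hρf : Flat ρ.left := hqfl
    have hρp : LocallyOfFinitePresentation ρ.left := hqfp
    exact repWith_etale_of_open_kernelPair π'' hπ''f hπ''p a₂ b₂ sq₂ ρ ι hP q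
      (Functor.relativelyRepresentable.of_diag hF q) hq

end Groth.Agent.Lib.Helper68.FppfBoot
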