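import Mathlib
import Groth.Agent.Lib.Helper68.FppfBootChart
import Groth.Agent.H52.Bootstrap5
import Groth.Agent.H52.OpenSub
import Groth.Agent.Lib.Helper54.FpqcDescent
import Groth.Agent.H53.Residual
import Groth.Agent.Lib.Helper26.FlatLocal
import Groth.Agent.Lib.Helper66.SmBoot7a
import Groth.Agent.Lib.Helper51.YonCoprod
import Groth.Agent.Lib.Helper51.OverCoprod

set_option autoImplicit false
set_option linter.style.haveILetI false
universe u
open CategoryTheory CategoryTheory.Limits AlgebraicGeometry

namespace Groth.Agent.Lib.Helper68.FppfBoot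

open AlgSp

variable {S : Scheme.{u}}

/-- An epimorphism from a representable sheaf whose kernel pair is a scheme with property `Q` over
the source is representable with property `Q`, for `Q` fpqc local on the target. -/
theorem repWith_of_epi_of_kernelPair (Q : MorphismProperty Scheme.{u}) [Q.IsStableUnderBaseChange]
    [IsZariskiLocalAtTarget Q] [Q.DescendsAlong (@Surjective ⊓ @Flat ⊓ @QuasiCompact)]
    {G : Sp S} {P : Over S} (π : (yon S).obj P ⟶ G) [Epi π]
    (hrep : Representable π) {W : Over S} (s t : W ⟶ P)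
    (sq : IsPullback ((yon S).map s) ((yon S).map t) π π) (hs : Q s.left) :
    RepWith Q π := by
  refine Groth.Agent.Lib.Helper54.repWith_of_fpqc_local Q π hrep ?_
  intro T hT y
  obtain ⟨m, W', c, l, haff, hflat, hsurj, hl⟩ :=
    Groth.Agent.H53.Residual.exists_flat_affine_lifts_of_epi π hT y
  refine ⟨m, W', c, haff, hflat, hsurj, fun j => ?_⟩
  obtain ⟨l', hl'⟩ := (yon S).map_surjective (l j)
  have sqL := (IsPullback.of_hasPullback s l').map (yon S)
  have big := sqL.paste_horiz sq.flip
  rw [hl', hl j] at big
  refine ⟨_, _, _, big, ?_⟩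
  rw [repWith_yon_map_iff]
  have sqO := (IsPullback.of_hasPullback s l').map (Over.forget S)
  exact MorphismProperty.of_isPullback (P := Q) sqO hs

/-- An fppf sheaf `F` with an epimorphic chart `π : h_U ⟶ F` whose kernel pair is a scheme `R`,
flat, locally of finite presentation and locally quasi-finite over `U`, is an algebraic space. -/
theorem isAlgSpace_of_qf_kernelPair {F : Sp S} {U R : Over S} (π : (yon S).obj U ⟶ F) [Epi π]
    (s t : R ⟶ U) (hsq : IsPullback ((yon S).map t) ((yon S).map s) π π)
    [Flat s.left] [LocallyOfFinitePresentation s.left] [LocallyQuasiFinite s.left]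
    [Flat t.left] [LocallyOfFinitePresentation t.left] : IsAlgSpace F := by
  have hrep : Representable π :=
    Groth.Agent.H52.Bootstrap.representable_of_epi_of_kernelPair π s t hsq inferInstance
  have hπf : RepWith @Flat π := repWith_of_epi_of_kernelPair @Flat π hrep t s hsq ‹_›
  have hπp : RepWith @LocallyOfFinitePresentation π :=
    repWith_of_epi_of_kernelPair @LocallyOfFinitePresentation π hrep t s hsq ‹_›
  have hπs : RepWith @Surjective π := Groth.Agent.H52.repWith_surjective_of_epi π hrep
  -- the diagonal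
  have hdiag : Representable (Limits.diag F) := by
    refine Groth.Agent.H52.Bootstrap.representable_diag_of_fppf_cover (IsAlgSpace.yon_obj U) π ?_
    refine (repBySpWith_hom_iff _ π).2 ?_
    intro T ξ F' fst snd sq
    have sq' := hrep.isPullback ξ
    let i : F' ≅ (yon S).obj (hrep.pullback ξ) := sq.isoIsPullback _ _ sq'
    have hi : i.hom ≫ (yon S).map (hrep.snd ξ) = snd := sq.isoIsPullback_hom_snd _ _ sq'
    have h1 : RepWith @Surjective ((yon S).map (hrep.snd ξ)) :=
      MorphismProperty.of_isPullback sq' hπs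
    have h2 : RepWith @Flat ((yon S).map (hrep.snd ξ)) := MorphismProperty.of_isPullback sq' hπf
    have h3 : RepWith @LocallyOfFinitePresentation ((yon S).map (hrep.snd ξ)) :=
      MorphismProperty.of_isPullback sq' hπp
    refine ⟨(IsAlgSpace.yon_obj _).of_iso i.symm, ⟨?_, ?_⟩, ?_⟩
    · rw [← hi]
      intro y
      obtain ⟨x, hx⟩ := Groth.Agent.H52.surjective_points_of_repWith_surjective _ h1 y
      refine ⟨Points.map i.inv x, ?_⟩
      rw [← Points.map_comp, ← Category.assoc, Iso.inv_hom_id, Category.id_comp, hx]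
    · rw [← hi]
      exact Groth.Agent.H52.Bootstrap.locP_iso_comp i _
        (Groth.Agent.H52.isEtLocal_flat.locP_of_repWith' _ h2)
    · rw [← hi]
      exact Groth.Agent.H52.Bootstrap.locP_iso_comp i _
        (Groth.Agent.H52.isEtLocal_lfp.locP_of_repWith' _ h3)
  refine ⟨hdiag, ?_⟩
  -- the atlas
  choose M m U'' φ ρ q u'' h1 h2 h3 using fun u => exists_etale_chart hdiag hsq hπf hπp u
  have hc := Groth.Agent.Lib.Helper51.isColimitSigmaOver M m
  have hcy := Groth.Agent.Lib.Helper51.isColimitYonSigmaOver M m
  let qtot : (yon S).obj (Groth.Agent.Lib.Helper51.sigmaOver M m) ⟶ F :=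
    Cofan.IsColimit.desc hcy q
  have hfac : ∀ u, (yon S).map (Groth.Agent.Lib.Helper51.sigmaOverι M m u) ≫ qtot = q u :=
    fun u => Cofan.IsColimit.fac hcy q u
  have hqrep : Representable qtot := Functor.relativelyRepresentable.of_diag hdiag qtot
  refine ⟨_, qtot, ?_, ?_⟩
  · refine Groth.Agent.Lib.Helper66.SmBoot.repWith_of_cofan _ hc qtot hqrep (fun u => ?_)
    rw [show (Cofan.mk (Groth.Agent.Lib.Helper51.sigmaOver M m)
      (Groth.Agent.Lib.Helper51.sigmaOverι M m)).inj u =
        Groth.Agent.Lib.Helper51.sigmaOverι M m u from rfl, hfac]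
    exact h3 u
  · refine Groth.Agent.H52.repWith_surjective_of_surjective_points qtot hqrep (fun y => ?_)
    obtain ⟨x, rfl⟩ := Groth.Agent.H52.surjective_points_of_repWith_surjective π hπs y
    obtain ⟨u, rfl⟩ := (Points.schemeEquiv U).surjective x
    refine ⟨Points.map ((yon S).map (ρ u ≫ Groth.Agent.Lib.Helper51.sigmaOverι M m u))
      (Points.ofScheme (U'' u) (u'' u)), ?_⟩
    rw [← Points.map_comp, Functor.map_comp, Category.assoc, hfac, h2, Points.map_comp,
      Groth.Agent.H52.points_map_ofScheme, h1]
    rfl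

end Groth.Agent.Lib.Helper68.FppfBoot
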