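import Groth.Agent.Lib.Helper68.QSplitFin

/-!
# Étale localisation of groupoids: an invariant affine neighbourhood where `P` is finite, II
(helper68)
-/

set_option autoImplicit false
set_option linter.style.haveILetI false
set_option linter.unusedSectionVars false
universe u

namespace Groth.Agent.Lib.Helper68.QSplit

open CategoryTheory CategoryTheory.Limits AlgebraicGeometry Grpd
open Groth.Agent.Lib.Helper37 Groth.Agent.Lib.Helper37.Pull Groth.Agent.Lib.Helper7.EtaleNbhd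

variable {S : Scheme.{u}}

/-! ### The groupoid scheme of an open subgroupoid -/

section Sub

variable {𝒢 : GroupoidScheme S} {P : 𝒢.R.Opens} (h : IsOpenSubgroupoid 𝒢 P)

include h in
lemma IsOpenSubgroupoid.exists_iso_i :
    ∃ iP : (P : Scheme.{u}) ≅ P, iP.hom ≫ P.ι = P.ι ≫ 𝒢.i := by
  obtain ⟨iP, hiP⟩ := h.exists_maps.2.1
  have h2 : iP ≫ iP = 𝟙 _ := by
    rw [← cancel_mono P.ι, Category.assoc, hiP, ← Category.assoc, hiP, Category.assoc, i_i,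
      Category.comp_id, Category.id_comp]
  exact ⟨⟨iP, iP, h2, h2⟩, hiP⟩

include h in
lemma IsOpenSubgroupoid.t_of_s (Q : MorphismProperty Scheme.{u}) [Q.RespectsIso]
    (hs : Q (P.ι ≫ 𝒢.s)) : Q (P.ι ≫ 𝒢.t) := by
  obtain ⟨iP, hiP⟩ := h.exists_iso_i
  have : P.ι ≫ 𝒢.t = iP.hom ≫ P.ι ≫ 𝒢.s := by
    rw [← Category.assoc, hiP, Category.assoc, 𝒢.i_s]
  rw [this]
  exact (Q.cancel_left_of_respectsIso iP.hom _).2 hs

/-- The groupoid scheme with arrows `P`. -/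
noncomputable def IsOpenSubgroupoid.grpd : GroupoidScheme S :=
  SubG.subGrpd 𝒢 P.ι (Classical.choose h.exists_maps.1) (Classical.choose_spec h.exists_maps.1)
    (Classical.choose h.exists_maps.2.1) (Classical.choose_spec h.exists_maps.2.1)
    (Classical.choose h.exists_maps.2.2) (Classical.choose_spec h.exists_maps.2.2)

lemma IsOpenSubgroupoid.grpd_s : h.grpd.s = P.ι ≫ 𝒢.s := rfl
lemma IsOpenSubgroupoid.grpd_t : h.grpd.t = P.ι ≫ 𝒢.t := rfl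

include h in
/-- An invariant affine open neighbourhood of a fixed point of a finite locally free open
subgroupoid. -/
theorem IsOpenSubgroupoid.exists_invariant_affine (hs1 : IsFinite (P.ι ≫ 𝒢.s))
    (hs2 : Flat (P.ι ≫ 𝒢.s)) (hs3 : LocallyOfFinitePresentation (P.ι ≫ 𝒢.s)) (u : 𝒢.U)
    (horb : ∀ r : 𝒢.R, r ∈ P → 𝒢.s r = u → 𝒢.t r = u) :
    ∃ W : 𝒢.U.Opens, IsAffineOpen W ∧ u ∈ W ∧ ∀ r : 𝒢.R, r ∈ P → 𝒢.s r ∈ W → 𝒢.t r ∈ W := by
  haveI : IsFinite h.grpd.s := hs1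
  haveI : Flat h.grpd.s := hs2
  haveI : LocallyOfFinitePresentation h.grpd.s := hs3
  haveI : IsFinite h.grpd.t := h.t_of_s @IsFinite hs1
  haveI : Flat h.grpd.t := h.t_of_s @Flat hs2
  haveI : LocallyOfFinitePresentation h.grpd.t := h.t_of_s @LocallyOfFinitePresentation hs3
  obtain ⟨_, ⟨V₀, hV₀, rfl⟩, huV₀, -⟩ := 𝒢.U.isBasis_affineOpens.exists_subset_of_mem_open
    (Set.mem_univ u) isOpen_univ
  have hst : ∀ r : ↥(P : Scheme.{u}), h.grpd.s r = 𝒢.s (P.ι r) := fun r =>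
    Scheme.Hom.comp_apply P.ι 𝒢.s r
  have htt : ∀ r : ↥(P : Scheme.{u}), h.grpd.t r = 𝒢.t (P.ι r) := fun r =>
    Scheme.Hom.comp_apply P.ι 𝒢.t r
  obtain ⟨W, hW, huW, hWinv⟩ := Groth.Agent.S1881.result S h.grpd u V₀ hV₀ (fun r hr => by
    have h1 : 𝒢.t (P.ι r) = u := horb _ (ι_mem P r) (by rw [← hst]; exact hr)
    have h2 : h.grpd.t r = u := by rw [htt, h1]
    rw [h2]
    exact huV₀)
  refine ⟨W, hW, huW, fun r hr hrs => ?_⟩
  have h1 : (⟨r, hr⟩ : ↥(P : Scheme.{u})) ∈ h.grpd.s ⁻¹ᵁ W := by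
    change h.grpd.s ⟨r, hr⟩ ∈ W
    rw [hst]
    exact hrs
  rw [hWinv] at h1
  have h2 : h.grpd.t ⟨r, hr⟩ ∈ W := h1
  rw [htt] at h2
  exact h2

end Sub

/-! ### The invariant affine neighbourhood -/

variable (G : GroupoidScheme S) {U₁ : Scheme.{u}} (g : U₁ ⟶ G.U)
  (V : (pullback G.s g).Opens)
  [Flat G.s] [LocallyOfFinitePresentation G.s]
  (hVc : IsClosed (V : Set ↥(pullback G.s g))) (hVf : IsFinite (V.ι ≫ pullback.snd G.s g))
  (he : ∀ x : U₁, e₁ G g x ∈ V)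

include he in
theorem exists_affine_adm [Etale g] (hinj : Inj G g V) (u₁ : U₁)
    (hu₁ : ∀ w : ↥(pullback G.s g), w ∈ V → pullback.snd G.s g w = u₁ →
      ∃ p : ↥(R' G g), p ∈ P G g V hVc hVf ∧ ξ G g p = w ∧ a' G g p = u₁) :
    ∃ W : U₁.Opens, IsAffineOpen W ∧ u₁ ∈ W ∧ Adm G g V hVc hVf W := by
  -- the covered locus
  obtain ⟨O', hO'⟩ : ∃ O' : U₁.Opens, ∀ b, b ∈ O' ↔ Cov G g V hVc hVf b :=
    ⟨⟨_, isOpen_cov G g V hVc hVf he hinj⟩, fun b => Iff.rfl⟩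
  have hAdm : Adm G g V hVc hVf O' :=
    ⟨fun b hb => (hO' b).1 hb, fun p hp hb =>
      (hO' _).2 (cov_of_mem_P G g V hVc hVf p hp ((hO' _).1 hb))⟩
  have hu₁O : u₁ ∈ O' := by
    rw [hO']
    intro w hwV hw
    obtain ⟨p, hp, hpw, -⟩ := hu₁ w hwV hw
    exact ⟨p, hp, hpw⟩
  -- the finite locally free groupoid on `O'`
  have hsub := isOpenSubgroupoid_P G (O'.ι ≫ g) (resV G g V O'.ι) (isClosed_resV G g V O'.ι hVc)
    (isFinite_resV G g V O'.ι hVf)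
  haveI := hinj.isOpenImmersion_ξP hVc hVf he
  -- the orbit of `u₁` is `{u₁}`
  have horb : ∀ z : ↥(R' G (O'.ι ≫ g)), z ∈ resP G g V O'.ι hVc hVf →
      O'.ι (b' G (O'.ι ≫ g) z) = u₁ → O'.ι (a' G (O'.ι ≫ g) z) = u₁ := by
    intro z hz hzb
    have hp : ψ G g O'.ι z ∈ P G g V hVc hVf := (mem_resP_iff G g V O'.ι hVc hVf z).1 hz
    have hbp : b' G g (ψ G g O'.ι z) = u₁ := by
      rw [← Scheme.Hom.comp_apply, ψ_b', Scheme.Hom.comp_apply, hzb]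
    have hwV := ξ_mem_of_mem_P G g V hVc hVf he _ hp
    obtain ⟨p₀, hp₀, hp₀w, hp₀a⟩ := hu₁ _ hwV (by rw [← Scheme.Hom.comp_apply, ξ_snd, hbp])
    have heq : (⟨p₀, hp₀⟩ : ↥(P G g V hVc hVf)) = ⟨ψ G g O'.ι z, hp⟩ := by
      apply (ξP G g V hVc hVf he).isOpenEmbedding.injective
      apply V.ι.isOpenEmbedding.injective
      rw [← Scheme.Hom.comp_apply, ← Scheme.Hom.comp_apply, ξP_ι, Scheme.Hom.comp_apply,
        Scheme.Hom.comp_apply]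
      exact hp₀w
    have heq' : p₀ = ψ G g O'.ι z := congrArg Subtype.val heq
    rw [← Scheme.Hom.comp_apply, ← ψ_a', Scheme.Hom.comp_apply, ← heq', hp₀a]
  obtain ⟨W, hW, hu₁W, hWinv⟩ : ∃ W : (O' : Scheme.{u}).Opens, IsAffineOpen W ∧
      (⟨u₁, hu₁O⟩ : ↥O') ∈ W ∧ ∀ r : ↥(R' G (O'.ι ≫ g)), r ∈ resP G g V O'.ι hVc hVf →
        b' G (O'.ι ≫ g) r ∈ W → a' G (O'.ι ≫ g) r ∈ W :=
    hsub.exists_invariant_affine (hAdm.isFinite_s he hinj) (hAdm.flat_s he hinj)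
      (hAdm.lfp_s he hinj) (⟨u₁, hu₁O⟩ : ↥O') (fun r hr hrs => by
        apply O'.ι.isOpenEmbedding.injective
        have h1 : O'.ι (b' G (O'.ι ≫ g) r) = u₁ := by
          have : b' G (O'.ι ≫ g) r = (⟨u₁, hu₁O⟩ : ↥O') := hrs
          rw [this]; rfl
        exact (horb r hr h1).trans rfl)
  refine ⟨O'.ι ''ᵁ W, hW.image_of_isOpenImmersion O'.ι, ⟨⟨u₁, hu₁O⟩, hu₁W, rfl⟩, ?_, ?_⟩
  · rintro _ ⟨b₀, -, rfl⟩
    exact hAdm.cov _ (ι_mem O' b₀)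
  · intro p hp hb
    obtain ⟨b₀, hb₀W, hb₀⟩ := hb
    have hb₀' : O'.ι b₀ = b' G g p := hb₀
    have hbO : b' G g p ∈ O' := by rw [← hb₀']; exact ι_mem O' b₀
    obtain ⟨z, hz⟩ := exists_ψ_eq G g O' p (hAdm.inv p hp hbO) hbO
    have hzP : z ∈ resP G g V O'.ι hVc hVf := by rw [mem_resP_iff, hz]; exact hp
    have hzb : b' G (O'.ι ≫ g) z = b₀ := by
      apply O'.ι.isOpenEmbedding.injective
      rw [← Scheme.Hom.comp_apply, ← ψ_b', Scheme.Hom.comp_apply, hz, hb₀']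
    have h2 : a' G (O'.ι ≫ g) z ∈ W := hWinv z hzP (by rw [hzb]; exact hb₀W)
    refine ⟨a' G (O'.ι ≫ g) z, h2, ?_⟩
    change O'.ι (a' G (O'.ι ≫ g) z) = a' G g p
    rw [← Scheme.Hom.comp_apply, ← ψ_a', Scheme.Hom.comp_apply, hz]

end Groth.Agent.Lib.Helper68.QSplit
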