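import Groth.Agent.Lib.Helper7.EtaleNbhd

/-!
# Étale localisation of a finite set of isolated points of a fibre, exact version (helper68)

A variant of helper7's `exists_good_of_finite`: for `f : X ⟶ Y` separated and locally of finite
type and a finite set `T` of points of the fibre over `y` at which `f` is quasi-finite, there is an
elementary étale neighbourhood `(U, u)` of `y` and an open and closed `V ⊆ X ×_Y U` finite over `U`
whose points over `u` are *exactly* the points lying over `T`.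
-/

set_option autoImplicit false
set_option linter.style.haveILetI false
universe u
open AlgebraicGeometry CategoryTheory Limits

namespace Groth.Agent.Lib.Helper68.QSplit

open Groth.Agent.Lib.Helper7.EtaleNbhd

variable {X S U : Scheme.{u}}

/-- `GoodX f g u T`: there is an open and closed subscheme of `X ×_S U`, finite over `U`, whose
points over `u` are exactly those lying over a point of `T`. -/
def GoodX (f : X ⟶ S) (g : U ⟶ S) (u : U) (T : Set X) : Prop :=
  ∃ V : (pullback f g).Opens, IsClosed (V : Set ↥(pullback f g)) ∧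
    IsFinite (V.ι ≫ pullback.snd f g) ∧
    ∀ w : ↥(pullback f g), pullback.snd f g w = u → (w ∈ V ↔ pullback.fst f g w ∈ T)

theorem GoodX.baseChange {f : X ⟶ S} {g : U ⟶ S} {u : U} {T : Set X} (h : GoodX f g u T)
    {U' : Scheme.{u}} (γ : U' ⟶ U) (u' : U') (hu' : γ u' = u) : GoodX f (γ ≫ g) u' T := by
  obtain ⟨V, hVc, hVf, hV⟩ := h
  refine ⟨q f g γ ⁻¹ᵁ V, hVc.preimage (q f g γ).continuous, ?_, fun w hw => ?_⟩
  · have h1 := (isPullback_morphismRestrict (q f g γ) V).paste_vert (isPullback_q f g γ)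
    exact MorphismProperty.of_isPullback (P := @IsFinite) h1 hVf
  · change q f g γ w ∈ V ↔ _
    rw [hV _ (by rw [← Scheme.Hom.comp_apply, q_snd, Scheme.Hom.comp_apply, hw, hu']),
      ← Scheme.Hom.comp_apply, q_fst]

theorem GoodX.union {f : X ⟶ S} {g : U ⟶ S} {u : U} {T₁ T₂ : Set X} (h₁ : GoodX f g u T₁)
    (h₂ : GoodX f g u T₂) : GoodX f g u (T₁ ∪ T₂) := by
  obtain ⟨V₁, hc₁, hf₁, hV₁⟩ := h₁
  obtain ⟨V₂, hc₂, hf₂, hV₂⟩ := h₂
  refine ⟨V₁ ⊔ V₂, ?_, isFinite_sup _ V₁ V₂ hc₁ hf₁ hf₂, fun w hw => ?_⟩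
  · rw [TopologicalSpace.Opens.coe_sup]
    exact hc₁.union hc₂
  · rw [Set.mem_union, ← hV₁ w hw, ← hV₂ w hw]
    rw [← SetLike.mem_coe, TopologicalSpace.Opens.coe_sup]
    rfl

theorem GoodX.empty (f : X ⟶ S) (g : U ⟶ S) (u : U) : GoodX f g u ∅ := by
  refine ⟨⊥, by simp, ?_, fun w _ => ⟨fun hw => hw.elim, fun hw => hw.elim⟩⟩
  have : IsEmpty ↥((⊥ : (pullback f g).Opens) : Scheme.{u}) := ⟨fun z => z.2.elim⟩
  infer_instance

variable {Y : Scheme.{u}}

theorem exists_goodX_singleton (f : X ⟶ Y) [LocallyOfFiniteType f] [IsSeparated f] (x : X)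
    (hx : f.QuasiFiniteAt x) : ∃ N : ENbhd Y (f x), GoodX f N.g N.u {x} := by
  obtain ⟨U, g, u, hg, hgu, hiso, V, W, v, hVW, hVfin, hv₁, hv₂, hvuniq⟩ :=
    exists_etale_isCompl_of_quasiFiniteAt' f hx
  obtain ⟨N, e, hNg, hNu⟩ := ENbhd.exists_of_isIso g u hgu hiso
  obtain ⟨NU, Ng, Net, Nt, Nht⟩ := N
  dsimp only at e
  subst e
  simp only [eqToHom_refl, Category.id_comp] at hNg
  subst hNg
  have hNu' : ENbhd.u ⟨NU, Ng, Net, Nt, Nht⟩ = u := by simpa using hNu
  refine ⟨⟨NU, Ng, Net, Nt, Nht⟩, V, ?_, hVfin, fun w hw => ?_⟩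
  · have hVW' : (V : Set ↥(pullback f Ng)) = (↑W)ᶜ :=
      (eq_compl_iff_isCompl.mpr (hVW.map TopologicalSpace.Opens.frameHom))
    rw [hVW']
    exact W.2.isClosed_compl
  · rw [hNu'] at hw
    constructor
    · intro hwV
      have := hvuniq ⟨w, hwV⟩ hw
      have hwv : w = v.1 := congrArg Subtype.val this
      rw [hwv, hv₁]
      rfl
    · intro hwx
      have hwv : w = v.1 := by
        apply eq_of_fst_eq_of_snd_eq f Ng w v.1
        · rw [hv₁]; exact hwx
        · rw [hv₂, hw]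
        · rw [hv₂]; exact hiso
      rw [hwv]
      exact v.2

theorem exists_goodX_of_finite (f : X ⟶ Y) [LocallyOfFiniteType f] [IsSeparated f] (y : Y)
    (T : Set X) (hT : T.Finite) (hTy : ∀ x ∈ T, f x = y) (hq : ∀ x ∈ T, f.QuasiFiniteAt x) :
    ∃ N : ENbhd Y y, GoodX f N.g N.u T := by
  induction T, hT using Set.Finite.induction_on with
  | empty => exact ⟨ENbhd.triv Y y, GoodX.empty _ _ _⟩
  | @insert a T ha hT ih =>
    obtain ⟨N₁, hN₁⟩ := ih (fun x hx => hTy x (Set.mem_insert_of_mem _ hx))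
      (fun x hx => hq x (Set.mem_insert_of_mem _ hx))
    have hay : f a = y := hTy a (Set.mem_insert _ _)
    obtain ⟨N₂, hN₂⟩ : ∃ N : ENbhd Y y, GoodX f N.g N.u {a} := by
      have := exists_goodX_singleton f a (hq a (Set.mem_insert _ _))
      rw [hay] at this
      exact this
    obtain ⟨N₃, γ₁, γ₂, h₁, h₂, hu₁, hu₂⟩ := N₁.exists_refinement N₂
    refine ⟨N₃, ?_⟩
    have g₁ := hN₁.baseChange γ₁ N₃.u hu₁
    have g₂ := hN₂.baseChange γ₂ N₃.u hu₂
    rw [← h₁] at g₁
    rw [← h₂] at g₂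
    have := g₂.union g₁
    rwa [Set.singleton_union] at this

end Groth.Agent.Lib.Helper68.QSplit
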