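import Groth.Agent.S9868
import Groth.Agent.S9869
import Groth.Agent.Lib.Helper54.LqfSepScheme
import Groth.Agent.H52.FreeQuotSep
import Groth.Agent.H52.QS
import Groth.Agent.H52.LqfSource
import Groth.Agent.H52.Descent
import Groth.Agent.H52.DescInst
import Groth.Agent.H52.LocPInst

/-!
# Quotients by closed étale equivalence relations over a scheme (helper68)

Let `g : U₁ ⟶ Y` be étale and `D ⟶ U₁ ×_Y U₁` a closed immersion which is an étale equivalence
relation on `U₁`.  Then the quotient `N = U₁ / D` exists as a scheme, étale over `Y`.  This is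
deduced from the algebraic space machinery: the quotient sheaf is an algebraic space (S9868),
separated and locally quasi-finite over `Y`, hence a scheme (helper54, Stacks 0418).
-/

set_option autoImplicit false
universe u

namespace Groth.Agent.Lib.Helper68.QSplit

open CategoryTheory CategoryTheory.Limits AlgebraicGeometry AlgSp

theorem exists_etale_quotient {Y U₁ D : Scheme.{u}} (g : U₁ ⟶ Y) [Etale g] (d₁ d₂ : D ⟶ U₁)
    [Etale d₁] [Etale d₂] (hd : d₁ ≫ g = d₂ ≫ g) [IsClosedImmersion (pullback.lift d₁ d₂ hd)]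
    (hrefl : ∀ {T : Scheme.{u}} (a : T ⟶ U₁), ∃ r : T ⟶ D, r ≫ d₁ = a ∧ r ≫ d₂ = a)
    (hsymm : ∀ {T : Scheme.{u}} (r : T ⟶ D), ∃ r' : T ⟶ D, r' ≫ d₁ = r ≫ d₂ ∧ r' ≫ d₂ = r ≫ d₁)
    (htrans : ∀ {T : Scheme.{u}} (r r' : T ⟶ D), r ≫ d₂ = r' ≫ d₁ →
      ∃ r'' : T ⟶ D, r'' ≫ d₁ = r ≫ d₁ ∧ r'' ≫ d₂ = r' ≫ d₂) :
    ∃ (N : Scheme.{u}) (ν : U₁ ⟶ N) (h : N ⟶ Y), ν ≫ h = g ∧ Etale ν ∧ Surjective ν ∧ Etale h ∧
      IsPullback d₁ d₂ ν ν := by
  -- the data over `Y`
  let 𝒰 : Over Y := Over.mk g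
  let 𝒟 : Over Y := Over.mk (d₁ ≫ g)
  let t : 𝒟 ⟶ 𝒰 := Over.homMk d₁ rfl
  let s : 𝒟 ⟶ 𝒰 := Over.homMk d₂ hd.symm
  have hmono : Mono (pullback.lift d₁ d₂ hd) := inferInstance
  have heqv : IsEtaleEqvRel s t := by
    refine ⟨⟨fun T r r' h1 h2 => ?_, fun T => ⟨fun a => ?_, fun {a b} hab => ?_,
      fun {a b c} hab hbc => ?_⟩⟩, ‹Etale d₂›, ‹Etale d₁›⟩
    · ext1
      rw [← cancel_mono (pullback.lift d₁ d₂ hd)]
      apply pullback.hom_ext
      · rw [Category.assoc, Category.assoc, pullback.lift_fst]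
        exact congrArg (fun f => f.left) h1
      · rw [Category.assoc, Category.assoc, pullback.lift_snd]
        exact congrArg (fun f => f.left) h2
    · obtain ⟨r, hr1, hr2⟩ := hrefl a.left
      refine ⟨Over.homMk r (by
        change r ≫ d₁ ≫ g = T.hom
        rw [← Category.assoc, hr1]; exact Over.w a), ?_, ?_⟩
      · ext1; exact hr1
      · ext1; exact hr2
    · obtain ⟨r, rfl, rfl⟩ := hab
      obtain ⟨r', hr1, hr2⟩ := hsymm r.left
      refine ⟨Over.homMk r' (by
        change r' ≫ d₁ ≫ g = T.hom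
        rw [← Category.assoc, hr1]; exact Over.w (r ≫ s)), ?_, ?_⟩
      · ext1; exact hr1
      · ext1; exact hr2
    · obtain ⟨r, rfl, rfl⟩ := hab
      obtain ⟨r', hr', rfl⟩ := hbc
      obtain ⟨r'', hr1, hr2⟩ := htrans r.left r'.left (congrArg (fun f => f.left) hr'.symm)
      refine ⟨Over.homMk r'' (by
        change r'' ≫ d₁ ≫ g = T.hom
        rw [← Category.assoc, hr1]; exact Over.w (r ≫ t)), ?_, ?_⟩
      · ext1; exact hr1
      · ext1; exact hr2
  -- the quotient algebraic space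
  have hF := Groth.Agent.S9868.result Y s t heqv
  have hpres := Groth.Agent.S9869.result Y s t heqv hF
  obtain ⟨F, hFdef⟩ : ∃ F : Sp Y, F = QuotSh.quot Scheme.fppfPrecoverage s t := ⟨_, rfl⟩
  obtain ⟨p, hpdef⟩ : ∃ p : (yon Y).obj 𝒰 ⟶ QuotSh.quot Scheme.fppfPrecoverage s t,
      p = (QuotSh.repIsoUliftYoneda Scheme.fppfPrecoverage 𝒰).inv ≫
        QuotSh.quotπ Scheme.fppfPrecoverage s t := ⟨_, rfl⟩
  rw [← hpdef] at hpres
  let f := (Groth.Agent.H52.yonBaseIsTerminal Y).from (QuotSh.quot Scheme.fppfPrecoverage s t)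
  -- separated
  have hj : IsClosedImmersion (prod.lift t s).left := by
    have e : (prod.lift t s).left ≫ (Over.prodLeftIsoPullback 𝒰 𝒰).hom =
        pullback.lift d₁ d₂ hd := by
      apply pullback.hom_ext
      · rw [Category.assoc, Over.prodLeftIsoPullback_hom_fst, ← Over.comp_left, prod.lift_fst]
        exact (pullback.lift_fst _ _ _).symm
      · rw [Category.assoc, Over.prodLeftIsoPullback_hom_snd, ← Over.comp_left, prod.lift_snd]
        exact (pullback.lift_snd _ _ _).symm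
    have h1 : IsClosedImmersion ((prod.lift t s).left ≫ (Over.prodLeftIsoPullback 𝒰 𝒰).hom) := by
      rw [e]; infer_instance
    exact (MorphismProperty.cancel_right_of_respectsIso @IsClosedImmersion _ _).1 h1
  have := Groth.Agent.H52.descendsAlong_isClosedImmersion_fppf.{u}
  have hsep : IsSeparatedMor f :=
    (Groth.Agent.H52.repWith_diag_iff_diagonal_from @IsClosedImmersion _).1
      (Groth.Agent.H52.FreeQuot.repWith_diag_of_presentation @IsClosedImmersion hF s t p hpres hj)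
  -- locally quasi-finite
  let h𝒰 : 𝒰 ⟶ Over.mk (𝟙 Y) := Over.homMk g (Category.comp_id _)
  have hqf : LocP (@LocallyQuasiFinite ⊓ @LocallyOfFiniteType) f :=
    Groth.Agent.H52.isEtLocal_lqf_lft.locP_of_chart f p (𝟙 _) h𝒰 hpres.etale hpres.surjective
      (repWith_id _ _) ((Groth.Agent.H52.yonBaseIsTerminal Y).hom_ext _ _)
      ⟨Groth.Agent.H53.locallyQuasiFinite_of_formallyUnramified g,
        (inferInstance : LocallyOfFiniteType g)⟩
  -- representability
  obtain ⟨⟨N, ⟨r⟩⟩⟩ := Groth.Agent.Lib.Helper54.isRepresentable_of_lqf_separated hF f hqf hsep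
  let iso := isoOfRepresentableBy r
  obtain ⟨ν, hν⟩ := (yon Y).map_surjective (p ≫ iso.inv)
  have hνe : Etale ν.left := (repWith_yon_map_iff @Etale ν).1 (by
    rw [hν]
    exact MorphismProperty.RespectsIso.postcomp _ _ _ hpres.etale)
  have hνs : Surjective ν.left := (repWith_yon_map_iff @Surjective ν).1 (by
    rw [hν]
    exact MorphismProperty.RespectsIso.postcomp _ _ _ hpres.surjective)
  have sq : IsPullback ((yon Y).map t) ((yon Y).map s) ((yon Y).map ν) ((yon Y).map ν) := by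
    rw [hν]
    exact IsPullback.of_iso hpres.isPullback (Iso.refl _) (Iso.refl _) (Iso.refl _) iso.symm
      (by simp) (by simp) (by simp) (by simp)
  have sq' := Groth.Agent.H52.isPullback_left_of_isPullback_yon sq
  have hw : ν.left ≫ N.hom = g := Over.w ν
  refine ⟨N.left, ν.left, N.hom, hw, hνe, hνs, ?_, sq'⟩
  exact Groth.Agent.H52.isEtLocal_etale.source ν.left N.hom hνe hνs (by rw [hw]; infer_instance)

end Groth.Agent.Lib.Helper68.QSplit
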