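import Groth.Agent.Lib.Helper68.QSplitSame
import Groth.Agent.Lib.Helper68.QSplitQuot
import Groth.Agent.Lib.Helper1.AffineAndDescent
import Groth.Agent.Lib.Helper54.FibBound

/-!
# Étale localisation of groupoids: making the datum `(g, V)` injective (helper68)

Given an étale `g : U₁ ⟶ U` and a clopen `V ⊆ R ×_{s,U,g} U₁` finite over `U₁`, the relation "same
fibre of `V`" is a closed étale equivalence relation on `U₁` over `U`.  Its quotient `N` is a scheme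
étale over `U`, `V` descends to `N`, and the descended datum satisfies the injectivity condition.
-/

set_option autoImplicit false
set_option linter.style.haveILetI false
set_option linter.unusedSectionVars false
universe u

namespace Groth.Agent.Lib.Helper68.QSplit

open CategoryTheory CategoryTheory.Limits AlgebraicGeometry Grpd
open Groth.Agent.Lib.Helper37 Groth.Agent.Lib.Helper37.Pull Groth.Agent.Lib.Helper7.EtaleNbhd

variable {S : Scheme.{u}} (G : GroupoidScheme S)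

/-- Descent of the datum along an étale surjection whose kernel pair is the relation `Same`. -/
theorem descend_datum {U₁ N : Scheme.{u}} (ν : U₁ ⟶ N) (h : N ⟶ G.U) [Etale ν] [Surjective ν]
    (V : (pullback G.s (ν ≫ h)).Opens) (hVc : IsClosed (V : Set ↥(pullback G.s (ν ≫ h))))
    (hVf : IsFinite (V.ι ≫ pullback.snd G.s (ν ≫ h))) (he : ∀ x, e₁ G (ν ≫ h) x ∈ V)
    (hker : ∀ {T : Scheme.{u}} (a₁ a₂ : T ⟶ U₁) (hh : a₁ ≫ ν = a₂ ≫ ν),
      Same G (ν ≫ h) V a₁ a₂ (by rw [reassoc_of% hh]))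
    (hker' : ∀ {T : Scheme.{u}} (a₁ a₂ : T ⟶ U₁) (hh : a₁ ≫ ν ≫ h = a₂ ≫ ν ≫ h),
      Same G (ν ≫ h) V a₁ a₂ hh → a₁ ≫ ν = a₂ ≫ ν) :
    ∃ V' : (pullback G.s h).Opens, IsClosed (V' : Set ↥(pullback G.s h)) ∧
      IsFinite (V'.ι ≫ pullback.snd G.s h) ∧ (∀ x, e₁ G h x ∈ V') ∧ Inj G h V' ∧
      ∀ w, w ∈ V ↔ q G.s h ν w ∈ V' := by
  haveI hqe : Etale (q G.s h ν) :=
    MorphismProperty.of_isPullback (P := @Etale) (isPullback_q G.s h ν).flip inferInstance
  haveI hqs : Surjective (q G.s h ν) :=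
    MorphismProperty.of_isPullback (P := @Surjective) (isPullback_q G.s h ν).flip inferInstance
  have hopen : IsOpenMap (q G.s h ν) := Scheme.Hom.isOpenMap _
  obtain ⟨V', hV'⟩ : ∃ V' : (pullback G.s h).Opens,
      (V' : Set ↥(pullback G.s h)) = q G.s h ν '' (V : Set ↥(pullback G.s (ν ≫ h))) :=
    ⟨⟨_, hopen _ V.2⟩, rfl⟩
  have hmem : ∀ y, y ∈ V' ↔ ∃ w ∈ V, q G.s h ν w = y := fun y => by
    rw [← SetLike.mem_coe, hV']; rfl
  -- saturation
  have hsat : ∀ w, q G.s h ν w ∈ V' → w ∈ V := by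
    intro w hw
    obtain ⟨w', hw'V, hw'⟩ := (hmem _).1 hw
    obtain ⟨z, hz1, hz2⟩ := Scheme.Pullback.exists_preimage_pullback (f := q G.s h ν)
      (g := q G.s h ν) w' w hw'
    obtain ⟨κ, hκ⟩ : ∃ κ : Spec ((pullback (q G.s h ν) (q G.s h ν)).residueField z) ⟶
        pullback (q G.s h ν) (q G.s h ν), ∀ pt, κ pt = z :=
      ⟨_, fun pt => Scheme.fromSpecResidueField_apply _ _⟩
    obtain ⟨x₁, hx₁def⟩ : ∃ x₁, x₁ = κ ≫ pullback.fst (q G.s h ν) (q G.s h ν) := ⟨_, rfl⟩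
    obtain ⟨x₂, hx₂def⟩ : ∃ x₂, x₂ = κ ≫ pullback.snd (q G.s h ν) (q G.s h ν) := ⟨_, rfl⟩
    have hx₁ : ∀ pt, x₁ pt = w' := fun pt => by rw [hx₁def, Scheme.Hom.comp_apply, hκ, hz1]
    have hx₂ : ∀ pt, x₂ pt = w := fun pt => by rw [hx₂def, Scheme.Hom.comp_apply, hκ, hz2]
    have hcond : x₁ ≫ q G.s h ν = x₂ ≫ q G.s h ν := by
      rw [hx₁def, hx₂def, Category.assoc, Category.assoc, pullback.condition]
    have hfst : x₁ ≫ pullback.fst _ _ = x₂ ≫ pullback.fst _ _ := by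
      have := hcond =≫ pullback.fst _ _
      simpa only [Category.assoc, q_fst] using this
    have hsnd : (x₁ ≫ pullback.snd _ _) ≫ ν = (x₂ ≫ pullback.snd _ _) ≫ ν := by
      have := hcond =≫ pullback.snd _ _
      simpa only [Category.assoc, q_snd] using this
    have hsame := hker _ _ hsnd
    have hxs : (x₂ ≫ pullback.fst _ _) ≫ G.s = (x₂ ≫ pullback.snd _ _) ≫ ν ≫ h := by
      rw [Category.assoc, pullback.condition, Category.assoc]
    have key := hsame.inV_iff (x₂ ≫ pullback.fst _ _) hxs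
    have h1 : InV G (ν ≫ h) V (x₂ ≫ pullback.fst _ _) (x₁ ≫ pullback.snd _ _)
        (by rw [← hfst, Category.assoc, pullback.condition, Category.assoc]) := by
      have := (inV_iff_comp (V := V) x₁).2 (fun pt => by rw [hx₁]; exact hw'V)
      exact (inV_congr hfst rfl _ _).1 this
    have h2 := (inV_iff_comp (V := V) x₂).1 (key.2 h1)
    obtain ⟨pt⟩ : Nonempty ↥(Spec ((pullback (q G.s h ν) (q G.s h ν)).residueField z)) :=
      inferInstance
    have := h2 pt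
    rwa [hx₂] at this
  have hiff : ∀ w, w ∈ V ↔ q G.s h ν w ∈ V' := fun w =>
    ⟨fun hw => (hmem _).2 ⟨w, hw, rfl⟩, hsat w⟩
  have hpre : resV G h V' ν = V := by
    ext w
    exact (hiff w).symm
  -- closedness
  have hclosed : IsClosed (V' : Set ↥(pullback G.s h)) := by
    have : (V' : Set ↥(pullback G.s h))ᶜ =
        q G.s h ν '' (V : Set ↥(pullback G.s (ν ≫ h)))ᶜ := by
      ext y
      constructor
      · intro hy
        obtain ⟨w, rfl⟩ := (q G.s h ν).surjective y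
        exact ⟨w, fun hw => hy ((hiff w).1 hw), rfl⟩
      · rintro ⟨w, hw, rfl⟩ hy
        exact hw (hsat w hy)
    rw [← isOpen_compl_iff, this]
    exact hopen _ hVc.isOpen_compl
  -- finiteness
  have hfin : IsFinite (V'.ι ≫ pullback.snd G.s h) := by
    haveI := Groth.Agent.Lib.Helper1.descendsAlong_isFinite_fpqc.{u}
    have h1 := (isPullback_morphismRestrict (q G.s h ν) V').paste_vert (isPullback_q G.s h ν)
    have h2 : IsFinite ((q G.s h ν ⁻¹ᵁ V').ι ≫ pullback.snd G.s (ν ≫ h)) := by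
      have : q G.s h ν ⁻¹ᵁ V' = V := hpre
      rw [this]
      exact hVf
    exact MorphismProperty.of_isPullback_of_descendsAlong (P := @IsFinite)
      (Q := @Surjective ⊓ @Flat ⊓ @LocallyOfFinitePresentation) h1.flip
      ⟨⟨inferInstance, inferInstance⟩, inferInstance⟩ h2
  -- the identity section
  have he' : ∀ x, e₁ G h x ∈ V' := by
    intro x
    obtain ⟨y, rfl⟩ := ν.surjective x
    rw [← Scheme.Hom.comp_apply, ← e₁_q, Scheme.Hom.comp_apply]
    exact (hiff _).1 (he y)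
  refine ⟨V', hclosed, hfin, he', ?_, hiff⟩
  -- injectivity
  intro T a₁ a₂ hh hst
  obtain ⟨T₁, p₁, b₁, sq₁⟩ : ∃ (T₁ : Scheme.{u}) (p₁ : T₁ ⟶ T) (b₁ : T₁ ⟶ U₁),
      IsPullback p₁ b₁ a₁ ν := ⟨_, _, _, IsPullback.of_hasPullback a₁ ν⟩
  obtain ⟨T₂, p₂, b₂, sq₂⟩ : ∃ (T₂ : Scheme.{u}) (p₂ : T₂ ⟶ T₁) (b₂ : T₂ ⟶ U₁),
      IsPullback p₂ b₂ (p₁ ≫ a₂) ν := ⟨_, _, _, IsPullback.of_hasPullback (p₁ ≫ a₂) ν⟩
  haveI : Etale p₁ := MorphismProperty.of_isPullback (P := @Etale) sq₁.flip inferInstance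
  haveI : Surjective p₁ := MorphismProperty.of_isPullback (P := @Surjective) sq₁.flip inferInstance
  haveI : Etale p₂ := MorphismProperty.of_isPullback (P := @Etale) sq₂.flip inferInstance
  haveI : Surjective p₂ := MorphismProperty.of_isPullback (P := @Surjective) sq₂.flip inferInstance
  haveI : Epi (p₂ ≫ p₁) := Flat.epi_of_flat_of_surjective _
  rw [← cancel_epi (p₂ ≫ p₁)]
  have e1 : (p₂ ≫ p₁) ≫ a₁ = (p₂ ≫ b₁) ≫ ν := by
    rw [Category.assoc, sq₁.w, Category.assoc]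
  have e2 : (p₂ ≫ p₁) ≫ a₂ = b₂ ≫ ν := by
    rw [Category.assoc, sq₂.w]
  rw [e1, e2]
  have hh' : ((p₂ ≫ b₁) ≫ ν) ≫ h = (b₂ ≫ ν) ≫ h := by
    rw [← e1, ← e2]
    simp only [Category.assoc, hh]
  have hh'' : (p₂ ≫ b₁) ≫ ν ≫ h = b₂ ≫ ν ≫ h := by
    simpa only [Category.assoc] using hh'
  have hst0 : Same G h V' a₁ a₂ hh := hst
  have hst' : Same G h V' ((p₂ ≫ b₁) ≫ ν) (b₂ ≫ ν) hh' :=
    (Same.precomp hst0 (p₂ ≫ p₁)).congr e1 e2
  refine hker' (p₂ ≫ b₁) b₂ hh'' ?_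
  have key := (stab_resV_iff (G := G) (g := h) (V := V') ν (p₂ ≫ b₁) b₂ (b₂ ≫ (ν ≫ h) ≫ G.e)
    (by simp only [Category.assoc, G.e_s, Category.comp_id])
    (by simp only [Category.assoc, G.e_t, Category.comp_id]; exact hh''.symm)
    (by simp only [Category.assoc, G.e_s, Category.comp_id])
    (by simp only [Category.assoc, G.e_t, Category.comp_id]; exact hh''.symm)).2
    (Stab.congr hst' rfl rfl (by simp only [Category.assoc]) _ _)
  unfold Same
  rw [hpre] at key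
  exact key

/-- **Making the datum injective**: the quotient of `U₁` by the relation "same fibre of `V`". -/
theorem exists_inj_datum {U₁ : Scheme.{u}} (g : U₁ ⟶ G.U) [Etale g] (V : (pullback G.s g).Opens)
    [Flat G.s] [LocallyOfFinitePresentation G.s]
    (hVc : IsClosed (V : Set ↥(pullback G.s g))) (hVf : IsFinite (V.ι ≫ pullback.snd G.s g))
    (he : ∀ x, e₁ G g x ∈ V) :
    ∃ (N : Scheme.{u}) (ν : U₁ ⟶ N) (h : N ⟶ G.U) (V' : (pullback G.s h).Opens),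
      ν ≫ h = g ∧ Etale ν ∧ Surjective ν ∧ Etale h ∧ IsClosed (V' : Set ↥(pullback G.s h)) ∧
      IsFinite (V'.ι ≫ pullback.snd G.s h) ∧ (∀ x, e₁ G h x ∈ V') ∧ Inj G h V' ∧
      ∀ (u₁ : U₁) (F : Set G.R),
        (∀ w, pullback.snd G.s g w = u₁ → (w ∈ V ↔ pullback.fst G.s g w ∈ F)) →
        ∀ w, pullback.snd G.s h w = ν u₁ → (w ∈ V' ↔ pullback.fst G.s h w ∈ F) := by
  obtain ⟨D, hDc, hD⟩ := exists_sameOpens G g V hVc hVf
  obtain ⟨d₁, hd₁⟩ : ∃ d₁ : (D : Scheme.{u}) ⟶ U₁, d₁ = D.ι ≫ pullback.fst g g := ⟨_, rfl⟩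
  obtain ⟨d₂, hd₂⟩ : ∃ d₂ : (D : Scheme.{u}) ⟶ U₁, d₂ = D.ι ≫ pullback.snd g g := ⟨_, rfl⟩
  haveI : Etale d₁ := by rw [hd₁]; infer_instance
  haveI : Etale d₂ := by rw [hd₂]; infer_instance
  have hd : d₁ ≫ g = d₂ ≫ g := by
    rw [hd₁, hd₂, Category.assoc, Category.assoc, pullback.condition]
  have hlift : pullback.lift d₁ d₂ hd = D.ι := by
    apply pullback.hom_ext
    · rw [pullback.lift_fst, hd₁]
    · rw [pullback.lift_snd, hd₂]
  haveI : IsClosedImmersion (pullback.lift d₁ d₂ hd) := by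
    rw [hlift]
    exact IsClosedImmersion.of_isPreimmersion D.ι (by rw [Scheme.Opens.range_ι]; exact hDc)
  -- the functorial description of `D`
  have Dchar : ∀ {T : Scheme.{u}} (a₁ a₂ : T ⟶ U₁) (h : a₁ ≫ g = a₂ ≫ g),
      (∃ r : T ⟶ D, r ≫ d₁ = a₁ ∧ r ≫ d₂ = a₂) ↔ Same G g V a₁ a₂ h := by
    intro T a₁ a₂ h
    constructor
    · rintro ⟨r, h1, h2⟩
      refine (hD a₁ a₂ h).1 (fun z => ?_)
      have : pullback.lift a₁ a₂ h = r ≫ D.ι := by
        apply pullback.hom_ext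
        · rw [pullback.lift_fst, Category.assoc, ← hd₁, h1]
        · rw [pullback.lift_snd, Category.assoc, ← hd₂, h2]
      rw [this, Scheme.Hom.comp_apply]
      exact ι_mem D _
    · intro hs
      refine ⟨liftO D (pullback.lift a₁ a₂ h) ((hD a₁ a₂ h).2 hs), ?_, ?_⟩
      · rw [hd₁, liftO_ι_assoc, pullback.lift_fst]
      · rw [hd₂, liftO_ι_assoc, pullback.lift_snd]
  obtain ⟨N, ν, h, hνh, hνe, hνs, hhe, sq⟩ := exists_etale_quotient g d₁ d₂ hd
    (fun {T} a => (Dchar a a rfl).2 (same_refl a))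
    (fun {T} r => by
      have h0 : (r ≫ d₁) ≫ g = (r ≫ d₂) ≫ g := by rw [Category.assoc, hd, Category.assoc]
      have h1 := (Dchar (r ≫ d₁) (r ≫ d₂) h0).1 ⟨r, rfl, rfl⟩
      exact (Dchar _ _ h0.symm).2 h1.symm)
    (fun {T} r r' hrr' => by
      have h0 : (r ≫ d₁) ≫ g = (r ≫ d₂) ≫ g := by rw [Category.assoc, hd, Category.assoc]
      have h0' : (r' ≫ d₁) ≫ g = (r' ≫ d₂) ≫ g := by rw [Category.assoc, hd, Category.assoc]
      have h1 := (Dchar (r ≫ d₁) (r ≫ d₂) h0).1 ⟨r, rfl, rfl⟩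
      have h2 := (Dchar (r' ≫ d₁) (r' ≫ d₂) h0').1 ⟨r', rfl, rfl⟩
      have h2' := h2.congr hrr'.symm rfl
      exact (Dchar _ _ _).2 (h1.trans h2'))
  subst hνh
  haveI := hνe
  haveI := hνs
  obtain ⟨V', hV'c, hV'f, he', hinj, hiff⟩ := descend_datum G ν h V hVc hVf he
    (fun {T} a₁ a₂ hh => by
      refine (Dchar a₁ a₂ (by rw [reassoc_of% hh])).1 ⟨sq.lift a₁ a₂ hh, ?_, ?_⟩
      · exact sq.lift_fst _ _ _
      · exact sq.lift_snd _ _ _)
    (fun {T} a₁ a₂ hh hs => by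
      obtain ⟨r, rfl, rfl⟩ := (Dchar a₁ a₂ hh).2 hs
      rw [Category.assoc, sq.w, Category.assoc])
  refine ⟨N, ν, h, V', rfl, hνe, hνs, hhe, hV'c, hV'f, he', hinj, ?_⟩
  intro u₁ F hex w hw
  obtain ⟨w₁, hw₁, hw₁u⟩ := Groth.Agent.Lib.Helper54.exists_preimage_of_isPullback
    (isPullback_q G.s h ν) w u₁ hw
  have hfst : pullback.fst G.s h w = pullback.fst G.s (ν ≫ h) w₁ := by
    rw [← hw₁, ← Scheme.Hom.comp_apply, q_fst]
  rw [hfst, ← hw₁, ← hiff]
  exact hex w₁ hw₁u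

end Groth.Agent.Lib.Helper68.QSplit
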