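import Groth.Agent.Lib.Helper37.GrpdPull
import Groth.Agent.Lib.Helper37.GroupoidStab

/-!
# The canonical morphism from the restriction of a groupoid (helper68)

For `u : U' ⟶ U` the restricted groupoid `pullGrpd G u` maps to `G`, and its arrows are the base
change of `j : R ⟶ U ×_S U` along `U' ×_S U' ⟶ U ×_S U`.
-/

set_option autoImplicit false
universe u

namespace Groth.Agent.Lib.Helper68.QSplit

open CategoryTheory CategoryTheory.Limits AlgebraicGeometry Grpd
open Groth.Agent.Lib.Helper37 Groth.Agent.Lib.Helper37.Pull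

variable {S : Scheme.{u}} (G : GroupoidScheme S) {U' : Scheme.{u}} (u : U' ⟶ G.U)

/-- The canonical morphism `pullGrpd G u ⟶ G`. -/
noncomputable def pullHom : GroupoidScheme.Hom (pullGrpd G u) G where
  fU := u
  fR := ρ G u
  fU_over := rfl
  comm_s := ρ_s G u
  comm_t := ρ_t G u
  comm_c := fun α β h => lift_c'_ρ G u α β h

@[simp] lemma pullHom_fU : (pullHom G u).fU = u := rfl
@[simp] lemma pullHom_fR : (pullHom G u).fR = ρ G u := rfl

lemma a'_over : a' G u ≫ u ≫ G.pU = b' G u ≫ u ≫ G.pU := by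
  rw [← ρ_t_assoc, ← ρ_s_assoc, G.t_over, G.s_over]

/-- The arrows of the restricted groupoid are the base change of `j` (unbundled form). -/
theorem isPullback_pull_j' (h₁ h₂ : (u ≫ G.pU) ≫ 𝟙 S = u ≫ G.pU) :
    IsPullback (ρ G u) (pullback.lift (a' G u) (b' G u) (a'_over G u)) G.j
      (pullback.map (u ≫ G.pU) (u ≫ G.pU) G.pU G.pU u u (𝟙 S) h₁ h₂) := by
  have hw : ρ G u ≫ G.j = pullback.lift (a' G u) (b' G u) (a'_over G u) ≫
      pullback.map (u ≫ G.pU) (u ≫ G.pU) G.pU G.pU u u (𝟙 S) h₁ h₂ := by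
    apply pullback.hom_ext
    · rw [Category.assoc, j_fst, Category.assoc, pullback.lift_fst, pullback.lift_fst_assoc, ρ_t]
    · rw [Category.assoc, j_snd, Category.assoc, pullback.lift_snd, pullback.lift_snd_assoc, ρ_s]
  refine ⟨⟨hw⟩, ⟨PullbackCone.IsLimit.mk _
    (fun c => mk c.fst (c.snd ≫ pullback.fst _ _) (c.snd ≫ pullback.snd _ _) ?_ ?_)
    (fun c => ?_) (fun c => ?_) (fun c m h1 h2 => ?_)⟩⟩
  · have := c.condition =≫ pullback.fst _ _
    simpa only [Category.assoc, j_fst, pullback.lift_fst] using this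
  · have := c.condition =≫ pullback.snd _ _
    simpa only [Category.assoc, j_snd, pullback.lift_snd] using this
  · exact mk_ρ _ _ _ _ _
  · apply pullback.hom_ext
    · simp only [Category.assoc, pullback.lift_fst, mk_a']
    · simp only [Category.assoc, pullback.lift_snd, mk_b']
  · apply Pull.ext
    · rw [mk_ρ, ← h1]
    · rw [mk_a', ← h2, Category.assoc, pullback.lift_fst]
    · rw [mk_b', ← h2, Category.assoc, pullback.lift_snd]

/-- The arrows of the restricted groupoid are the base change of `j`. -/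
theorem isPullback_pull_j
    (h₁ h₂ : (pullGrpd G u).pU ≫ 𝟙 S = (pullHom G u).fU ≫ G.pU) :
    IsPullback (pullHom G u).fR (pullGrpd G u).j G.j
      (pullback.map (pullGrpd G u).pU (pullGrpd G u).pU G.pU G.pU (pullHom G u).fU
        (pullHom G u).fU (𝟙 S) h₁ h₂) :=
  isPullback_pull_j' G u h₁ h₂

end Groth.Agent.Lib.Helper68.QSplit
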