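import Groth.Agent.Lib.Helper68.QSplitMem
import Groth.Agent.Lib.Helper68.QSplitMin
import Groth.Agent.Lib.Helper68.QSplitInit
import Groth.Agent.Lib.Helper68.QSplitFin2
import Groth.Agent.Lib.Helper68.QSplitPullHom

/-!
# Étale localisation of groupoids: the main theorem (helper68)

Let `G` be a groupoid scheme on `U` with `s` separated, flat and locally of finite presentation, `u`
a point of `U` and `F` a finite set of arrows `u ⟶ u` containing the identity, at which `s` is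
quasi-finite, and stable under translation.  Then there is an affine elementary étale neighbourhood
`(U', u')` of `(U, u)` and an open subgroupoid `P` of the restriction of `G` to `U'`, finite over
`U'`, containing all arrows `u' ⟶ u'` lying over `F`.
-/

set_option autoImplicit false
set_option linter.style.haveILetI false
set_option linter.unusedSectionVars false
universe u

namespace Groth.Agent.Lib.Helper68.QSplit

open CategoryTheory CategoryTheory.Limits AlgebraicGeometry Grpd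
open Groth.Agent.Lib.Helper37 Groth.Agent.Lib.Helper37.Pull Groth.Agent.Lib.Helper7.EtaleNbhd

variable {S : Scheme.{u}} (G : GroupoidScheme S)

lemma isIso_residueFieldMap_comp {X Y Z : Scheme.{u}} (f : X ⟶ Y) (g : Y ⟶ Z) (x : X)
    (h1 : IsIso (f.residueFieldMap x)) (h2 : IsIso (g.residueFieldMap (f x))) :
    IsIso ((f ≫ g).residueFieldMap x) := by
  rw [Scheme.residueFieldMap_comp]
  exact IsIso.comp_isIso' h2 h1

/-- If a composite of residue field maps is an isomorphism, so is the first one. -/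
lemma isIso_residueFieldMap_of_comp {X Y Z : Scheme.{u}} (f : X ⟶ Y) (g : Y ⟶ Z) (x : X)
    (h : IsIso ((f ≫ g).residueFieldMap x)) : IsIso (g.residueFieldMap (f x)) := by
  have hbij : Function.Bijective ((f ≫ g).residueFieldMap x).hom :=
    ConcreteCategory.bijective_of_isIso ((f ≫ g).residueFieldMap x)
  rw [Scheme.residueFieldMap_comp] at hbij
  have hinj : Function.Injective (f.residueFieldMap x).hom := (f.residueFieldMap x).hom.injective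
  refine (ConcreteCategory.isIso_iff_bijective _).mpr ⟨(g.residueFieldMap (f x)).hom.injective,
    fun b => ?_⟩
  obtain ⟨a, ha⟩ := hbij.2 ((f.residueFieldMap x).hom b)
  exact ⟨a, hinj ha⟩

theorem exists_split_nbhd [IsSeparated G.s] [Flat G.s] [LocallyOfFinitePresentation G.s]
    (u : G.U) (F : Set G.R) (hFfin : F.Finite) (hFs : ∀ r ∈ F, G.s r = u)
    (hFt : ∀ r ∈ F, G.t r = u) (hFe : G.e u ∈ F) (hFq : ∀ r ∈ F, G.s.QuasiFiniteAt r)
    (hF2 : TranslStable G F) :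
    ∃ (U' : Scheme.{u}) (φ : U' ⟶ G.U) (u' : U') (P : (R' G φ).Opens),
      IsAffine U' ∧ Etale φ ∧ φ u' = u ∧ IsIso (φ.residueFieldMap u') ∧
      IsOpenSubgroupoid (pullGrpd G φ) P ∧ IsFinite (P.ι ≫ b' G φ) ∧ IsFinite (P.ι ≫ a' G φ) ∧
      ∀ r' : ↥(R' G φ), b' G φ r' = u' → a' G φ r' = u' → ρ G φ r' ∈ F → r' ∈ P := by
  -- Step 1: the initial datum
  obtain ⟨N₀, V₀, hV₀c, hV₀f, hex₀⟩ := exists_goodX_of_finite G.s u F hFfin hFs hFq
  haveI := N₀.etale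
  obtain ⟨Ω, hΩ⟩ : ∃ Ω : N₀.U.Opens, Ω = e₁ G N₀.g ⁻¹ᵁ V₀ := ⟨_, rfl⟩
  have hΩmem : ∀ x, x ∈ Ω ↔ e₁ G N₀.g x ∈ V₀ := fun x => by rw [hΩ]; rfl
  have hu₀Ω : N₀.u ∈ Ω := by
    rw [hΩmem]
    rw [hex₀ _ (by rw [← Scheme.Hom.comp_apply, e₁_snd]; rfl), ← Scheme.Hom.comp_apply, e₁_fst,
      Scheme.Hom.comp_apply, N₀.g_u]
    exact hFe
  obtain ⟨u₁, hu₁⟩ : ∃ u₁ : ↥(Ω : Scheme.{u}), Ω.ι u₁ = N₀.u := ⟨⟨N₀.u, hu₀Ω⟩, rfl⟩
  have hVc₁ := isClosed_resV G N₀.g V₀ Ω.ι hV₀c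
  have hVf₁ := isFinite_resV G N₀.g V₀ Ω.ι hV₀f
  have he₁ : ∀ x : ↥Ω, e₁ G (Ω.ι ≫ N₀.g) x ∈ resV G N₀.g V₀ Ω.ι := by
    intro x
    change q G.s N₀.g Ω.ι (e₁ G (Ω.ι ≫ N₀.g) x) ∈ V₀
    rw [← Scheme.Hom.comp_apply, e₁_q, Scheme.Hom.comp_apply]
    exact (hΩmem _).1 (ι_mem Ω x)
  have hex₁ : ∀ w : ↥(pullback G.s (Ω.ι ≫ N₀.g)), pullback.snd G.s (Ω.ι ≫ N₀.g) w = u₁ →
      (w ∈ resV G N₀.g V₀ Ω.ι ↔ pullback.fst G.s (Ω.ι ≫ N₀.g) w ∈ F) := by
    intro w hw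
    change q G.s N₀.g Ω.ι w ∈ V₀ ↔ _
    rw [hex₀ _ (by rw [← Scheme.Hom.comp_apply, q_snd, Scheme.Hom.comp_apply, hw, hu₁]),
      ← Scheme.Hom.comp_apply, q_fst]
  have hg₁u₁ : (Ω.ι ≫ N₀.g) u₁ = u := by
    rw [Scheme.Hom.comp_apply, hu₁, N₀.g_u]
  have hiso₁ : IsIso ((Ω.ι ≫ N₀.g).residueFieldMap u₁) := by
    refine isIso_residueFieldMap_comp _ _ _ inferInstance ?_
    rw [hu₁]; exact N₀.isIso
  -- Step 2: make the datum injective
  obtain ⟨N, ν, h, V', hνh, hνe, hνs, hhe, hV'c, hV'f, he', hinj, hexN⟩ :=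
    exists_inj_datum G (Ω.ι ≫ N₀.g) (resV G N₀.g V₀ Ω.ι) hVc₁ hVf₁ he₁
  haveI := hhe
  obtain ⟨n₀, hn₀⟩ : ∃ n₀ : N, n₀ = ν u₁ := ⟨_, rfl⟩
  have hexN' : ∀ w : ↥(pullback G.s h), pullback.snd G.s h w = n₀ →
      (w ∈ V' ↔ pullback.fst G.s h w ∈ F) := by
    rw [hn₀]; exact hexN u₁ F hex₁
  have hhn₀ : h n₀ = u := by
    rw [hn₀, ← Scheme.Hom.comp_apply, hνh, hg₁u₁]
  have hisoN : IsIso (h.residueFieldMap n₀) := by
    rw [hn₀]
    refine isIso_residueFieldMap_of_comp ν h u₁ ?_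
    rw [hνh]
    exact hiso₁
  -- Step 3: the points of `V'` over `n₀` lift to `P`
  have H1 : ∀ w : ↥(pullback G.s h), w ∈ V' → pullback.snd G.s h w = n₀ →
      ∃ p : ↥(R' G h), p ∈ P G h V' hV'c hV'f ∧ ξ G h p = w ∧ a' G h p = n₀ := by
    intro w hwV hw
    have hwF : pullback.fst G.s h w ∈ F := (hexN' w hw).1 hwV
    obtain ⟨p, hp1, hp2⟩ := Groth.Agent.Lib.Helper54.exists_preimage_of_isPullback
      (isPullback_ξ G h) w n₀ (by rw [Scheme.Hom.comp_apply, hFt _ hwF, hhn₀])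
    refine ⟨p, ?_, hp1, hp2⟩
    refine mem_P_of_exact G h V' hV'c hV'f n₀ F hF2 hexN' p hp2 ?_ ?_
    · rw [← ξ_snd, Scheme.Hom.comp_apply, hp1, hw]
    · rw [← ξ_fst, Scheme.Hom.comp_apply, hp1]
      exact hwF
  -- Step 4: the invariant affine neighbourhood
  obtain ⟨W, hW, hn₀W, hAdm⟩ := exists_affine_adm G h V' hV'c hV'f he' hinj n₀ H1
  have hsub := isOpenSubgroupoid_P G (W.ι ≫ h) (resV G h V' W.ι) (isClosed_resV G h V' W.ι hV'c)
    (isFinite_resV G h V' W.ι hV'f)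
  have hfs : IsFinite ((resP G h V' W.ι hV'c hV'f).ι ≫ b' G (W.ι ≫ h)) :=
    hAdm.isFinite_s he' hinj
  obtain ⟨u', hu'⟩ : ∃ u' : ↥(W : Scheme.{u}), W.ι u' = n₀ := ⟨⟨n₀, hn₀W⟩, rfl⟩
  refine ⟨W, W.ι ≫ h, u', resP G h V' W.ι hV'c hV'f, hW, inferInstance, ?_, ?_, hsub, hfs,
    hsub.t_of_s @IsFinite hfs, ?_⟩
  · rw [Scheme.Hom.comp_apply, hu']
    exact hhn₀
  · refine isIso_residueFieldMap_comp _ _ _ inferInstance ?_
    rw [hu']; exact hisoN
  · intro r' hb ha hρ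
    rw [mem_resP_iff]
    refine mem_P_of_exact G h V' hV'c hV'f n₀ F hF2 hexN' _ ?_ ?_ ?_
    · rw [← Scheme.Hom.comp_apply, ψ_a', Scheme.Hom.comp_apply, ha, hu']
    · rw [← Scheme.Hom.comp_apply, ψ_b', Scheme.Hom.comp_apply, hb, hu']
    · rw [← Scheme.Hom.comp_apply, ψ_ρ]
      exact hρ

end Groth.Agent.Lib.Helper68.QSplit
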