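import Mathlib
import Groth.Prelude.Def_CAlg
import Groth.Agent.Lib.Helper22.CMSop
import Groth.Agent.Lib.Helper29.DepthCM
import Groth.Agent.Lib.Helper79.LiftSop

/-!
# Systems of parameters inside the image of an ideal (helper68)

`B` a Cohen–Macaulay local ring, `τ : A →+* B` a ring map, `m` an ideal of `A` with `τ(m) ⊆ 𝔪_B` and
`B / τ(m)B` Artinian.  Then there are `f₁, …, f_n ∈ m` such that `τ(f₁), …, τ(f_n)` is a regular
sequence of `B` with Artinian quotient.
-/

set_option autoImplicit false
set_option linter.style.haveILetI false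

namespace Groth.Agent.Lib.Helper68.SliceAlg

universe u

open RingTheory.Sequence IsLocalRing

/-- If the maximal ideal is minimal over `I` then `B / I` has dimension `≤ 0`. -/
theorem ringKrullDim_quotient_le_zero_of_maximalIdeal_mem_minimalPrimes {B : Type u} [CommRing B]
    [IsLocalRing B] (I : Ideal B) (h : maximalIdeal B ∈ I.minimalPrimes) :
    ringKrullDim (B ⧸ I) ≤ 0 := by
  haveI : Ring.KrullDimLE 0 (B ⧸ I) := by
    rw [Ring.krullDimLE_zero_iff]
    intro P hP
    haveI : (P.comap (Ideal.Quotient.mk I)).IsPrime := Ideal.comap_isPrime _ P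
    have hIP : I ≤ P.comap (Ideal.Quotient.mk I) := by
      intro a ha
      rw [Ideal.mem_comap, Ideal.Quotient.eq_zero_iff_mem.mpr ha]
      exact P.zero_mem
    have hle : P.comap (Ideal.Quotient.mk I) ≤ maximalIdeal B :=
      IsLocalRing.le_maximalIdeal (Ideal.IsPrime.ne_top inferInstance)
    have hge : maximalIdeal B ≤ P.comap (Ideal.Quotient.mk I) := h.2 ⟨inferInstance, hIP⟩ hle
    have heq : P.comap (Ideal.Quotient.mk I) = maximalIdeal B := le_antisymm hle hge
    have hmax : (P.comap (Ideal.Quotient.mk I)).IsMaximal := heq ▸ maximalIdeal.isMaximal B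
    have := Ideal.map_comap_of_surjective (Ideal.Quotient.mk I) Ideal.Quotient.mk_surjective P
    rw [← this]
    exact (Ideal.map_eq_top_or_isMaximal_of_surjective _ Ideal.Quotient.mk_surjective hmax).resolve_left
      (by rw [this]; exact hP.ne_top)
  exact Ring.krullDimLE_iff.mp this

variable {A B : Type u} [CommRing A] [CommRing B] [IsNoetherianRing B] [IsLocalRing B]

/-- A prime containing `τ(m)` is the maximal ideal, when `B / τ(m)B` is Artinian. -/
theorem eq_maximalIdeal_of_map_le (τ : A →+* B) (m : Ideal A)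
    (hart : IsArtinianRing (B ⧸ m.map τ)) (q : Ideal B) [q.IsPrime] (hq : m.map τ ≤ q) :
    q = maximalIdeal B := by
  have hker : RingHom.ker (Ideal.Quotient.mk (m.map τ)) = m.map τ := Ideal.mk_ker
  haveI hP : (q.map (Ideal.Quotient.mk (m.map τ))).IsPrime :=
    Ideal.map_isPrime_of_surjective Ideal.Quotient.mk_surjective (by rw [hker]; exact hq)
  have hmax : (q.map (Ideal.Quotient.mk (m.map τ))).IsMaximal := Ideal.IsPrime.isMaximal' hP
  have hcm : (q.map (Ideal.Quotient.mk (m.map τ))).comap (Ideal.Quotient.mk (m.map τ)) = q := by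
    rw [Ideal.comap_map_of_surjective _ Ideal.Quotient.mk_surjective, ← RingHom.ker_eq_comap_bot,
      hker]
    exact sup_eq_left.mpr hq
  have hmax' : q.IsMaximal := by
    rw [← hcm]
    exact Ideal.comap_isMaximal_of_surjective _ Ideal.Quotient.mk_surjective
  exact IsLocalRing.eq_maximalIdeal hmax'

theorem exists_list_dim (τ : A →+* B) (m : Ideal A) (hm : m.map τ ≤ maximalIdeal B)
    (hart : IsArtinianRing (B ⧸ m.map τ)) (n : ℕ) (hn : ringKrullDim B = n) :
    ∀ k ≤ n, ∃ fs : List A, fs.length = k ∧ (∀ f ∈ fs, f ∈ m) ∧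
      ringKrullDim (B ⧸ Ideal.ofList (fs.map τ)) + (k : WithBot ℕ∞) = n := by
  classical
  intro k
  induction k with
  | zero =>
    intro _
    refine ⟨[], rfl, by simp, ?_⟩
    have h0 : Ideal.ofList (([] : List A).map τ) = ⊥ := by simp
    rw [h0]
    simp only [Nat.cast_zero, add_zero]
    rw [← hn]
    exact ringKrullDim_eq_of_ringEquiv (RingEquiv.quotientBot B)
  | succ k ih =>
    intro hk
    obtain ⟨fs, hlen, hmem, hdim⟩ := ih (Nat.le_of_succ_le hk)
    set I : Ideal B := Ideal.ofList (fs.map τ) with hI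
    have hfin : I.minimalPrimes.Finite := Ideal.finite_minimalPrimes_of_isNoetherianRing B I
    -- no minimal prime of `I` contains `τ(m)`
    have hno : ∀ q ∈ I.minimalPrimes, ¬ m ≤ q.comap τ := by
      intro q hq hmq
      haveI : q.IsPrime := hq.1.1
      have hq' : q = maximalIdeal B :=
        eq_maximalIdeal_of_map_le τ m hart q (Ideal.map_le_iff_le_comap.mpr hmq)
      have h0 := ringKrullDim_quotient_le_zero_of_maximalIdeal_mem_minimalPrimes I (hq' ▸ hq)
      have h1 : ringKrullDim (B ⧸ I) + (k : WithBot ℕ∞) ≤ 0 + (k : WithBot ℕ∞) :=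
        add_le_add_left h0 _
      rw [hdim, zero_add] at h1
      have h2 : (n : WithBot ℕ∞) ≤ ((k : ℕ) : WithBot ℕ∞) := h1
      have h3 : n ≤ k := by exact_mod_cast h2
      omega
    have havoid : ¬ ((m : Set A) ⊆ ⋃ q ∈ (hfin.toFinset : Set (Ideal B)), (q.comap τ : Set A)) := by
      intro hsub
      have := (Ideal.subset_union_prime (s := hfin.toFinset) (f := fun q : Ideal B => q.comap τ)
        (maximalIdeal B) (maximalIdeal B) (fun q hq _ _ => by
          have hq' : q ∈ I.minimalPrimes := (Set.Finite.mem_toFinset hfin).mp hq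
          haveI : q.IsPrime := hq'.1.1
          exact Ideal.comap_isPrime τ q) (I := m)).mp hsub
      obtain ⟨q, hq, hle⟩ := this
      exact hno q ((Set.Finite.mem_toFinset hfin).mp hq) hle
    rw [Set.not_subset] at havoid
    obtain ⟨f, hfm, hf⟩ := havoid
    have hf' : ∀ q ∈ I.minimalPrimes, τ f ∉ q := by
      intro q hq hfq
      apply hf
      simp only [Set.mem_iUnion]
      exact ⟨q, (Set.Finite.mem_toFinset hfin).mpr hq, hfq⟩
    refine ⟨fs ++ [f], by simp [hlen], ?_, ?_⟩
    · intro g hg
      rcases List.mem_append.mp hg with h | h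
      · exact hmem g h
      · rw [List.mem_singleton] at h
        rw [h]
        exact hfm
    · have hI' : Ideal.ofList ((fs ++ [f]).map τ) = I ⊔ Ideal.span {τ f} := by
        rw [List.map_append, Ideal.ofList_append, List.map_singleton, Ideal.ofList_singleton]
      have hx : τ f ∈ maximalIdeal B := hm (Ideal.mem_map_of_mem τ hfm)
      have key := Groth.Agent.Lib.Helper79.LiftSop.ringKrullDim_quotient_sup_span_add_one I
        (Ideal.ofList ((fs ++ [f]).map τ)) (τ f) hI' hx hf'
      rw [Nat.cast_succ, add_comm (k : WithBot ℕ∞) 1, ← add_assoc, key, hdim]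

/-- Elements of `m` whose images form a regular sequence of the Cohen–Macaulay local ring `B` with
Artinian quotient. -/
theorem exists_sop_in_image {A B : Type u} [CommRing A] [CommRing B]
    [hCM : LocCoh.IsCohenMacaulayLocalRing B] (τ : A →+* B) (m : Ideal A)
    (hm : m.map τ ≤ maximalIdeal B) (hart : IsArtinianRing (B ⧸ m.map τ)) :
    ∃ fs : List A, (∀ f ∈ fs, f ∈ m) ∧ IsRegular B (fs.map τ) ∧
      IsArtinianRing (B ⧸ Ideal.ofList (fs.map τ)) := by
  have hlt : ringKrullDim B < ⊤ := ringKrullDim_lt_top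
  have hge : (0 : WithBot ℕ∞) ≤ ringKrullDim B := ringKrullDim_nonneg_of_nontrivial
  obtain ⟨n, hn⟩ : ∃ n : ℕ, ringKrullDim B = n := by
    induction hd : ringKrullDim B with
    | bot => rw [hd] at hge; exact absurd hge (by simp)
    | coe a =>
      induction a with
      | top => rw [hd] at hlt; exact absurd hlt (lt_irrefl _)
      | coe a => exact ⟨a, rfl⟩
  obtain ⟨fs, hlen, hmem, hdim⟩ := exists_list_dim τ m hm hart n hn n le_rfl
  have h0 : ringKrullDim (B ⧸ Ideal.ofList (fs.map τ)) ≤ 0 :=
    Groth.Agent.Lib.Helper22.CMSop.withBot_le_zero_of_add_eq _ n hdim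
  have hmem' : ∀ x ∈ fs.map τ, x ∈ maximalIdeal B := by
    intro x hx
    obtain ⟨f, hf, rfl⟩ := List.mem_map.mp hx
    exact hm (Ideal.mem_map_of_mem τ (hmem f hf))
  have hCM' : LocCoh.IsCohenMacaulayModule B B :=
    LocCoh.IsCohenMacaulayLocalRing.supportDim_eq_depth
  have hw : IsWeaklyRegular B (fs.map τ) := by
    rw [Groth.Agent.Lib.Helper29.isWeaklyRegular_iff_supportDim_of_isCohenMacaulayModule B B hCM'
      (fs.map τ) hmem']
    have hofL : (Ideal.ofList (fs.map τ) • (⊤ : Submodule B B)) = Ideal.ofList (fs.map τ) := by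
      rw [smul_eq_mul, Ideal.mul_top]
    rw [Module.supportDim_eq_of_equiv (Submodule.quotEquivOfEq _ _ hofL),
      Module.supportDim_quotient_eq_ringKrullDim, Module.supportDim_self_eq_ringKrullDim, hn,
      List.length_map, hlen]
    exact hdim
  refine ⟨fs, hmem, ⟨hw, ?_⟩, ?_⟩
  · intro htop
    have hle : Ideal.ofList (fs.map τ) ≤ maximalIdeal B := by
      rw [Ideal.ofList, Ideal.span_le]
      intro r hr
      exact hmem' r hr
    have h2 : (⊤ : Submodule B B) ≤ maximalIdeal B • (⊤ : Submodule B B) :=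
      htop.le.trans (Submodule.smul_mono_left hle)
    rw [smul_eq_mul, Ideal.mul_top] at h2
    exact (maximalIdeal.isMaximal B).ne_top (eq_top_iff.mpr h2)
  · haveI : Ring.KrullDimLE 0 (B ⧸ Ideal.ofList (fs.map τ)) :=
      Ring.krullDimLE_iff.mpr (by exact_mod_cast h0)
    exact isArtinianRing_iff_isNoetherianRing_krullDimLE_zero.mpr ⟨inferInstance, inferInstance⟩

end Groth.Agent.Lib.Helper68.SliceAlg
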