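import Mathlib
import Groth.Agent.Lib.Helper22.FibSliceMain

/-!
# Slicing with prescribed equations (helper68)

Variant of helper22's `slice_cm`: the equations cutting out the slice are prescribed to be pulled
back along a second morphism `t : X ⟶ T` from sections over an affine open of `T`.
-/

set_option autoImplicit false
set_option linter.style.haveILetI false

open AlgebraicGeometry CategoryTheory Limits

namespace Groth.Agent.Lib.Helper68.SliceLocal

universe u

open RingTheory.Sequence Groth.Agent.Lib.Helper22.FibSliceMod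
open Groth.Agent.Lib.Helper22.FibSliceCM Groth.Agent.Lib.Helper22.FibSliceQF
open Groth.Agent.Lib.Helper22.FibSliceMain

/-- The ring map `Γ(T, VT) → O_{X,x} / 𝔪_{f x} O_{X,x}` induced by `t`. -/
noncomputable def tauHom {X S T : Scheme.{u}} (f : X ⟶ S) (t : X ⟶ T) (x : X) (VT : T.Opens)
    (hxT : t x ∈ VT) :
    Γ(T, VT) →+* (X.presheaf.stalk x ⧸
      Ideal.map (f.stalkMap x).hom (IsLocalRing.maximalIdeal (S.presheaf.stalk (f x)))) :=
  (Ideal.Quotient.mk _).comp
    ((X.presheaf.germ (t ⁻¹ᵁ VT) x hxT).hom.comp (t.app VT).hom)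

set_option backward.isDefEq.respectTransparency false in
theorem local_data_prescribed {X S T : Scheme.{u}} (f : X ⟶ S) [LocallyOfFinitePresentation f]
    (t : X ⟶ T) (x : X) (hflat : (f.stalkMap x).hom.Flat)
    (VT : T.Opens) (hxT : t x ∈ VT) (fs : List Γ(T, VT))
    (hreg : IsRegular (X.presheaf.stalk x ⧸
      Ideal.map (f.stalkMap x).hom (IsLocalRing.maximalIdeal (S.presheaf.stalk (f x))))
      (fs.map (tauHom f t x VT hxT)))
    (hart : IsArtinianRing ((X.presheaf.stalk x ⧸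
      Ideal.map (f.stalkMap x).hom (IsLocalRing.maximalIdeal (S.presheaf.stalk (f x)))) ⧸
      Ideal.ofList (fs.map (tauHom f t x VT hxT))))
    (V : S.Opens) (hV : IsAffineOpen V) (U₀ : X.Opens) (hU₀ : IsAffineOpen U₀)
    (e : U₀ ≤ f ⁻¹ᵁ V) (eT : U₀ ≤ t ⁻¹ᵁ VT) (hx : x ∈ U₀) :
    letI : Algebra Γ(S, V) Γ(X, U₀) := (f.appLE V U₀ e).hom.toAlgebra
    (∀ b ∈ fs.map (t.appLE VT U₀ eT).hom, b ∈ (hU₀.primeIdealOf ⟨x, hx⟩).asIdeal) ∧
    Good Γ(S, V) (hU₀.primeIdealOf ⟨x, hx⟩).asIdeal (fs.map (t.appLE VT U₀ eT).hom) Γ(X, U₀) ∧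
    (letI : Algebra Γ(X, U₀) (X.presheaf.stalk x) := (X.presheaf.germ U₀ x hx).hom.toAlgebra
     IsArtinianRing (X.presheaf.stalk x ⧸
      ((((hU₀.primeIdealOf ⟨x, hx⟩).asIdeal.comap (algebraMap Γ(S, V) Γ(X, U₀))).map
        (algebraMap Γ(S, V) Γ(X, U₀)) ⊔ Ideal.ofList (fs.map (t.appLE VT U₀ eT).hom)).map
          (algebraMap Γ(X, U₀) (X.presheaf.stalk x))))) := by
  set hs₀ : List Γ(X, U₀) := fs.map (t.appLE VT U₀ eT).hom with hhs₀
  obtain ⟨hfl, hJ⟩ :=
    Groth.Agent.Lib.Helper22.FibSliceScheme.local_algebra f x hflat V hV U₀ hU₀ e hx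
  letI algAB : Algebra Γ(S, V) Γ(X, U₀) := (f.appLE V U₀ e).hom.toAlgebra
  letI algBL : Algebra Γ(X, U₀) (X.presheaf.stalk x) := (X.presheaf.germ U₀ x hx).hom.toAlgebra
  letI algAL : Algebra Γ(S, V) (X.presheaf.stalk x) :=
    ((X.presheaf.germ U₀ x hx).hom.comp (f.appLE V U₀ e).hom).toAlgebra
  haveI : IsScalarTower Γ(S, V) Γ(X, U₀) (X.presheaf.stalk x) :=
    IsScalarTower.of_algebraMap_eq (fun _ => rfl)
  haveI : Algebra.FinitePresentation Γ(S, V) Γ(X, U₀) :=
    RingHom.finitePresentation_algebraMap.mp (f.finitePresentation_appLE hV hU₀ e)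
  haveI hloc : IsLocalization.AtPrime (X.presheaf.stalk x) (hU₀.primeIdealOf ⟨x, hx⟩).asIdeal :=
    hU₀.isLocalization_stalk ⟨x, hx⟩
  haveI : Module.Flat Γ(S, V) (X.presheaf.stalk x) := hfl
  set J := Ideal.map (f.stalkMap x).hom (IsLocalRing.maximalIdeal (S.presheaf.stalk (f x))) with hJdef
  have hlist : (hs₀.map (algebraMap Γ(X, U₀) (X.presheaf.stalk x))).map (Ideal.Quotient.mk J) =
      fs.map (tauHom f t x VT hxT) := by
    rw [hhs₀, List.map_map, List.map_map]
    apply List.map_congr_left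
    intro a _
    simp only [Function.comp_apply, tauHom, RingHom.comp_apply]
    congr 1
    show (X.presheaf.germ U₀ x hx).hom ((t.appLE VT U₀ eT).hom a) = _
    rw [Scheme.Hom.appLE, CommRingCat.hom_comp, RingHom.comp_apply]
    exact TopCat.Presheaf.germ_res_apply X.presheaf (homOfLE eT) x hx _
  obtain ⟨h1, h2⟩ := algebra_data ((hU₀.primeIdealOf ⟨x, hx⟩).asIdeal.comap
      (algebraMap Γ(S, V) Γ(X, U₀))) J hJ hs₀
    (by rw [hlist]; exact hreg) (by rw [hlist]; exact hart)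
  refine ⟨?_, ?_, h2⟩
  · intro b hb
    have hb2 : Ideal.Quotient.mk J (algebraMap Γ(X, U₀) (X.presheaf.stalk x) b) ∈
        fs.map (tauHom f t x VT hxT) := by
      rw [← hlist]
      exact List.mem_map_of_mem (List.mem_map_of_mem hb)
    -- elements of a regular sequence are non-units
    have hb3 : ¬ IsUnit (Ideal.Quotient.mk J (algebraMap Γ(X, U₀) (X.presheaf.stalk x) b)) := by
      intro hu
      apply hreg.top_ne_smul
      symm
      rw [smul_eq_mul, Ideal.mul_top]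
      exact Ideal.eq_top_of_isUnit_mem _ (Ideal.subset_span hb2) hu
    have hb4 : algebraMap Γ(X, U₀) (X.presheaf.stalk x) b ∈
        IsLocalRing.maximalIdeal (X.presheaf.stalk x) := by
      rw [IsLocalRing.mem_maximalIdeal, mem_nonunits_iff]
      exact fun hu => hb3 (hu.map _)
    exact (IsLocalization.AtPrime.to_map_mem_maximal_iff (X.presheaf.stalk x)
      (hU₀.primeIdealOf ⟨x, hx⟩).asIdeal b).mp hb4
  · exact good_of_fibre (hU₀.primeIdealOf ⟨x, hx⟩).asIdeal hs₀ Γ(X, U₀) (X.presheaf.stalk x)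
      (Algebra.linearMap Γ(X, U₀) (X.presheaf.stalk x)) h1

end Groth.Agent.Lib.Helper68.SliceLocal
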