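import Mathlib
import Groth.Agent.Lib.Helper68.SliceLocal

/-!
# Slicing with prescribed equations, II (helper68)

The spreading-out half of helper22's `slice_cm`, for equations pulled back along `t : X ⟶ T`.
-/

set_option autoImplicit false
set_option linter.style.haveILetI false

open AlgebraicGeometry CategoryTheory Limits

namespace Groth.Agent.Lib.Helper68.SliceLocal

universe u

open RingTheory.Sequence Groth.Agent.Lib.Helper22.FibSliceMod
open Groth.Agent.Lib.Helper22.FibSliceCM Groth.Agent.Lib.Helper22.FibSliceQF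
open Groth.Agent.Lib.Helper22.FibSliceMain

set_option backward.isDefEq.respectTransparency false in
/-- Slicing by prescribed equations: if `f` is flat at `x`, `x` is closed in its fibre, and the
images of `fs` (sections over an affine open `VT` of `T`, pulled back along `t`) in the local ring
of the fibre form a regular sequence with Artinian quotient, then on an affine open neighbourhood
`D` of `x` the closed subscheme cut out by the pullbacks of `fs` is flat, lfp and locally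
quasi-finite over `S`. -/
theorem slice_prescribed {X S T : Scheme.{u}} (f : X ⟶ S) [LocallyOfFinitePresentation f]
    (t : X ⟶ T) (x : X) (hflat : (f.stalkMap x).hom.Flat)
    (hcl : IsClosed ({f.asFiber x} : Set ↑(f.fiber (f x))))
    (VT : T.Opens) (hxT : t x ∈ VT) (fs : List Γ(T, VT))
    (hreg : IsRegular (X.presheaf.stalk x ⧸
      Ideal.map (f.stalkMap x).hom (IsLocalRing.maximalIdeal (S.presheaf.stalk (f x))))
      (fs.map (tauHom f t x VT hxT)))
    (hart : IsArtinianRing ((X.presheaf.stalk x ⧸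
      Ideal.map (f.stalkMap x).hom (IsLocalRing.maximalIdeal (S.presheaf.stalk (f x)))) ⧸
      Ideal.ofList (fs.map (tauHom f t x VT hxT)))) :
    ∃ (D : X.Opens) (hD : IsAffineOpen D) (hxD : x ∈ D) (hDT : D ≤ t ⁻¹ᵁ VT),
      Ideal.ofList (fs.map (t.appLE VT D hDT).hom) ≤ (hD.primeIdealOf ⟨x, hxD⟩).asIdeal ∧
      Flat (Spec.map (CommRingCat.ofHom (Ideal.Quotient.mk
        (Ideal.ofList (fs.map (t.appLE VT D hDT).hom)))) ≫ hD.fromSpec ≫ f) ∧
      LocallyOfFinitePresentation (Spec.map (CommRingCat.ofHom (Ideal.Quotient.mk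
        (Ideal.ofList (fs.map (t.appLE VT D hDT).hom)))) ≫ hD.fromSpec ≫ f) ∧
      LocallyQuasiFinite (Spec.map (CommRingCat.ofHom (Ideal.Quotient.mk
        (Ideal.ofList (fs.map (t.appLE VT D hDT).hom)))) ≫ hD.fromSpec ≫ f) := by
  -- affine charts
  obtain ⟨_, ⟨VS, hVS, rfl⟩, hfxV, -⟩ := S.isBasis_affineOpens.exists_subset_of_mem_open
    (Set.mem_univ (f x)) isOpen_univ
  obtain ⟨_, ⟨U₀, hU₀, rfl⟩, hx, hUW⟩ := X.isBasis_affineOpens.exists_subset_of_mem_open
    (show x ∈ ((f ⁻¹ᵁ VS) ⊓ (t ⁻¹ᵁ VT) : X.Opens) from ⟨hfxV, hxT⟩) ((f ⁻¹ᵁ VS) ⊓ (t ⁻¹ᵁ VT)).2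
  have e : U₀ ≤ f ⁻¹ᵁ VS := fun y hy => (hUW hy).1
  have eT : U₀ ≤ t ⁻¹ᵁ VT := fun y hy => (hUW hy).2
  obtain ⟨hmem, hgood, hart'⟩ :=
    local_data_prescribed f t x hflat VT hxT fs hreg hart VS hVS U₀ hU₀ e eT hx
  set hs₀ : List Γ(X, U₀) := fs.map (t.appLE VT U₀ eT).hom with hhs₀
  letI algAB : Algebra Γ(S, VS) Γ(X, U₀) := (f.appLE VS U₀ e).hom.toAlgebra
  haveI : Algebra.FinitePresentation Γ(S, VS) Γ(X, U₀) :=
    RingHom.finitePresentation_algebraMap.mp (f.finitePresentation_appLE hVS hU₀ e)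
  have hIq : Ideal.ofList hs₀ ≤ (hU₀.primeIdealOf ⟨x, hx⟩).asIdeal := by
    rw [Ideal.span_le]
    intro b hb
    exact hmem b hb
  obtain ⟨g₁, hg₁, hqf⟩ := exists_qf_basicOpen f x hcl VS hVS U₀ hU₀ e hx (Ideal.ofList hs₀) hIq hart'
  obtain ⟨g₀, hg₀, hgoodU⟩ := good_open hs₀ Γ(X, U₀) (hU₀.primeIdealOf ⟨x, hx⟩).asIdeal hgood
  set g := g₀ * g₁ with hg
  have hgq : g ∉ (hU₀.primeIdealOf ⟨x, hx⟩).asIdeal := by
    intro hmem'
    rcases Ideal.IsPrime.mem_or_mem (hU₀.primeIdealOf ⟨x, hx⟩).isPrime hmem' with h1 | h1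
    · exact hg₀ h1
    · exact hg₁ h1
  have hUg : IsAffineOpen (X.basicOpen g) := hU₀.basicOpen g
  have hxg : x ∈ X.basicOpen g := by
    have h1 : hU₀.primeIdealOf ⟨x, hx⟩ ∈ (PrimeSpectrum.basicOpen g : Set _) := hgq
    have h2 : hU₀.primeIdealOf ⟨x, hx⟩ ∈ hU₀.fromSpec ⁻¹ᵁ X.basicOpen g := by
      rw [hU₀.fromSpec_preimage_basicOpen]
      exact h1
    have h3 : hU₀.fromSpec (hU₀.primeIdealOf ⟨x, hx⟩) ∈ X.basicOpen g := h2
    rwa [hU₀.fromSpec_primeIdealOf ⟨x, hx⟩] at h3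
  have e' : X.basicOpen g ≤ f ⁻¹ᵁ VS := (X.basicOpen_le g).trans e
  have eT' : X.basicOpen g ≤ t ⁻¹ᵁ VT := (X.basicOpen_le g).trans eT
  letI algAC : Algebra Γ(S, VS) Γ(X, X.basicOpen g) :=
    (f.appLE VS (X.basicOpen g) e').hom.toAlgebra
  haveI : IsScalarTower Γ(S, VS) Γ(X, U₀) Γ(X, X.basicOpen g) :=
    IsScalarTower.of_algebraMap_eq (fun a => by
      show (f.appLE VS (X.basicOpen g) e').hom a =
        (X.presheaf.map (homOfLE (X.basicOpen_le g)).op).hom ((f.appLE VS U₀ e).hom a)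
      rw [← Scheme.Hom.appLE_map f e (homOfLE (X.basicOpen_le g)).op]
      rfl)
  haveI := hU₀.isLocalization_basicOpen g
  obtain ⟨hwr, hflatC⟩ := ring_exit (A := Γ(S, VS)) g hs₀
    (fun r _ hgr => hgoodU r (fun h0 => hgr (Ideal.mul_mem_right _ _ h0))) Γ(X, X.basicOpen g)
  -- notation
  set hs' : List Γ(X, X.basicOpen g) := hs₀.map (algebraMap Γ(X, U₀) Γ(X, X.basicOpen g)) with hhs'
  have hhs'eq : hs' = fs.map (t.appLE VT (X.basicOpen g) eT').hom := by
    rw [hhs', hhs₀, List.map_map]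
    apply List.map_congr_left
    intro a _
    simp only [Function.comp_apply]
    show (X.presheaf.map (homOfLE (X.basicOpen_le g)).op).hom ((t.appLE VT U₀ eT).hom a) = _
    rw [← Scheme.Hom.appLE_map t eT (homOfLE (X.basicOpen_le g)).op]
    rfl
  set IC : Ideal Γ(X, X.basicOpen g) := Ideal.ofList hs' with hIC
  -- membership of the generators in the prime of `x`
  have hICle : IC ≤ (hUg.primeIdealOf ⟨x, hxg⟩).asIdeal := by
    rw [hIC, Ideal.span_le]
    intro c hc
    obtain ⟨b, hb, rfl⟩ := List.mem_map.mp hc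
    rw [SetLike.mem_coe, mem_primeIdealOf_iff]
    have h1 : X.presheaf.germ (X.basicOpen g) x hxg (algebraMap Γ(X, U₀) Γ(X, X.basicOpen g) b) =
        X.presheaf.germ U₀ x hx b :=
      TopCat.Presheaf.germ_res_apply X.presheaf (homOfLE (X.basicOpen_le g)) x hxg b
    rw [h1, ← mem_primeIdealOf_iff hU₀]
    exact hmem b hb
  -- the comparison map `Spec (C/IC) ⟶ Spec (B/I)`
  have hle : Ideal.ofList hs₀ ≤ IC.comap (algebraMap Γ(X, U₀) Γ(X, X.basicOpen g)) := by
    rw [← Ideal.map_le_iff_le_comap, Ideal.map_ofList]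
  set ρ : Γ(X, U₀) ⧸ Ideal.ofList hs₀ →+* Γ(X, X.basicOpen g) ⧸ IC :=
    Ideal.quotientMap IC (algebraMap Γ(X, U₀) Γ(X, X.basicOpen g)) hle with hρ
  have hρmk : ρ.comp (Ideal.Quotient.mk (Ideal.ofList hs₀)) =
      (Ideal.Quotient.mk IC).comp (algebraMap Γ(X, U₀) Γ(X, X.basicOpen g)) := by
    ext b
    rfl
  have hfac : Spec.map (CommRingCat.ofHom (Ideal.Quotient.mk IC)) ≫ hUg.fromSpec =
      Spec.map (CommRingCat.ofHom ρ) ≫
        Spec.map (CommRingCat.ofHom (Ideal.Quotient.mk (Ideal.ofList hs₀))) ≫ hU₀.fromSpec := by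
    rw [← hU₀.map_fromSpec hUg (homOfLE (X.basicOpen_le g)).op, ← Category.assoc, ← Category.assoc,
      ← Spec.map_comp, ← Spec.map_comp]
    congr 2
  have hu : IsUnit (algebraMap Γ(X, U₀) Γ(X, X.basicOpen g) g₁) := by
    have h0 : IsUnit (algebraMap Γ(X, U₀) Γ(X, X.basicOpen g) g) :=
      IsLocalization.Away.algebraMap_isUnit g
    rw [hg, map_mul] at h0
    exact isUnit_of_mul_isUnit_right h0
  have hunit : ∀ z : Spec (CommRingCat.of (Γ(X, X.basicOpen g) ⧸ IC)),
      Ideal.Quotient.mk (Ideal.ofList hs₀) g₁ ∉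
        (Spec.map (CommRingCat.ofHom ρ) z).asIdeal := by
    intro z hmem'
    have hu' : IsUnit (ρ (Ideal.Quotient.mk (Ideal.ofList hs₀) g₁)) :=
      hu.map (Ideal.Quotient.mk IC)
    exact z.isPrime.ne_top (Ideal.eq_top_of_isUnit_mem _ hmem' hu')
  have hLFP : LocallyOfFinitePresentation
      (Spec.map (CommRingCat.ofHom (Ideal.Quotient.mk IC)) ≫ hUg.fromSpec ≫ f) := by
    haveI : LocallyOfFinitePresentation
        (Spec.map (CommRingCat.ofHom (Ideal.Quotient.mk IC))) := by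
      rw [HasRingHomProperty.Spec_iff (P := @LocallyOfFinitePresentation)]
      refine RingHom.FinitePresentation.of_surjective _ Ideal.Quotient.mk_surjective ?_
      rw [CommRingCat.hom_ofHom, Ideal.mk_ker]
      exact Submodule.fg_span (List.finite_toSet hs')
    infer_instance
  refine ⟨X.basicOpen g, hUg, hxg, eT', ?_⟩
  rw [← hhs'eq]
  refine ⟨hICle, ?_, hLFP, ?_⟩
  · have hfac2 : Spec.map (CommRingCat.ofHom (Ideal.Quotient.mk IC)) ≫ hUg.fromSpec ≫ f =
        Spec.map (f.appLE VS (X.basicOpen g) e' ≫ CommRingCat.ofHom (Ideal.Quotient.mk IC)) ≫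
          hVS.fromSpec := by
      rw [Spec.map_comp, Category.assoc, IsAffineOpen.SpecMap_appLE_fromSpec f hVS hUg e']
    rw [hfac2]
    haveI : Flat (Spec.map (f.appLE VS (X.basicOpen g) e' ≫
        CommRingCat.ofHom (Ideal.Quotient.mk IC))) := by
      rw [HasRingHomProperty.Spec_iff (P := @Flat)]
      exact RingHom.flat_algebraMap_iff.mpr hflatC
    infer_instance
  · haveI := hLFP
    rw [← Scheme.Hom.quasiFiniteLocus_eq_top_iff]
    apply top_le_iff.mp
    intro z _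
    have hρqf : LocallyQuasiFinite (Spec.map (CommRingCat.ofHom ρ)) := by
      rw [HasRingHomProperty.Spec_iff (P := @LocallyQuasiFinite), CommRingCat.hom_ofHom]
      apply RingHom.QuasiFinite.of_comp (g := Ideal.Quotient.mk (Ideal.ofList hs₀))
      rw [hρmk]
      refine RingHom.QuasiFinite.comp (RingHom.QuasiFinite.of_finite
        (RingHom.Finite.of_surjective _ Ideal.Quotient.mk_surjective)) ?_
      exact RingHom.quasiFinite_algebraMap.mpr
        (Algebra.QuasiFinite.of_isLocalization (Submonoid.powers g))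
    have h1 : (Spec.map (CommRingCat.ofHom ρ)).QuasiFiniteAt z :=
      (Spec.map (CommRingCat.ofHom ρ)).quasiFiniteAt z
    have h2 := (hqf _ (hunit z)).1
    have hmor : Spec.map (CommRingCat.ofHom (Ideal.Quotient.mk IC)) ≫ hUg.fromSpec ≫ f =
        Spec.map (CommRingCat.ofHom ρ) ≫
        (Spec.map (CommRingCat.ofHom (Ideal.Quotient.mk (Ideal.ofList hs₀))) ≫
          hU₀.fromSpec ≫ f) := by
      rw [← Category.assoc, hfac, Category.assoc, Category.assoc]
    have hqfz : (Spec.map (CommRingCat.ofHom ρ) ≫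
        (Spec.map (CommRingCat.ofHom (Ideal.Quotient.mk (Ideal.ofList hs₀))) ≫
          hU₀.fromSpec ≫ f)).QuasiFiniteAt z := by
      show (Scheme.Hom.stalkMap _ z).hom.QuasiFinite
      rw [Scheme.Hom.stalkMap_comp, CommRingCat.hom_comp]
      exact RingHom.QuasiFinite.comp h1 h2
    show Scheme.Hom.QuasiFiniteAt _ z
    rw [hmor]
    exact hqfz

end Groth.Agent.Lib.Helper68.SliceLocal
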