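import Mathlib
import Groth.Agent.Lib.Helper68.SliceLocal2
import Groth.Agent.Lib.Helper12.LocQuot

set_option autoImplicit false
set_option linter.style.haveILetI false

open AlgebraicGeometry CategoryTheory Limits

namespace Groth.Agent.Lib.Helper68.SliceLocal

universe u

open RingTheory.Sequence

/-- `Spec (C / I C) = Spec C ×_{Spec A} Spec (A / I)`. -/
theorem isPullback_Spec_quotient {A C : CommRingCat.{u}} (φ : A ⟶ C) (I : Ideal A) (J : Ideal C)
    (hJ : J = I.map φ.hom) :
    IsPullback (Spec.map (CommRingCat.ofHom (Ideal.Quotient.mk J)))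
      (Spec.map (CommRingCat.ofHom (Ideal.quotientMap J φ.hom
        (by rw [hJ]; exact Ideal.le_comap_map))))
      (Spec.map φ) (Spec.map (CommRingCat.ofHom (Ideal.Quotient.mk I))) := by
  subst hJ
  letI : Algebra A C := φ.hom.toAlgebra
  have h := Groth.Agent.Lib.Helper12.LocQuot.isPushout_quotient A C I
  have h2 := CommRingCat.isPushout_of_isPushout A C (A ⧸ I) (C ⧸ I.map (algebraMap A C))
  exact isPullback_SpecMap_of_isPushout _ _ _ _ h2

/-- The closed subscheme of the affine open `VT` cut out by `fs`, as a scheme over `T`. -/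
noncomputable abbrev sliceHom {T : Scheme.{u}} {VT : T.Opens} (hVT : IsAffineOpen VT)
    (fs : List Γ(T, VT)) : Spec (CommRingCat.of (Γ(T, VT) ⧸ Ideal.ofList fs)) ⟶ T :=
  Spec.map (CommRingCat.ofHom (Ideal.Quotient.mk (Ideal.ofList fs))) ≫ hVT.fromSpec

set_option backward.isDefEq.respectTransparency false in
/-- The slice chart: an open subscheme `Ω` of `X ×_T Z`, `Z = V(fs) ⊆ VT`, through a point over `x`,
which is flat, lfp and locally quasi-finite over `S`. -/
theorem exists_chart {X S T : Scheme.{u}} (f : X ⟶ S) [LocallyOfFinitePresentation f]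
    (t : X ⟶ T) (x : X) (hflat : (f.stalkMap x).hom.Flat)
    (hcl : IsClosed ({f.asFiber x} : Set ↑(f.fiber (f x))))
    (VT : T.Opens) (hVT : IsAffineOpen VT) (hxT : t x ∈ VT) (fs : List Γ(T, VT))
    (hreg : IsRegular (X.presheaf.stalk x ⧸
      Ideal.map (f.stalkMap x).hom (IsLocalRing.maximalIdeal (S.presheaf.stalk (f x))))
      (fs.map (tauHom f t x VT hxT)))
    (hart : IsArtinianRing ((X.presheaf.stalk x ⧸
      Ideal.map (f.stalkMap x).hom (IsLocalRing.maximalIdeal (S.presheaf.stalk (f x)))) ⧸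
      Ideal.ofList (fs.map (tauHom f t x VT hxT)))) :
    ∃ (Ω : Scheme.{u}) (ω : Ω ⟶ pullback t (sliceHom hVT fs)) (w : Ω), IsOpenImmersion ω ∧
      pullback.fst t (sliceHom hVT fs) (ω w) = x ∧
      Flat (ω ≫ pullback.fst t (sliceHom hVT fs) ≫ f) ∧
      LocallyOfFinitePresentation (ω ≫ pullback.fst t (sliceHom hVT fs) ≫ f) ∧
      LocallyQuasiFinite (ω ≫ pullback.fst t (sliceHom hVT fs) ≫ f) := by
  obtain ⟨D, hD, hxD, hDT, hle, h1, h2, h3⟩ :=
    slice_prescribed f t x hflat hcl VT hxT fs hreg hart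
  set φ := t.appLE VT D hDT with hφ
  set IC := Ideal.ofList (fs.map φ.hom) with hIC
  have hJ : IC = (Ideal.ofList fs).map φ.hom := by
    rw [hIC, Ideal.map_ofList]
  have hpb := isPullback_Spec_quotient φ (Ideal.ofList fs) IC hJ
  have e₁ : Spec.map φ ≫ hVT.fromSpec = hD.fromSpec ≫ t :=
    IsAffineOpen.SpecMap_appLE_fromSpec t hVT hD hDT
  have e₂ : Spec.map (CommRingCat.ofHom (Ideal.Quotient.mk (Ideal.ofList fs))) ≫ hVT.fromSpec =
      𝟙 _ ≫ sliceHom hVT fs := by
    rw [Category.id_comp]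
  let pm := pullback.map (Spec.map φ)
    (Spec.map (CommRingCat.ofHom (Ideal.Quotient.mk (Ideal.ofList fs)))) t (sliceHom hVT fs)
    hD.fromSpec (𝟙 _) hVT.fromSpec e₁ e₂
  haveI : IsOpenImmersion pm := by
    dsimp only [pm]
    infer_instance
  let ω := hpb.isoPullback.hom ≫ pm
  have hω1 : ω ≫ pullback.fst t (sliceHom hVT fs) =
      Spec.map (CommRingCat.ofHom (Ideal.Quotient.mk IC)) ≫ hD.fromSpec := by
    dsimp only [ω, pm]
    rw [Category.assoc, pullback.lift_fst, ← Category.assoc, IsPullback.isoPullback_hom_fst]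
  -- the point
  have hker : RingHom.ker (Ideal.Quotient.mk IC) = IC := Ideal.mk_ker
  haveI hP : ((hD.primeIdealOf ⟨x, hxD⟩).asIdeal.map (Ideal.Quotient.mk IC)).IsPrime :=
    Ideal.map_isPrime_of_surjective Ideal.Quotient.mk_surjective (by rw [hker]; exact hle)
  let w : Spec (CommRingCat.of (Γ(X, D) ⧸ IC)) := ⟨_, hP⟩
  have hw1 : Spec.map (CommRingCat.ofHom (Ideal.Quotient.mk IC)) w =
      hD.primeIdealOf ⟨x, hxD⟩ := by
    apply PrimeSpectrum.ext
    show Ideal.comap (Ideal.Quotient.mk IC) (Ideal.map (Ideal.Quotient.mk IC) _) = _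
    rw [Ideal.comap_map_of_surjective _ Ideal.Quotient.mk_surjective,
      ← RingHom.ker_eq_comap_bot, hker]
    exact sup_eq_left.mpr hle
  refine ⟨_, ω, w, inferInstance, ?_, ?_, ?_, ?_⟩
  · have : pullback.fst t (sliceHom hVT fs) (ω w) =
        (Spec.map (CommRingCat.ofHom (Ideal.Quotient.mk IC)) ≫ hD.fromSpec) w := by
      rw [← hω1]
      rfl
    rw [this]
    show hD.fromSpec (Spec.map (CommRingCat.ofHom (Ideal.Quotient.mk IC)) w) = x
    rw [hw1, hD.fromSpec_primeIdealOf ⟨x, hxD⟩]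
  · rw [← Category.assoc, hω1, Category.assoc]
    exact h1
  · rw [← Category.assoc, hω1, Category.assoc]
    exact h2
  · rw [← Category.assoc, hω1, Category.assoc]
    exact h3

end Groth.Agent.Lib.Helper68.SliceLocal
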