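import Mathlib
import Groth.Agent.Lib.Helper24.FibreStalkQuot
import Groth.Agent.Lib.Helper68.SliceLocal

set_option autoImplicit false
set_option linter.style.haveILetI false

open AlgebraicGeometry CategoryTheory Limits

namespace Groth.Agent.Lib.Helper68.SliceH0

universe u

open IsLocalRing TensorProduct Groth.Agent.Lib.Helper68.SliceLocal

/-- For a quasi-finite algebra over a local ring the closed fibre is Artinian. -/
theorem isArtinianRing_quotient_of_quasiFinite (R S : Type u) [CommRing R] [CommRing S]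
    [IsLocalRing R] [Algebra R S] [Algebra.QuasiFinite R S] :
    IsArtinianRing (S ⧸ (maximalIdeal R).map (algebraMap R S)) := by
  let e : (maximalIdeal R).Fiber S ≃ₐ[R] S ⧸ (maximalIdeal R).map (algebraMap R S) :=
    (Algebra.TensorProduct.congr (.symm <| .ofBijective _
      (Ideal.bijective_algebraMap_quotient_residueField (maximalIdeal R))) .refl).trans <|
    (Algebra.TensorProduct.comm _ _ _).trans
    ((Algebra.TensorProduct.quotIdealMapEquivTensorQuot S (maximalIdeal R)).symm.restrictScalars _)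
  exact e.toRingEquiv.isArtinianRing

set_option backward.isDefEq.respectTransparency false in
/-- If the restriction of `g` to the fibre of `f` is quasi-finite at `z`, then the local ring of
`X` modulo the maximal ideals of both bases is Artinian. -/
theorem isArtinianRing_of_quasiFiniteAt_fiber {X Y Z : Scheme.{u}} (f : X ⟶ Y) (g : X ⟶ Z) (y : Y)
    (z : ↥(f.fiber y)) (h : (f.fiberι y ≫ g).QuasiFiniteAt z) :
    IsArtinianRing (X.presheaf.stalk (f.fiberι y z) ⧸
      ((maximalIdeal (Y.presheaf.stalk (f (f.fiberι y z)))).map (f.stalkMap (f.fiberι y z)).hom ⊔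
       (maximalIdeal (Z.presheaf.stalk (g (f.fiberι y z)))).map
        (g.stalkMap (f.fiberι y z)).hom)) := by
  set σ := ((f.fiberι y).stalkMap z).hom with hσ
  have hsurj : Function.Surjective σ := (f.fiberι y).stalkMap_surjective z
  have hker : RingHom.ker σ =
      (maximalIdeal ↑(Y.presheaf.stalk (f (f.fiberι y z)))).map (f.stalkMap (f.fiberι y z)).hom :=
    le_antisymm (Groth.Agent.Lib.Helper49.ker_le_map f y z)
      (Groth.Agent.Lib.Helper49.map_le_ker f y z)
  set γ := (g.stalkMap (f.fiberι y z)).hom with hγ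
  have h' : (σ.comp γ).QuasiFinite := by
    have h0 : ((f.fiberι y ≫ g).stalkMap z).hom.QuasiFinite := h
    rw [Scheme.Hom.stalkMap_comp, CommRingCat.hom_comp] at h0
    exact h0
  letI alg : Algebra (Z.presheaf.stalk (g (f.fiberι y z))) ((f.fiber y).presheaf.stalk z) :=
    (σ.comp γ).toAlgebra
  haveI : Algebra.QuasiFinite (Z.presheaf.stalk (g (f.fiberι y z)))
      ((f.fiber y).presheaf.stalk z) := h'
  have hart := isArtinianRing_quotient_of_quasiFinite (Z.presheaf.stalk (g (f.fiberι y z)))
    ((f.fiber y).presheaf.stalk z)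
  set K := (maximalIdeal (Z.presheaf.stalk (g (f.fiberι y z)))).map
    (algebraMap (Z.presheaf.stalk (g (f.fiberι y z))) ((f.fiber y).presheaf.stalk z)) with hK
  let ψ : X.presheaf.stalk (f.fiberι y z) →+* ((f.fiber y).presheaf.stalk z) ⧸ K :=
    (Ideal.Quotient.mk K).comp σ
  have hψ : Function.Surjective ψ := Ideal.Quotient.mk_surjective.comp hsurj
  have hkψ : RingHom.ker ψ =
      (maximalIdeal (Y.presheaf.stalk (f (f.fiberι y z)))).map (f.stalkMap (f.fiberι y z)).hom ⊔
       (maximalIdeal (Z.presheaf.stalk (g (f.fiberι y z)))).map γ := by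
    have h1 : RingHom.ker ψ = K.comap σ := by
      rw [← RingHom.comap_ker, Ideal.mk_ker]
    have h2 : K = ((maximalIdeal (Z.presheaf.stalk (g (f.fiberι y z)))).map γ).map σ := by
      rw [hK, Ideal.map_map]
      rfl
    rw [h1, h2, Ideal.comap_map_of_surjective σ hsurj, ← RingHom.ker_eq_comap_bot, hker, sup_comm]
  exact ((Ideal.quotEquivOfEq hkψ).symm.trans
    (RingHom.quotientKerEquivOfSurjective hψ)).symm.isArtinianRing

set_option backward.isDefEq.respectTransparency false in
theorem map_tauHom {X S T : Scheme.{u}} (f : X ⟶ S) (t : X ⟶ T) (x : X) (VT : T.Opens)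
    (hVT : IsAffineOpen VT) (hxT : t x ∈ VT) :
    (hVT.primeIdealOf ⟨t x, hxT⟩).asIdeal.map (tauHom f t x VT hxT) =
      ((maximalIdeal (T.presheaf.stalk (t x))).map (t.stalkMap x).hom).map
        (Ideal.Quotient.mk (Ideal.map (f.stalkMap x).hom
          (maximalIdeal (S.presheaf.stalk (f x))))) := by
  have heq : (X.presheaf.germ (t ⁻¹ᵁ VT) x hxT).hom.comp (t.app VT).hom =
      (t.stalkMap x).hom.comp (T.presheaf.germ VT (t x) hxT).hom := by
    rw [← CommRingCat.hom_comp, ← CommRingCat.hom_comp, Scheme.Hom.germ_stalkMap]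
  letI : Algebra Γ(T, VT) (T.presheaf.stalk (t x)) := (T.presheaf.germ VT (t x) hxT).hom.toAlgebra
  haveI hloc : IsLocalization.AtPrime (T.presheaf.stalk (t x))
      (hVT.primeIdealOf ⟨t x, hxT⟩).asIdeal := hVT.isLocalization_stalk ⟨t x, hxT⟩
  have hmax := IsLocalization.AtPrime.map_eq_maximalIdeal
    (hVT.primeIdealOf ⟨t x, hxT⟩).asIdeal (T.presheaf.stalk (t x))
  rw [← hmax, Ideal.map_map, Ideal.map_map]
  congr 1
  rw [tauHom, heq]
  rfl

theorem isArtinianRing_tau {X S T : Scheme.{u}} (f : X ⟶ S) (t : X ⟶ T) (x : X) (VT : T.Opens)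
    (hVT : IsAffineOpen VT) (hxT : t x ∈ VT)
    (h : IsArtinianRing (X.presheaf.stalk x ⧸
      ((maximalIdeal (S.presheaf.stalk (f x))).map (f.stalkMap x).hom ⊔
       (maximalIdeal (T.presheaf.stalk (t x))).map (t.stalkMap x).hom))) :
    IsArtinianRing ((X.presheaf.stalk x ⧸
      Ideal.map (f.stalkMap x).hom (maximalIdeal (S.presheaf.stalk (f x)))) ⧸
        (hVT.primeIdealOf ⟨t x, hxT⟩).asIdeal.map (tauHom f t x VT hxT)) := by
  rw [map_tauHom]
  exact (DoubleQuot.quotQuotEquivQuotSup _ _).symm.isArtinianRing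

end Groth.Agent.Lib.Helper68.SliceH0
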