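import Mathlib
import Groth.Agent.Lib.Helper37.GrpdPull
import Groth.Agent.S1883
import Groth.Agent.H52.DimZero
import Groth.Agent.Lib.Helper14.QuasiFiniteBaseChange
import Groth.Agent.Lib.Helper54.FibBound
import Groth.Agent.Lib.Helper68.SliceH0

set_option autoImplicit false
set_option linter.style.haveILetI false

open AlgebraicGeometry CategoryTheory Limits Grpd

namespace Groth.Agent.Lib.Helper68.SliceH0

universe u

open Groth.Agent.Lib.Helper37 Groth.Agent.Lib.Helper37.Pull

variable {S : Scheme.{u}} (G : GroupoidScheme S)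

lemma j_fst : G.j ≫ pullback.fst G.pU G.pU = G.t := pullback.lift_fst _ _ _

lemma j_snd : G.j ≫ pullback.snd G.pU G.pU = G.s := pullback.lift_snd _ _ _

lemma diag_fst : G.diag ≫ pullback.fst G.pU G.pU = 𝟙 _ := pullback.lift_fst _ _ _

lemma diag_snd : G.diag ≫ pullback.snd G.pU G.pU = 𝟙 _ := pullback.lift_snd _ _ _

/-- The underlying arrow of a point of the stabilizer. -/
noncomputable def stFst : G.stabilizer ⟶ G.R := pullback.fst G.j G.diag

lemma st_condition : stFst G ≫ G.j = G.stabilizerToU ≫ G.diag := pullback.condition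

lemma stFst_t : stFst G ≫ G.t = G.stabilizerToU := by
  rw [← j_fst, ← Category.assoc, st_condition, Category.assoc, diag_fst, Category.comp_id]

lemma stFst_s : stFst G ≫ G.s = G.stabilizerToU := by
  rw [← j_snd, ← Category.assoc, st_condition, Category.assoc, diag_snd, Category.comp_id]

variable {G} in
/-- Constructor for points of the stabilizer. -/
noncomputable def stLift {T : Scheme.{u}} (r : T ⟶ G.R) (a : T ⟶ G.U) (h1 : r ≫ G.t = a)
    (h2 : r ≫ G.s = a) : T ⟶ G.stabilizer :=
  pullback.lift r a (by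
    apply pullback.hom_ext
    · rw [Category.assoc, j_fst, Category.assoc, diag_fst, Category.comp_id, h1]
    · rw [Category.assoc, j_snd, Category.assoc, diag_snd, Category.comp_id, h2])

variable {G} in
lemma stLift_fst {T : Scheme.{u}} (r : T ⟶ G.R) (a : T ⟶ G.U) (h1 : r ≫ G.t = a)
    (h2 : r ≫ G.s = a) : stLift r a h1 h2 ≫ stFst G = r := pullback.lift_fst _ _ _

variable {G} in
lemma stLift_toU {T : Scheme.{u}} (r : T ⟶ G.R) (a : T ⟶ G.U) (h1 : r ≫ G.t = a)
    (h2 : r ≫ G.s = a) : stLift r a h1 h2 ≫ G.stabilizerToU = a := pullback.lift_snd _ _ _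

variable {G} in
lemma st_ext {T : Scheme.{u}} {α β : T ⟶ G.stabilizer} (h1 : α ≫ stFst G = β ≫ stFst G)
    (h2 : α ≫ G.stabilizerToU = β ≫ G.stabilizerToU) : α = β :=
  pullback.hom_ext h1 h2

variable {U' : Scheme.{u}} (ι : U' ⟶ G.U)

/-- typed versions for the restricted groupoid -/
noncomputable def stFst' : (pullGrpd G ι).stabilizer ⟶ R' G ι := stFst (pullGrpd G ι)

noncomputable def stToU' : (pullGrpd G ι).stabilizer ⟶ U' := (pullGrpd G ι).stabilizerToU

lemma stFst'_a' : stFst' G ι ≫ a' G ι = stToU' G ι := stFst_t (pullGrpd G ι)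

lemma stFst'_b' : stFst' G ι ≫ b' G ι = stToU' G ι := stFst_s (pullGrpd G ι)

variable {G ι} in
noncomputable def stLift' {T : Scheme.{u}} (r : T ⟶ R' G ι) (a : T ⟶ U') (h1 : r ≫ a' G ι = a)
    (h2 : r ≫ b' G ι = a) : T ⟶ (pullGrpd G ι).stabilizer :=
  stLift (G := pullGrpd G ι) r a h1 h2

variable {G ι} in
lemma stLift'_fst {T : Scheme.{u}} (r : T ⟶ R' G ι) (a : T ⟶ U') (h1 : r ≫ a' G ι = a)
    (h2 : r ≫ b' G ι = a) : stLift' r a h1 h2 ≫ stFst' G ι = r :=
  stLift_fst (G := pullGrpd G ι) r a h1 h2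

variable {G ι} in
lemma stLift'_toU {T : Scheme.{u}} (r : T ⟶ R' G ι) (a : T ⟶ U') (h1 : r ≫ a' G ι = a)
    (h2 : r ≫ b' G ι = a) : stLift' r a h1 h2 ≫ stToU' G ι = a :=
  stLift_toU (G := pullGrpd G ι) r a h1 h2

variable {G ι} in
lemma st_ext' {T : Scheme.{u}} {α β : T ⟶ (pullGrpd G ι).stabilizer}
    (h1 : α ≫ stFst' G ι = β ≫ stFst' G ι) (h2 : α ≫ stToU' G ι = β ≫ stToU' G ι) : α = β :=
  st_ext (G := pullGrpd G ι) h1 h2

/-- The comparison from the stabilizer of the restricted groupoid. -/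
noncomputable def stabMap : (pullGrpd G ι).stabilizer ⟶ G.stabilizer :=
  stLift (stFst' G ι ≫ ρ G ι) (stToU' G ι ≫ ι)
    (by rw [Category.assoc, ρ_t, ← Category.assoc, stFst'_a'])
    (by rw [Category.assoc, ρ_s, ← Category.assoc, stFst'_b'])

lemma stabMap_fst : stabMap G ι ≫ stFst G = stFst' G ι ≫ ρ G ι := stLift_fst _ _ _ _

lemma stabMap_toU : stabMap G ι ≫ G.stabilizerToU = stToU' G ι ≫ ι :=
  stLift_toU _ _ _ _

/-- The stabilizer of the restricted groupoid is the base change of the stabilizer. -/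
theorem isPullback_stabMap :
    IsPullback (stabMap G ι) (stToU' G ι) G.stabilizerToU ι := by
  refine ⟨⟨stabMap_toU G ι⟩, ⟨PullbackCone.IsLimit.mk _ (fun c => ?_) (fun c => ?_) (fun c => ?_)
    (fun c m h1 h2 => ?_)⟩⟩
  · have h1 : (c.fst ≫ stFst G) ≫ G.t = c.snd ≫ ι := by
      rw [Category.assoc, stFst_t, c.condition]
    have h2 : (c.fst ≫ stFst G) ≫ G.s = c.snd ≫ ι := by
      rw [Category.assoc, stFst_s, c.condition]
    exact stLift' (Pull.mk (c.fst ≫ stFst G) c.snd c.snd h1 h2) c.snd
      (mk_a' _ _ _ _ _) (mk_b' _ _ _ _ _)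
  · apply st_ext
    · rw [Category.assoc, stabMap_fst, ← Category.assoc, stLift'_fst, mk_ρ]
    · rw [Category.assoc, stabMap_toU, ← Category.assoc, stLift'_toU]
      exact c.condition.symm
  · exact stLift'_toU _ _ _ _
  · apply st_ext'
    · rw [stLift'_fst]
      apply Pull.ext
      · rw [mk_ρ, Category.assoc, ← stabMap_fst, ← Category.assoc, h1]
      · rw [mk_a', Category.assoc, stFst'_a', h2]
      · rw [mk_b', Category.assoc, stFst'_b', h2]
    · rw [stLift'_toU]
      exact h2


set_option backward.isDefEq.respectTransparency false in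
/-- If the stabilizer is locally quasi-finite then `s` restricted to the fibre of `t` through an
automorphism-like point (`s r = t r`, a finite type point) is quasi-finite there. -/
theorem quasiFiniteAt_fiber_of_stabilizer_lqf [LocallyOfFiniteType G.s] [LocallyOfFiniteType G.t]
    [LocallyOfFiniteType G.stabilizerToU] [LocallyQuasiFinite G.stabilizerToU]
    (r : G.R) (hst : G.s r = G.t r)
    (hr : LocallyOfFiniteType (G.U.fromSpecResidueField (G.t r))) :
    (G.t.fiberι (G.t r) ≫ G.s).QuasiFiniteAt (G.t.asFiber r) := by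
  set ι := G.U.fromSpecResidueField (G.t r) with hι
  haveI := hr
  haveI h1 : LocallyOfFiniteType (pullGrpd G ι).s := by
    show LocallyOfFiniteType (b' G ι)
    unfold b'
    infer_instance
  haveI h2 : LocallyOfFiniteType (pullGrpd G ι).t := by
    show LocallyOfFiniteType (a' G ι)
    unfold a'
    infer_instance
  have hdim := Groth.Agent.S1883.result S (pullGrpd G ι) (G.U.residueField (G.t r)) (Iso.refl _)
  haveI hlqf : LocallyQuasiFinite (stToU' G ι) :=
    MorphismProperty.of_isPullback (P := @LocallyQuasiFinite) (isPullback_stabMap G ι) inferInstance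
  have hdisc : DiscreteTopology ↥(pullGrpd G ι).stabilizer := by
    rw [← isDiscrete_univ_iff]
    have := (stToU' G ι).isDiscrete_preimage_singleton
      (IsLocalRing.closedPoint (G.U.residueField (G.t r)))
    convert this
    ext x
    simp only [Set.mem_univ, Set.mem_preimage, Set.mem_singleton_iff, true_iff]
    exact Subsingleton.elim (α := PrimeSpectrum _) _ _
  have hd0 : topologicalKrullDim ↥(R' G ι) ≤ 0 := by
    have h0 : topologicalKrullDim ↥(pullGrpd G ι).R = topologicalKrullDim ↥(pullGrpd G ι).stabilizer :=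
      hdim
    have : topologicalKrullDim ↥(R' G ι) = topologicalKrullDim ↥(pullGrpd G ι).R := rfl
    rw [this, h0]
    exact topologicalKrullDim_zero_of_discreteTopology _
  haveI : LocallyOfFiniteType (b' G ι) := h1
  haveI hb : LocallyQuasiFinite (b' G ι) :=
    Groth.Agent.H52.locallyQuasiFinite_of_dim_le_zero (b' G ι) hd0
  -- the point
  have hπ : (π G ι) (G.t.asFiber r) = ι (IsLocalRing.closedPoint (G.U.residueField (G.t r))) := by
    have : (π G ι) (G.t.asFiber r) = G.s (G.t.fiberι (G.t r) (G.t.asFiber r)) := rfl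
    rw [this, Scheme.Hom.fiberι_asFiber, hst]
    exact (Scheme.fromSpecResidueField_apply _ _).symm
  obtain ⟨x', hx'1, hx'2⟩ := Groth.Agent.Lib.Helper54.exists_preimage_of_isPullback
    (IsPullback.of_hasPullback (π G ι) ι) (G.t.asFiber r)
    (IsLocalRing.closedPoint (G.U.residueField (G.t r))) hπ
  haveI : LocallyOfFiniteType (π G ι) := by
    unfold π
    infer_instance
  have key := (Groth.Agent.Lib.Helper14.quasiFiniteAt_iff_of_isPullback
    (IsPullback.of_hasPullback (π G ι) ι) x').mp ((b' G ι).quasiFiniteAt x')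
  rw [hx'1] at key
  exact key


theorem isArtinianRing_sup_of_eq {X Y Z : Scheme.{u}} (f : X ⟶ Y) (g : X ⟶ Z) {x₀ x : X}
    (h : x₀ = x)
    (H : IsArtinianRing (X.presheaf.stalk x₀ ⧸
      ((IsLocalRing.maximalIdeal (Y.presheaf.stalk (f x₀))).map (f.stalkMap x₀).hom ⊔
       (IsLocalRing.maximalIdeal (Z.presheaf.stalk (g x₀))).map (g.stalkMap x₀).hom))) :
    IsArtinianRing (X.presheaf.stalk x ⧸
      ((IsLocalRing.maximalIdeal (Y.presheaf.stalk (f x))).map (f.stalkMap x).hom ⊔
       (IsLocalRing.maximalIdeal (Z.presheaf.stalk (g x))).map (g.stalkMap x).hom)) := by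
  subst h
  exact H

lemma e_s_apply (u : G.U) : G.s (G.e u) = u := by
  rw [← Scheme.Hom.comp_apply, G.e_s]
  rfl

lemma e_t_apply (u : G.U) : G.t (G.e u) = u := by
  rw [← Scheme.Hom.comp_apply, G.e_t]
  rfl

/-- (H-0): with locally quasi-finite stabilizer, the local ring of the fibre of `s` at `e(u)`
modulo the equations of `u` pulled back along `t` is Artinian. -/
theorem isArtinianRing_tau_e [LocallyOfFiniteType G.s] [LocallyOfFiniteType G.t]
    [LocallyOfFiniteType G.stabilizerToU] [LocallyQuasiFinite G.stabilizerToU]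
    (u : G.U) (hu : LocallyOfFiniteType (G.U.fromSpecResidueField u))
    (V : G.U.Opens) (hV : IsAffineOpen V) (hxT : G.t (G.e u) ∈ V) :
    IsArtinianRing ((G.R.presheaf.stalk (G.e u) ⧸
      Ideal.map (G.s.stalkMap (G.e u)).hom
        (IsLocalRing.maximalIdeal (G.U.presheaf.stalk (G.s (G.e u))))) ⧸
        (hV.primeIdealOf ⟨G.t (G.e u), hxT⟩).asIdeal.map
          (Groth.Agent.Lib.Helper68.SliceLocal.tauHom G.s G.t (G.e u) V hxT)) := by
  have hst : G.s (G.e u) = G.t (G.e u) := by rw [e_s_apply, e_t_apply]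
  have hr : LocallyOfFiniteType (G.U.fromSpecResidueField (G.t (G.e u))) := by
    rw [e_t_apply]
    exact hu
  have key := quasiFiniteAt_fiber_of_stabilizer_lqf G (G.e u) hst hr
  have art1 := isArtinianRing_of_quasiFiniteAt_fiber G.t G.s (G.t (G.e u)) (G.t.asFiber (G.e u)) key
  have art2 := isArtinianRing_sup_of_eq G.t G.s (G.t.fiberι_asFiber (G.e u)) art1
  rw [sup_comm] at art2
  exact isArtinianRing_tau G.s G.t (G.e u) V hV hxT art2

end Groth.Agent.Lib.Helper68.SliceH0
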