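import Mathlib
import Groth.Agent.Lib.Helper37.GrpdPull
import Groth.Agent.Lib.Helper14.QuasiFiniteBaseChange
import Groth.Agent.Lib.Helper54.FibBound
import Groth.Agent.Lib.Helper54.ProperQf
import Groth.Agent.Lib.Helper7.FlatDescent

set_option autoImplicit false
set_option linter.style.haveILetI false

open AlgebraicGeometry CategoryTheory Limits Grpd

namespace Groth.Agent.Lib.Helper68.SliceTrans

universe u

open Groth.Agent.Lib.Helper37 Groth.Agent.Lib.Helper37.Pull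

variable {S : Scheme.{u}} (G : GroupoidScheme S) {Z : Scheme.{u}} (g : Z ⟶ G.U)

/-- `Y = X ×_{h,U,t} R`, `X = R ×_{t,U} Z`. -/
noncomputable abbrev a₁ : pullback (π G g) G.t ⟶ pullback G.t g := pullback.fst (π G g) G.t

noncomputable abbrev q : pullback (π G g) G.t ⟶ G.R := pullback.snd (π G g) G.t

noncomputable def r₁ : pullback (π G g) G.t ⟶ G.R := a₁ G g ≫ pullback.fst G.t g

lemma r₁_def : r₁ G g = a₁ G g ≫ pullback.fst G.t g := rfl

lemma r₁_s : r₁ G g ≫ G.s = q G g ≫ G.t := by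
  have := pullback.condition (f := π G g) (g := G.t)
  rw [r₁_def, Category.assoc]
  exact this

lemma r₁_t : r₁ G g ≫ G.t = (a₁ G g ≫ pullback.snd G.t g) ≫ g := by
  rw [r₁_def, Category.assoc, Category.assoc, pullback.condition]

/-- translation: `(r₁, z, r₂) ↦ (r₁ ∘ r₂, z)` -/
noncomputable def a₂ : pullback (π G g) G.t ⟶ pullback G.t g :=
  pullback.lift (gcomp G (r₁ G g) (q G g) (r₁_s G g)) (a₁ G g ≫ pullback.snd G.t g)
    (by rw [gcomp_t, r₁_t])

lemma a₂_fst : a₂ G g ≫ pullback.fst G.t g = gcomp G (r₁ G g) (q G g) (r₁_s G g) :=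
  pullback.lift_fst _ _ _

lemma a₂_snd : a₂ G g ≫ pullback.snd G.t g = a₁ G g ≫ pullback.snd G.t g :=
  pullback.lift_snd _ _ _

lemma a₂_π : a₂ G g ≫ π G g = q G g ≫ G.s := by
  show a₂ G g ≫ pullback.fst G.t g ≫ G.s = _
  rw [← Category.assoc, a₂_fst, gcomp_s]

lemma comp_a₂_fst {T : Scheme.{u}} (m : T ⟶ pullback (π G g) G.t) :
    (m ≫ a₂ G g) ≫ pullback.fst G.t g = gcomp G (m ≫ r₁ G g) (m ≫ q G g)
      (by rw [Category.assoc, Category.assoc, r₁_s]) := by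
  rw [Category.assoc, a₂_fst, precomp_gcomp]

section Lift

variable {G g} {T : Scheme.{u}} (ξ : T ⟶ pullback G.t g) (β : T ⟶ G.R)
  (h : ξ ≫ π G g = β ≫ G.s)

include h in
lemma lift_aux1 : (ξ ≫ pullback.fst G.t g) ≫ G.s = β ≫ G.s := by
  rw [Category.assoc]; exact h

include h in
lemma lift_aux2 : (ξ ≫ pullback.fst G.t g) ≫ G.s = (β ≫ G.i) ≫ G.t := by
  rw [Category.assoc _ G.i, G.i_t]; exact lift_aux1 ξ β h

/-- `((r, z), r₂) ↦ (r ∘ r₂⁻¹, z, r₂)` -/
noncomputable def liftX : T ⟶ pullback G.t g :=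
  pullback.lift (gcomp G (ξ ≫ pullback.fst G.t g) (β ≫ G.i) (lift_aux2 ξ β h))
    (ξ ≫ pullback.snd G.t g)
    (by rw [gcomp_t, Category.assoc, Category.assoc, pullback.condition])

lemma liftX_fst : liftX ξ β h ≫ pullback.fst G.t g =
    gcomp G (ξ ≫ pullback.fst G.t g) (β ≫ G.i) (lift_aux2 ξ β h) := pullback.lift_fst _ _ _

lemma liftX_snd : liftX ξ β h ≫ pullback.snd G.t g = ξ ≫ pullback.snd G.t g :=
  pullback.lift_snd _ _ _

lemma liftX_π : liftX ξ β h ≫ π G g = β ≫ G.t := by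
  show liftX ξ β h ≫ pullback.fst G.t g ≫ G.s = _
  rw [← Category.assoc, liftX_fst, gcomp_s, Category.assoc, G.i_s]

noncomputable def liftY : T ⟶ pullback (π G g) G.t :=
  pullback.lift (liftX ξ β h) β (liftX_π ξ β h)

lemma liftY_a₁ : liftY ξ β h ≫ a₁ G g = liftX ξ β h := pullback.lift_fst _ _ _

lemma liftY_q : liftY ξ β h ≫ q G g = β := pullback.lift_snd _ _ _

lemma liftY_r₁ : liftY ξ β h ≫ r₁ G g =
    gcomp G (ξ ≫ pullback.fst G.t g) (β ≫ G.i) (lift_aux2 ξ β h) := by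
  rw [r₁_def, ← Category.assoc, liftY_a₁, liftX_fst]

lemma liftY_a₂ : liftY ξ β h ≫ a₂ G g = ξ := by
  apply pullback.hom_ext
  · rw [comp_a₂_fst]
    rw [gcomp_congr G (liftY_r₁ ξ β h) (liftY_q ξ β h) _
      (by rw [gcomp_s, Category.assoc, G.i_s])]
    exact gcomp_i_gcomp' G _ _ (lift_aux1 ξ β h) _ _
  · rw [Category.assoc, a₂_snd, ← Category.assoc, liftY_a₁, liftX_snd]

lemma liftY_uniq (m : T ⟶ pullback (π G g) G.t) (h1 : m ≫ a₂ G g = ξ) (h2 : m ≫ q G g = β) :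
    m = liftY ξ β h := by
  apply pullback.hom_ext
  · show m ≫ a₁ G g = liftY ξ β h ≫ a₁ G g
    rw [liftY_a₁]
    apply pullback.hom_ext
    · rw [liftX_fst]
      have e0 : ξ ≫ pullback.fst G.t g = gcomp G (m ≫ r₁ G g) (m ≫ q G g)
          (by rw [Category.assoc, Category.assoc, r₁_s]) := by
        rw [← h1, comp_a₂_fst]
      have e1 : β ≫ G.i = (m ≫ q G g) ≫ G.i := by rw [h2]
      rw [gcomp_congr G e0 e1 _ (by rw [gcomp_s, Category.assoc _ G.i, G.i_t])]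
      rw [gcomp_gcomp_i, Category.assoc, r₁_def]
    · rw [liftX_snd, ← h1, Category.assoc, Category.assoc, a₂_snd]
  · show m ≫ q G g = liftY ξ β h ≫ q G g
    rw [liftY_q, h2]

end Lift

theorem isPullback_a₂ : IsPullback (a₂ G g) (q G g) (π G g) G.s :=
  ⟨⟨a₂_π G g⟩, ⟨PullbackCone.IsLimit.mk _ (fun c => liftY c.fst c.snd c.condition)
    (fun c => liftY_a₂ _ _ _) (fun c => liftY_q _ _ _)
    (fun c m h1 h2 => liftY_uniq _ _ _ m h1 h2)⟩⟩

/-- Any two points of `X` over the same point of `Z` are related by the translation. -/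
theorem exists_lift_a₁_a₂ {T : Scheme.{u}} (ξ₁ ξ₂ : T ⟶ pullback G.t g)
    (h : ξ₁ ≫ pullback.snd G.t g = ξ₂ ≫ pullback.snd G.t g) :
    ∃ y : T ⟶ pullback (π G g) G.t, y ≫ a₁ G g = ξ₁ ∧ y ≫ a₂ G g = ξ₂ := by
  have ht : (ξ₁ ≫ pullback.fst G.t g) ≫ G.t = (ξ₂ ≫ pullback.fst G.t g) ≫ G.t := by
    rw [Category.assoc, Category.assoc, pullback.condition, ← Category.assoc, h, Category.assoc]
  have h0 : ((ξ₁ ≫ pullback.fst G.t g) ≫ G.i) ≫ G.s = (ξ₂ ≫ pullback.fst G.t g) ≫ G.t := by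
    rw [Category.assoc _ G.i, G.i_s]; exact ht
  have hc : ξ₁ ≫ π G g =
      gcomp G ((ξ₁ ≫ pullback.fst G.t g) ≫ G.i) (ξ₂ ≫ pullback.fst G.t g) h0 ≫ G.t := by
    rw [gcomp_t, Category.assoc _ G.i, G.i_t, Category.assoc]
  have e1 : pullback.lift ξ₁ (gcomp G ((ξ₁ ≫ pullback.fst G.t g) ≫ G.i)
      (ξ₂ ≫ pullback.fst G.t g) h0) hc ≫ r₁ G g = ξ₁ ≫ pullback.fst G.t g := by
    rw [r₁_def, ← Category.assoc, pullback.lift_fst]
  have e2 : pullback.lift ξ₁ (gcomp G ((ξ₁ ≫ pullback.fst G.t g) ≫ G.i)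
      (ξ₂ ≫ pullback.fst G.t g) h0) hc ≫ q G g =
      gcomp G ((ξ₁ ≫ pullback.fst G.t g) ≫ G.i) (ξ₂ ≫ pullback.fst G.t g) h0 :=
    pullback.lift_snd _ _ _
  refine ⟨pullback.lift ξ₁ (gcomp G ((ξ₁ ≫ pullback.fst G.t g) ≫ G.i) (ξ₂ ≫ pullback.fst G.t g) h0)
    hc, pullback.lift_fst _ _ _, ?_⟩
  apply pullback.hom_ext
  · rw [comp_a₂_fst]
    rw [gcomp_congr G e1 e2 _ (by rw [gcomp_t, Category.assoc _ G.i, G.i_t])]
    exact gcomp_i_gcomp G _ _ ht _ _
  · rw [Category.assoc, a₂_snd, ← Category.assoc, pullback.lift_fst, h]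

theorem exists_point_a₁_a₂ (x₁ x₂ : ↥(pullback G.t g))
    (h : pullback.snd G.t g x₁ = pullback.snd G.t g x₂) :
    ∃ y : ↥(pullback (π G g) G.t), a₁ G g y = x₁ ∧ a₂ G g y = x₂ := by
  obtain ⟨w, hw1, hw2⟩ := Scheme.Pullback.exists_preimage_pullback
    (f := pullback.snd G.t g) (g := pullback.snd G.t g) x₁ x₂ h
  obtain ⟨y, hy1, hy2⟩ := exists_lift_a₁_a₂ G g (pullback.fst (pullback.snd G.t g) (pullback.snd G.t g))
    (pullback.snd _ _) pullback.condition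
  refine ⟨y w, ?_, ?_⟩
  · rw [← Scheme.Hom.comp_apply, hy1, hw1]
  · rw [← Scheme.Hom.comp_apply, hy2, hw2]


set_option backward.isDefEq.respectTransparency false in
/-- Translation: if `h = s ∘ pr : R ×_{t,U,g} Z ⟶ U` is flat and locally quasi-finite on an open
`Ω`, then it is so over the open image `Z°` of `Ω` in `Z`. -/
theorem translate [Flat G.s] [LocallyOfFinitePresentation G.s] [Flat G.t]
    [LocallyOfFinitePresentation G.t] [LocallyOfFinitePresentation g] {Ω : Scheme.{u}}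
    (ω : Ω ⟶ pullback G.t g) [IsOpenImmersion ω] [Flat (ω ≫ π G g)]
    [LocallyQuasiFinite (ω ≫ π G g)] :
    ∃ Z' : Z.Opens, (∀ w : Ω, pullback.snd G.t g (ω w) ∈ Z') ∧
      ∀ {W : Scheme.{u}} (j : W ⟶ Z) [IsOpenImmersion j], Set.range j ⊆ (Z' : Set Z) →
      Flat (π G (j ≫ g)) ∧ LocallyOfFinitePresentation (π G (j ≫ g)) ∧
      LocallyQuasiFinite (π G (j ≫ g)) := by
  haveI hπfp : LocallyOfFinitePresentation (π G g) := by
    unfold π; infer_instance
  let Z' : Z.Opens := ⟨Set.range (ω ≫ pullback.snd G.t g),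
    (ω ≫ pullback.snd G.t g).isOpenMap.isOpen_range⟩
  refine ⟨Z', fun w => ⟨w, rfl⟩, ?_⟩
  -- the translated chart
  let ν := pullback.map (ω ≫ π G g) G.t (π G g) G.t ω (𝟙 _) (𝟙 _) (by simp) (by simp)
  haveI : IsOpenImmersion ν := by dsimp only [ν]; infer_instance
  have hνq : ν ≫ q G g = pullback.snd (ω ≫ π G g) G.t := by
    dsimp only [ν, q]; rw [pullback.lift_snd, Category.comp_id]
  have hνa₁ : ν ≫ a₁ G g = pullback.fst (ω ≫ π G g) G.t ≫ ω := by
    dsimp only [ν, a₁]; rw [pullback.lift_fst]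
  haveI hfa₂ : Flat (a₂ G g) :=
    MorphismProperty.of_isPullback (P := @Flat) (isPullback_a₂ G g).flip inferInstance
  let X' : (pullback G.t g).Opens := pullback.snd G.t g ⁻¹ᵁ Z'
  have hrange : Set.range (ν ≫ a₂ G g) = (X' : Set ↥(pullback G.t g)) := by
    ext x
    constructor
    · rintro ⟨y', rfl⟩
      show pullback.snd G.t g ((ν ≫ a₂ G g) y') ∈ Z'
      refine ⟨pullback.fst (ω ≫ π G g) G.t y', ?_⟩
      have e0 : ν ≫ a₂ G g ≫ pullback.snd G.t g =
          pullback.fst (ω ≫ π G g) G.t ≫ ω ≫ pullback.snd G.t g := by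
        rw [a₂_snd, ← Category.assoc ν, hνa₁, Category.assoc]
      have e1 : pullback.snd G.t g ((ν ≫ a₂ G g) y') =
          (ν ≫ a₂ G g ≫ pullback.snd G.t g) y' := rfl
      rw [e1, e0]
      rfl
    · rintro ⟨w, hw⟩
      obtain ⟨y, hy1, hy2⟩ := exists_point_a₁_a₂ G g (ω w) x hw
      have hy : y ∈ Set.range ν := by
        dsimp only [ν]
        rw [Scheme.Pullback.range_map]
        refine ⟨⟨w, hy1.symm⟩, ?_⟩
        simp
      obtain ⟨y', rfl⟩ := hy
      exact ⟨y', hy2⟩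
  let a₂'' : pullback (ω ≫ π G g) G.t ⟶ (X' : Scheme.{u}) :=
    IsOpenImmersion.lift X'.ι (ν ≫ a₂ G g) (by rw [hrange]; simp)
  have ha₂'' : a₂'' ≫ X'.ι = ν ≫ a₂ G g := IsOpenImmersion.lift_fac _ _ _
  haveI : Flat a₂'' := by
    refine MorphismProperty.of_postcomp (W := @Flat) (W' := @IsOpenImmersion) a₂'' X'.ι
      inferInstance ?_
    rw [ha₂'']
    infer_instance
  haveI : Surjective a₂'' := by
    refine ⟨fun x => ?_⟩
    have hx : X'.ι x ∈ Set.range (ν ≫ a₂ G g) := by rw [hrange]; exact x.2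
    obtain ⟨y', hy'⟩ := hx
    refine ⟨y', ?_⟩
    apply X'.ι.isOpenEmbedding.injective
    rw [← hy', ← ha₂'']
    rfl
  have hcomp : a₂'' ≫ (X'.ι ≫ π G g) = pullback.snd (ω ≫ π G g) G.t ≫ G.s := by
    have e0 : (a₂'' ≫ X'.ι) ≫ π G g = pullback.snd (ω ≫ π G g) G.t ≫ G.s := by
      rw [ha₂'', Category.assoc, a₂_π, ← Category.assoc ν, hνq]
    exact (Category.assoc _ _ _).symm.trans e0
  haveI : Flat (a₂'' ≫ (X'.ι ≫ π G g)) := by
    rw [hcomp]; infer_instance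
  haveI hflat : Flat (X'.ι ≫ π G g) :=
    Groth.Agent.Lib.Helper7.flat_of_flat_comp_of_flat_surjective a₂'' (X'.ι ≫ π G g)
  haveI hlqf : LocallyQuasiFinite (X'.ι ≫ π G g) := by
    apply Groth.Agent.Lib.Helper54.locallyQuasiFinite_of_forall_quasiFiniteAt
    intro x
    rw [Scheme.Hom.quasiFiniteAt_comp_iff_of_isOpenImmersion]
    obtain ⟨y', hy'⟩ := ‹Surjective a₂''›.surj x
    have h1 : (pullback.snd (ω ≫ π G g) G.t).QuasiFiniteAt y' :=
      (pullback.snd (ω ≫ π G g) G.t).quasiFiniteAt y'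
    rw [← hνq, Scheme.Hom.quasiFiniteAt_comp_iff_of_isOpenImmersion] at h1
    have h2 := (Groth.Agent.Lib.Helper14.quasiFiniteAt_iff_of_isPullback
      (isPullback_a₂ G g) (ν y')).mp h1
    have h3 : a₂ G g (ν y') = X'.ι x := by
      rw [← hy']
      have : a₂ G g (ν y') = (ν ≫ a₂ G g) y' := rfl
      rw [this, ← ha₂'']
      rfl
    rw [← h3]
    exact h2
  -- comparison with the restricted slice
  intro W j _ hj
  let κ := pullback.map G.t (j ≫ g) G.t g (𝟙 _) j (𝟙 _) (by simp) (by simp)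
  haveI : IsOpenImmersion κ := by dsimp only [κ]; infer_instance
  have hκ1 : κ ≫ pullback.fst G.t g = pullback.fst G.t (j ≫ g) := by
    dsimp only [κ]; rw [pullback.lift_fst, Category.comp_id]
  have hκ2 : κ ≫ pullback.snd G.t g = pullback.snd G.t (j ≫ g) ≫ j := by
    dsimp only [κ]; rw [pullback.lift_snd]
  have hκrange : Set.range κ ⊆ Set.range X'.ι := by
    rintro _ ⟨x, rfl⟩
    rw [Scheme.Opens.range_ι]
    show pullback.snd G.t g (κ x) ∈ Z'
    have : pullback.snd G.t g (κ x) = (κ ≫ pullback.snd G.t g) x := rfl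
    rw [this, hκ2]
    exact hj ⟨_, rfl⟩
  let κ' := IsOpenImmersion.lift X'.ι κ hκrange
  have hκ' : κ' ≫ X'.ι = κ := IsOpenImmersion.lift_fac _ _ _
  haveI : IsOpenImmersion κ' := by
    refine MorphismProperty.of_postcomp (W := @IsOpenImmersion) (W' := @IsOpenImmersion) κ' X'.ι
      inferInstance ?_
    rw [hκ']
    infer_instance
  have hfin : π G (j ≫ g) = κ' ≫ (X'.ι ≫ π G g) := by
    have e0 : (κ' ≫ X'.ι) ≫ π G g = π G (j ≫ g) := by
      rw [hκ']
      show κ ≫ pullback.fst G.t g ≫ G.s = _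
      rw [← Category.assoc, hκ1]
    exact e0.symm.trans (Category.assoc _ _ _)
  refine ⟨?_, ?_, ?_⟩
  · rw [hfin]; infer_instance
  · unfold π; infer_instance
  · rw [hfin]; infer_instance

end Groth.Agent.Lib.Helper68.SliceTrans
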