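import Mathlib
import Groth.Agent.Lib.Helper68.SliceAlg
import Groth.Agent.Lib.Helper68.SliceChart
import Groth.Agent.Lib.Helper68.SliceH0G
import Groth.Agent.Lib.Helper68.SliceTrans
import Groth.Agent.Lib.Helper68.QSplitMain

set_option autoImplicit false
set_option linter.style.haveILetI false

open AlgebraicGeometry CategoryTheory Limits Grpd

namespace Groth.Agent.Lib.Helper68.SlicePoint

universe u

open Groth.Agent.Lib.Helper37 Groth.Agent.Lib.Helper37.Pull
open Groth.Agent.Lib.Helper68.SliceLocal Groth.Agent.Lib.Helper68.SliceH0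
open Groth.Agent.Lib.Helper68.SliceTrans IsLocalRing

variable {S : Scheme.{u}} (G : GroupoidScheme S)

/-- `e(u)` is closed in the fibre of `s` through it. -/
theorem isClosed_asFiber_e [LocallyOfFiniteType G.s] (u : G.U) :
    IsClosed ({G.s.asFiber (G.e u)} : Set ↑(G.s.fiber (G.s (G.e u)))) := by
  rw [Groth.Agent.Lib.Helper47.isClosed_singleton_asFiber_iff_finite]
  have h1 : IsIso ((G.e ≫ G.s).residueFieldMap u) := by
    haveI : IsIso (G.e ≫ G.s) := by rw [G.e_s]; infer_instance
    infer_instance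
  have h2 := Groth.Agent.Lib.Helper68.QSplit.isIso_residueFieldMap_of_comp G.e G.s u h1
  exact RingHom.Finite.of_surjective _
    (ConcreteCategory.bijective_of_isIso (G.s.residueFieldMap (G.e u))).2

theorem map_tauHom_le {X S' T : Scheme.{u}} (f : X ⟶ S') (t : X ⟶ T) (x : X) (VT : T.Opens)
    (hVT : IsAffineOpen VT) (hxT : t x ∈ VT)
    [IsLocalRing (X.presheaf.stalk x ⧸
      Ideal.map (f.stalkMap x).hom (maximalIdeal (S'.presheaf.stalk (f x))))] :
    (hVT.primeIdealOf ⟨t x, hxT⟩).asIdeal.map (tauHom f t x VT hxT) ≤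
      maximalIdeal (X.presheaf.stalk x ⧸
        Ideal.map (f.stalkMap x).hom (maximalIdeal (S'.presheaf.stalk (f x)))) := by
  rw [map_tauHom]
  have h1 : (maximalIdeal (T.presheaf.stalk (t x))).map (t.stalkMap x).hom ≤
      maximalIdeal (X.presheaf.stalk x) :=
    ((IsLocalRing.local_hom_TFAE (t.stalkMap x).hom).out 0 2).mp
      (inferInstance : IsLocalHom (t.stalkMap x).hom)
  refine (Ideal.map_mono h1).trans ?_
  have hloc : IsLocalHom (Ideal.Quotient.mk (Ideal.map (f.stalkMap x).hom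
      (maximalIdeal (S'.presheaf.stalk (f x))))) :=
    IsLocalHom.of_surjective _ Ideal.Quotient.mk_surjective
  exact ((IsLocalRing.local_hom_TFAE (Ideal.Quotient.mk (Ideal.map (f.stalkMap x).hom
      (maximalIdeal (S'.presheaf.stalk (f x)))))).out 0 2).mp hloc


set_option backward.isDefEq.respectTransparency false in
/-- The slicing theorem at a finite type point `u` where `s` is Cohen–Macaulay at `e(u)`, for a
groupoid with flat lfp `s, t` and locally quasi-finite stabilizer: an affine, locally closed, finitely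
presented slice `g : U' ⟶ U` through `u` such that `h = s ∘ pr : R ×_{t,U,g} U' ⟶ U` is flat,
lfp and locally quasi-finite. -/
theorem exists_slice_point [Flat G.s] [LocallyOfFinitePresentation G.s] [Flat G.t]
    [LocallyOfFinitePresentation G.t] [LocallyOfFiniteType G.stabilizerToU]
    [LocallyQuasiFinite G.stabilizerToU] (u : G.U)
    (hu : LocallyOfFiniteType (G.U.fromSpecResidueField u)) (hcm : Grpd.IsCMAt G.s (G.e u)) :
    ∃ (U' : Scheme.{u}) (_ : IsAffine U') (g : U' ⟶ G.U) (u' : U'), IsImmersion g ∧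
      LocallyOfFinitePresentation g ∧ g u' = u ∧
      Flat (π G g) ∧ LocallyOfFinitePresentation (π G g) ∧ LocallyQuasiFinite (π G g) := by
  obtain ⟨_, ⟨V, hV, rfl⟩, huV, -⟩ := G.U.isBasis_affineOpens.exists_subset_of_mem_open
    (Set.mem_univ u) isOpen_univ
  have hxT : G.t (G.e u) ∈ V := by rw [e_t_apply]; exact huV
  obtain ⟨hflat, hCM⟩ := hcm
  haveI := hCM
  have hm := map_tauHom_le G.s G.t (G.e u) V hV hxT
  have hart0 := isArtinianRing_tau_e G u hu V hV hxT
  obtain ⟨fs, hfs, hreg, hart⟩ := Groth.Agent.Lib.Helper68.SliceAlg.exists_sop_in_image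
    (tauHom G.s G.t (G.e u) V hxT) (hV.primeIdealOf ⟨G.t (G.e u), hxT⟩).asIdeal hm hart0
  obtain ⟨Ω, ω, w, hω, hw, h1, h2, h3⟩ := exists_chart G.s G.t (G.e u) hflat
    (isClosed_asFiber_e G u) V hV hxT fs hreg hart
  haveI : LocallyOfFinitePresentation (sliceHom hV fs) := by
    haveI : LocallyOfFinitePresentation
        (Spec.map (CommRingCat.ofHom (Ideal.Quotient.mk (Ideal.ofList fs)))) := by
      rw [HasRingHomProperty.Spec_iff (P := @LocallyOfFinitePresentation)]
      refine RingHom.FinitePresentation.of_surjective _ Ideal.Quotient.mk_surjective ?_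
      rw [CommRingCat.hom_ofHom, Ideal.mk_ker]
      exact Submodule.fg_span (List.finite_toSet fs)
    infer_instance
  haveI : Flat (ω ≫ π G (sliceHom hV fs)) := h1
  haveI : LocallyQuasiFinite (ω ≫ π G (sliceHom hV fs)) := h3
  obtain ⟨Z', hZ'w, hZ'⟩ := translate G (sliceHom hV fs) ω
  obtain ⟨Zs, hZs⟩ : ∃ Zs : Scheme.{u}, Zs = Spec (CommRingCat.of (Γ(G.U, V) ⧸ Ideal.ofList fs)) :=
    ⟨_, rfl⟩
  subst hZs
  obtain ⟨W', ⟨W, hW, hWW'⟩, hzW, hWZ'⟩ :=
    (Spec (CommRingCat.of (Γ(G.U, V) ⧸ Ideal.ofList fs))).isBasis_affineOpens.exists_subset_of_mem_open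
      (hZ'w w) Z'.2
  subst hWW'
  obtain ⟨hf1, hf2, hf3⟩ := hZ' (Scheme.Opens.ι W) (by rw [Scheme.Opens.range_ι]; exact hWZ')
  refine ⟨(W : Scheme.{u}), hW, Scheme.Opens.ι W ≫ sliceHom hV fs, ⟨_, hzW⟩, ?_, inferInstance, ?_,
    hf1, hf2, hf3⟩
  · haveI : IsClosedImmersion
        (Spec.map (CommRingCat.ofHom (Ideal.Quotient.mk (Ideal.ofList fs)))) :=
      IsClosedImmersion.spec_of_surjective _ Ideal.Quotient.mk_surjective
    infer_instance
  · have e1 : (Scheme.Opens.ι W ≫ sliceHom hV fs) ⟨_, hzW⟩ =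
        (pullback.snd G.t (sliceHom hV fs) ≫ sliceHom hV fs) (ω w) := rfl
    rw [e1, ← pullback.condition]
    show G.t (pullback.fst G.t (sliceHom hV fs) (ω w)) = u
    rw [hw, e_t_apply]

end Groth.Agent.Lib.Helper68.SlicePoint
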