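import Mathlib
import Groth.Agent.Lib.Helper68.SlicePoint
import Groth.Agent.H52.FTPoints2

set_option autoImplicit false
set_option linter.style.haveILetI false

open AlgebraicGeometry CategoryTheory Limits Grpd

namespace Groth.Agent.Lib.Helper68.SliceCover

universe u

open Groth.Agent.Lib.Helper37 Groth.Agent.Lib.Helper37.Pull
open Groth.Agent.Lib.Helper68.SliceTrans

/-- A point closed in an open neighbourhood is a finite type point. -/
theorem locallyOfFiniteType_fromSpecResidueField_of_isClosed {U : Scheme.{u}} (O : U.Opens) (u : ↥O)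
    (hcl : IsClosed ({u} : Set ↥O)) : LocallyOfFiniteType (U.fromSpecResidueField u.1) := by
  haveI : IsClosedImmersion ((O : Scheme.{u}).fromSpecResidueField u) :=
    isClosed_singleton_iff_isClosedImmersion.mp hcl
  have h := Scheme.Hom.SpecMap_residueFieldMap_fromSpecResidueField O.ι u
  have h2 : U.fromSpecResidueField (O.ι u) =
      inv (Spec.map (O.ι.residueFieldMap u)) ≫ (O : Scheme.{u}).fromSpecResidueField u ≫ O.ι := by
    rw [← h, IsIso.inv_hom_id_assoc]
  have h3 : LocallyOfFiniteType (U.fromSpecResidueField (O.ι u)) := by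
    rw [h2]; infer_instance
  exact h3

variable {S : Scheme.{u}} (G : GroupoidScheme S)

/-- The image of `h = s ∘ pr : R ×_{t,U,g} Z ⟶ U` is stable under the groupoid. -/
theorem mem_range_π_of_t {Z : Scheme.{u}} (g : Z ⟶ G.U) (r : G.R)
    (h : G.t r ∈ Set.range (π G g)) : G.s r ∈ Set.range (π G g) := by
  obtain ⟨x, hx⟩ := h
  obtain ⟨y, hy1, hy2⟩ := Scheme.Pullback.exists_preimage_pullback (f := π G g) (g := G.t) x r hx
  refine ⟨a₂ G g y, ?_⟩
  have : (π G g) (a₂ G g y) = (a₂ G g ≫ π G g) y := rfl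
  rw [this, a₂_π]
  show G.s (q G g y) = G.s r
  rw [show q G g y = r from hy2]

/-- Charts through all finite type points of an open `U₀` whose orbit is everything cover the
quotient. -/
theorem forall_mem_range_π [Flat G.s] [LocallyOfFinitePresentation G.s] [Flat G.t]
    [LocallyOfFinitePresentation G.t] {I : Type*} (M : I → Scheme.{u}) (g : ∀ i, M i ⟶ G.U)
    [∀ i, LocallyOfFinitePresentation (g i)] (hfl : ∀ i, Flat (π G (g i)))
    (U₀ : G.U.Opens) (hU₀ : ⇑G.s '' (G.t ⁻¹ᵁ U₀ : Set G.R) = Set.univ)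
    (hft : ∀ u : G.U, u ∈ U₀ → LocallyOfFiniteType (G.U.fromSpecResidueField u) →
      ∃ i, u ∈ Set.range (g i)) (u : G.U) :
    ∃ i, u ∈ Set.range (π G (g i)) := by
  have hfp : ∀ i, LocallyOfFinitePresentation (π G (g i)) := fun i => by unfold π; infer_instance
  let O' : Set G.U := ⋃ i, Set.range (π G (g i))
  have hO' : IsOpen O' := isOpen_iUnion fun i =>
    haveI := hfl i
    haveI := hfp i
    (π G (g i)).isOpenMap.isOpen_range
  -- finite type points of `U₀` are in `O'`
  have h1 : ∀ u : G.U, u ∈ U₀ → LocallyOfFiniteType (G.U.fromSpecResidueField u) → u ∈ O' := by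
    intro u hu hu'
    obtain ⟨i, z, hz⟩ := hft u hu hu'
    refine Set.mem_iUnion.mpr ⟨i, ?_⟩
    obtain ⟨x, hx1, hx2⟩ := Scheme.Pullback.exists_preimage_pullback (f := G.t) (g := g i)
      (G.e u) z (by rw [hz, Groth.Agent.Lib.Helper68.SliceH0.e_t_apply])
    refine ⟨x, ?_⟩
    show G.s (pullback.fst G.t (g i) x) = u
    rw [hx1, Groth.Agent.Lib.Helper68.SliceH0.e_s_apply]
  -- hence all of `U₀`
  have h2 : (U₀ : Set G.U) ⊆ O' := by
    by_contra hcon
    rw [Set.not_subset] at hcon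
    have hlc : IsLocallyClosed ((U₀ : Set G.U) ∩ O'ᶜ) :=
      U₀.2.isLocallyClosed.inter hO'.isClosed_compl.isLocallyClosed
    obtain ⟨O, hO, v, hvT, hcl⟩ :=
      Groth.Agent.H52.exists_closed_point_affineOpen_of_isLocallyClosed _ hlc
        (by obtain ⟨a, ha1, ha2⟩ := hcon; exact ⟨a, ha1, ha2⟩)
    exact hvT.2 (h1 v.1 hvT.1 (locallyOfFiniteType_fromSpecResidueField_of_isClosed O v hcl))
  -- and everything by saturation
  have hu : u ∈ ⇑G.s '' (G.t ⁻¹ᵁ U₀ : Set G.R) := by rw [hU₀]; trivial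
  obtain ⟨r, hr1, hr2⟩ := hu
  obtain ⟨i, hi⟩ := Set.mem_iUnion.mp (h2 hr1)
  exact ⟨i, hr2 ▸ mem_range_π_of_t G (g i) r hi⟩

end Groth.Agent.Lib.Helper68.SliceCover
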