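import Mathlib
import Groth.Agent.Lib.Helper68.SliceCover
import Groth.Agent.Lib.Helper68.FppfBootQF
import Groth.Agent.Lib.Helper68.FppfBootKP
import Groth.Agent.Lib.Helper1.QuasiFiniteDescent
import Groth.Agent.S1936
import Groth.Agent.H52.Epi

set_option autoImplicit false
set_option linter.style.haveILetI false
universe u
open CategoryTheory CategoryTheory.Limits AlgebraicGeometry

namespace Groth.Agent.Lib.Helper68.FppfBoot

open AlgSp Groth.Agent.Lib.Helper37 Groth.Agent.Lib.Helper37.Pull Groth.Agent.Lib.Helper54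

variable {S : Scheme.{u}}

section

variable {F : Sp S} {U R : Over S} (π : (yon S).obj U ⟶ F) (s t : R ⟶ U)
  (hsq : IsPullback ((yon S).map t) ((yon S).map s) π π)

include hsq in
/-- "Fact 1": `h_{R ×_{t,U,ψ} W} = h_U ×_F h_W`. -/
theorem isPullback_restrict {W : Over S} (ψ : W ⟶ U) :
    IsPullback ((yon S).map (ovSnd t ψ)) ((yon S).map (ovFst t ψ ≫ s)) ((yon S).map ψ ≫ π) π := by
  have sq1 := (isPullback_ov t ψ).map (yon S)
  have st1 := sq1.paste_horiz hsq.flip
  rw [← Functor.map_comp] at st1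
  exact st1.flip

include hsq in
/-- Basic properties of an epimorphic chart with flat lfp kernel pair. -/
theorem chart_props [Epi π] [Flat s.left] [LocallyOfFinitePresentation s.left] [Flat t.left]
    [LocallyOfFinitePresentation t.left] :
    Representable π ∧ RepWith @Flat π ∧ RepWith @LocallyOfFinitePresentation π ∧
      RepWith @Surjective π ∧ Representable (Limits.diag F) := by
  have hrep : Representable π :=
    Groth.Agent.H52.Bootstrap.representable_of_epi_of_kernelPair π s t hsq inferInstance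
  have hπf : RepWith @Flat π := repWith_of_epi_of_kernelPair @Flat π hrep t s hsq ‹_›
  have hπp : RepWith @LocallyOfFinitePresentation π :=
    repWith_of_epi_of_kernelPair @LocallyOfFinitePresentation π hrep t s hsq ‹_›
  have hπs : RepWith @Surjective π := Groth.Agent.H52.repWith_surjective_of_epi π hrep
  refine ⟨hrep, hπf, hπp, hπs, ?_⟩
  refine Groth.Agent.H52.Bootstrap.representable_diag_of_fppf_cover (IsAlgSpace.yon_obj U) π ?_
  refine (repBySpWith_hom_iff _ π).2 ?_
  intro T ξ F' fst snd sq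
  have sq' := hrep.isPullback ξ
  let i : F' ≅ (yon S).obj (hrep.pullback ξ) := sq.isoIsPullback _ _ sq'
  have hi : i.hom ≫ (yon S).map (hrep.snd ξ) = snd := sq.isoIsPullback_hom_snd _ _ sq'
  have h1 : RepWith @Surjective ((yon S).map (hrep.snd ξ)) :=
    MorphismProperty.of_isPullback sq' hπs
  have h2 : RepWith @Flat ((yon S).map (hrep.snd ξ)) := MorphismProperty.of_isPullback sq' hπf
  have h3 : RepWith @LocallyOfFinitePresentation ((yon S).map (hrep.snd ξ)) :=
    MorphismProperty.of_isPullback sq' hπp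
  refine ⟨(IsAlgSpace.yon_obj _).of_iso i.symm, ⟨?_, ?_⟩, ?_⟩
  · rw [← hi]
    intro y
    obtain ⟨x, hx⟩ := Groth.Agent.H52.surjective_points_of_repWith_surjective _ h1 y
    refine ⟨Points.map i.inv x, ?_⟩
    rw [← Points.map_comp, ← Category.assoc, Iso.inv_hom_id, Category.id_comp, hx]
  · rw [← hi]
    exact Groth.Agent.H52.Bootstrap.locP_iso_comp i _
      (Groth.Agent.H52.isEtLocal_flat.locP_of_repWith' _ h2)
  · rw [← hi]
    exact Groth.Agent.H52.Bootstrap.locP_iso_comp i _
      (Groth.Agent.H52.isEtLocal_lfp.locP_of_repWith' _ h3)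

include hsq in
/-- `RepWith Q` of a restricted chart from `Q` of `h = s ∘ pr : R ×_{t,U,ψ} W ⟶ U`. -/
theorem repWith_restrict (Q : MorphismProperty Scheme.{u}) [Q.IsStableUnderBaseChange]
    [Q.DescendsAlong (@Surjective ⊓ @Flat ⊓ @LocallyOfFinitePresentation)]
    (hdiag : Representable (Limits.diag F)) (hπf : RepWith @Flat π)
    (hπp : RepWith @LocallyOfFinitePresentation π) (hπs : RepWith @Surjective π)
    {W : Over S} (ψ : W ⟶ U) (hQ : Q (ovFst t ψ ≫ s).left) : RepWith Q ((yon S).map ψ ≫ π) :=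
  Groth.Agent.Lib.Helper66.SmBoot.repWith_of_fppf_base_change Q (isPullback_restrict π s t hsq ψ)
    (Functor.relativelyRepresentable.of_diag hdiag _) hπf hπp hπs
    ((repWith_yon_map_iff _ _).2 hQ)

include hsq in
/-- The slicing lemma: an epimorphic chart with flat lfp kernel pair can be refined to an epimorphic
chart which is flat, lfp and locally quasi-finite. -/
theorem exists_qf_chart [Epi π] [Flat s.left] [LocallyOfFinitePresentation s.left] [Flat t.left]
    [LocallyOfFinitePresentation t.left] :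
    ∃ (U' : Over S) (g' : U' ⟶ U), Epi ((yon S).map g' ≫ π) ∧
      RepWith @Flat ((yon S).map g' ≫ π) ∧
      RepWith @LocallyOfFinitePresentation ((yon S).map g' ≫ π) ∧
      RepWith @LocallyQuasiFinite ((yon S).map g' ≫ π) := by
  obtain ⟨hrep, hπf, hπp, hπs, hdiag⟩ := chart_props π s t hsq
  let G := kpGroupoid hsq
  haveI : Flat G.s := ‹Flat s.left›
  haveI : LocallyOfFinitePresentation G.s := ‹LocallyOfFinitePresentation s.left›
  haveI : Flat G.t := ‹Flat t.left›
  haveI : LocallyOfFinitePresentation G.t := ‹LocallyOfFinitePresentation t.left›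
  -- the stabilizer
  haveI : Mono G.j := ⟨fun α β h => by
    have h1 : α ≫ G.t = β ≫ G.t := by
      rw [← Groth.Agent.Lib.Helper68.SliceH0.j_fst G, ← Category.assoc, h, Category.assoc]
    have h2 : α ≫ G.s = β ≫ G.s := by
      rw [← Groth.Agent.Lib.Helper68.SliceH0.j_snd G, ← Category.assoc, h, Category.assoc]
    exact kp_ext_left hsq α β h1 h2⟩
  haveI : LocallyOfFiniteType G.j := by
    haveI : LocallyOfFiniteType (G.j ≫ pullback.snd G.pU G.pU) := by
      rw [Groth.Agent.Lib.Helper68.SliceH0.j_snd G]; infer_instance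
    exact locallyOfFiniteType_of_comp G.j (pullback.snd G.pU G.pU)
  haveI hjlft : LocallyOfFiniteType G.stabilizerToU :=
    MorphismProperty.pullback_snd (P := @LocallyOfFiniteType) G.j G.diag ‹_›
  haveI : Mono G.stabilizerToU :=
    (inferInstance : Mono (pullback.snd G.j G.diag))
  haveI : LocallyQuasiFinite G.stabilizerToU := inferInstance
  -- the Cohen–Macaulay locus
  obtain ⟨U₀, h1, -, -, h4⟩ := Groth.Agent.S1936.result S G
  -- charts
  let I : Type u := {u : G.U // u ∈ U₀ ∧ LocallyOfFiniteType (G.U.fromSpecResidueField u)}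
  have hch : ∀ i : I, ∃ (U' : Scheme.{u}) (_ : IsAffine U') (g : U' ⟶ G.U) (u' : U'),
      IsImmersion g ∧ LocallyOfFinitePresentation g ∧ g u' = i.1 ∧
      Flat (Pull.π G g) ∧ LocallyOfFinitePresentation (Pull.π G g) ∧
      LocallyQuasiFinite (Pull.π G g) := by
    intro i
    refine Groth.Agent.Lib.Helper68.SlicePoint.exists_slice_point G i.1 i.2.2 ?_
    have : G.e i.1 ∈ (G.t ⁻¹ᵁ U₀ : Set G.R) := by
      show G.t (G.e i.1) ∈ U₀
      rw [Groth.Agent.Lib.Helper68.SliceH0.e_t_apply]
      exact i.2.1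
    rw [h1] at this
    exact this
  choose M hM g u' hg1 hg2 hg3 hg4 hg5 hg6 using hch
  let φ : ∀ i, Over.mk (g i ≫ U.hom) ⟶ U := fun i => Over.homMk (g i) rfl
  have hc := Groth.Agent.Lib.Helper51.isColimitSigmaOver M (fun i => g i ≫ U.hom)
  let g' : Groth.Agent.Lib.Helper51.sigmaOver M (fun i => g i ≫ U.hom) ⟶ U :=
    Cofan.IsColimit.desc hc φ
  have hfac : ∀ i, Groth.Agent.Lib.Helper51.sigmaOverι M (fun i => g i ≫ U.hom) i ≫ g' = φ i :=
    fun i => Cofan.IsColimit.fac hc φ i
  have hrep' : Representable ((yon S).map g' ≫ π) := Functor.relativelyRepresentable.of_diag hdiag _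
  have hcomp : ∀ i, (yon S).map ((Cofan.mk (Groth.Agent.Lib.Helper51.sigmaOver M
      (fun i => g i ≫ U.hom)) (Groth.Agent.Lib.Helper51.sigmaOverι M (fun i => g i ≫ U.hom))).inj i) ≫
      (yon S).map g' ≫ π = (yon S).map (φ i) ≫ π := by
    intro i
    rw [← Category.assoc, ← Functor.map_comp]
    congr 2
    exact hfac i
  have := Groth.Agent.Lib.Helper1.descendsAlong_locallyQuasiFinite_fpqc.{u}
  have hQf : RepWith @Flat ((yon S).map g' ≫ π) := by
    refine Groth.Agent.Lib.Helper66.SmBoot.repWith_of_cofan _ hc _ hrep' (fun i => ?_)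
    rw [hcomp]
    exact repWith_restrict π s t hsq @Flat hdiag hπf hπp hπs (φ i) (hg4 i)
  have hQp : RepWith @LocallyOfFinitePresentation ((yon S).map g' ≫ π) := by
    refine Groth.Agent.Lib.Helper66.SmBoot.repWith_of_cofan _ hc _ hrep' (fun i => ?_)
    rw [hcomp]
    exact repWith_restrict π s t hsq @LocallyOfFinitePresentation hdiag hπf hπp hπs (φ i) (hg5 i)
  have hQq : RepWith @LocallyQuasiFinite ((yon S).map g' ≫ π) := by
    refine Groth.Agent.Lib.Helper66.SmBoot.repWith_of_cofan _ hc _ hrep' (fun i => ?_)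
    rw [hcomp]
    exact repWith_restrict π s t hsq @LocallyQuasiFinite hdiag hπf hπp hπs (φ i) (hg6 i)
  -- surjectivity
  have hsurj : Surjective (ovFst t g' ≫ s).left := by
    refine ⟨fun u => ?_⟩
    obtain ⟨i, x, hx⟩ := Groth.Agent.Lib.Helper68.SliceCover.forall_mem_range_π G M g hg4 U₀ h4
      (fun v hv hv' => ⟨⟨v, hv, hv'⟩, u' ⟨v, hv, hv'⟩, hg3 ⟨v, hv, hv'⟩⟩) u
    have hleft : ((Groth.Agent.Lib.Helper51.sigmaOverι M (fun i => g i ≫ U.hom) i).left ≫ g'.left) =
        g i := by
      rw [← Over.comp_left, hfac i]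
      rfl
    have hcond : G.t (pullback.fst G.t (g i) x) = (g i) (pullback.snd G.t (g i) x) := by
      rw [← Scheme.Hom.comp_apply, pullback.condition]
      rfl
    obtain ⟨y, hy1, hy2⟩ := Scheme.Pullback.exists_preimage_pullback (f := t.left) (g := g'.left)
      (pullback.fst G.t (g i) x)
      ((Groth.Agent.Lib.Helper51.sigmaOverι M (fun i => g i ≫ U.hom) i).left
        (pullback.snd G.t (g i) x)) (by
        rw [← Scheme.Hom.comp_apply, hleft]
        exact hcond)
    refine ⟨y, ?_⟩
    show s.left (pullback.fst t.left g'.left y) = u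
    rw [hy1]
    exact hx
  have := Groth.Agent.Lib.Helper66.SmBoot.descendsAlong_surjective_fppf.{u}
  have hQs : RepWith @Surjective ((yon S).map g' ≫ π) :=
    repWith_restrict π s t hsq @Surjective hdiag hπf hπp hπs g' hsurj
  refine ⟨_, g', ?_, hQf, hQp, hQq⟩
  refine Groth.Agent.H52.epi_of_repWith_fppf _ hrep' (fun W ξ => ⟨?_, ?_, ?_⟩)
  · exact hQf.2 ξ _ _ (hrep'.isPullback ξ)
  · exact hQs.2 ξ _ _ (hrep'.isPullback ξ)
  · exact hQp.2 ξ _ _ (hrep'.isPullback ξ)

include hsq in
/-- **fppf bootstrap for schemes**: an fppf sheaf with an epimorphic chart from a scheme whose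
kernel pair is a scheme, flat and locally of finite presentation over the chart, is an algebraic
space. -/
theorem isAlgSpace_of_flat_kernelPair [Epi π] [Flat s.left] [LocallyOfFinitePresentation s.left]
    [Flat t.left] [LocallyOfFinitePresentation t.left] : IsAlgSpace F := by
  obtain ⟨U', g', hepi, hf, hp, hq⟩ := exists_qf_chart π s t hsq
  haveI := hepi
  have sq' := isPullback_pull g' hsq
  haveI : Flat (pullS s t g').left := hf.2 _ _ _ sq'
  haveI : LocallyOfFinitePresentation (pullS s t g').left := hp.2 _ _ _ sq'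
  haveI : LocallyQuasiFinite (pullS s t g').left := hq.2 _ _ _ sq'
  haveI : Flat (pullT s t g').left := hf.2 _ _ _ sq'.flip
  haveI : LocallyOfFinitePresentation (pullT s t g').left := hp.2 _ _ _ sq'.flip
  exact isAlgSpace_of_qf_kernelPair ((yon S).map g' ≫ π) (pullS s t g') (pullT s t g') sq'

end

end Groth.Agent.Lib.Helper68.FppfBoot
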