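import Groth.Agent.Lib.Helper68.SmoothQuot
import Groth.Agent.H52.Bootstrap7
import Groth.Agent.Lib.Helper54.MonoUnram

/-!
# Étale sheaves with a smooth cover by an algebraic space (helper68)

An étale sheaf receiving a surjective smooth map, representable by algebraic spaces, from an
algebraic space is an algebraic space.
-/

set_option autoImplicit false
universe u
open CategoryTheory CategoryTheory.Limits AlgebraicGeometry Opposite AlgSp

namespace Groth.Agent.Lib.Helper68.SmoothEtSheaf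

open Groth.Agent.H52.Bootstrap Groth.Agent.H52

variable {S : Scheme.{u}}

/-- Base change of the composite chart `h_U ⟶ X ⟶ F` to a scheme. -/
theorem key_smooth (F : PSp S) (X : Sp S) (hX : IsAlgSpace X) (p : X.obj ⟶ F)
    (h2 : RepBySpWith (IsSurjectiveMor ⊓ LocP @Smooth) p) {U : Over S} (q : (yon S).obj U ⟶ X)
    (hqe : RepWith @Etale q) (hqs : RepWith @Surjective q)
    ⦃T : Over S⦄ (ξ : (pyon S).obj T ⟶ F) ⦃E : PSp S⦄ (fst : E ⟶ (pyon S).obj U)
    (snd : E ⟶ (pyon S).obj T) (sq : IsPullback fst snd (q.hom ≫ p) ξ) :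
    ∃ h : Presheaf.IsSheaf (J S) E, IsAlgSpace (⟨E, h⟩ : Sp S) ∧
      LocP @Smooth (ObjectProperty.homMk snd : (⟨E, h⟩ : Sp S) ⟶ (yon S).obj T) ∧
      IsSurjectiveMor (ObjectProperty.homMk snd : (⟨E, h⟩ : Sp S) ⟶ (yon S).obj T) := by
  obtain ⟨hsh', halg', hPs, hPsm⟩ := h2 ξ (pullback.fst p ξ) (pullback.snd p ξ)
    (IsPullback.of_hasPullback p ξ)
  let l : E ⟶ pullback p ξ := pullback.lift (fst ≫ q.hom) snd (by rw [Category.assoc, sq.w])
  have hl1 : l ≫ pullback.fst p ξ = fst ≫ q.hom := pullback.lift_fst _ _ _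
  have hl2 : l ≫ pullback.snd p ξ = snd := pullback.lift_snd _ _ _
  have big : IsPullback fst (l ≫ pullback.snd p ξ) (q.hom ≫ p) ξ := by rw [hl2]; exact sq
  have sql : IsPullback fst l q.hom (pullback.fst p ξ) :=
    IsPullback.of_bot big hl1.symm (IsPullback.of_hasPullback p ξ)
  have hE : Presheaf.IsSheaf (J S) E :=
    isSheaf_of_isPullback (F := (yon S).obj U) (G := X) (H := ⟨pullback p ξ, hsh'⟩) sql
  refine ⟨hE, ?_⟩
  let P' : Sp S := ⟨pullback p ξ, hsh'⟩
  let E' : Sp S := ⟨E, hE⟩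
  let fstS : E' ⟶ (yon S).obj U := ObjectProperty.homMk fst
  let lS : E' ⟶ P' := ObjectProperty.homMk l
  let π₁ : P' ⟶ X := ObjectProperty.homMk (pullback.fst p ξ)
  let π₂ : P' ⟶ (yon S).obj T := ObjectProperty.homMk (pullback.snd p ξ)
  have sqS : IsPullback fstS lS q π₁ :=
    IsPullback.of_map_of_faithful (sheafToPresheaf (J S) (Type (u + 1))) sql
  have hle : RepWith @Etale lS := MorphismProperty.of_isPullback sqS hqe
  have hls : RepWith @Surjective lS := MorphismProperty.of_isPullback sqS hqs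
  have hsnd : (ObjectProperty.homMk snd : E' ⟶ (yon S).obj T) = lS ≫ π₂ := by
    apply ObjectProperty.hom_ext
    exact hl2.symm
  refine ⟨isAlgSpace_of_isPullback sqS (IsAlgSpace.yon_obj U) hX halg', ?_, ?_⟩
  · rw [hsnd]
    exact Groth.Agent.Lib.Helper66.SmBoot.locP_precomp_repWith_etale hle hPsm
  · rw [hsnd]
    change Function.Surjective (Points.map (lS ≫ π₂))
    intro t
    obtain ⟨y, hy⟩ := hPs t
    obtain ⟨x, hx⟩ := surjective_points_of_repWith_surjective lS hls y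
    exact ⟨x, by rw [Points.map_comp, hx, hy]⟩

/-- Sections of `F` lift to the chart over an étale covering. -/
theorem exists_etale_lift (F : PSp S) {U : Over S} (p₀ : (pyon S).obj U ⟶ F)
    (key : ∀ ⦃T : Over S⦄ (ξ : (pyon S).obj T ⟶ F) ⦃E : PSp S⦄ (fst : E ⟶ (pyon S).obj U)
      (snd : E ⟶ (pyon S).obj T), IsPullback fst snd p₀ ξ →
      ∃ h : Presheaf.IsSheaf (J S) E, IsAlgSpace (⟨E, h⟩ : Sp S) ∧
        LocP @Smooth (ObjectProperty.homMk snd : (⟨E, h⟩ : Sp S) ⟶ (yon S).obj T) ∧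
        IsSurjectiveMor (ObjectProperty.homMk snd : (⟨E, h⟩ : Sp S) ⟶ (yon S).obj T))
    ⦃T : Over S⦄ (ξ : (pyon S).obj T ⟶ F) :
    ∃ (V : Over S) (v : V ⟶ T) (fst : (pyon S).obj V ⟶ (pyon S).obj U),
      fst ≫ p₀ = (pyon S).map v ≫ ξ ∧ Etale v.left ∧ Surjective v.left := by
  obtain ⟨hE, hA, hsm, hsu⟩ := key ξ (pullback.fst p₀ ξ) (pullback.snd p₀ ξ)
    (IsPullback.of_hasPullback p₀ ξ)
  obtain ⟨W, a, hae, has⟩ := hA.atlas
  set snd' : (⟨pullback p₀ ξ, hE⟩ : Sp S) ⟶ (yon S).obj T :=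
    ObjectProperty.homMk (pullback.snd p₀ ξ) with hsnd'
  obtain ⟨w, hw⟩ := (yon S).map_surjective (a ≫ snd')
  have hwsm : Smooth w.left :=
    hsm a (𝟙 _) w hae (repWith_id _ T) (by rw [Category.comp_id, hw])
  have hwsu : Surjective w.left := by
    refine ⟨surjective_left_of_points w ?_⟩
    rw [hw]
    intro t
    obtain ⟨y, hy⟩ := hsu t
    obtain ⟨x, hx⟩ := surjective_points_of_repWith_surjective a has y
    exact ⟨x, by rw [Points.map_comp, hx, hy]⟩
  obtain ⟨V, v, σ, hσ, hve, hvs⟩ := SmoothQuot.exists_etale_cover_section w hwsm hwsu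
  refine ⟨V, v, (pyon S).map σ ≫ a.hom ≫ pullback.fst p₀ ξ, ?_, hve, hvs⟩
  rw [Category.assoc, Category.assoc, pullback.condition, ← hσ, Functor.map_comp, Category.assoc]
  congr 1
  rw [← Category.assoc]
  congr 1
  exact (congrArg (fun m => m.hom) hw).symm

/-- **Smooth bootstrap for étale sheaves.** -/
theorem isAlgSpaceP_of_etale_sheaf_of_repBySpWith_smooth (F : PSp S)
    (h1 : Presheaf.IsSheaf (Jet S) F) (X : Sp S) (hX : IsAlgSpace X) (p : X.obj ⟶ F)
    (h2 : RepBySpWith (IsSurjectiveMor ⊓ LocP @Smooth) p) : IsAlgSpaceP F := by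
  obtain ⟨U, q, hqe, hqs⟩ := hX.atlas
  obtain ⟨p₀, hp₀⟩ : ∃ p₀ : (pyon S).obj U ⟶ F, p₀ = q.hom ≫ p := ⟨_, rfl⟩
  have key : ∀ ⦃T : Over S⦄ (ξ : (pyon S).obj T ⟶ F) ⦃E : PSp S⦄ (fst : E ⟶ (pyon S).obj U)
      (snd : E ⟶ (pyon S).obj T), IsPullback fst snd p₀ ξ →
      ∃ h : Presheaf.IsSheaf (J S) E, IsAlgSpace (⟨E, h⟩ : Sp S) ∧
        LocP @Smooth (ObjectProperty.homMk snd : (⟨E, h⟩ : Sp S) ⟶ (yon S).obj T) ∧
        IsSurjectiveMor (ObjectProperty.homMk snd : (⟨E, h⟩ : Sp S) ⟶ (yon S).obj T) := by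
    rw [hp₀]
    exact key_smooth F X hX p h2 q hqe hqs
  -- the kernel pair is an algebraic space
  obtain ⟨hRsh, hRalg, hRsm, -⟩ := key p₀ (pullback.fst p₀ p₀) (pullback.snd p₀ p₀)
    (IsPullback.of_hasPullback p₀ p₀)
  obtain ⟨_, _, hRsm', _⟩ := key p₀ (pullback.snd p₀ p₀) (pullback.fst p₀ p₀)
    (IsPullback.of_hasPullback p₀ p₀).flip
  let R' : Sp S := ⟨pullback p₀ p₀, hRsh⟩
  let f₁ : R' ⟶ (yon S).obj U := ObjectProperty.homMk (pullback.fst p₀ p₀)
  let f₂ : R' ⟶ (yon S).obj U := ObjectProperty.homMk (pullback.snd p₀ p₀)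
  have hf₁ : LocP @Smooth f₁ := hRsm'
  have hf₂ : LocP @Smooth f₂ := hRsm
  -- it is a scheme: a monomorphism locally of finite type into `h_U × h_U`
  let m : R' ⟶ (yon S).obj U ⨯ (yon S).obj U := prod.lift f₁ f₂
  have hmono : Mono m := by
    constructor
    intro Z a b hab
    have e1 : a ≫ f₁ = b ≫ f₁ := by
      have := congrArg (fun k => k ≫ prod.fst) hab
      simp only [Category.assoc, m, prod.lift_fst] at this
      exact this
    have e2 : a ≫ f₂ = b ≫ f₂ := by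
      have := congrArg (fun k => k ≫ prod.snd) hab
      simp only [Category.assoc, m, prod.lift_snd] at this
      exact this
    apply ObjectProperty.hom_ext
    apply pullback.hom_ext
    · exact congrArg (fun k => k.hom) e1
    · exact congrArg (fun k => k.hom) e2
  have tB := yonBaseIsTerminal S
  have hprod : IsAlgSpace ((yon S).obj U ⨯ (yon S).obj U) :=
    isAlgSpace_of_isPullback
      (IsPullback.of_is_product (limit.isLimit (pair ((yon S).obj U) ((yon S).obj U))) tB)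
      (IsAlgSpace.yon_obj U) (IsAlgSpace.yon_obj _) (IsAlgSpace.yon_obj U)
  have hlft : LocP @LocallyOfFiniteType m := by
    refine isEtLocal_lft.locP_of_comp (fun A B C f g hfg => ?_) (IsAlgSpace.yon_obj U) m
      prod.snd ?_
    · have : LocallyOfFiniteType (f ≫ g) := hfg
      exact locallyOfFiniteType_of_comp f g
    · rw [prod.lift_snd]
      exact Groth.Agent.Lib.Helper54.locP_mono
        (fun _ _ f hf => by have : Smooth f := hf; infer_instance) hf₂
  obtain ⟨hrep, -, -⟩ := Groth.Agent.Lib.Helper54.representable_of_mono_lft hRalg hprod m hlft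
  let ε := PreservesLimitPair.iso (yon S) U U
  have sqε := hrep.isPullback ε.hom
  have hiso : IsIso (hrep.fst ε.hom) := sqε.isIso_fst_of_isIso
  let i : (yon S).obj (hrep.pullback ε.hom) ≅ R' := asIso (hrep.fst ε.hom)
  obtain ⟨R₀, hR₀⟩ : ∃ R₀ : Over S, R₀ = hrep.pullback ε.hom := ⟨_, rfl⟩
  rw [← hR₀] at i
  obtain ⟨t₀, ht₀⟩ := (yon S).map_surjective (i.hom ≫ f₁)
  obtain ⟨s₀, hs₀⟩ := (yon S).map_surjective (i.hom ≫ f₂)
  let iP : (pyon S).obj R₀ ≅ pullback p₀ p₀ :=
    (sheafToPresheaf (J S) (Type (u + 1))).mapIso i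
  have ht₀' : (pyon S).map t₀ = iP.hom ≫ pullback.fst p₀ p₀ := congrArg (fun k => k.hom) ht₀
  have hs₀' : (pyon S).map s₀ = iP.hom ≫ pullback.snd p₀ p₀ := congrArg (fun k => k.hom) hs₀
  have sqR : IsPullback ((pyon S).map t₀) ((pyon S).map s₀) p₀ p₀ := by
    rw [ht₀', hs₀']
    exact IsPullback.of_iso (IsPullback.of_hasPullback p₀ p₀) iP.symm (Iso.refl _) (Iso.refl _)
      (Iso.refl _) (by simp) (by simp) (by simp) (by simp)
  have hsm_s : Smooth s₀.left := by
    apply locP_yon_map (P := @Smooth)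
    rw [hs₀]
    exact locP_iso_comp i f₂ hf₂
  have hsm_t : Smooth t₀.left := by
    apply locP_yon_map (P := @Smooth)
    rw [ht₀]
    exact locP_iso_comp i f₁ hf₁
  -- the equivalence relation
  have hrelpts : ∀ {T : Over S} (a b : T ⟶ U),
      (∃ r : T ⟶ R₀, r ≫ t₀ = a ∧ r ≫ s₀ = b) ↔ (pyon S).map a ≫ p₀ = (pyon S).map b ≫ p₀ := by
    intro T a b
    constructor
    · rintro ⟨r, rfl, rfl⟩
      rw [Functor.map_comp, Functor.map_comp, Category.assoc, Category.assoc, sqR.w]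
    · intro hab
      refine ⟨(pyon S).preimage (sqR.lift _ _ hab), ?_, ?_⟩
      · apply (pyon S).map_injective
        rw [Functor.map_comp, Functor.map_preimage, sqR.lift_fst]
      · apply (pyon S).map_injective
        rw [Functor.map_comp, Functor.map_preimage, sqR.lift_snd]
  have hEq : IsEqvRelSp ((yon S).map s₀) ((yon S).map t₀) := by
    refine ⟨?_, ?_⟩
    · intro T r r' e1 e2
      obtain ⟨r, rfl⟩ := (yon S).map_surjective r
      obtain ⟨r', rfl⟩ := (yon S).map_surjective r'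
      rw [← Functor.map_comp, ← Functor.map_comp] at e1 e2
      have e1' := (yon S).map_injective e1
      have e2' := (yon S).map_injective e2
      congr 1
      apply (pyon S).map_injective
      apply sqR.hom_ext
      · rw [← Functor.map_comp, ← Functor.map_comp, e1']
      · rw [← Functor.map_comp, ← Functor.map_comp, e2']
    · intro T
      have hiff : ∀ a b : T ⟶ U,
          (∃ r : (yon S).obj T ⟶ (yon S).obj R₀, r ≫ (yon S).map t₀ = (yon S).map a ∧
            r ≫ (yon S).map s₀ = (yon S).map b) ↔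
            (pyon S).map a ≫ p₀ = (pyon S).map b ≫ p₀ := by
        intro a b
        rw [← hrelpts a b]
        constructor
        · rintro ⟨r, h1, h2⟩
          obtain ⟨r, rfl⟩ := (yon S).map_surjective r
          rw [← Functor.map_comp] at h1 h2
          exact ⟨r, (yon S).map_injective h1, (yon S).map_injective h2⟩
        · rintro ⟨r, rfl, rfl⟩
          exact ⟨(yon S).map r, by rw [Functor.map_comp], by rw [Functor.map_comp]⟩
      refine ⟨fun a => ?_, fun {a b} hab => ?_, fun {a b c} hab hbc => ?_⟩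
      · obtain ⟨a, rfl⟩ := (yon S).map_surjective a
        exact (hiff a a).2 rfl
      · obtain ⟨a, rfl⟩ := (yon S).map_surjective a
        obtain ⟨b, rfl⟩ := (yon S).map_surjective b
        exact (hiff b a).2 ((hiff a b).1 hab).symm
      · obtain ⟨a, rfl⟩ := (yon S).map_surjective a
        obtain ⟨b, rfl⟩ := (yon S).map_surjective b
        obtain ⟨c, rfl⟩ := (yon S).map_surjective c
        exact (hiff a c).2 (((hiff a b).1 hab).trans ((hiff b c).1 hbc))
  -- the fppf quotient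
  have hQ := SmoothQuot.isAlgSpace_Q s₀ t₀ hEq hsm_s
  have hπpb := SmoothQuot.isPullback_π s₀ t₀ hEq
  have hrepπ := SmoothQuot.representable_π s₀ t₀ hEq hsm_s
  have hπsm := SmoothQuot.repWith_smooth_π s₀ t₀ hEq hsm_s
  have hπsu := SmoothQuot.repWith_surjective_π s₀ t₀ hEq hsm_s
  obtain ⟨Q, hQdef⟩ : ∃ Q : Sp S, Q = SmoothQuot.Q s₀ t₀ := ⟨_, rfl⟩
  obtain ⟨π, hπdef⟩ : ∃ π : (yon S).obj U ⟶ SmoothQuot.Q s₀ t₀, π = SmoothQuot.π s₀ t₀ := ⟨_, rfl⟩
  rw [← hπdef] at hπpb hrepπ hπsm hπsu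
  -- étale sheaves
  have shY : ∀ V : Over S, Presheaf.IsSheaf (Jet S) ((pyon S).obj V) := fun V =>
    (isSheaf_iff_isSheaf_of_type _ _).2 (Presieve.isSheaf_of_le _ jet_le_J
      ((isSheaf_iff_isSheaf_of_type _ _).1 ((yon S).obj V).property))
  let Fe : Sheaf (Jet S) (Type (u + 1)) := ⟨F, h1⟩
  let Qe : Sheaf (Jet S) (Type (u + 1)) := ⟨(SmoothQuot.Q s₀ t₀).obj,
    (isSheaf_iff_isSheaf_of_type _ _).2
    (Presieve.isSheaf_of_le _ jet_le_J ((isSheaf_iff_isSheaf_of_type _ _).1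
      (SmoothQuot.Q s₀ t₀).property))⟩
  let Ye : Sheaf (Jet S) (Type (u + 1)) := ⟨(pyon S).obj U, shY U⟩
  let Re : Sheaf (Jet S) (Type (u + 1)) := ⟨(pyon S).obj R₀, shY R₀⟩
  let pe : Ye ⟶ Fe := ObjectProperty.homMk p₀
  let πe : Ye ⟶ Qe := ObjectProperty.homMk π.hom
  let te : Re ⟶ Ye := ObjectProperty.homMk ((pyon S).map t₀)
  let se : Re ⟶ Ye := ObjectProperty.homMk ((pyon S).map s₀)
  have sq1 : IsPullback te se pe pe :=
    IsPullback.of_map_of_faithful (sheafToPresheaf (Jet S) (Type (u + 1))) sqR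
  have sq2 : IsPullback te se πe πe :=
    IsPullback.of_map_of_faithful (sheafToPresheaf (Jet S) (Type (u + 1)))
      (hπpb.map (sheafToPresheaf (J S) (Type (u + 1))))
  -- both maps are epimorphisms of étale sheaves
  have hls1 : Sheaf.IsLocallySurjective pe := by
    refine ⟨fun {T} x => ?_⟩
    exact imageSieve_mem_jet p₀ (fun T ξ => exists_etale_lift F p₀ key ξ) x
  have hls2 : Sheaf.IsLocallySurjective πe := by
    refine ⟨fun {T} x => ?_⟩
    refine imageSieve_mem_jet π.hom (fun T ξ => ?_) x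
    have sq := hrepπ.isPullback (ObjectProperty.homMk ξ : (yon S).obj T ⟶ SmoothQuot.Q s₀ t₀)
    have hwsm : Smooth (hrepπ.snd (ObjectProperty.homMk ξ)).left := hπsm.property_snd _
    have hwsu : Surjective (hrepπ.snd (ObjectProperty.homMk ξ)).left := hπsu.property_snd _
    obtain ⟨V, v, σ, hσ, hve, hvs⟩ := SmoothQuot.exists_etale_cover_section _ hwsm hwsu
    refine ⟨V, v, (pyon S).map σ ≫ (hrepπ.fst _).hom, ?_, hve, hvs⟩
    have hw : (hrepπ.fst (ObjectProperty.homMk ξ : (yon S).obj T ⟶ SmoothQuot.Q s₀ t₀)).hom ≫ π.hom =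
        (pyon S).map (hrepπ.snd (ObjectProperty.homMk ξ : (yon S).obj T ⟶ SmoothQuot.Q s₀ t₀)) ≫ ξ :=
      congrArg (fun k => k.hom) sq.w
    calc ((pyon S).map σ ≫
          (hrepπ.fst (ObjectProperty.homMk ξ : (yon S).obj T ⟶ SmoothQuot.Q s₀ t₀)).hom) ≫ π.hom
        = (pyon S).map σ ≫
          ((hrepπ.fst (ObjectProperty.homMk ξ : (yon S).obj T ⟶ SmoothQuot.Q s₀ t₀)).hom ≫ π.hom) :=
          Category.assoc _ _ _
      _ = (pyon S).map σ ≫ ((pyon S).map
          (hrepπ.snd (ObjectProperty.homMk ξ : (yon S).obj T ⟶ SmoothQuot.Q s₀ t₀)) ≫ ξ) :=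
          congrArg (fun k => (pyon S).map σ ≫ k) hw
      _ = (pyon S).map (σ ≫
          hrepπ.snd (ObjectProperty.homMk ξ : (yon S).obj T ⟶ SmoothQuot.Q s₀ t₀)) ≫ ξ := by
          rw [Functor.map_comp, Category.assoc]
      _ = (pyon S).map v ≫ ξ := by rw [hσ]
  have hepi1 : Epi pe := Sheaf.epi_of_isLocallySurjective pe
  have hepi2 : Epi πe := Sheaf.epi_of_isLocallySurjective πe
  have hreg1 : IsRegularEpi pe := IsRegularEpiCategory.regularEpiOfEpi pe
  have hreg2 : IsRegularEpi πe := IsRegularEpiCategory.regularEpiOfEpi πe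
  have heff1 : EffectiveEpi pe := inferInstance
  have heff2 : EffectiveEpi πe := inferInstance
  have c1 := heff1.effectiveEpi.some.isColimitCoforkOfIsPullback sq1
  have c2 := heff2.effectiveEpi.some.isColimitCoforkOfIsPullback sq2
  let iso : Fe ≅ Qe := c1.coconePointUniqueUpToIso c2
  have isoP : (SmoothQuot.Q s₀ t₀).obj ≅ F :=
    ((sheafToPresheaf (Jet S) (Type (u + 1))).mapIso iso).symm
  exact ((isAlgSpaceP_obj_iff (SmoothQuot.Q s₀ t₀)).2 hQ).of_iso isoP

end Groth.Agent.Lib.Helper68.SmoothEtSheaf
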