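import Mathlib

open Polynomial

namespace Groth.Agent.Lib.Helper68.AdjoinRootLoc

variable {R : Type*} [CommRing R] [IsDomain R] (h : R[X]) (S : Submonoid R)

/-- If `S⁻¹(R[z]/(h))` is integral over `S⁻¹R` (with `R` a domain and `h ≠ 0`), then the leading
coefficient of `h` is invertible in `S⁻¹R`. -/
theorem isUnit_leadingCoeff_of_isIntegral (hh : h ≠ 0)
    (hint : Algebra.IsIntegral (Localization S)
      (Localization (Algebra.algebraMapSubmonoid (AdjoinRoot h) S))) :
    IsUnit (algebraMap R (Localization S) h.leadingCoeff) := by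
  by_cases h0 : (0 : R) ∈ S
  · have : Subsingleton (Localization S) := IsLocalization.subsingleton h0
    exact isUnit_of_subsingleton _
  -- the root is integral over `S⁻¹R`
  have hz := hint.isIntegral
    (algebraMap (AdjoinRoot h) (Localization (Algebra.algebraMapSubmonoid (AdjoinRoot h) S))
      (AdjoinRoot.root h))
  obtain ⟨m, hm⟩ := IsIntegral.exists_multiple_integral_of_isLocalization S _ hz
  have hm' : IsIntegral R
      (algebraMap (AdjoinRoot h) (Localization (Algebra.algebraMapSubmonoid (AdjoinRoot h) S))
        ((m : R) • AdjoinRoot.root h)) := by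
    rw [Algebra.smul_def, map_mul, ← IsScalarTower.algebraMap_apply, ← Algebra.smul_def]
    exact hm
  obtain ⟨m', hm'S, hm''⟩ := IsLocalization.exists_isIntegral_smul_of_isIntegral_map S hm'
  rw [smul_smul] at hm''
  set t : R := m' * m with ht
  have htS : t ∈ S := S.mul_mem hm'S m.2
  have ht0 : t ≠ 0 := fun h' => h0 (h' ▸ htS)
  obtain ⟨G, hGm, hG⟩ := hm''
  -- `G (t X)` is divisible by `h`
  have hdvd : h ∣ G.comp (C t * X) := by
    rw [← AdjoinRoot.mk_eq_zero, ← AdjoinRoot.aeval_eq, aeval_comp]
    rw [← hG, aeval_def]
    congr 1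
    simp [Algebra.smul_def, AdjoinRoot.algebraMap_eq]
  obtain ⟨q, hq⟩ := hdvd
  have hnd : (C t * X : R[X]).natDegree ≠ 0 := by
    rw [natDegree_C_mul_X t ht0]
    exact one_ne_zero
  have hlc := congrArg leadingCoeff hq
  have hlcq : (C t * X : R[X]).leadingCoeff = t := by
    rw [leadingCoeff_mul, leadingCoeff_C, leadingCoeff_X, mul_one]
  rw [leadingCoeff_comp hnd, hGm.leadingCoeff, one_mul, hlcq, leadingCoeff_mul] at hlc
  -- so `a ∣ t ^ n`
  have hunit : IsUnit (algebraMap R (Localization S) (t ^ G.natDegree)) :=
    IsLocalization.map_units _ (⟨t ^ G.natDegree, S.pow_mem htS _⟩ : S)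
  rw [hlc, map_mul] at hunit
  exact isUnit_of_mul_isUnit_left hunit

/-- If the leading coefficient of `h` is invertible in `S⁻¹R`, then `S⁻¹(R[z]/(h))` is integral
over `S⁻¹R`. -/
theorem isIntegral_of_isUnit_leadingCoeff
    (hu : IsUnit (algebraMap R (Localization S) h.leadingCoeff)) :
    Algebra.IsIntegral (Localization S)
      (Localization (Algebra.algebraMapSubmonoid (AdjoinRoot h) S)) := by
  rcases subsingleton_or_nontrivial (Localization S) with hsub | hnt
  · have := (algebraMap (Localization S)
      (Localization (Algebra.algebraMapSubmonoid (AdjoinRoot h) S))).codomain_trivial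
    exact ⟨fun x => ⟨X, monic_X, Subsingleton.elim _ _⟩⟩
  -- the root is integral
  have hroot : IsIntegral (Localization S)
      (algebraMap (AdjoinRoot h) (Localization (Algebra.algebraMapSubmonoid (AdjoinRoot h) S))
        (AdjoinRoot.root h)) := by
    obtain ⟨b, hb⟩ := isUnit_iff_exists_inv'.mp hu
    refine ⟨C b * h.map (algebraMap R (Localization S)), ?_, ?_⟩
    · refine monic_C_mul_of_mul_leadingCoeff_eq_one ?_
      rw [leadingCoeff_map_of_leadingCoeff_ne_zero _ hu.ne_zero]
      exact hb
    · rw [eval₂_mul, eval₂_map, ← IsScalarTower.algebraMap_eq,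
        IsScalarTower.algebraMap_eq R (AdjoinRoot h), ← hom_eval₂, AdjoinRoot.algebraMap_eq,
        AdjoinRoot.eval₂_root, map_zero, mul_zero]
  have hA : ∀ y : AdjoinRoot h, IsIntegral (Localization S)
      (algebraMap (AdjoinRoot h) (Localization (Algebra.algebraMapSubmonoid (AdjoinRoot h) S))
        y) := by
    intro y
    induction y using AdjoinRoot.induction_on with
    | ih p =>
      induction p using Polynomial.induction_on with
      | C r =>
        rw [AdjoinRoot.mk_C, ← AdjoinRoot.algebraMap_eq, ← IsScalarTower.algebraMap_apply,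
          IsScalarTower.algebraMap_apply R (Localization S)]
        exact isIntegral_algebraMap
      | add p q hp hq =>
        rw [map_add, map_add]
        exact hp.add hq
      | monomial n r hp =>
        rw [pow_succ, ← mul_assoc, map_mul, map_mul, AdjoinRoot.mk_X]
        exact hp.mul hroot
  refine ⟨fun x => ?_⟩
  obtain ⟨⟨y, ⟨s', s, hs, rfl⟩⟩, hx⟩ :=
    IsLocalization.surj (Algebra.algebraMapSubmonoid (AdjoinRoot h) S) x
  obtain ⟨v, hv⟩ := isUnit_iff_exists_inv.mp (IsLocalization.map_units (Localization S) ⟨s, hs⟩)
  have hx' : x = algebraMap (AdjoinRoot h) _ y * algebraMap (Localization S) _ v := by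
    simp only at hx
    rw [← hx, mul_assoc, ← IsScalarTower.algebraMap_apply,
      IsScalarTower.algebraMap_apply R (Localization S), ← map_mul]
    simp only at hv
    rw [hv, map_one, mul_one]
  rw [hx']
  exact (hA y).mul isIntegral_algebraMap

theorem isIntegral_iff (hh : h ≠ 0) :
    Algebra.IsIntegral (Localization S)
      (Localization (Algebra.algebraMapSubmonoid (AdjoinRoot h) S)) ↔
    IsUnit (algebraMap R (Localization S) h.leadingCoeff) :=
  ⟨isUnit_leadingCoeff_of_isIntegral h S hh, isIntegral_of_isUnit_leadingCoeff h S⟩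

open TensorProduct in
/-- The generic rank of `R[z]/(h)` is the degree of `h`. -/
theorem finrank_fractionRing_tensor (hh : h ≠ 0) :
    Module.finrank (FractionRing R) (TensorProduct R (FractionRing R) (AdjoinRoot h)) =
      h.natDegree := by
  let e1 := AdjoinRoot.tensorAlgEquiv (R := R) (T := FractionRing R) h
    (h.map (Algebra.TensorProduct.includeRight (R := R) (A := FractionRing R) (B := R)).toRingHom) rfl
  let e2 := AdjoinRoot.mapAlgEquiv (Algebra.TensorProduct.rid R (FractionRing R) (FractionRing R))
    (h.map (Algebra.TensorProduct.includeRight (R := R) (A := FractionRing R) (B := R)).toRingHom)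
    (h.map (algebraMap R (FractionRing R))) (by
      rw [Polynomial.map_map]
      have : (RingHomClass.toRingHom
          (Algebra.TensorProduct.rid R (FractionRing R) (FractionRing R))).comp
          (Algebra.TensorProduct.includeRight (R := R) (A := FractionRing R) (B := R)).toRingHom =
          algebraMap R (FractionRing R) := by
        ext r
        simp [Algebra.algebraMap_eq_smul_one]
      rw [this])
  rw [LinearEquiv.finrank_eq (e1.trans e2).toLinearEquiv]
  have hne : h.map (algebraMap R (FractionRing R)) ≠ 0 := by
    rwa [Ne, Polynomial.map_eq_zero_iff (IsFractionRing.injective R (FractionRing R))]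
  rw [(AdjoinRoot.powerBasis hne).finrank, AdjoinRoot.powerBasis_dim,
    natDegree_map_eq_of_injective (IsFractionRing.injective R (FractionRing R))]

end Groth.Agent.Lib.Helper68.AdjoinRootLoc
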