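import Mathlib

/-! # Nullstellensatz by cardinality (helper68)

A `k`-algebra generated by fewer than `#k` elements is Jacobson with residue fields algebraic
over `k`.
-/

open Cardinal

universe u

namespace Groth.Agent.Lib.Helper68.CardNull

/-- A field which is a quotient of a polynomial ring over `k` in finitely many, or fewer than `#k`,
variables is algebraic over `k`. -/
theorem isAlgebraic_of_surjective_mvPolynomial (k : Type u) [Field k] (K : Type u) [Field K]
    [Algebra k K] (σ : Type u) (φ : MvPolynomial σ k →ₐ[k] K) (hφ : Function.Surjective φ)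
    (hσ : Finite σ ∨ #σ < #k) : Algebra.IsAlgebraic k K := by
  classical
  by_cases hfin : Finite σ
  · haveI : Algebra.FiniteType k K := Algebra.FiniteType.of_surjective φ hφ
    haveI : Module.Finite k K := finite_of_finite_type_of_isJacobsonRing k K
    exact Algebra.IsAlgebraic.of_finite k K
  · have hlt : #σ < #k := hσ.resolve_left hfin
    haveI : Infinite σ := not_finite_iff_infinite.mp hfin
    refine ⟨fun x => ?_⟩
    by_contra hx
    have hx' : Transcendental k x := hx
    have h1 : #k ≤ Module.rank k K := hx'.linearIndependent_sub_inv.cardinal_le_rank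
    have h2 : Module.rank k K ≤ Module.rank k (MvPolynomial σ k) :=
      LinearMap.rank_le_of_surjective φ.toLinearMap hφ
    rw [MvPolynomial.rank_eq, Cardinal.mk_finsupp_nat,
      max_eq_left (Cardinal.aleph0_le_mk σ)] at h2
    exact absurd (h1.trans h2) (not_le.mpr hlt)

/-- The cardinality condition passes from `s` to `Option s`. -/
theorem finite_or_lt_option {k : Type u} {α : Type u} (h : #α < #k) :
    Finite (Option α) ∨ #(Option α) < #k := by
  by_cases hfin : Finite α
  · exact Or.inl inferInstance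
  · haveI : Infinite α := not_finite_iff_infinite.mp hfin
    right
    rw [Cardinal.mk_option, Cardinal.add_one_of_aleph0_le (Cardinal.aleph0_le_mk α)]
    exact h

variable {k S : Type u} [Field k] [CommRing S] [Algebra k S]

/-- Residue fields at maximal ideals are algebraic. -/
theorem isAlgebraic_quotient_of_card_lt (s : Set S) (hs : Algebra.adjoin k s = ⊤)
    (hcard : #s < #k) (m : Ideal S) [m.IsMaximal] : Algebra.IsAlgebraic k (S ⧸ m) := by
  classical
  letI : Field (S ⧸ m) := Ideal.Quotient.field m
  have hsurj : Function.Surjective (MvPolynomial.aeval (R := k) (fun i : s => (i : S))) := by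
    rw [← AlgHom.range_eq_top, ← Algebra.adjoin_range_eq_range_aeval, Subtype.range_coe, hs]
  exact isAlgebraic_of_surjective_mvPolynomial k (S ⧸ m) s
    ((Ideal.Quotient.mkₐ k m).comp (MvPolynomial.aeval (R := k) (fun i : s => (i : S))))
    ((Ideal.Quotient.mkₐ_surjective k m).comp hsurj) (Or.inr hcard)

/-- The ring is Jacobson. -/
theorem isJacobsonRing_of_card_lt (s : Set S) (hs : Algebra.adjoin k s = ⊤)
    (hcard : #s < #k) : IsJacobsonRing S := by
  classical
  rw [isJacobsonRing_iff_prime_eq]
  intro P hP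
  refine le_antisymm ?_ Ideal.le_jacobson
  intro f hf
  by_contra hfP
  -- the domain `S ⧸ P` and its localization at `f`
  have hf0 : Ideal.Quotient.mk P f ≠ 0 := by
    rwa [Ne, Ideal.Quotient.eq_zero_iff_mem]
  have hinj : Function.Injective
      (algebraMap (S ⧸ P) (Localization.Away (Ideal.Quotient.mk P f))) :=
    IsLocalization.injective _ (powers_le_nonZeroDivisors_of_noZeroDivisors hf0)
  haveI : Nontrivial (Localization.Away (Ideal.Quotient.mk P f)) :=
    hinj.nontrivial
  obtain ⟨𝔪', h𝔪'⟩ := Ideal.exists_maximal (Localization.Away (Ideal.Quotient.mk P f))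
  letI : Field (Localization.Away (Ideal.Quotient.mk P f) ⧸ 𝔪') := Ideal.Quotient.field 𝔪'
  -- the composite `ρ : S → F`
  let ρ : S →ₐ[k] (Localization.Away (Ideal.Quotient.mk P f) ⧸ 𝔪') :=
    ((Ideal.Quotient.mkₐ k 𝔪').comp
      (IsScalarTower.toAlgHom k (S ⧸ P) (Localization.Away (Ideal.Quotient.mk P f)))).comp
      (Ideal.Quotient.mkₐ k P)
  have hρ : ∀ x : S, ρ x = Ideal.Quotient.mk 𝔪'
      (algebraMap (S ⧸ P) (Localization.Away (Ideal.Quotient.mk P f)) (Ideal.Quotient.mk P x)) :=
    fun x => rfl
  -- the inverse of `f`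
  let inv' : Localization.Away (Ideal.Quotient.mk P f) ⧸ 𝔪' :=
    Ideal.Quotient.mk 𝔪' (IsLocalization.Away.invSelf (Ideal.Quotient.mk P f))
  have hinv : ρ f * inv' = 1 := by
    rw [hρ]
    show Ideal.Quotient.mk 𝔪' _ * Ideal.Quotient.mk 𝔪' _ = 1
    rw [← map_mul, IsLocalization.Away.mul_invSelf, map_one]
  -- the surjection from the polynomial ring
  let φ : MvPolynomial (Option s) k →ₐ[k] (Localization.Away (Ideal.Quotient.mk P f) ⧸ 𝔪') :=
    MvPolynomial.aeval (fun o : Option s => o.elim inv' (fun i => ρ (i : S)))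
  have hφρ : ∀ x : S, ρ x ∈ φ.range := by
    intro x
    have hx : x ∈ Algebra.adjoin k s := by rw [hs]; trivial
    induction hx using Algebra.adjoin_induction with
    | mem x hx => exact ⟨MvPolynomial.X (some ⟨x, hx⟩), by simp [φ]⟩
    | algebraMap r => rw [AlgHom.commutes]; exact Subalgebra.algebraMap_mem _ r
    | add x y _ _ hx hy => rw [map_add]; exact Subalgebra.add_mem _ hx hy
    | mul x y _ _ hx hy => rw [map_mul]; exact Subalgebra.mul_mem _ hx hy
  have hφinv : inv' ∈ φ.range := ⟨MvPolynomial.X none, by simp [φ]⟩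
  have hφsurj : Function.Surjective φ := by
    rw [← AlgHom.range_eq_top, eq_top_iff]
    rintro z -
    obtain ⟨z, rfl⟩ := Ideal.Quotient.mk_surjective z
    obtain ⟨⟨d, ⟨_, n, rfl⟩⟩, hz⟩ := IsLocalization.surj (Submonoid.powers (Ideal.Quotient.mk P f)) z
    obtain ⟨d, rfl⟩ := Ideal.Quotient.mk_surjective d
    have h1 : Ideal.Quotient.mk 𝔪' z = ρ d * inv' ^ n := by
      have h2 : Ideal.Quotient.mk 𝔪' z * ρ f ^ n = ρ d := by
        rw [hρ, hρ, ← map_pow, ← map_pow, ← map_mul, ← hz]
      rw [← h2, mul_assoc, ← mul_pow, hinv, one_pow, mul_one]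
    rw [h1]
    exact Subalgebra.mul_mem _ (hφρ d) (Subalgebra.pow_mem _ hφinv n)
  haveI halg : Algebra.IsAlgebraic k (Localization.Away (Ideal.Quotient.mk P f) ⧸ 𝔪') :=
    isAlgebraic_of_surjective_mvPolynomial k _ (Option s) φ hφsurj (finite_or_lt_option hcard)
  -- the kernel of `ρ` is a maximal ideal containing `P` but not `f`
  have hfield : IsField (S ⧸ RingHom.ker ρ.toRingHom) :=
    (RingHom.quotientKerEquivRange ρ.toRingHom).toMulEquiv.isField
      (Subalgebra.isField_of_algebraic ρ.range)
  have hmax : (RingHom.ker ρ.toRingHom).IsMaximal := Ideal.Quotient.maximal_of_isField _ hfield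
  have hPle : P ≤ RingHom.ker ρ.toRingHom := by
    intro x hx
    rw [RingHom.mem_ker]
    show ρ x = 0
    rw [hρ, Ideal.Quotient.eq_zero_iff_mem.mpr hx, map_zero, map_zero]
  have hfmem : f ∈ RingHom.ker ρ.toRingHom := by
    rw [Ideal.jacobson, Submodule.mem_sInf] at hf
    exact hf _ ⟨hPle, hmax⟩
  rw [RingHom.mem_ker] at hfmem
  have : ρ f = 0 := hfmem
  rw [this, zero_mul] at hinv
  exact zero_ne_one hinv

end Groth.Agent.Lib.Helper68.CardNull
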