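import Mathlib.RingTheory.PowerSeries.Substitution
import Mathlib.RingTheory.PowerSeries.Exp

/-!
# Coefficients of `χ(X+Y)` and `χ(X)χ(Y)` and the exponential functional equation
-/

namespace Groth.Agent.Lib.Helper68

open Finsupp

section Coeff

variable {A : Type*} [CommRing A]

theorem fin2_finsupp_eq (e : Fin 2 →₀ ℕ) : single 0 (e 0) + single 1 (e 1) = e := by
  ext i
  fin_cases i <;> simp

theorem fin2_finsupp_eq_iff (e : Fin 2 →₀ ℕ) (m n : ℕ) :
    e = single 0 m + single 1 n ↔ e 0 = m ∧ e 1 = n := by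
  constructor
  · rintro rfl
    simp
  · rintro ⟨rfl, rfl⟩
    exact (fin2_finsupp_eq e).symm

theorem coeff_X0_add_X1_pow (e : Fin 2 →₀ ℕ) (d : ℕ) :
    MvPowerSeries.coeff e ((MvPowerSeries.X 0 + MvPowerSeries.X 1 : MvPowerSeries (Fin 2) A) ^ d) =
      if d = e 0 + e 1 then (d.choose (e 0) : A) else 0 := by
  classical
  rw [add_pow, map_sum]
  have hterm : ∀ m ∈ Finset.range (d + 1),
      MvPowerSeries.coeff e ((MvPowerSeries.X 0 : MvPowerSeries (Fin 2) A) ^ m *
        MvPowerSeries.X 1 ^ (d - m) * (d.choose m : MvPowerSeries (Fin 2) A)) =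
      if e 0 = m ∧ e 1 = d - m then (d.choose m : A) else 0 := by
    intro m _
    rw [MvPowerSeries.X_pow_eq, MvPowerSeries.X_pow_eq, MvPowerSeries.monomial_mul_monomial,
      one_mul, ← nsmul_eq_mul', map_nsmul, MvPowerSeries.coeff_monomial]
    simp only [fin2_finsupp_eq_iff]
    split_ifs <;> simp
  rw [Finset.sum_congr rfl hterm]
  split_ifs with hd
  · rw [Finset.sum_eq_single (e 0)]
    · rw [if_pos ⟨rfl, by omega⟩]
    · intro m _ hm
      rw [if_neg]
      rintro ⟨h1, -⟩
      exact hm h1.symm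
    · intro h
      exfalso
      apply h
      rw [Finset.mem_range]
      omega
  · apply Finset.sum_eq_zero
    intro m hm
    rw [if_neg]
    rintro ⟨h1, h2⟩
    rw [Finset.mem_range] at hm
    omega

theorem coeff_subst_X0_add_X1 (χ : PowerSeries A) (e : Fin 2 →₀ ℕ) :
    MvPowerSeries.coeff e
      (PowerSeries.subst (MvPowerSeries.X 0 + MvPowerSeries.X 1 : MvPowerSeries (Fin 2) A) χ) =
      ((e 0 + e 1).choose (e 0) : A) * PowerSeries.coeff (e 0 + e 1) χ := by
  rw [PowerSeries.coeff_subst ((PowerSeries.HasSubst.X 0).add (PowerSeries.HasSubst.X 1)),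
    finsum_eq_single _ (e 0 + e 1)]
  · rw [coeff_X0_add_X1_pow, if_pos rfl, smul_eq_mul, mul_comm]
  · intro d hd
    rw [coeff_X0_add_X1_pow, if_neg hd, smul_zero]

theorem coeff_subst_X0_mul_subst_X1 (χ : PowerSeries A) (e : Fin 2 →₀ ℕ) :
    MvPowerSeries.coeff e
      (PowerSeries.subst (MvPowerSeries.X 0 : MvPowerSeries (Fin 2) A) χ *
        PowerSeries.subst (MvPowerSeries.X 1 : MvPowerSeries (Fin 2) A) χ) =
      PowerSeries.coeff (e 0) χ * PowerSeries.coeff (e 1) χ := by
  classical
  rw [MvPowerSeries.coeff_mul]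
  rw [Finset.sum_eq_single (single 0 (e 0), single 1 (e 1))]
  · rw [PowerSeries.coeff_subst_single, PowerSeries.coeff_subst_single]
    simp
  · rintro ⟨p1, p2⟩ hp hne
    rw [Finset.mem_antidiagonal] at hp
    simp only at hp
    rw [PowerSeries.coeff_subst_single, PowerSeries.coeff_subst_single]
    by_cases h1 : p1 = single 0 (p1 0)
    · by_cases h2 : p2 = single 1 (p2 1)
      · exfalso
        apply hne
        have e0 : e 0 = p1 0 := by
          rw [← hp, h2]
          simp
        have e1 : e 1 = p2 1 := by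
          rw [← hp, h1]
          simp
        rw [e0, e1, ← h1, ← h2]
      · rw [if_neg h2, mul_zero]
    · rw [if_neg h1, zero_mul]
  · intro h
    exfalso
    apply h
    rw [Finset.mem_antidiagonal]
    exact fin2_finsupp_eq e

/-- The functional equation `χ(X+Y) = χ(X)χ(Y)` in terms of coefficients. -/
theorem subst_add_eq_mul_iff (χ : PowerSeries A) :
    PowerSeries.subst (MvPowerSeries.X 0 + MvPowerSeries.X 1 : MvPowerSeries (Fin 2) A) χ =
        PowerSeries.subst (MvPowerSeries.X 0 : MvPowerSeries (Fin 2) A) χ *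
          PowerSeries.subst (MvPowerSeries.X 1 : MvPowerSeries (Fin 2) A) χ ↔
      ∀ i j : ℕ, ((i + j).choose i : A) * PowerSeries.coeff (i + j) χ =
        PowerSeries.coeff i χ * PowerSeries.coeff j χ := by
  constructor
  · intro h i j
    have := congrArg (MvPowerSeries.coeff (single 0 i + single 1 j)) h
    rw [coeff_subst_X0_add_X1, coeff_subst_X0_mul_subst_X1] at this
    simpa using this
  · intro h
    ext e
    rw [coeff_subst_X0_add_X1, coeff_subst_X0_mul_subst_X1]
    exact h (e 0) (e 1)

end Coeff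

section Exp

variable {A : Type*} [CommRing A] [Algebra ℚ A]

/-- Sequences with `c 0 = 1` and `C(i+j,i) c (i+j) = c i * c j` are `a ^ n / n!`. -/
theorem exp_seq_iff (c : ℕ → A) :
    (c 0 = 1 ∧ ∀ i j : ℕ, ((i + j).choose i : A) * c (i + j) = c i * c j) ↔
      ∃ a : A, ∀ n, c n = a ^ n * algebraMap ℚ A (1 / n.factorial) := by
  constructor
  · rintro ⟨h0, h⟩
    refine ⟨c 1, fun n => ?_⟩
    induction n with
    | zero => simp [h0]
    | succ n ih =>
      have h1 := h n 1
      rw [Nat.choose_succ_self_right, ih] at h1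
      have hinv : algebraMap ℚ A (1 / ((n + 1 : ℕ) : ℚ)) * ((n + 1 : ℕ) : A) = 1 := by
        rw [← map_natCast (algebraMap ℚ A), ← map_mul, ← map_one (algebraMap ℚ A)]
        congr 1
        have : ((n + 1 : ℕ) : ℚ) ≠ 0 := by exact_mod_cast Nat.succ_ne_zero n
        field_simp
      calc c (n + 1) = (algebraMap ℚ A (1 / ((n + 1 : ℕ) : ℚ)) * ((n + 1 : ℕ) : A)) * c (n + 1) := by
            rw [hinv, one_mul]
        _ = algebraMap ℚ A (1 / ((n + 1 : ℕ) : ℚ)) * (((n + 1 : ℕ) : A) * c (n + 1)) := by ring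
        _ = algebraMap ℚ A (1 / ((n + 1 : ℕ) : ℚ)) *
              (c 1 ^ n * algebraMap ℚ A (1 / n.factorial) * c 1) := by rw [h1]
        _ = c 1 ^ (n + 1) * (algebraMap ℚ A (1 / ((n + 1 : ℕ) : ℚ)) *
              algebraMap ℚ A (1 / n.factorial)) := by ring
        _ = c 1 ^ (n + 1) * algebraMap ℚ A (1 / (n + 1).factorial) := by
            rw [← map_mul]
            congr 2
            rw [Nat.factorial_succ]
            push_cast
            field_simp
  · rintro ⟨a, ha⟩
    refine ⟨by simp [ha 0], fun i j => ?_⟩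
    rw [ha (i + j), ha i, ha j]
    have key : ((i + j).choose i : ℚ) * (1 / ((i + j).factorial : ℚ)) =
        (1 / (i.factorial : ℚ)) * (1 / (j.factorial : ℚ)) := by
      have h1 := Nat.add_choose_mul_factorial_mul_factorial i j
      rw [← Nat.choose_symm_add] at h1
      have h2 : ((i + j).choose i : ℚ) * i.factorial * j.factorial = (i + j).factorial := by
        exact_mod_cast h1
      have hi : (i.factorial : ℚ) ≠ 0 := by exact_mod_cast Nat.factorial_ne_zero i
      have hj : (j.factorial : ℚ) ≠ 0 := by exact_mod_cast Nat.factorial_ne_zero j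
      have hij : ((i + j).factorial : ℚ) ≠ 0 := by exact_mod_cast Nat.factorial_ne_zero (i + j)
      field_simp
      linarith
    have key' := congrArg (algebraMap ℚ A) key
    rw [map_mul, map_mul, map_natCast] at key'
    calc ((i + j).choose i : A) * (a ^ (i + j) * algebraMap ℚ A (1 / (i + j).factorial))
        = a ^ (i + j) * (((i + j).choose i : A) * algebraMap ℚ A (1 / (i + j).factorial)) := by
          ring
      _ = a ^ (i + j) * (algebraMap ℚ A (1 / i.factorial) * algebraMap ℚ A (1 / j.factorial)) := by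
          rw [key']
      _ = a ^ i * algebraMap ℚ A (1 / i.factorial) * (a ^ j * algebraMap ℚ A (1 / j.factorial)) := by
          rw [pow_add]
          ring

theorem coeff_rescale_exp (a : A) (n : ℕ) :
    PowerSeries.coeff n (PowerSeries.rescale a (PowerSeries.exp A)) =
      a ^ n * algebraMap ℚ A (1 / n.factorial) := by
  rw [PowerSeries.coeff_rescale, PowerSeries.coeff_exp]

/-- Formal characters over a `ℚ`-algebra are the exponentials. -/
theorem formalCharacter_iff (χ : PowerSeries A) :
    (PowerSeries.constantCoeff χ = 1 ∧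
      PowerSeries.subst (MvPowerSeries.X 0 + MvPowerSeries.X 1 : MvPowerSeries (Fin 2) A) χ =
        PowerSeries.subst (MvPowerSeries.X 0 : MvPowerSeries (Fin 2) A) χ *
          PowerSeries.subst (MvPowerSeries.X 1 : MvPowerSeries (Fin 2) A) χ) ↔
      ∃ a : A, χ = PowerSeries.rescale a (PowerSeries.exp A) := by
  rw [subst_add_eq_mul_iff, ← PowerSeries.coeff_zero_eq_constantCoeff_apply,
    exp_seq_iff (fun n => PowerSeries.coeff n χ)]
  constructor
  · rintro ⟨a, ha⟩
    refine ⟨a, ?_⟩
    ext n
    rw [coeff_rescale_exp]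
    exact ha n
  · rintro ⟨a, rfl⟩
    exact ⟨a, fun n => coeff_rescale_exp a n⟩

end Exp

end Groth.Agent.Lib.Helper68
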