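import Mathlib
import Groth.Agent.Lib.Helper68.ExpChar

/-!
# Characters of the additive group in characteristic `p`

Polynomials / power series `f` with `f(0) = 1`, `f(X+Y) = f(X) f(Y)` over a ring of characteristic `p`
are products of truncated exponentials `E(a_n X^(p^n))`, `a_n^p = 0`.
-/

namespace Groth.Agent.Lib.Helper68.CharPChar

open Polynomial

section General

variable {A : Type*} [CommRing A]

/-- `f(0) = 1` and `f(X+Y) = f(X) f(Y)`. -/
def IsChar (f : A[X]) : Prop :=
  f.eval 0 = 1 ∧
    Polynomial.aeval (MvPolynomial.X 0 + MvPolynomial.X 1 : MvPolynomial (Fin 2) A) f =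
      Polynomial.aeval (MvPolynomial.X 0 : MvPolynomial (Fin 2) A) f *
        Polynomial.aeval (MvPolynomial.X 1 : MvPolynomial (Fin 2) A) f

/-- The functional equation for polynomials in terms of coefficients. -/
theorem aeval_add_eq_mul_iff (f : A[X]) :
    Polynomial.aeval (MvPolynomial.X 0 + MvPolynomial.X 1 : MvPolynomial (Fin 2) A) f =
      Polynomial.aeval (MvPolynomial.X 0 : MvPolynomial (Fin 2) A) f *
        Polynomial.aeval (MvPolynomial.X 1 : MvPolynomial (Fin 2) A) f ↔
    ∀ i j : ℕ, ((i + j).choose i : A) * f.coeff (i + j) = f.coeff i * f.coeff j := by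
  classical
  have hsub : ∀ t : MvPolynomial (Fin 2) A, MvPolynomial.constantCoeff t = 0 →
      ((Polynomial.aeval t f : MvPolynomial (Fin 2) A) : MvPowerSeries (Fin 2) A) =
        PowerSeries.subst (t : MvPowerSeries (Fin 2) A) (f : PowerSeries A) := by
    intro t ht
    have hs : PowerSeries.HasSubst (t : MvPowerSeries (Fin 2) A) := by
      apply PowerSeries.HasSubst.of_constantCoeff_zero
      rw [← MvPowerSeries.coeff_zero_eq_constantCoeff_apply, MvPolynomial.coeff_coe]
      exact ht
    rw [PowerSeries.subst_coe hs]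
    exact (Polynomial.aeval_algHom_apply (MvPolynomial.coeToMvPowerSeries.algHom A) t f).symm
  have h01 : ((Polynomial.aeval (MvPolynomial.X 0 + MvPolynomial.X 1 : MvPolynomial (Fin 2) A) f :
      MvPolynomial (Fin 2) A) : MvPowerSeries (Fin 2) A) =
      PowerSeries.subst (MvPowerSeries.X 0 + MvPowerSeries.X 1 : MvPowerSeries (Fin 2) A)
        (f : PowerSeries A) := by
    rw [hsub _ (by simp)]
    simp
  have h0 : ((Polynomial.aeval (MvPolynomial.X 0 : MvPolynomial (Fin 2) A) f :
      MvPolynomial (Fin 2) A) : MvPowerSeries (Fin 2) A) =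
      PowerSeries.subst (MvPowerSeries.X 0 : MvPowerSeries (Fin 2) A) (f : PowerSeries A) := by
    rw [hsub _ (by simp)]
    simp
  have h1 : ((Polynomial.aeval (MvPolynomial.X 1 : MvPolynomial (Fin 2) A) f :
      MvPolynomial (Fin 2) A) : MvPowerSeries (Fin 2) A) =
      PowerSeries.subst (MvPowerSeries.X 1 : MvPowerSeries (Fin 2) A) (f : PowerSeries A) := by
    rw [hsub _ (by simp)]
    simp
  have hfe : Polynomial.aeval (MvPolynomial.X 0 + MvPolynomial.X 1 : MvPolynomial (Fin 2) A) f =
        Polynomial.aeval (MvPolynomial.X 0 : MvPolynomial (Fin 2) A) f *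
          Polynomial.aeval (MvPolynomial.X 1 : MvPolynomial (Fin 2) A) f ↔
      PowerSeries.subst (MvPowerSeries.X 0 + MvPowerSeries.X 1 : MvPowerSeries (Fin 2) A)
          (f : PowerSeries A) =
        PowerSeries.subst (MvPowerSeries.X 0 : MvPowerSeries (Fin 2) A) (f : PowerSeries A) *
          PowerSeries.subst (MvPowerSeries.X 1 : MvPowerSeries (Fin 2) A) (f : PowerSeries A) := by
    rw [← h01, ← h0, ← h1, ← MvPolynomial.coe_mul]
    exact MvPolynomial.coe_inj.symm
  rw [hfe, Groth.Agent.Lib.Helper68.subst_add_eq_mul_iff]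
  simp only [Polynomial.coeff_coe]

theorem isChar_iff_coeff (f : A[X]) :
    IsChar f ↔ f.coeff 0 = 1 ∧
      ∀ i j : ℕ, ((i + j).choose i : A) * f.coeff (i + j) = f.coeff i * f.coeff j := by
  unfold IsChar
  rw [aeval_add_eq_mul_iff, Polynomial.coeff_zero_eq_eval_zero]

theorem isChar_one : IsChar (1 : A[X]) := by
  refine ⟨by simp, by simp⟩

theorem IsChar.mul {f g : A[X]} (hf : IsChar f) (hg : IsChar g) : IsChar (f * g) := by
  refine ⟨by rw [eval_mul, hf.1, hg.1, mul_one], ?_⟩
  rw [map_mul, map_mul, map_mul, hf.2, hg.2]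
  ring

theorem isChar_prod {ι : Type*} (s : Finset ι) (f : ι → A[X]) (h : ∀ i ∈ s, IsChar (f i)) :
    IsChar (∏ i ∈ s, f i) := by
  classical
  induction s using Finset.induction_on with
  | empty => simpa using isChar_one
  | insert a s ha ih =>
    rw [Finset.prod_insert ha]
    exact (h a (Finset.mem_insert_self a s)).mul
      (ih fun i hi => h i (Finset.mem_insert_of_mem hi))

end General

section CharP

variable (p : ℕ) [hp : Fact p.Prime] {A : Type*} [CommRing A] [CharP A p]

/-- The truncated exponential `exp_p(a X^(p^n))`. -/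
noncomputable def E (a : A) (n : ℕ) : A[X] :=
  ∑ j ∈ Finset.range p, C (Ring.inverse (j.factorial : A) * a ^ j) * X ^ (j * p ^ n)

/-- The (truncated) functional equation for a sequence of coefficients. -/
def H (c : ℕ → A) (m : ℕ) : Prop :=
  c 0 = 1 ∧ ∀ i j, i < p ^ m → j < p ^ m → ((i + j).choose i : A) * c (i + j) = c i * c j

variable {p}

omit hp in
theorem cast_eq_of_modEq {a b : ℕ} (h : a ≡ b [MOD p]) : (a : A) = (b : A) :=
  (CharP.natCast_eq_natCast A p).mpr h

theorem isUnit_factorial {j : ℕ} (hj : j < p) : IsUnit (j.factorial : A) :=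
  (IsUnit.natCast_factorial_iff_of_charP p).mpr hj

theorem one_lt_pow_succ (m : ℕ) : 1 < p ^ (m + 1) :=
  Nat.one_lt_pow (Nat.succ_ne_zero m) hp.out.one_lt

theorem lt_pow_succ_of_lt {r : ℕ} (hr : r < p) (m : ℕ) : r < p ^ (m + 1) :=
  lt_of_lt_of_le hr (by
    calc p = p ^ 1 := (pow_one p).symm
      _ ≤ p ^ (m + 1) := Nat.pow_le_pow_right hp.out.pos (Nat.succ_le_succ (Nat.zero_le m)))

/-- `r! c_r = c_1^r` for `r < p`. -/
theorem factorial_mul_coeff {c : ℕ → A} {m : ℕ} (h : H p c (m + 1)) {r : ℕ} (hr : r < p) :
    (r.factorial : A) * c r = c 1 ^ r := by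
  induction r with
  | zero => simp [h.1]
  | succ r ih =>
    have hr' : r < p := Nat.lt_of_succ_lt hr
    have h1 := h.2 r 1 (lt_pow_succ_of_lt hr' m) (one_lt_pow_succ m)
    rw [Nat.choose_succ_self_right] at h1
    rw [Nat.factorial_succ, Nat.cast_mul, pow_succ, ← ih hr', mul_comm ((r + 1 : ℕ) : A), mul_assoc,
      h1]
    ring

theorem coeff_eq_inverse_mul {c : ℕ → A} {m : ℕ} (h : H p c (m + 1)) {r : ℕ} (hr : r < p) :
    c r = Ring.inverse (r.factorial : A) * c 1 ^ r := by
  rw [← factorial_mul_coeff h hr, ← mul_assoc, Ring.inverse_mul_cancel _ (isUnit_factorial hr),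
    one_mul]

theorem coeff_one_pow_eq_zero {c : ℕ → A} {m : ℕ} (h : H p c (m + 1)) : c 1 ^ p = 0 := by
  obtain ⟨q, hq⟩ : ∃ q, p = q + 1 := ⟨p - 1, (Nat.succ_pred_eq_of_pos hp.out.pos).symm⟩
  have hq' : q < p := by omega
  have h1 := h.2 q 1 (lt_pow_succ_of_lt hq' m) (one_lt_pow_succ m)
  rw [Nat.choose_succ_self_right, ← hq, CharP.cast_eq_zero, zero_mul] at h1
  have h2 := factorial_mul_coeff h hq'
  calc c 1 ^ p = c 1 ^ q * c 1 := by rw [hq, pow_succ]
    _ = (q.factorial : A) * (c q * c 1) := by rw [← h2]; ring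
    _ = 0 := by rw [← h1, mul_zero]

/-- Frobenius contraction of the sequence. -/
theorem H_contract {c : ℕ → A} {m : ℕ} (h : H p c (m + 1)) : H p (fun k => c (p * k)) m := by
  refine ⟨by simpa using h.1, fun i j hi hj => ?_⟩
  have hi' : p * i < p ^ (m + 1) := by
    rw [pow_succ']; exact Nat.mul_lt_mul_of_pos_left hi hp.out.pos
  have hj' : p * j < p ^ (m + 1) := by
    rw [pow_succ']; exact Nat.mul_lt_mul_of_pos_left hj hp.out.pos
  have h1 := h.2 (p * i) (p * j) hi' hj'
  rw [← mul_add] at h1
  rw [← cast_eq_of_modEq (p := p) (Choose.choose_mul_mul_modEq_choose_nat (p := p) (a := i + j) (b := i))]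
  exact h1

theorem coeff_mul_add {c : ℕ → A} {m : ℕ} (h : H p c (m + 1)) {k r : ℕ} (hk : k < p ^ m)
    (hr : r < p) : c (p * k + r) = c (p * k) * (Ring.inverse (r.factorial : A) * c 1 ^ r) := by
  have hk' : p * k < p ^ (m + 1) := by
    rw [pow_succ']; exact Nat.mul_lt_mul_of_pos_left hk hp.out.pos
  have h1 := h.2 (p * k) r hk' (lt_pow_succ_of_lt hr m)
  have h2 : (p * k + r).choose (p * k) ≡ 1 [MOD p] := by
    rw [Nat.choose_symm_add]
    have := Choose.choose_modEq_choose_mod_mul_choose_div_nat (p := p) (n := p * k + r) (k := r)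
    rw [Nat.mul_add_mod, Nat.mod_eq_of_lt hr, Nat.choose_self, Nat.div_eq_of_lt hr,
      Nat.choose_zero_right] at this
    simpa using this
  rw [cast_eq_of_modEq (p := p) h2, Nat.cast_one, one_mul] at h1
  rw [h1, coeff_eq_inverse_mul h hr]

theorem coeff_pow_pow_eq_zero {c : ℕ → A} {m : ℕ} (h : H p c m) {n : ℕ} (hn : n < m) :
    c (p ^ n) ^ p = 0 := by
  induction m generalizing c n with
  | zero => exact absurd hn (Nat.not_lt_zero n)
  | succ m ih =>
    cases n with
    | zero => simpa using coeff_one_pow_eq_zero h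
    | succ n =>
      have := ih (H_contract h) (Nat.lt_of_succ_lt_succ hn)
      simpa [pow_succ'] using this

omit [CharP A p] in
/-- Coefficients of `e * expand p h` when `e` has degree `< p`. -/
theorem coeff_mul_expand (e h : A[X]) (he : ∀ i, p ≤ i → e.coeff i = 0) (k r : ℕ) (hr : r < p) :
    (e * expand A p h).coeff (p * k + r) = e.coeff r * h.coeff k := by
  classical
  rw [Polynomial.coeff_mul]
  rw [Finset.sum_eq_single (r, p * k)]
  · rw [Polynomial.coeff_expand hp.out.pos, if_pos (dvd_mul_right p k),
      Nat.mul_div_cancel_left k hp.out.pos]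
  · rintro ⟨i, j⟩ hij hne
    rw [Finset.HasAntidiagonal.mem_antidiagonal] at hij
    simp only at hij
    by_cases hi : p ≤ i
    · rw [he i hi, zero_mul]
    · push Not at hi
      rw [Polynomial.coeff_expand hp.out.pos]
      split_ifs with hj
      · exfalso
        apply hne
        obtain ⟨j', rfl⟩ := hj
        have h1 : (i + p * j') % p = (p * k + r) % p := by rw [hij]
        rw [Nat.add_mul_mod_self_left, Nat.mul_add_mod, Nat.mod_eq_of_lt hi,
          Nat.mod_eq_of_lt hr] at h1
        subst h1
        have h2 : p * j' = p * k := by omega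
        rw [h2]
      · rw [mul_zero]
  · intro hne
    exfalso
    apply hne
    rw [Finset.HasAntidiagonal.mem_antidiagonal]
    simp only
    omega

theorem E_zero_eq (a : A) :
    E p a 0 = ∑ j ∈ Finset.range p, C (Ring.inverse (j.factorial : A) * a ^ j) * X ^ j := by
  simp [E]

omit [CharP A p] in
theorem coeff_E_zero (a : A) (r : ℕ) :
    (E p a 0).coeff r = if r < p then Ring.inverse (r.factorial : A) * a ^ r else 0 := by
  classical
  rw [E]
  simp only [pow_zero, mul_one, Polynomial.finsetSum_coeff, Polynomial.coeff_C_mul_X_pow]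
  split_ifs with hr
  · rw [Finset.sum_eq_single r]
    · simp
    · intro j _ hj
      rw [if_neg (fun h => hj h.symm)]
    · intro h
      exact absurd (Finset.mem_range.mpr hr) h
  · apply Finset.sum_eq_zero
    intro j hj
    rw [if_neg]
    rintro rfl
    exact hr (Finset.mem_range.mp hj)

omit [CharP A p] in
theorem expand_E (a : A) (n : ℕ) : expand A p (E p a n) = E p a (n + 1) := by
  simp only [E, map_sum, map_mul, Polynomial.expand_C, map_pow, Polynomial.expand_X]
  refine Finset.sum_congr rfl fun j _ => ?_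
  rw [← pow_mul, pow_succ]
  congr 2
  ring

/-- The main structure result: a sequence satisfying the truncated functional equation at level
`m` is the coefficient sequence of the product of truncated exponentials. -/
theorem eq_prod_E {c : ℕ → A} {m : ℕ} (h : H p c m) (f : A[X])
    (hf : ∀ k, f.coeff k = if k < p ^ m then c k else 0) :
    f = ∏ n ∈ Finset.range m, E p (c (p ^ n)) n := by
  induction m generalizing c f with
  | zero =>
    simp only [Finset.range_zero, Finset.prod_empty]
    ext k
    rw [hf k, Polynomial.coeff_one]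
    simp only [pow_zero, Nat.lt_one_iff]
    by_cases hk : k = 0
    · subst hk
      simp [h.1]
    · rw [if_neg hk, if_neg hk]
  | succ m ih =>
    have hc' := H_contract h
    have hg := ih hc' (contract p f) (by
      intro k
      rw [Polynomial.coeff_contract hp.out.ne_zero, hf]
      have : k * p < p ^ (m + 1) ↔ k < p ^ m := by
        rw [pow_succ]
        exact Nat.mul_lt_mul_right hp.out.pos
      rw [mul_comm k p] at this ⊢
      simp only [this])
    have hf' : f = E p (c 1) 0 * expand A p (contract p f) := by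
      ext k
      obtain ⟨k', r, hr, rfl⟩ : ∃ k' r, r < p ∧ k = p * k' + r :=
        ⟨k / p, k % p, Nat.mod_lt _ hp.out.pos, (Nat.div_add_mod k p).symm⟩
      rw [coeff_mul_expand (E p (c 1) 0) _ (fun i hi => by
        rw [coeff_E_zero, if_neg (not_lt.mpr hi)]) k' r hr]
      rw [coeff_E_zero, if_pos hr, Polynomial.coeff_contract hp.out.ne_zero, hf, hf]
      have h1 : p * k' + r < p ^ (m + 1) ↔ k' < p ^ m := by
        rw [pow_succ']
        constructor
        · intro h1
          by_contra h2
          push Not at h2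
          have : p * p ^ m ≤ p * k' := Nat.mul_le_mul_left p h2
          omega
        · intro h1
          have : p * (k' + 1) ≤ p * p ^ m := Nat.mul_le_mul_left p h1
          have h3 : p * (k' + 1) = p * k' + p := by ring
          omega
      have h2 : k' * p < p ^ (m + 1) ↔ k' < p ^ m := by
        rw [pow_succ]
        exact Nat.mul_lt_mul_right hp.out.pos
      simp only [h1, h2]
      split_ifs with hk
      · rw [coeff_mul_add h hk hr, mul_comm k' p]
        ring
      · rw [mul_zero]
    rw [hf', hg, map_prod, Finset.prod_range_succ', pow_zero, mul_comm]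
    congr 1
    refine Finset.prod_congr rfl fun n _ => ?_
    rw [expand_E, pow_succ']

omit [CharP A p] in
theorem E_eq_expand (a : A) (n : ℕ) : E p a n = expand A (p ^ n) (E p a 0) := by
  induction n with
  | zero => simp
  | succ n ih => rw [← expand_E, ih, pow_succ', Polynomial.expand_mul]

/-- Frobenius twists of characters are characters. -/
theorem IsChar.expand_pow {f : A[X]} (hf : IsChar f) (n : ℕ) : IsChar (expand A (p ^ n) f) := by
  have hq : p ^ n ≠ 0 := pow_ne_zero n hp.out.ne_zero
  refine ⟨by rw [Polynomial.expand_eval, zero_pow hq, hf.1], ?_⟩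
  rw [Polynomial.expand_aeval, Polynomial.expand_aeval, Polynomial.expand_aeval,
    add_pow_char_pow]
  have h0 : (MvPolynomial.X 0 : MvPolynomial (Fin 2) A) ^ p ^ n =
      MvPolynomial.expand (p ^ n) (MvPolynomial.X 0) := (MvPolynomial.expand_X _ _).symm
  have h1 : (MvPolynomial.X 1 : MvPolynomial (Fin 2) A) ^ p ^ n =
      MvPolynomial.expand (p ^ n) (MvPolynomial.X 1) := (MvPolynomial.expand_X _ _).symm
  rw [h0, h1, ← map_add, Polynomial.aeval_algHom_apply, Polynomial.aeval_algHom_apply,
    Polynomial.aeval_algHom_apply, hf.2, map_mul]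

theorem isChar_E_zero {a : A} (ha : a ^ p = 0) : IsChar (E p a 0) := by
  rw [isChar_iff_coeff]
  refine ⟨by rw [coeff_E_zero, if_pos hp.out.pos]; simp, fun i j => ?_⟩
  simp only [coeff_E_zero]
  by_cases hij : i + j < p
  · have hi : i < p := by omega
    have hj : j < p := by omega
    rw [if_pos hij, if_pos hi, if_pos hj]
    have hu := isUnit_factorial (A := A) hij
    have hui := isUnit_factorial (A := A) hi
    have huj := isUnit_factorial (A := A) hj
    have key : ((i + j).choose i : A) * Ring.inverse ((i + j).factorial : A) =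
        Ring.inverse (i.factorial : A) * Ring.inverse (j.factorial : A) := by
      have h1 : ((i + j).choose i : A) * (i.factorial : A) * (j.factorial : A) =
          ((i + j).factorial : A) := by
        have := Nat.add_choose_mul_factorial_mul_factorial i j
        rw [← Nat.choose_symm_add] at this
        exact_mod_cast congrArg (Nat.cast (R := A)) this
      have h2 : ((i + j).choose i : A) = ((i + j).factorial : A) *
          (Ring.inverse (i.factorial : A) * Ring.inverse (j.factorial : A)) := by
        rw [← h1]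
        have e1 := Ring.mul_inverse_cancel _ hui
        have e2 := Ring.mul_inverse_cancel _ huj
        calc ((i + j).choose i : A)
            = ((i + j).choose i : A) * ((i.factorial : A) * Ring.inverse (i.factorial : A)) *
                ((j.factorial : A) * Ring.inverse (j.factorial : A)) := by rw [e1, e2]; ring
          _ = _ := by ring
      rw [h2]
      have e3 := Ring.mul_inverse_cancel _ hu
      calc ((i + j).factorial : A) *
            (Ring.inverse (i.factorial : A) * Ring.inverse (j.factorial : A)) *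
              Ring.inverse ((i + j).factorial : A)
          = (((i + j).factorial : A) * Ring.inverse ((i + j).factorial : A)) *
              (Ring.inverse (i.factorial : A) * Ring.inverse (j.factorial : A)) := by ring
        _ = _ := by rw [e3, one_mul]
    calc ((i + j).choose i : A) * (Ring.inverse ((i + j).factorial : A) * a ^ (i + j))
        = (((i + j).choose i : A) * Ring.inverse ((i + j).factorial : A)) * a ^ (i + j) := by ring
      _ = _ := by rw [key, pow_add]; ring
  · rw [if_neg hij, mul_zero]
    split_ifs with hi hj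
    · have : a ^ i * a ^ j = 0 := by
        rw [← pow_add]
        obtain ⟨k, hk⟩ := Nat.exists_eq_add_of_le (not_lt.mp hij)
        rw [hk, pow_add, ha, zero_mul]
      calc (0 : A) = Ring.inverse (i.factorial : A) * Ring.inverse (j.factorial : A) *
          (a ^ i * a ^ j) := by rw [this, mul_zero]
        _ = _ := by ring
    · rw [mul_zero]
    · rw [zero_mul]
    · rw [zero_mul]

theorem isChar_E {a : A} (ha : a ^ p = 0) (n : ℕ) : IsChar (E p a n) := by
  rw [E_eq_expand]
  exact (isChar_E_zero ha).expand_pow n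

theorem isChar_prod_E (a : ℕ → A) (N : ℕ) (ha : ∀ n < N, a n ^ p = 0) :
    IsChar (∏ n ∈ Finset.range N, E p (a n) n) :=
  isChar_prod _ _ fun n hn => isChar_E (ha n (Finset.mem_range.mp hn)) n

/-- A character's coefficient sequence satisfies the truncated functional equations. -/
theorem H_of_isChar {f : A[X]} (hf : IsChar f) (m : ℕ) : H p (fun k => f.coeff k) m := by
  rw [isChar_iff_coeff] at hf
  exact ⟨hf.1, fun i j _ _ => hf.2 i j⟩

end CharP

section Coeff2

variable {A : Type*} [CommRing A]

theorem coe_aeval_eq_subst (f : A[X]) (t : MvPolynomial (Fin 2) A)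
    (ht : MvPolynomial.constantCoeff t = 0) :
    ((Polynomial.aeval t f : MvPolynomial (Fin 2) A) : MvPowerSeries (Fin 2) A) =
      PowerSeries.subst (t : MvPowerSeries (Fin 2) A) (f : PowerSeries A) := by
  have hs : PowerSeries.HasSubst (t : MvPowerSeries (Fin 2) A) := by
    apply PowerSeries.HasSubst.of_constantCoeff_zero
    rw [← MvPowerSeries.coeff_zero_eq_constantCoeff_apply, MvPolynomial.coeff_coe]
    exact ht
  rw [PowerSeries.subst_coe hs]
  exact (Polynomial.aeval_algHom_apply (MvPolynomial.coeToMvPowerSeries.algHom A) t f).symm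

theorem coeff_aeval_X0_add_X1 (f : A[X]) (e : Fin 2 →₀ ℕ) :
    MvPolynomial.coeff e
      (Polynomial.aeval (MvPolynomial.X 0 + MvPolynomial.X 1 : MvPolynomial (Fin 2) A) f) =
      ((e 0 + e 1).choose (e 0) : A) * f.coeff (e 0 + e 1) := by
  rw [← MvPolynomial.coeff_coe, coe_aeval_eq_subst _ _ (by simp)]
  have : ((MvPolynomial.X 0 + MvPolynomial.X 1 : MvPolynomial (Fin 2) A) :
      MvPowerSeries (Fin 2) A) = MvPowerSeries.X 0 + MvPowerSeries.X 1 := by simp
  rw [this, Groth.Agent.Lib.Helper68.coeff_subst_X0_add_X1, Polynomial.coeff_coe]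

theorem coeff_aeval_X0_mul_aeval_X1 (f : A[X]) (e : Fin 2 →₀ ℕ) :
    MvPolynomial.coeff e
      (Polynomial.aeval (MvPolynomial.X 0 : MvPolynomial (Fin 2) A) f *
        Polynomial.aeval (MvPolynomial.X 1 : MvPolynomial (Fin 2) A) f) =
      f.coeff (e 0) * f.coeff (e 1) := by
  rw [← MvPolynomial.coeff_coe, MvPolynomial.coe_mul, coe_aeval_eq_subst _ _ (by simp),
    coe_aeval_eq_subst _ _ (by simp)]
  have h0 : ((MvPolynomial.X 0 : MvPolynomial (Fin 2) A) :
      MvPowerSeries (Fin 2) A) = MvPowerSeries.X 0 := by simp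
  have h1 : ((MvPolynomial.X 1 : MvPolynomial (Fin 2) A) :
      MvPowerSeries (Fin 2) A) = MvPowerSeries.X 1 := by simp
  rw [h0, h1, Groth.Agent.Lib.Helper68.coeff_subst_X0_mul_subst_X1, Polynomial.coeff_coe,
    Polynomial.coeff_coe]

/-- Membership in `(X₀^q, X₁^q)` kills the coefficients in the box `[0,q)²`. -/
theorem coeff_eq_zero_of_mem_span_pow (q : ℕ) (D : MvPolynomial (Fin 2) A)
    (hD : D ∈ Ideal.span {(MvPolynomial.X 0 ^ q : MvPolynomial (Fin 2) A), MvPolynomial.X 1 ^ q})
    (e : Fin 2 →₀ ℕ) (h0 : e 0 < q) (h1 : e 1 < q) : MvPolynomial.coeff e D = 0 := by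
  classical
  have hset : ({(MvPolynomial.X 0 ^ q : MvPolynomial (Fin 2) A), MvPolynomial.X 1 ^ q} :
      Set (MvPolynomial (Fin 2) A)) =
      (fun s => MvPolynomial.monomial s (1 : A)) ''
        ({Finsupp.single 0 q, Finsupp.single 1 q} : Set (Fin 2 →₀ ℕ)) := by
    rw [Set.image_pair]
    simp [MvPolynomial.X_pow_eq_monomial]
  rw [hset, MvPolynomial.mem_ideal_span_monomial_image] at hD
  by_contra hne
  have hsupp : e ∈ D.support := MvPolynomial.mem_support_iff.mpr hne
  obtain ⟨s, hs, hle⟩ := hD e hsupp
  rcases hs with rfl | rfl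
  · have := hle 0
    simp at this
    omega
  · have := hle 1
    simp at this
    omega

end Coeff2

end Groth.Agent.Lib.Helper68.CharPChar
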