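import Mathlib

open Polynomial Matrix

namespace Groth.Agent.Lib.Helper68.CharpolyLattice

section MatrixIdentity

variable {K : Type*} [CommRing K] {ι : Type*} [Fintype ι] [DecidableEq ι]

/-- Expansion of `charpoly U * det N` along the rows of `N * (X - U)`. -/
theorem charpoly_mul_det (U N : Matrix ι ι K) :
    U.charpoly * C N.det = ∑ J : Finset ι, X ^ J.card *
      C (Matrix.det (Matrix.of (J.piecewise (fun k => N k) (fun k => -(N * U) k)))) := by
  let p : ι → ι → K[X] := fun k c => C (N k c)
  let q : ι → ι → K[X] := fun k c => C (-(N * U) k c)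
  have hmat : (C : K →+* K[X]).mapMatrix N * charmatrix U =
      Matrix.of ((fun k => (X : K[X]) • p k) + q) := by
    refine Matrix.ext fun k c => ?_
    rw [Matrix.mul_apply]
    simp only [RingHom.mapMatrix_apply, Matrix.map_apply, Matrix.of_apply, Pi.add_apply,
      Pi.smul_apply, smul_eq_mul, p, q]
    have h1 : ∀ l, C (N k l) * charmatrix U l c =
        (if l = c then X * C (N k l) else 0) - C (N k l * U l c) := by
      intro l
      by_cases hlc : l = c
      · subst hlc
        rw [charmatrix_apply_eq, if_pos rfl, map_mul]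
        ring
      · rw [charmatrix_apply_ne _ _ _ hlc, if_neg hlc, map_mul]
        ring
    rw [Finset.sum_congr rfl (fun l _ => h1 l), Finset.sum_sub_distrib, Finset.sum_ite_eq' ,
      if_pos (Finset.mem_univ c)]
    rw [Matrix.mul_apply, map_neg, map_sum]
    ring
  have hdet : U.charpoly * C N.det = Matrix.det (Matrix.of ((fun k => (X : K[X]) • p k) + q)) := by
    rw [← hmat, Matrix.det_mul, Matrix.charpoly, mul_comm]
    congr 1
    exact RingHom.map_det _ _
  rw [hdet]
  have hrow : ∀ r : ι → ι → K[X], Matrix.det (Matrix.of r) =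
      (Matrix.detRowAlternating : (ι → K[X]) [⋀^ι]→ₗ[K[X]] K[X]).toMultilinearMap r := fun r => rfl
  rw [hrow, MultilinearMap.map_add_univ]
  refine Finset.sum_congr rfl fun J _ => ?_
  have hpw : J.piecewise (fun k => (X : K[X]) • p k) q =
      J.piecewise (fun k => (X : K[X]) • (J.piecewise p q) k) (J.piecewise p q) := by
    ext k c
    by_cases hk : k ∈ J
    · simp [Finset.piecewise_eq_of_mem _ _ _ hk]
    · simp [Finset.piecewise_eq_of_notMem _ _ _ hk]
  rw [hpw, MultilinearMap.map_piecewise_smul, Finset.prod_const, smul_eq_mul, ← hrow]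
  congr 1
  have hC : Matrix.of (J.piecewise p q) = (C : K →+* K[X]).mapMatrix
      (Matrix.of (J.piecewise (fun k => N k) (fun k => -(N * U) k))) := by
    ext k c
    by_cases hk : k ∈ J
    · simp [Finset.piecewise_eq_of_mem _ _ _ hk, p]
    · simp [Finset.piecewise_eq_of_notMem _ _ _ hk, q]
  rw [hC]
  exact (RingHom.map_det _ _).symm

end MatrixIdentity

section Lattice

variable {A K F : Type*} [CommRing A] [CommRing K] [Algebra A K] [AddCommGroup F] [Module K F]
  [Module A F] [IsScalarTower A K F] {ι σ : Type*} [Fintype ι] [DecidableEq ι] [Fintype σ]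
  (b : Module.Basis ι K F) (w : σ → F)

/-- The `A`-lattice in `K` spanned by the determinants `det (w ∘ I)`. -/
def detLattice : Submodule A K :=
  Submodule.span A (Set.range fun I : ι → σ => b.det (w ∘ I))

theorem detLattice_fg : (detLattice (A := A) b w).FG :=
  Submodule.fg_span (Set.finite_range _)

theorem det_mem_detLattice (x : ι → F) (hx : ∀ k, x k ∈ Submodule.span A (Set.range w)) :
    b.det x ∈ detLattice (A := A) b w := by
  have : ∀ k, ∃ a : σ → A, ∑ i, a i • w i = x k := fun k =>
    (Submodule.mem_span_range_iff_exists_fun A).mp (hx k)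
  choose a ha using this
  have hx' : x = fun k => ∑ i, (algebraMap A K (a k i)) • w i := by
    funext k
    rw [← ha k]
    simp only [algebraMap_smul]
  rw [hx']
  have h1 := MultilinearMap.map_sum (b.det : F [⋀^ι]→ₗ[K] K).toMultilinearMap
    (fun k i => (algebraMap A K (a k i)) • w i)
  simp only [AlternatingMap.coe_multilinearMap] at h1
  rw [h1]
  refine Submodule.sum_mem _ fun r _ => ?_
  have h2 := MultilinearMap.map_smul_univ (b.det : F [⋀^ι]→ₗ[K] K).toMultilinearMap
    (fun k => algebraMap A K (a k (r k))) (fun k => w (r k))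
  simp only [AlternatingMap.coe_multilinearMap] at h2
  rw [h2, ← map_prod, algebraMap_smul]
  exact Submodule.smul_mem _ _ (Submodule.subset_span ⟨r, rfl⟩)

theorem coeff_charpoly_mul_det_mem [Module.Free K F] [Module.Finite K F] (u : F →ₗ[K] F)
    (hu : ∀ i, u (w i) ∈ Submodule.span A (Set.range w)) (I : ι → σ) (j : ℕ) :
    u.charpoly.coeff j * b.det (w ∘ I) ∈ detLattice (A := A) b w := by
  set U : Matrix ι ι K := (LinearMap.toMatrix b b u)ᵀ with hU
  set N : Matrix ι ι K := (b.toMatrix (w ∘ I))ᵀ with hN
  have hcp : U.charpoly = u.charpoly := by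
    rw [hU, Matrix.charpoly_transpose, LinearMap.charpoly_toMatrix]
  have hdetN : N.det = b.det (w ∘ I) := by
    rw [hN, Matrix.det_transpose, Module.Basis.det_apply]
  have hNU : ∀ k c, (N * U) k c = b.repr (u (w (I k))) c := by
    intro k c
    rw [← LinearMap.toMatrix_mulVec_repr b b u (w (I k))]
    simp [Matrix.mul_apply, Matrix.mulVec, dotProduct, hN, hU, Module.Basis.toMatrix_apply,
      mul_comm]
  have key := charpoly_mul_det U N
  rw [hcp, hdetN] at key
  have key2 := congrArg (fun p => p.coeff j) key
  simp only [coeff_mul_C, finset_sum_coeff] at key2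
  rw [key2]
  refine Submodule.sum_mem _ fun J _ => ?_
  rw [coeff_X_pow]
  split_ifs
  · -- the determinant is `b.det` of a family in the span
    rw [one_mul]
    let xJ : ι → F := fun k => if k ∈ J then w (I k) else -(u (w (I k)))
    have hmat : Matrix.of (J.piecewise (fun k => N k) (fun k => -(N * U) k)) =
        (b.toMatrix xJ)ᵀ := by
      refine Matrix.ext fun k c => ?_
      by_cases hk : k ∈ J
      · simp [Finset.piecewise_eq_of_mem _ _ _ hk, hN, Module.Basis.toMatrix_apply, xJ, hk]
      · have := hNU k c
        simp [Finset.piecewise_eq_of_notMem _ _ _ hk, Module.Basis.toMatrix_apply, xJ, hk, this]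
    rw [hmat, Matrix.det_transpose, ← Module.Basis.det_apply]
    refine det_mem_detLattice b w xJ fun k => ?_
    by_cases hk : k ∈ J
    · simp only [xJ, if_pos hk]
      exact Submodule.subset_span ⟨I k, rfl⟩
    · simp only [xJ, if_neg hk]
      exact Submodule.neg_mem _ (hu _)
  · rw [zero_mul]
    exact Submodule.zero_mem _

theorem exists_isUnit_mem_detLattice (S : Submonoid A) [IsLocalization S K]
    (hw : Submodule.span K (Set.range w) = ⊤) :
    ∃ d ∈ detLattice (A := A) b w, IsUnit d := by
  have : ∀ k, ∃ c : σ → K, ∑ i, c i • w i = b k := fun k =>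
    (Submodule.mem_span_range_iff_exists_fun K).mp (hw ▸ Submodule.mem_top)
  choose c hc using this
  obtain ⟨s, hs⟩ := IsLocalization.exist_integer_multiples_of_finite S
    (fun p : ι × σ => c p.1 p.2)
  choose a ha using hs
  have hmem : ∀ k, (s : A) • b k ∈ Submodule.span A (Set.range w) := by
    intro k
    rw [← hc k, Finset.smul_sum]
    refine Submodule.sum_mem _ fun i _ => ?_
    rw [← smul_assoc, ← ha (k, i), algebraMap_smul]
    exact Submodule.smul_mem _ _ (Submodule.subset_span ⟨i, rfl⟩)
  refine ⟨_, det_mem_detLattice b w (fun k => (s : A) • b k) hmem, ?_⟩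
  have h2 := MultilinearMap.map_smul_univ (b.det : F [⋀^ι]→ₗ[K] K).toMultilinearMap
    (fun _ => algebraMap A K (s : A)) (fun k => b k)
  simp only [AlternatingMap.coe_multilinearMap, algebraMap_smul] at h2
  rw [h2]
  have h3 : b.det (fun k => b k) = 1 := b.det_self
  rw [h3, Finset.prod_const, smul_eq_mul, mul_one]
  exact (IsLocalization.map_units K s).pow _

end Lattice

section Main

variable {A K F : Type*} [CommRing A] [CommRing K] [Algebra A K] [AddCommGroup F] [Module K F]
  [Module A F] [IsScalarTower A K F]

/-- If `w` is a finite family spanning the free `K`-module `F`, where `K` is a localization of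
the Noetherian ring `A`, then the `A`-algebra generated by the coefficients of the characteristic
polynomials of endomorphisms preserving the `A`-span of `w` is a finite `A`-module. -/
theorem fg_adjoin_charpoly_coeff [IsNoetherianRing A] [Module.Free K F] [Module.Finite K F]
    (S : Submonoid A) [IsLocalization S K] {σ : Type*} [Finite σ] (w : σ → F)
    (hw : Submodule.span K (Set.range w) = ⊤) {τ : Type*} (us : τ → (F →ₗ[K] F))
    (hus : ∀ t i, us t (w i) ∈ Submodule.span A (Set.range w)) :
    (Algebra.adjoin A {c : K | ∃ (t : τ) (j : ℕ), c = (us t).charpoly.coeff j}).toSubmodule.FG := by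
  classical
  cases nonempty_fintype σ
  let b := Module.Free.chooseBasis K F
  set L := detLattice (A := A) b w with hL
  set S' := Algebra.adjoin A {c : K | ∃ (t : τ) (j : ℕ), c = (us t).charpoly.coeff j} with hS'
  have hstab : ∀ c ∈ S', ∀ l ∈ L, c * l ∈ L := by
    intro c hc
    induction hc using Algebra.adjoin_induction with
    | mem c hc =>
      obtain ⟨t, j, rfl⟩ := hc
      intro l hl
      induction hl using Submodule.span_induction with
      | mem l hl =>
        obtain ⟨I, rfl⟩ := hl
        exact coeff_charpoly_mul_det_mem b w (us t) (hus t) I j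
      | zero => rw [mul_zero]; exact Submodule.zero_mem _
      | add x y _ _ hx hy => rw [mul_add]; exact Submodule.add_mem _ hx hy
      | smul a x _ hx => rw [mul_smul_comm]; exact Submodule.smul_mem _ _ hx
    | algebraMap a =>
      intro l hl
      rw [← Algebra.smul_def]
      exact Submodule.smul_mem _ _ hl
    | add x y _ _ hx hy =>
      intro l hl
      rw [add_mul]
      exact Submodule.add_mem _ (hx l hl) (hy l hl)
    | mul x y _ _ hx hy =>
      intro l hl
      rw [mul_assoc]
      exact hx _ (hy l hl)
  obtain ⟨d, hdL, hd⟩ := exists_isUnit_mem_detLattice (A := A) b w S hw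
  let φ : S'.toSubmodule →ₗ[A] L :=
    { toFun := fun c => ⟨c.1 * d, hstab c.1 c.2 d hdL⟩
      map_add' := fun x y => by ext; simp [add_mul]
      map_smul' := fun a x => by ext; simp }
  have hφ : Function.Injective φ := by
    intro x y hxy
    have : x.1 * d = y.1 * d := congrArg Subtype.val hxy
    exact Subtype.ext (hd.mul_left_injective this)
  have hLfin : Module.Finite A L := Module.Finite.iff_fg.mpr (detLattice_fg b w)
  have : IsNoetherian A L := isNoetherian_of_isNoetherianRing_of_finite A L
  exact Module.Finite.iff_fg.mp (Module.Finite.of_injective φ hφ)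

end Main

end Groth.Agent.Lib.Helper68.CharpolyLattice
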