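import Mathlib.GroupTheory.Exponent
import Mathlib.GroupTheory.SpecificGroups.Cyclic
import Mathlib.Data.Nat.Factors
import Mathlib.Data.ZMod.QuotientGroup
import Mathlib.RingTheory.Coprime.Lemmas
import Mathlib.Data.Nat.Prime.Int
import Mathlib.Tactic.Abel
import Mathlib.RingTheory.Int.Basic

/-!
# Cocyclic abelian groups of finite exponent

An abelian group `A` of finite exponent with a nonzero element `a` lying in every nonzero subgroup
is cyclic of prime power order.
-/

namespace Groth.Agent.Lib.Helper68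

open AddSubgroup

variable {A : Type*} [AddCommGroup A]

/-- If `q` is a prime dividing the order of `y`, then `q • a = 0`. -/
theorem cocyclic_prime_nsmul (a : A)
    (h : ∀ B : AddSubgroup A, B ≠ ⊥ → a ∈ B) (y : A) (hy : 0 < addOrderOf y)
    (q : ℕ) (hq : q.Prime) (hqy : q ∣ addOrderOf y) : q • a = 0 := by
  obtain ⟨m, hm⟩ := hqy
  have hmpos : 0 < m := by
    rcases Nat.eq_zero_or_pos m with rfl | h0
    · rw [mul_zero] at hm; omega
    · exact h0
  have hmlt : m < addOrderOf y := by
    rw [hm]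
    calc m = 1 * m := (one_mul m).symm
      _ < q * m := Nat.mul_lt_mul_of_pos_right hq.one_lt hmpos
  have hz : m • y ≠ 0 := nsmul_ne_zero_of_lt_addOrderOf hmpos.ne' hmlt
  have hqz : q • (m • y) = 0 := by
    rw [← mul_nsmul', ← hm, addOrderOf_nsmul_eq_zero]
  have hmem : a ∈ zmultiples (m • y) := h _ (by
    intro hbot
    exact hz ((AddSubgroup.zmultiples_eq_bot).mp hbot))
  obtain ⟨k, rfl⟩ := mem_zmultiples_iff.mp hmem
  rw [← natCast_zsmul, smul_comm, natCast_zsmul, hqz, smul_zero]

/-- The order of `a` is prime. -/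
theorem cocyclic_prime_order (hA : AddMonoid.exponent A ≠ 0) (a : A) (ha : a ≠ 0)
    (h : ∀ B : AddSubgroup A, B ≠ ⊥ → a ∈ B) : (addOrderOf a).Prime := by
  have hE : AddMonoid.ExponentExists A := AddMonoid.exponent_ne_zero.mp hA
  have hpos : 0 < addOrderOf a := hE.addOrderOf_pos a
  have hne1 : addOrderOf a ≠ 1 := by
    intro h1
    exact ha (AddMonoid.addOrderOf_eq_one_iff.mp h1)
  have hq : (addOrderOf a).minFac.Prime := Nat.minFac_prime hne1
  have := cocyclic_prime_nsmul a h a hpos _ hq (Nat.minFac_dvd _)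
  have hdvd : addOrderOf a ∣ (addOrderOf a).minFac := addOrderOf_dvd_of_nsmul_eq_zero this
  rcases (Nat.dvd_prime hq).mp hdvd with h1 | h1
  · exact absurd h1 hne1
  · rw [h1]; exact hq

/-- Every order is a power of `p = addOrderOf a`. -/
theorem cocyclic_order_pow (hA : AddMonoid.exponent A ≠ 0) (a : A) (ha : a ≠ 0)
    (h : ∀ B : AddSubgroup A, B ≠ ⊥ → a ∈ B) (y : A) :
    ∃ k : ℕ, addOrderOf y = addOrderOf a ^ k := by
  have hE : AddMonoid.ExponentExists A := AddMonoid.exponent_ne_zero.mp hA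
  have hp := cocyclic_prime_order hA a ha h
  have hpos : 0 < addOrderOf y := hE.addOrderOf_pos y
  refine ⟨_, Nat.eq_prime_pow_of_unique_prime_dvd hpos.ne' ?_⟩
  intro q hq hqy
  have := cocyclic_prime_nsmul a h y hpos q hq hqy
  have hdvd : addOrderOf a ∣ q := addOrderOf_dvd_of_nsmul_eq_zero this
  rcases (Nat.dvd_prime hq).mp hdvd with h1 | h1
  · exact absurd h1 hp.ne_one
  · exact h1.symm

/-- The `p`-torsion is contained in the multiples of `a`. -/
theorem cocyclic_torsion (hA : AddMonoid.exponent A ≠ 0) (a : A) (ha : a ≠ 0)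
    (h : ∀ B : AddSubgroup A, B ≠ ⊥ → a ∈ B) (y : A) (hy : addOrderOf a • y = 0) :
    y ∈ zmultiples a := by
  have hp := cocyclic_prime_order hA a ha h
  by_cases hy0 : y = 0
  · rw [hy0]; exact zero_mem _
  have hmem : a ∈ zmultiples y := h _ (by
    intro hbot
    exact hy0 ((AddSubgroup.zmultiples_eq_bot).mp hbot))
  obtain ⟨k, hk⟩ := mem_zmultiples_iff.mp hmem
  have hcop : IsCoprime k (addOrderOf a : ℤ) := by
    rw [isCoprime_comm, Prime.coprime_iff_not_dvd (Nat.prime_iff_prime_int.mp hp)]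
    rintro ⟨k', rfl⟩
    apply ha
    rw [← hk, mul_zsmul', natCast_zsmul, hy, smul_zero]
  obtain ⟨u, v, huv⟩ := hcop
  refine mem_zmultiples_iff.mpr ⟨u, ?_⟩
  calc u • a = u • k • y := by rw [hk]
    _ = (u * k) • y + (v * (addOrderOf a : ℤ)) • y := by
        rw [mul_zsmul, mul_zsmul y v, natCast_zsmul, hy, smul_zero, add_zero]
    _ = y := by rw [← add_zsmul, huv, one_zsmul]

/-- Main structure result: the group is generated by one element of prime power order. -/
theorem cocyclic_generator (hA : AddMonoid.exponent A ≠ 0) (a : A) (ha : a ≠ 0)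
    (h : ∀ B : AddSubgroup A, B ≠ ⊥ → a ∈ B) :
    ∃ (p n : ℕ) (x : A), p.Prime ∧ addOrderOf x = p ^ n ∧ ∀ y : A, y ∈ zmultiples x := by
  have hE : AddMonoid.ExponentExists A := AddMonoid.exponent_ne_zero.mp hA
  have hp := cocyclic_prime_order hA a ha h
  obtain ⟨x, hx⟩ := AddMonoid.exists_addOrderOf_eq_exponent hE
  obtain ⟨n, hn⟩ := cocyclic_order_pow hA a ha h x
  refine ⟨addOrderOf a, n, x, hp, hn, ?_⟩
  set p := addOrderOf a with hpdef
  have hkill : ∀ y : A, p ^ n • y = 0 := by
    intro y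
    rw [← hn, hx]
    exact AddMonoid.exponent_nsmul_eq_zero y
  have key : ∀ i : ℕ, i ≤ n → ∀ y : A, p ^ i • y = 0 → y ∈ zmultiples x := by
    intro i
    induction i with
    | zero =>
      intro _ y hy
      rw [pow_zero, one_nsmul] at hy
      rw [hy]; exact zero_mem _
    | succ i ih =>
      intro hi y hy
      have hpy : p • y ∈ zmultiples x := by
        apply ih (by omega)
        rw [← mul_nsmul', ← pow_succ]; exact hy
      obtain ⟨m, hm⟩ := mem_zmultiples_iff.mp hpy
      -- `p ^ i * m` kills `x`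
      have h0 : ((p : ℤ) ^ i * m) • x = 0 := by
        rw [mul_zsmul, hm, ← Nat.cast_pow, natCast_zsmul, ← mul_nsmul', ← pow_succ]
        exact hy
      have hdvd : ((addOrderOf x : ℕ) : ℤ) ∣ (p : ℤ) ^ i * m :=
        (addOrderOf_dvd_iff_zsmul_eq_zero).mpr h0
      rw [hn] at hdvd
      have hpm : (p : ℤ) ∣ m := by
        have h1 : (p : ℤ) ^ (i + 1) ∣ (p : ℤ) ^ i * m := by
          refine dvd_trans ?_ hdvd
          rw [Nat.cast_pow]
          exact pow_dvd_pow _ hi
        rw [pow_succ] at h1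
        have hpi : (p : ℤ) ^ i ≠ 0 := pow_ne_zero _ (by exact_mod_cast hp.ne_zero)
        exact (mul_dvd_mul_iff_left hpi).mp h1
      obtain ⟨m', rfl⟩ := hpm
      have hx0 : x ≠ 0 := by
        intro hx0
        rw [hx0, addOrderOf_zero] at hn
        have : 1 < p ^ n := Nat.one_lt_pow (by omega) hp.one_lt
        omega
      have hax : a ∈ zmultiples x := h _ (by
        intro hbot
        exact hx0 ((AddSubgroup.zmultiples_eq_bot).mp hbot))
      have hdiff : y - m' • x ∈ zmultiples a := by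
        apply cocyclic_torsion hA a ha h
        rw [smul_sub, ← natCast_zsmul (m' • x), ← mul_zsmul, hm, sub_self]
      have hdiff' : y - m' • x ∈ zmultiples x :=
        (zmultiples_le_of_mem hax) hdiff
      have : y = (y - m' • x) + m' • x := by abel
      rw [this]
      exact add_mem hdiff' (zsmul_mem (mem_zmultiples x) m')
  exact fun y => key n le_rfl y (hkill y)

/-- A cocyclic abelian group of finite exponent is finite. -/
theorem cocyclic_finite (hA : AddMonoid.exponent A ≠ 0) (a : A) (ha : a ≠ 0)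
    (h : ∀ B : AddSubgroup A, B ≠ ⊥ → a ∈ B) : Finite A := by
  obtain ⟨p, n, x, hp, hn, hg⟩ := cocyclic_generator hA a ha h
  have hfin : IsOfFinAddOrder x := by
    rw [← addOrderOf_pos_iff, hn]
    exact pow_pos hp.pos n
  have : Finite (AddSubgroup.zmultiples x) := (finite_zmultiples.mpr hfin).to_subtype
  exact Finite.of_equiv _ (Equiv.subtypeUnivEquiv hg)

/-- Abelian groups of finite exponent are residually finite: every nonzero element is avoided by a
subgroup of finite index. -/
theorem exists_finiteIndex_not_mem_of_exponent {Q : Type*} [AddCommGroup Q]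
    (hQ : AddMonoid.exponent Q ≠ 0) (q : Q) (hq : q ≠ 0) :
    ∃ M : AddSubgroup Q, M.FiniteIndex ∧ q ∉ M := by
  -- Zorn: a subgroup maximal among those not containing `q`
  obtain ⟨M, -, hM⟩ := zorn_le_nonempty₀ {M : AddSubgroup Q | q ∉ M} (by
    intro c hcs hc y hy
    refine ⟨sSup c, ?_, fun z hz => le_sSup hz⟩
    show q ∉ sSup c
    rw [AddSubgroup.mem_sSup_of_directedOn ⟨y, hy⟩ hc.directedOn]
    rintro ⟨K, hK, hqK⟩
    exact hcs hK hqK) ⊥ (by
      show q ∉ (⊥ : AddSubgroup Q)
      rw [AddSubgroup.mem_bot]; exact hq)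
  have hqM : q ∉ M := hM.prop
  refine ⟨M, ?_, hqM⟩
  -- the quotient is cocyclic of finite exponent
  have hexp : AddMonoid.exponent (Q ⧸ M) ≠ 0 := by
    rw [AddMonoid.exponent_ne_zero]
    refine ⟨AddMonoid.exponent Q, Nat.pos_of_ne_zero hQ, fun g => ?_⟩
    obtain ⟨y, rfl⟩ := QuotientAddGroup.mk_surjective g
    rw [← QuotientAddGroup.mk_nsmul, AddMonoid.exponent_nsmul_eq_zero, QuotientAddGroup.mk_zero]
  have hq' : (QuotientAddGroup.mk q : Q ⧸ M) ≠ 0 := by
    rw [Ne, QuotientAddGroup.eq_zero_iff]; exact hqM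
  have hall : ∀ B : AddSubgroup (Q ⧸ M), B ≠ ⊥ → (QuotientAddGroup.mk q : Q ⧸ M) ∈ B := by
    intro B hB
    by_contra hqB
    apply hB
    have hle : M ≤ B.comap (QuotientAddGroup.mk' M) := by
      intro m hm
      show (QuotientAddGroup.mk m : Q ⧸ M) ∈ B
      rw [(QuotientAddGroup.eq_zero_iff m).mpr hm]
      exact zero_mem _
    have hmem : B.comap (QuotientAddGroup.mk' M) ∈ {M : AddSubgroup Q | q ∉ M} := hqB
    have hle' : B.comap (QuotientAddGroup.mk' M) ≤ M := hM.le_of_ge hmem hle
    rw [eq_bot_iff]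
    intro b hb
    obtain ⟨y, rfl⟩ := QuotientAddGroup.mk_surjective b
    have : y ∈ M := hle' hb
    rw [AddSubgroup.mem_bot, QuotientAddGroup.eq_zero_iff]
    exact this
  have := cocyclic_finite hexp _ hq' hall
  exact AddSubgroup.finiteIndex_of_finite_quotient

end Groth.Agent.Lib.Helper68
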