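import Mathlib
import Groth.Agent.S0544

open IsLocalRing

namespace Groth.Agent.Lib.Helper68.ComplLocal

universe u

/-- residue field of `A` vs. its completion -/
noncomputable def eRes (R : Type u) [CommRing R] [IsLocalRing R] [IsNoetherianRing R] :
    ResidueField R ≃+* ResidueField (AdicCompletion (maximalIdeal R) R) :=
  RingEquiv.ofBijective _ (AdicCompletion.residueField_map_bijective (R := R))

variable (A B : Type u) [CommRing A] [CommRing B]
    [IsLocalRing A] [IsLocalRing B] [IsNoetherianRing A] [IsNoetherianRing B] [Algebra A B]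
    [IsLocalHom (algebraMap A B)]
    [Algebra (AdicCompletion (maximalIdeal A) A) (AdicCompletion (maximalIdeal B) B)]
    (hψ : (algebraMap (AdicCompletion (maximalIdeal A) A) (AdicCompletion (maximalIdeal B) B)).comp
        (algebraMap A (AdicCompletion (maximalIdeal A) A)) =
      (algebraMap B (AdicCompletion (maximalIdeal B) B)).comp (algebraMap A B))

local notation "Â" => AdicCompletion (maximalIdeal A) A
local notation "B̂" => AdicCompletion (maximalIdeal B) B

include hψ

theorem map_maximalIdeal_eq :
    (maximalIdeal Â).map (algebraMap Â B̂) =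
      ((maximalIdeal A).map (algebraMap A B)).map (algebraMap B B̂) := by
  rw [AdicCompletion.maximalIdeal_eq_map, Ideal.map_map, hψ, ← Ideal.map_map]

theorem isLocalHom : IsLocalHom (algebraMap Â B̂) := by
  apply ((local_hom_TFAE (algebraMap Â B̂)).out 0 2).mpr
  rw [map_maximalIdeal_eq A B hψ, AdicCompletion.maximalIdeal_eq_map (R := B)]
  apply Ideal.map_mono
  exact ((local_hom_TFAE (algebraMap A B)).out 0 2).mp ‹IsLocalHom (algebraMap A B)›

theorem map_eq_iff :
    (maximalIdeal Â).map (algebraMap Â B̂) = maximalIdeal B̂ ↔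
      (maximalIdeal A).map (algebraMap A B) = maximalIdeal B := by
  rw [map_maximalIdeal_eq A B hψ, AdicCompletion.maximalIdeal_eq_map (R := B)]
  constructor
  · intro h
    haveI : Module.FaithfullyFlat B B̂ := Module.FaithfullyFlat.of_flat_of_isLocalHom
    have h1 := congrArg (Ideal.comap (algebraMap B B̂)) h
    rwa [Ideal.comap_map_eq_self_of_faithfullyFlat, Ideal.comap_map_eq_self_of_faithfullyFlat] at h1
  · intro h
    rw [h]

section Residue

variable [IsLocalHom (algebraMap (AdicCompletion (maximalIdeal A) A)
  (AdicCompletion (maximalIdeal B) B))]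

theorem eRes_compat :
    (algebraMap (ResidueField Â) (ResidueField B̂)).comp (eRes A : ResidueField A →+* ResidueField Â) =
      ((eRes B : ResidueField B →+* ResidueField B̂)).comp
        (algebraMap (ResidueField A) (ResidueField B)) := by
  have h1 : (algebraMap (ResidueField Â) (ResidueField B̂)).comp
      (eRes A : ResidueField A →+* ResidueField Â) =
      ResidueField.map ((algebraMap Â B̂).comp (algebraMap A Â)) :=
    (ResidueField.map_comp _ _).symm
  have h2 : ((eRes B : ResidueField B →+* ResidueField B̂)).comp
        (algebraMap (ResidueField A) (ResidueField B)) =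
      ResidueField.map ((algebraMap B B̂).comp (algebraMap A B)) :=
    (ResidueField.map_comp _ _).symm
  rw [h1, h2]
  congr 1

theorem finite_residue_iff :
    Module.Finite (ResidueField Â) (ResidueField B̂) ↔
      Module.Finite (ResidueField A) (ResidueField B) := by
  constructor
  · intro h
    refine Module.Finite.of_equiv_equiv (eRes A).symm (eRes B).symm ?_
    ext x
    obtain ⟨y, rfl⟩ := (eRes A).surjective x
    have := DFunLike.congr_fun (eRes_compat A B hψ) y
    simp only [RingHom.comp_apply, RingHom.coe_coe] at this ⊢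
    rw [this]
    simp
  · intro h
    exact Module.Finite.of_equiv_equiv (eRes A) (eRes B) (eRes_compat A B hψ)

theorem isSeparable_residue_iff :
    Algebra.IsSeparable (ResidueField Â) (ResidueField B̂) ↔
      Algebra.IsSeparable (ResidueField A) (ResidueField B) :=
  (Algebra.IsSeparable.iff_of_equiv_equiv (eRes A) (eRes B) (eRes_compat A B hψ)).symm

theorem finite_of (hm : (maximalIdeal A).map (algebraMap A B) = maximalIdeal B)
    [Module.Finite (ResidueField A) (ResidueField B)] : Module.Finite Â B̂ := by
  have hm' : (maximalIdeal Â).map (algebraMap Â B̂) = maximalIdeal B̂ :=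
    (map_eq_iff A B hψ).mpr hm
  haveI : Module.Finite (ResidueField Â) (ResidueField B̂) :=
    (finite_residue_iff A B hψ).mpr inferInstance
  haveI : IsHausdorff (maximalIdeal Â) B̂ := by
    constructor
    intro x hx
    have hx' : ∀ n : ℕ, x ≡ 0 [SMOD ((maximalIdeal B̂) ^ n • ⊤ : Submodule B̂ B̂)] := by
      intro n
      have h1 := hx n
      rw [SModEq.zero] at h1 ⊢
      rw [Ideal.smul_top_eq_map, Ideal.map_pow, hm'] at h1
      rw [smul_eq_mul, Ideal.mul_top]
      exact h1
    exact IsHausdorff.haus' (I := maximalIdeal B̂) x hx'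
  apply Groth.Agent.S0544.result Â (maximalIdeal Â) B̂
  let res : B̂ →ₗ[Â] ResidueField B̂ :=
    (IsScalarTower.toAlgHom Â B̂ (ResidueField B̂)).toLinearMap
  have hsurj : Function.Surjective res := IsLocalRing.residue_surjective
  have hker : ((maximalIdeal Â) • ⊤ : Submodule Â B̂) = LinearMap.ker res := by
    rw [Ideal.smul_top_eq_map, hm']
    ext x
    rw [Submodule.restrictScalars_mem, LinearMap.mem_ker]
    exact (IsLocalRing.residue_eq_zero_iff x).symm
  haveI : Module.Finite Â (ResidueField B̂) := Module.Finite.trans (ResidueField Â) (ResidueField B̂)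
  exact Module.Finite.equiv
    ((Submodule.quotEquivOfEq _ _ hker).trans (res.quotKerEquivOfSurjective hsurj)).symm

theorem surjective_of (hm : (maximalIdeal A).map (algebraMap A B) = maximalIdeal B)
    (hk : Function.Surjective (algebraMap (ResidueField A) (ResidueField B))) :
    Function.Surjective (algebraMap Â B̂) := by
  haveI : Module.Finite (ResidueField A) (ResidueField B) :=
    Module.Finite.of_surjective (Algebra.linearMap (ResidueField A) (ResidueField B)) hk
  haveI : Module.Finite Â B̂ := finite_of A B hψ hm
  have hm' : (maximalIdeal Â).map (algebraMap Â B̂) = maximalIdeal B̂ :=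
    (map_eq_iff A B hψ).mpr hm
  have hk' : Function.Surjective (algebraMap (ResidueField Â) (ResidueField B̂)) := by
    intro y
    obtain ⟨z, rfl⟩ := (eRes B).surjective y
    obtain ⟨w, rfl⟩ := hk z
    refine ⟨eRes A w, ?_⟩
    exact DFunLike.congr_fun (eRes_compat A B hψ) w
  have htop : (⊤ : Submodule Â B̂) ≤ LinearMap.range (Algebra.linearMap Â B̂) := by
    apply Submodule.le_of_le_smul_of_le_jacobson_bot (I := maximalIdeal Â) Module.Finite.fg_top
      (IsLocalRing.maximalIdeal_le_jacobson ⊥)
    intro x _
    obtain ⟨r, hr⟩ := hk' (IsLocalRing.residue B̂ x)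
    obtain ⟨a, rfl⟩ := IsLocalRing.residue_surjective r
    have h1 : x - algebraMap Â B̂ a ∈ maximalIdeal B̂ := by
      rw [← IsLocalRing.residue_eq_zero_iff, map_sub, sub_eq_zero, ← hr]
      rfl
    have h2 : x - algebraMap Â B̂ a ∈ ((maximalIdeal Â) • ⊤ : Submodule Â B̂) := by
      rw [Ideal.smul_top_eq_map, hm']
      exact h1
    have h3 : x = algebraMap Â B̂ a + (x - algebraMap Â B̂ a) := by ring
    rw [h3]
    exact Submodule.add_mem_sup ⟨a, rfl⟩ h2
  intro x
  obtain ⟨a, ha⟩ := htop (Submodule.mem_top (x := x))
  exact ⟨a, ha⟩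

end Residue

end Groth.Agent.Lib.Helper68.ComplLocal
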