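import Mathlib
import Groth.Agent.Lib.Helper78.DVRDominate

/-! # A DVR identifying two coprime non-units up to a 1-unit (helper68)

For a Noetherian local UFD `R` and coprime non-units `Δ₁, Δ₂`, the ring `R[Δ₁/Δ₂]` has a maximal
ideal `(𝔪_R, Δ₁/Δ₂ - 1)`; a DVR dominating its localization does the job.
-/

open Polynomial IsLocalRing

universe u

namespace Groth.Agent.Lib.Helper68.CoprimeDVR

section Lemma

variable {R K : Type*} [CommRing R] [IsDomain R] [UniqueFactorizationMonoid R] [Field K]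
  [Algebra R K] [IsFractionRing R K]

/-- If `P(Δ₁/Δ₂) = 0` with `Δ₁, Δ₂` coprime then `Δ₂` divides the leading coefficient. -/
theorem dvd_leadingCoeff (Δ₁ Δ₂ : R) (hΔ₂ : Δ₂ ≠ 0) (hcop : IsRelPrime Δ₁ Δ₂) (P : R[X])
    (hP : aeval (algebraMap R K Δ₁ / algebraMap R K Δ₂) P = 0) : Δ₂ ∣ P.leadingCoeff := by
  have hroot : IsRoot (scaleRoots P Δ₂) Δ₁ := by
    apply isRoot_of_eval₂_map_eq_zero (IsFractionRing.injective R K)
    have := scaleRoots_aeval_eq_zero_of_aeval_mk'_eq_zero (M := nonZeroDivisors R) (S := K)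
      (p := P) (r := Δ₁) (s := ⟨Δ₂, mem_nonZeroDivisors_of_ne_zero hΔ₂⟩)
      (by rw [IsFractionRing.mk'_eq_div]; exact hP)
    exact this
  have h1 : Δ₂ ∣ P.leadingCoeff * Δ₁ ^ P.natDegree := by
    rw [← coeff_scaleRoots_natDegree]
    apply dvd_term_of_isRoot_of_dvd_terms _ hroot
    intro j hj
    by_cases h : j < P.natDegree
    · rw [coeff_scaleRoots]
      refine (dvd_mul_of_dvd_right ?_ _).mul_right _
      exact dvd_pow_self _ (by omega)
    · push_neg at h
      rw [← natDegree_scaleRoots P Δ₂] at *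
      rw [coeff_eq_zero_of_natDegree_lt (lt_of_le_of_ne h hj.symm), zero_mul]
      exact dvd_zero _
  exact (hcop.symm.pow_right).dvd_of_dvd_mul_right h1

/-- If `P(Δ₁/Δ₂) = 0` with `Δ₁, Δ₂` coprime, both in an ideal `I`, then `P(1) ∈ I`. -/
theorem eval_one_mem (Δ₁ Δ₂ : R) (hΔ₂ : Δ₂ ≠ 0) (hcop : IsRelPrime Δ₁ Δ₂) (I : Ideal R)
    (h₁ : Δ₁ ∈ I) (h₂ : Δ₂ ∈ I) :
    ∀ (n : ℕ) (P : R[X]), P.natDegree ≤ n →
      aeval (algebraMap R K Δ₁ / algebraMap R K Δ₂) P = 0 → P.eval 1 ∈ I := by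
  have hΔ₂K : algebraMap R K Δ₂ ≠ 0 := by
    simpa using (IsFractionRing.injective R K).ne hΔ₂
  intro n
  induction n with
  | zero =>
    intro P hn hP
    rw [Polynomial.eq_C_of_natDegree_le_zero hn] at hP ⊢
    simp only [aeval_C] at hP
    have : P.coeff 0 = 0 := by
      apply IsFractionRing.injective R K
      rw [hP, map_zero]
    rw [this]; simp
  | succ n ih =>
    intro P hn hP
    by_cases hdeg : P.natDegree ≤ n
    · exact ih P hdeg hP
    have hdeg' : P.natDegree = n + 1 := by omega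
    obtain ⟨c, hc⟩ := dvd_leadingCoeff (K := K) Δ₁ Δ₂ hΔ₂ hcop P hP
    -- the reduced polynomial
    have hsplit := P.eraseLead_add_C_mul_X_pow
    rw [hdeg', hc] at hsplit
    have hQdeg : (P.eraseLead + C (c * Δ₁) * X ^ n).natDegree ≤ n := by
      refine (natDegree_add_le _ _).trans (max_le ?_ (natDegree_C_mul_X_pow_le _ _))
      have := P.eraseLead_natDegree_le
      omega
    have hQ : aeval (algebraMap R K Δ₁ / algebraMap R K Δ₂) (P.eraseLead + C (c * Δ₁) * X ^ n)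
        = 0 := by
      have h3 : aeval (algebraMap R K Δ₁ / algebraMap R K Δ₂) P.eraseLead =
          - (algebraMap R K (Δ₂ * c) *
            (algebraMap R K Δ₁ / algebraMap R K Δ₂) ^ (n + 1)) := by
        have := congrArg (aeval (algebraMap R K Δ₁ / algebraMap R K Δ₂)) hsplit
        rw [hP, map_add, map_mul, aeval_C, map_pow, aeval_X] at this
        exact eq_neg_of_add_eq_zero_left this
      rw [map_add, h3]
      simp only [map_mul, aeval_C, map_pow, aeval_X]
      have hb : algebraMap R K Δ₂ * (algebraMap R K Δ₁ / algebraMap R K Δ₂) = algebraMap R K Δ₁ :=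
        mul_div_cancel₀ _ hΔ₂K
      rw [pow_succ]
      linear_combination (-(algebraMap R K c *
        (algebraMap R K Δ₁ / algebraMap R K Δ₂) ^ n)) * hb
    have h4 := ih _ hQdeg hQ
    have h5 : P.eval 1 = (P.eraseLead + C (c * Δ₁) * X ^ n).eval 1 + c * (Δ₂ - Δ₁) := by
      conv_lhs => rw [← hsplit]
      simp only [eval_add, eval_mul, eval_C, eval_pow, eval_X, one_pow, mul_one]
      ring
    rw [h5]
    exact I.add_mem h4 (I.mul_mem_left _ (I.sub_mem h₂ h₁))

end Lemma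

end Groth.Agent.Lib.Helper68.CoprimeDVR

namespace Groth.Agent.Lib.Helper68.CoprimeDVR

/-- A Noetherian local domain which is not a field maps injectively and locally to a DVR. -/
theorem exists_dvr_of_local (B : Type u) [CommRing B] [IsDomain B] [IsNoetherianRing B]
    [IsLocalRing B] (hnf : ¬ IsField B) :
    ∃ (A : Type u) (_ : CommRing A) (_ : IsDomain A) (_ : IsDiscreteValuationRing A)
      (g : B →+* A), Function.Injective g ∧ ∀ b ∈ IsLocalRing.maximalIdeal B,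
        g b ∈ IsLocalRing.maximalIdeal A := by
  classical
  obtain ⟨V, hV, hmem, hlt⟩ := Groth.Agent.Lib.Helper78.exists_dvr_dominating
    B hnf (FractionRing B) (FractionRing B) (IntermediateField.fg_top _ _)
  let g : B →+* V := (algebraMap B (FractionRing B)).codRestrict V.toSubring hmem
  have hg : Function.Injective g := by
    intro x y hxy
    apply IsFractionRing.injective B (FractionRing B)
    exact congrArg Subtype.val hxy
  refine ⟨V, inferInstance, inferInstance, hV, g, hg, ?_⟩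
  intro b hb
  rw [ValuationSubring.valuation_lt_one_iff]
  exact hlt _ hb

/-- A Noetherian domain with a nonzero prime `𝔮` admits an injective map to a DVR `A` under which
`𝔮` goes into the maximal ideal and the complement of `𝔮` to units. -/
theorem exists_dvr_of_prime (B₀ : Type u) [CommRing B₀] [IsDomain B₀] [IsNoetherianRing B₀]
    (𝔮 : Ideal B₀) [𝔮.IsPrime] (h𝔮 : 𝔮 ≠ ⊥) :
    ∃ (A : Type u) (_ : CommRing A) (_ : IsDomain A) (_ : IsDiscreteValuationRing A)
      (h : B₀ →+* A), Function.Injective h ∧ (∀ b ∈ 𝔮, h b ∈ IsLocalRing.maximalIdeal A) ∧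
        ∀ b, b ∉ 𝔮 → IsUnit (h b) := by
  classical
  have hinj₀ : Function.Injective (algebraMap B₀ (Localization.AtPrime 𝔮)) :=
    IsLocalization.injective _ 𝔮.primeCompl_le_nonZeroDivisors
  haveI : IsNoetherianRing (Localization.AtPrime 𝔮) :=
    IsLocalization.isNoetherianRing 𝔮.primeCompl _ inferInstance
  have hnf : ¬ IsField (Localization.AtPrime 𝔮) := by
    rw [IsLocalRing.isField_iff_maximalIdeal_eq]
    intro hbot
    obtain ⟨b, hb, hb0⟩ := Submodule.exists_mem_ne_zero_of_ne_bot h𝔮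
    have h1 : algebraMap B₀ (Localization.AtPrime 𝔮) b ∈
        IsLocalRing.maximalIdeal (Localization.AtPrime 𝔮) :=
      (IsLocalization.AtPrime.to_map_mem_maximal_iff _ 𝔮 b).mpr hb
    rw [hbot, Ideal.mem_bot] at h1
    exact hb0 (hinj₀ (by rw [h1, map_zero]))
  obtain ⟨A, iA, iD, iV, g, hg, hgm⟩ := exists_dvr_of_local (Localization.AtPrime 𝔮) hnf
  refine ⟨A, iA, iD, iV, g.comp (algebraMap B₀ (Localization.AtPrime 𝔮)),
    hg.comp hinj₀, ?_, ?_⟩
  · intro b hb
    exact hgm _ ((IsLocalization.AtPrime.to_map_mem_maximal_iff _ 𝔮 b).mpr hb)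
  · intro b hb
    have : IsUnit (algebraMap B₀ (Localization.AtPrime 𝔮) b) :=
      (IsLocalization.AtPrime.isUnit_to_map_iff _ 𝔮 b).mpr hb
    exact this.map g

/-- For coprime non-units `Δ₁, Δ₂` of a Noetherian local UFD `R` there is a DVR `A` and an injective
local homomorphism `f : R → A` with `f Δ₁ = u * f Δ₂` for a unit `u ≡ 1` modulo the maximal ideal. -/
theorem exists_dvr_coprime (R : Type u) [CommRing R] [IsDomain R] [IsNoetherianRing R]
    [UniqueFactorizationMonoid R] [IsLocalRing R]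
    (Δ₁ Δ₂ : R) (h₁ : ¬ IsUnit Δ₁) (h₂ : ¬ IsUnit Δ₂) (hcop : IsRelPrime Δ₁ Δ₂) :
    ∃ (A : Type u) (_ : CommRing A) (_ : IsDomain A) (_ : IsDiscreteValuationRing A)
      (f : R →+* A), IsLocalHom f ∧ Function.Injective f ∧ ¬ IsUnit (f Δ₁) ∧
        ∃ u : Aˣ, (u : A) - 1 ∈ IsLocalRing.maximalIdeal A ∧ f Δ₁ = (u : A) * f Δ₂ := by
  classical
  have hΔ₂ : Δ₂ ≠ 0 := by
    rintro rfl
    exact h₁ (hcop (dvd_refl _) (dvd_zero _))
  have hm₁ : Δ₁ ∈ maximalIdeal R := h₁
  have hm₂ : Δ₂ ∈ maximalIdeal R := h₂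
  have hΔ₂K : algebraMap R (FractionRing R) Δ₂ ≠ 0 := by
    simpa using (IsFractionRing.injective R (FractionRing R)).ne hΔ₂
  obtain ⟨𝔞, h𝔞⟩ : ∃ 𝔞 : Ideal R[X], 𝔞 = RingHom.ker
      (aeval (algebraMap R (FractionRing R) Δ₁ / algebraMap R (FractionRing R) Δ₂) :
        R[X] →ₐ[R] FractionRing R) := ⟨_, rfl⟩
  have hmem𝔞 : ∀ P : R[X], P ∈ 𝔞 ↔
      aeval (algebraMap R (FractionRing R) Δ₁ / algebraMap R (FractionRing R) Δ₂) P = 0 := by
    intro P; rw [h𝔞, RingHom.mem_ker]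
  haveI h𝔞p : 𝔞.IsPrime := by rw [h𝔞]; exact RingHom.ker_isPrime _
  have hψ₀ : ∀ P ∈ 𝔞, ((residue R).comp (evalRingHom (1 : R))) P = 0 := by
    intro P hP
    have := eval_one_mem (K := FractionRing R) Δ₁ Δ₂ hΔ₂ hcop (maximalIdeal R) hm₁ hm₂
      P.natDegree P le_rfl ((hmem𝔞 P).1 hP)
    simpa [residue_eq_zero_iff] using this
  obtain ⟨ψ, hψ⟩ : ∃ ψ : R[X] ⧸ 𝔞 →+* ResidueField R,
      ∀ P : R[X], ψ (Ideal.Quotient.mk 𝔞 P) = residue R (P.eval 1) :=
    ⟨Ideal.Quotient.lift 𝔞 _ hψ₀, fun P => by simp⟩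
  have hψsurj : Function.Surjective ψ := by
    intro y
    obtain ⟨r, rfl⟩ := residue_surjective y
    exact ⟨Ideal.Quotient.mk 𝔞 (C r), by rw [hψ, eval_C]⟩
  haveI h𝔮 : (RingHom.ker ψ).IsMaximal := RingHom.ker_isMaximal_of_surjective ψ hψsurj
  have hginj : Function.Injective ((Ideal.Quotient.mk 𝔞).comp (C : R →+* R[X])) := by
    rw [injective_iff_map_eq_zero]
    intro a ha
    rw [RingHom.comp_apply, Ideal.Quotient.eq_zero_iff_mem, hmem𝔞, aeval_C] at ha
    exact IsFractionRing.injective R (FractionRing R) (by rw [ha, map_zero])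
  have h𝔮ne : RingHom.ker ψ ≠ ⊥ := by
    intro hbot
    have h1 : (Ideal.Quotient.mk 𝔞).comp (C : R →+* R[X]) Δ₂ ∈ RingHom.ker ψ := by
      rw [RingHom.mem_ker, RingHom.comp_apply, hψ, eval_C, residue_eq_zero_iff]
      exact hm₂
    rw [hbot, Ideal.mem_bot] at h1
    exact hΔ₂ (hginj (by rw [h1, map_zero]))
  obtain ⟨A, iA, iD, iV, h, hinj, hmem, hunit⟩ :=
    exists_dvr_of_prime (R[X] ⧸ 𝔞) (RingHom.ker ψ) h𝔮ne
  have hnonunit : ∀ a : R, ¬ IsUnit a →
      ¬ IsUnit (h ((Ideal.Quotient.mk 𝔞).comp (C : R →+* R[X]) a)) := by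
    intro a ha
    have h1 : (Ideal.Quotient.mk 𝔞).comp (C : R →+* R[X]) a ∈ RingHom.ker ψ := by
      rw [RingHom.mem_ker, RingHom.comp_apply, hψ, eval_C, residue_eq_zero_iff]
      exact ha
    exact (IsLocalRing.mem_maximalIdeal _).1 (hmem _ h1)
  have hτ1 : Ideal.Quotient.mk 𝔞 X - 1 ∈ RingHom.ker ψ := by
    rw [RingHom.mem_ker, map_sub, map_one, hψ, eval_X, map_one, sub_self]
  have hτ : Ideal.Quotient.mk 𝔞 X ∉ RingHom.ker ψ := by
    rw [RingHom.mem_ker, hψ, eval_X, map_one]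
    exact one_ne_zero
  have hrel : (Ideal.Quotient.mk 𝔞) (C Δ₁) =
      (Ideal.Quotient.mk 𝔞) X * (Ideal.Quotient.mk 𝔞) (C Δ₂) := by
    rw [← map_mul, ← sub_eq_zero, ← map_sub, Ideal.Quotient.eq_zero_iff_mem, hmem𝔞, map_sub,
      map_mul, aeval_C, aeval_C, aeval_X, div_mul_cancel₀ _ hΔ₂K, sub_self]
  refine ⟨A, iA, iD, iV, h.comp ((Ideal.Quotient.mk 𝔞).comp (C : R →+* R[X])), ⟨?_⟩,
    hinj.comp hginj, hnonunit Δ₁ h₁, (hunit _ hτ).unit, ?_, ?_⟩
  · intro a ha
    by_contra hna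
    exact hnonunit a hna ha
  · have : ((hunit _ hτ).unit : A) - 1 = h (Ideal.Quotient.mk 𝔞 X - 1) := by
      rw [IsUnit.unit_spec, map_sub, map_one]
    rw [this]
    exact hmem _ hτ1
  · rw [IsUnit.unit_spec, RingHom.comp_apply, RingHom.comp_apply, RingHom.comp_apply,
      RingHom.comp_apply, hrel, map_mul]

end Groth.Agent.Lib.Helper68.CoprimeDVR
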