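import Mathlib
open DividedPowerAlgebra Finset

universe u

namespace Groth.Agent.Lib.Helper68.DPSpan

variable {A M : Type u} [CommRing A] [AddCommGroup M] [Module A M]

/-- Vandermonde trick: if `1, t, …, t^N` have unit differences then `dp a x * dp b y`, `a + b = N`,
is a linear combination of `N`-th divided powers. -/
theorem dp_mul_dp_mem (t : A) (N : ℕ)
    (hunit : ∀ i j, i < j → j ≤ N → IsUnit (t ^ i - t ^ j)) (x y : M) (a b : ℕ) (hab : a + b = N) :
    dp A a x * dp A b y ∈ Submodule.span A (Set.range (dp A N : M → DividedPowerAlgebra A M)) := by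
  classical
  let v : Fin (N + 1) → A := fun k => t ^ (k : ℕ)
  let V := Matrix.vandermonde v
  have hdet : IsUnit V.det := by
    rw [Matrix.det_vandermonde]
    rw [IsUnit.prod_univ_iff]
    intro i
    rw [IsUnit.prod_iff]
    intro j hj
    have hij : i < j := Finset.mem_Ioi.mp hj
    have h1 := hunit i j hij (Nat.lt_succ_iff.mp j.2)
    have h2 : v j - v i = -(t ^ (i : ℕ) - t ^ (j : ℕ)) := by simp [v]
    rw [h2]
    exact h1.neg
  let u : Fin (N + 1) → DividedPowerAlgebra A M := fun i => dp A i x * dp A (N - i) y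
  let w : Fin (N + 1) → DividedPowerAlgebra A M := fun k => dp A N (t ^ (k : ℕ) • x + y)
  have hw : ∀ k, w k = ∑ i : Fin (N + 1), V k i • u i := by
    intro k
    simp only [w, u, V]
    rw [dp_add, Finset.Nat.sum_antidiagonal_eq_sum_range_succ
      (fun i j => dp A i (t ^ (k : ℕ) • x) * dp A j y), Finset.sum_range]
    refine Finset.sum_congr rfl fun i _ => ?_
    rw [dp_smul, Matrix.vandermonde_apply, smul_mul_assoc]
  have hu : ∀ j, u j = ∑ k : Fin (N + 1), (V⁻¹) j k • w k := by
    intro j
    simp only [hw, Finset.smul_sum, smul_smul]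
    rw [Finset.sum_comm]
    simp only [← Finset.sum_smul]
    have hVV : V⁻¹ * V = 1 := Matrix.nonsing_inv_mul V hdet
    have : ∀ i, ∑ k, (V⁻¹) j k * V k i = (1 : Matrix (Fin (N + 1)) (Fin (N + 1)) A) j i := by
      intro i
      rw [← hVV, Matrix.mul_apply]
    simp only [this, Matrix.one_apply, ite_smul, one_smul, zero_smul]
    simp
  have ha : a < N + 1 := by omega
  have hau : dp A a x * dp A b y = u ⟨a, ha⟩ := by
    simp only [u]
    congr 2
    omega
  rw [hau, hu]
  refine Submodule.sum_mem _ fun k _ => Submodule.smul_mem _ _ (Submodule.subset_span ⟨_, rfl⟩)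

end Groth.Agent.Lib.Helper68.DPSpan

namespace Groth.Agent.Lib.Helper68.DPSpan

variable {A M : Type u} [CommRing A] [AddCommGroup M] [Module A M]

theorem prod_dp_mem (t : A) (d : ℕ)
    (hunit : ∀ i j, i < j → j ≤ d → IsUnit (t ^ i - t ^ j)) :
    ∀ (n : ℕ) (k : Fin n → ℕ) (m : Fin n → M), (∑ i, k i) ≤ d →
      (∏ i, dp A (k i) (m i)) ∈
        Submodule.span A (Set.range (dp A (∑ i, k i) : M → DividedPowerAlgebra A M)) := by
  intro n
  induction n with
  | zero =>
    intro k m _
    simp only [Finset.univ_eq_empty, Finset.prod_empty, Finset.sum_empty]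
    exact Submodule.subset_span ⟨0, dp_zero⟩
  | succ n ih =>
    intro k m hk
    rw [Fin.prod_univ_castSucc, Fin.sum_univ_castSucc]
    rw [Fin.sum_univ_castSucc] at hk
    have hk' : (∑ i : Fin n, k (Fin.castSucc i)) ≤ d := le_trans (Nat.le_add_right _ _) hk
    have h1 := ih (fun i => k (Fin.castSucc i)) (fun i => m (Fin.castSucc i)) hk'
    set a := ∑ i : Fin n, k (Fin.castSucc i) with ha
    set b := k (Fin.last n) with hb
    have hunit' : ∀ i j, i < j → j ≤ a + b → IsUnit (t ^ i - t ^ j) :=
      fun i j hij hj => hunit i j hij (le_trans hj hk)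
    generalize (∏ i : Fin n, dp A (k (Fin.castSucc i)) (m (Fin.castSucc i))) = z₀ at h1 ⊢
    induction h1 using Submodule.span_induction with
    | mem z hz =>
      obtain ⟨x, rfl⟩ := hz
      exact dp_mul_dp_mem t (a + b) hunit' x (m (Fin.last n)) a b rfl
    | zero => rw [zero_mul]; exact Submodule.zero_mem _
    | add z z' _ _ hz hz' => rw [add_mul]; exact Submodule.add_mem _ hz hz'
    | smul r z _ hz => rw [smul_mul_assoc]; exact Submodule.smul_mem _ r hz

end Groth.Agent.Lib.Helper68.DPSpan
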