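import Mathlib

open MvPolynomial

namespace Groth.Agent.Lib.Helper68.DVRLift

variable {A B : Type*} [CommRing A] [IsDomain A] [IsDiscreteValuationRing A] [CommRing B]
  [Algebra A B] [Module.Flat A B] {σ : Type*} (b : σ → B)

/-- If an `A`-algebra map `A[T] → B` to a flat algebra over a DVR has the property that only
polynomials with all coefficients in the maximal ideal are mapped to zero, it is injective. -/
theorem aeval_injective_of_reduction
    (h : ∀ P : MvPolynomial σ A, MvPolynomial.aeval b P = 0 →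
      ∀ m, P.coeff m ∈ IsLocalRing.maximalIdeal A) :
    Function.Injective (MvPolynomial.aeval b : MvPolynomial σ A →ₐ[A] B) := by
  obtain ⟨ϖ, hϖ⟩ := IsDiscreteValuationRing.exists_irreducible A
  have hmax : IsLocalRing.maximalIdeal A = Ideal.span {ϖ} := hϖ.maximalIdeal_eq
  have hreg : IsSMulRegular B ϖ :=
    Module.Flat.isSMulRegular_of_nonZeroDivisors (mem_nonZeroDivisors_of_ne_zero hϖ.ne_zero)
  -- every element of the kernel is `ϖ` times an element of the kernel
  have hstep : ∀ P : MvPolynomial σ A, MvPolynomial.aeval b P = 0 →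
      ∃ P' : MvPolynomial σ A, P = C ϖ * P' ∧ MvPolynomial.aeval b P' = 0 := by
    intro P hP
    have hP' : P ∈ Ideal.map (C : A →+* MvPolynomial σ A) (Ideal.span {ϖ}) := by
      rw [MvPolynomial.mem_map_C_iff]
      intro m
      rw [← hmax]
      exact h P hP m
    rw [Ideal.map_span, Set.image_singleton, Ideal.mem_span_singleton] at hP'
    obtain ⟨P', rfl⟩ := hP'
    refine ⟨P', rfl, ?_⟩
    rw [map_mul, MvPolynomial.aeval_C, ← Algebra.smul_def] at hP
    exact hreg (by simp only [hP, smul_zero])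
  have hpow : ∀ n : ℕ, ∀ P : MvPolynomial σ A, MvPolynomial.aeval b P = 0 →
      ∀ m, ϖ ^ n ∣ P.coeff m := by
    intro n
    induction n with
    | zero => intro P _ m; simp
    | succ n ih =>
      intro P hP m
      obtain ⟨P', rfl, hP'⟩ := hstep P hP
      rw [MvPolynomial.coeff_C_mul, pow_succ']
      exact mul_dvd_mul_left _ (ih P' hP' m)
  rw [injective_iff_map_eq_zero]
  intro P hP
  ext m
  rw [MvPolynomial.coeff_zero]
  by_contra hne
  obtain ⟨n, u, hu⟩ := IsDiscreteValuationRing.eq_unit_mul_pow_irreducible hne hϖ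
  have hd := hpow (n + 1) P hP m
  rw [hu, pow_succ] at hd
  have : ϖ ∣ (u : A) := by
    have h2 : ϖ ^ n * ϖ ∣ ϖ ^ n * u := by rwa [mul_comm (ϖ ^ n) (u : A)]
    exact (mul_dvd_mul_iff_left (pow_ne_zero n hϖ.ne_zero)).mp h2
  exact hϖ.not_isUnit (isUnit_of_dvd_unit this u.isUnit)

end Groth.Agent.Lib.Helper68.DVRLift
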