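import Mathlib

open WithZero IsDedekindDomain IsDedekindDomain.HeightOneSpectrum

universe u

namespace Groth.Agent.Lib.Helper68.DVRpBasis

variable (p : ℕ) [hp : Fact p.Prime] {R : Type u} [CommRing R] [IsDomain R]
  [IsDiscreteValuationRing R]

/-- The valuation on the fraction field. -/
noncomputable abbrev V : Valuation (FractionRing R) ℤᵐ⁰ :=
  (IsDiscreteValuationRing.maximalIdeal R).valuation (FractionRing R)

variable {p}

theorem V_uniformizer {π : R} (hπ : Irreducible π) :
    V (R := R) (algebraMap R (FractionRing R) π) = exp (-1 : ℤ) := by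
  rw [V, valuation_of_algebraMap]
  apply intValuation_singleton _ hπ.ne_zero
  exact hπ.maximalIdeal_eq

theorem V_term {π : R} (hπ : Irreducible π) (i : ℕ) (y : FractionRing R) (hy : y ≠ 0) :
    V (R := R) (algebraMap R (FractionRing R) π ^ i * y ^ p) =
      exp (-(i : ℤ) + (p : ℤ) * log (V (R := R) y)) := by
  have hVy : V (R := R) y ≠ 0 := (Valuation.ne_zero_iff _).mpr hy
  rw [map_mul, map_pow, map_pow, V_uniformizer hπ, exp_add, ← exp_nsmul, ← exp_log hVy,
    ← exp_nsmul, log_exp]
  simp [mul_comm]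

theorem V_term_ne_zero {π : R} (hπ : Irreducible π) (i : ℕ) (y : FractionRing R) (hy : y ≠ 0) :
    V (R := R) (algebraMap R (FractionRing R) π ^ i * y ^ p) ≠ 0 := by
  rw [V_term hπ i y hy]
  exact exp_ne_zero

theorem V_term_inj {π : R} (hπ : Irreducible π) {i j : ℕ} (hi : i < p) (hj : j < p)
    {y y' : FractionRing R} (hy : y ≠ 0) (hy' : y' ≠ 0)
    (h : V (R := R) (algebraMap R (FractionRing R) π ^ i * y ^ p) =
      V (R := R) (algebraMap R (FractionRing R) π ^ j * y' ^ p)) : i = j := by
  rw [V_term hπ i y hy, V_term hπ j y' hy', exp_inj] at h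
  have h1 : ((i : ℤ) - j) = (p : ℤ) * (log (V (R := R) y) - log (V (R := R) y')) := by linarith
  have h2 : (p : ℤ) ∣ (i : ℤ) - j := ⟨_, h1⟩
  have h3 : (i : ℤ) % p = (j : ℤ) % p := Int.emod_eq_emod_iff_emod_sub_eq_zero.mpr
    (Int.emod_eq_zero_of_dvd h2)
  have hi' : (i : ℤ) % p = i := Int.emod_eq_of_lt (by positivity) (by exact_mod_cast hi)
  have hj' : (j : ℤ) % p = j := Int.emod_eq_of_lt (by positivity) (by exact_mod_cast hj)
  rw [hi', hj'] at h3
  exact_mod_cast h3

/-- Key ultrametric estimate: each term is bounded by the sum. -/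
theorem V_term_le_sum {π : R} (hπ : Irreducible π) (y : Fin p → FractionRing R) (i : Fin p) :
    V (R := R) (algebraMap R (FractionRing R) π ^ (i : ℕ) * y i ^ p) ≤
      V (R := R) (∑ j : Fin p, algebraMap R (FractionRing R) π ^ (j : ℕ) * y j ^ p) := by
  classical
  have : Nonempty (Fin p) := ⟨⟨0, hp.out.pos⟩⟩
  obtain ⟨j, -, hj⟩ := Finset.exists_max_image Finset.univ
    (fun j : Fin p => V (R := R) (algebraMap R (FractionRing R) π ^ (j : ℕ) * y j ^ p))
    Finset.univ_nonempty
  by_cases hj0 : V (R := R) (algebraMap R (FractionRing R) π ^ (j : ℕ) * y j ^ p) = 0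
  · calc V (R := R) (algebraMap R (FractionRing R) π ^ (i : ℕ) * y i ^ p)
        ≤ V (R := R) (algebraMap R (FractionRing R) π ^ (j : ℕ) * y j ^ p) :=
          hj i (Finset.mem_univ i)
      _ = 0 := hj0
      _ ≤ _ := zero_le
  have hyj : y j ≠ 0 := by
    intro h
    apply hj0
    rw [h, zero_pow hp.out.ne_zero, mul_zero, map_zero]
  have hsum : V (R := R) (∑ j : Fin p, algebraMap R (FractionRing R) π ^ (j : ℕ) * y j ^ p) =
      V (R := R) (algebraMap R (FractionRing R) π ^ (j : ℕ) * y j ^ p) := by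
    apply Valuation.map_sum_eq_of_lt _ (Finset.mem_univ j)
    intro k hk
    have hkj : k ≠ j := by simpa using hk
    have hle := hj k (Finset.mem_univ k)
    refine lt_of_le_of_ne hle ?_
    intro heq
    by_cases hyk : y k = 0
    · rw [hyk, zero_pow hp.out.ne_zero, mul_zero, map_zero] at heq
      exact V_term_ne_zero hπ j (y j) hyj heq.symm
    · exact hkj (Fin.ext (V_term_inj hπ k.2 j.2 hyk hyj heq))
  rw [hsum]
  exact hj i (Finset.mem_univ i)


theorem term_eq_zero_of_sum_eq_zero {π : R} (hπ : Irreducible π) (y : Fin p → FractionRing R)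
    (h : ∑ j : Fin p, algebraMap R (FractionRing R) π ^ (j : ℕ) * y j ^ p = 0) (i : Fin p) :
    y i = 0 := by
  have h1 := V_term_le_sum hπ y i
  rw [h, map_zero] at h1
  have h2 : V (R := R) (algebraMap R (FractionRing R) π ^ (i : ℕ) * y i ^ p) = 0 :=
    le_antisymm h1 zero_le
  by_contra hne
  exact V_term_ne_zero hπ i (y i) hne h2

variable [CharP R p]

theorem unique_repr {π : R} (hπ : Irreducible π) (c c' : Fin p → R)
    (h : ∑ i : Fin p, π ^ (i : ℕ) * c i ^ p = ∑ i : Fin p, π ^ (i : ℕ) * c' i ^ p) : c = c' := by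
  funext i
  have h1 : ∑ i : Fin p, π ^ (i : ℕ) * (c i - c' i) ^ p = 0 := by
    simp only [sub_pow_char, mul_sub, Finset.sum_sub_distrib]
    rw [h, sub_self]
  have h2 := congrArg (algebraMap R (FractionRing R)) h1
  simp only [map_sum, map_mul, map_pow, map_zero] at h2
  have h3 := term_eq_zero_of_sum_eq_zero hπ (fun i => algebraMap R (FractionRing R) (c i - c' i)) h2 i
  have h4 : c i - c' i = 0 := by
    apply IsFractionRing.injective R (FractionRing R)
    simpa using h3
  exact sub_eq_zero.mp h4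

theorem exists_repr (kp : Subfield (FractionRing R))
    (hkp : ∀ x : FractionRing R, x ∈ kp ↔ ∃ y : FractionRing R, y ^ p = x)
    (hdeg : Module.finrank kp (FractionRing R) = p) {π : R} (hπ : Irreducible π) (r : R) :
    ∃ c : Fin p → R, r = ∑ i : Fin p, π ^ (i : ℕ) * c i ^ p := by
  classical
  set ϖ := algebraMap R (FractionRing R) π with hϖ
  have hli : LinearIndependent kp (fun i : Fin p => ϖ ^ (i : ℕ)) := by
    rw [Fintype.linearIndependent_iff]
    intro g hg i
    choose y hy using fun j => (hkp (g j)).mp (g j).2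
    have h1 : ∑ j : Fin p, ϖ ^ (j : ℕ) * y j ^ p = 0 := by
      rw [← hg]
      refine Finset.sum_congr rfl fun j _ => ?_
      rw [hy j, Subfield.smul_def, smul_eq_mul, mul_comm]
    have h2 := term_eq_zero_of_sum_eq_zero hπ y h1 i
    apply Subtype.ext
    rw [← hy i, h2, zero_pow hp.out.ne_zero]
    rfl
  have hfin : Module.Finite kp (FractionRing R) :=
    Module.finite_of_finrank_pos (by rw [hdeg]; exact hp.out.pos)
  have hspan : Submodule.span kp (Set.range fun i : Fin p => ϖ ^ (i : ℕ)) = ⊤ :=
    hli.span_eq_top_of_card_eq_finrank' (by rw [hdeg, Fintype.card_fin])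
  have hr : algebraMap R (FractionRing R) r ∈
      Submodule.span kp (Set.range fun i : Fin p => ϖ ^ (i : ℕ)) := by rw [hspan]; trivial
  obtain ⟨g, hg⟩ := (Submodule.mem_span_range_iff_exists_fun kp).mp hr
  choose y hy using fun j => (hkp (g j)).mp (g j).2
  have h1 : ∑ j : Fin p, ϖ ^ (j : ℕ) * y j ^ p = algebraMap R (FractionRing R) r := by
    rw [← hg]
    refine Finset.sum_congr rfl fun j _ => ?_
    rw [hy j, Subfield.smul_def, smul_eq_mul, mul_comm]
  -- each `y j` is integral
  have hyint : ∀ j, ∃ c : R, algebraMap R (FractionRing R) c = y j := by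
    intro j
    apply IsDiscreteValuationRing.exists_lift_of_le_one
    by_cases hyj : y j = 0
    · rw [hyj, map_zero]; exact zero_le
    have h2 := V_term_le_sum hπ y j
    rw [h1] at h2
    have h3 : V (R := R) (algebraMap R (FractionRing R) r) ≤ 1 := valuation_le_one _ r
    have h4 := le_trans h2 h3
    rw [V_term hπ j (y j) hyj, ← exp_zero, exp_le_exp] at h4
    have hVy : V (R := R) (y j) ≠ 0 := (Valuation.ne_zero_iff _).mpr hyj
    change V (R := R) (y j) ≤ 1
    rw [← exp_log hVy, ← exp_zero, exp_le_exp]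
    have hj : ((j : ℕ) : ℤ) < p := by exact_mod_cast j.2
    by_contra hcon
    push Not at hcon
    have : (p : ℤ) * 1 ≤ (p : ℤ) * log (V (R := R) (y j)) :=
      mul_le_mul_of_nonneg_left hcon (by positivity)
    linarith
  choose c hc using hyint
  refine ⟨c, ?_⟩
  apply IsFractionRing.injective R (FractionRing R)
  rw [← h1]
  simp only [map_sum, map_mul, map_pow, hc]
  rfl


section Derivation

variable (kp : Subfield (FractionRing R))
    (hkp : ∀ x : FractionRing R, x ∈ kp ↔ ∃ y : FractionRing R, y ^ p = x)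
    (hdeg : Module.finrank kp (FractionRing R) = p) {π : R} (hπ : Irreducible π)

/-- The coefficients `c_i` of `r = ∑ π^i c_i^p`. -/
noncomputable def coeffs (r : R) : Fin p → R := (exists_repr kp hkp hdeg hπ r).choose

theorem coeffs_spec (r : R) :
    r = ∑ i : Fin p, π ^ (i : ℕ) * coeffs kp hkp hdeg hπ r i ^ p :=
  (exists_repr kp hkp hdeg hπ r).choose_spec

theorem coeffs_eq (r : R) (c : Fin p → R) (h : r = ∑ i : Fin p, π ^ (i : ℕ) * c i ^ p) :
    coeffs kp hkp hdeg hπ r = c :=
  unique_repr hπ _ _ (by rw [← coeffs_spec, h])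

theorem coeffs_add (r r' : R) :
    coeffs kp hkp hdeg hπ (r + r') = coeffs kp hkp hdeg hπ r + coeffs kp hkp hdeg hπ r' := by
  apply coeffs_eq
  conv_lhs => rw [coeffs_spec kp hkp hdeg hπ r, coeffs_spec kp hkp hdeg hπ r']
  rw [← Finset.sum_add_distrib]
  refine Finset.sum_congr rfl fun i _ => ?_
  rw [Pi.add_apply, add_pow_char, mul_add]

theorem coeffs_term (k : ℕ) (c : R) :
    coeffs kp hkp hdeg hπ (π ^ k * c ^ p) =
      Pi.single (⟨k % p, Nat.mod_lt _ hp.out.pos⟩ : Fin p) (π ^ (k / p) * c) := by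
  classical
  apply coeffs_eq
  rw [Finset.sum_eq_single (⟨k % p, Nat.mod_lt _ hp.out.pos⟩ : Fin p)]
  · rw [Pi.single_eq_same, mul_pow, ← pow_mul, ← mul_assoc, ← pow_add]
    congr 2
    simp only
    rw [mul_comm (k / p) p]
    exact (Nat.mod_add_div k p).symm
  · intro i _ hi
    rw [Pi.single_eq_of_ne hi, zero_pow hp.out.ne_zero, mul_zero]
  · intro h
    exact absurd (Finset.mem_univ _) h

/-- `d/dπ (π^k)`. -/
noncomputable def dpow (π : R) (k : ℕ) : R :=
  (Polynomial.derivative (Polynomial.X ^ k : Polynomial R)).eval π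

omit [IsDomain R] [IsDiscreteValuationRing R] [CharP R p] hp in
theorem dpow_eq (π : R) (k : ℕ) : dpow π k = (k : R) * π ^ (k - 1) := by
  simp [dpow, Polynomial.derivative_X_pow]

omit [IsDomain R] [IsDiscreteValuationRing R] [CharP R p] hp in
theorem dpow_add (π : R) (i j : ℕ) : dpow π (i + j) = π ^ i * dpow π j + dpow π i * π ^ j := by
  simp only [dpow, pow_add, Polynomial.derivative_mul, Polynomial.eval_add, Polynomial.eval_mul,
    Polynomial.eval_pow, Polynomial.eval_X]
  ring

omit [IsDomain R] [IsDiscreteValuationRing R] hp in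
theorem dpow_mod (π : R) (k : ℕ) : dpow π k = dpow π (k % p) * π ^ (p * (k / p)) := by
  conv_lhs => rw [← Nat.mod_add_div k p]
  rw [dpow_add, dpow_eq π (p * (k / p))]
  have : ((p * (k / p) : ℕ) : R) = 0 := by
    rw [Nat.cast_mul, CharP.cast_eq_zero, zero_mul]
  rw [this, zero_mul, mul_zero, zero_add]

/-- The derivation `d/dπ`. -/
noncomputable def partialFun (r : R) : R :=
  ∑ i : Fin p, dpow π (i : ℕ) * coeffs kp hkp hdeg hπ r i ^ p

theorem partialFun_add (r r' : R) :
    partialFun kp hkp hdeg hπ (r + r') =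
      partialFun kp hkp hdeg hπ r + partialFun kp hkp hdeg hπ r' := by
  simp only [partialFun, coeffs_add, Pi.add_apply, add_pow_char, mul_add,
    Finset.sum_add_distrib]

theorem partialFun_term (k : ℕ) (c : R) :
    partialFun kp hkp hdeg hπ (π ^ k * c ^ p) = dpow π k * c ^ p := by
  classical
  rw [partialFun, coeffs_term, Finset.sum_eq_single (⟨k % p, Nat.mod_lt _ hp.out.pos⟩ : Fin p)]
  · rw [Pi.single_eq_same, dpow_mod (p := p) π k, mul_pow, ← pow_mul]
    simp only
    ring
  · intro i _ hi
    rw [Pi.single_eq_of_ne hi, zero_pow hp.out.ne_zero, mul_zero]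
  · intro h
    exact absurd (Finset.mem_univ _) h

/-- `partialFun` as an additive map. -/
noncomputable def partialHom : R →+ R where
  toFun := partialFun kp hkp hdeg hπ
  map_zero' := by
    have := partialFun_add kp hkp hdeg hπ 0 0
    rw [add_zero] at this
    exact left_eq_add.mp this
  map_add' := partialFun_add kp hkp hdeg hπ

theorem partialHom_mul (r r' : R) :
    partialHom kp hkp hdeg hπ (r * r') =
      r * partialHom kp hkp hdeg hπ r' + r' * partialHom kp hkp hdeg hπ r := by
  have hterm : ∀ (k : ℕ) (c : R), partialHom kp hkp hdeg hπ (π ^ k * c ^ p) = dpow π k * c ^ p :=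
    partialFun_term kp hkp hdeg hπ
  set a := coeffs kp hkp hdeg hπ r with ha
  set b := coeffs kp hkp hdeg hπ r' with hb
  have hr := coeffs_spec kp hkp hdeg hπ r
  have hr' := coeffs_spec kp hkp hdeg hπ r'
  have h1 : partialHom kp hkp hdeg hπ r = ∑ i : Fin p, dpow π (i : ℕ) * a i ^ p := rfl
  have h2 : partialHom kp hkp hdeg hπ r' = ∑ j : Fin p, dpow π (j : ℕ) * b j ^ p := rfl
  have h3 : r * r' = ∑ i : Fin p, ∑ j : Fin p, π ^ ((i : ℕ) + (j : ℕ)) * (a i * b j) ^ p := by
    conv_lhs => rw [hr, hr', Finset.sum_mul_sum]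
    refine Finset.sum_congr rfl fun i _ => Finset.sum_congr rfl fun j _ => ?_
    rw [pow_add, mul_pow]
    ring
  rw [h3, map_sum]
  simp only [map_sum, hterm, dpow_add, add_mul, Finset.sum_add_distrib]
  rw [h1, h2]
  congr 1
  · conv_rhs => rw [hr, Finset.sum_mul_sum]
    refine Finset.sum_congr rfl fun i _ => Finset.sum_congr rfl fun j _ => ?_
    rw [mul_pow]
    ring
  · conv_rhs => rw [hr', Finset.sum_mul_sum]
    rw [Finset.sum_comm]
    refine Finset.sum_congr rfl fun j _ => Finset.sum_congr rfl fun i _ => ?_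
    rw [mul_pow]
    ring


/-- The derivation `∂/∂π` of `R`. -/
noncomputable def partialDer : Derivation ℤ R R :=
  Derivation.mk' (partialHom kp hkp hdeg hπ).toIntLinearMap (fun a b => by
    simp only [AddMonoidHom.coe_toIntLinearMap, smul_eq_mul]
    exact partialHom_mul kp hkp hdeg hπ a b)

theorem partialDer_pi : partialDer kp hkp hdeg hπ π = 1 := by
  have h := partialFun_term kp hkp hdeg hπ 1 1
  rw [pow_one, one_pow, mul_one, mul_one, dpow_eq] at h
  change partialFun kp hkp hdeg hπ π = 1
  simpa using h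

include kp hkp hdeg hπ in
theorem bijective_smul_D :
    Function.Bijective (fun r : R => r • KaehlerDifferential.D ℤ R π) := by
  constructor
  · intro r r' h
    have h1 := congrArg (partialDer kp hkp hdeg hπ).liftKaehlerDifferential h
    simp only [map_smul, Derivation.liftKaehlerDifferential_comp_D, partialDer_pi, smul_eq_mul,
      mul_one] at h1
    exact h1
  · intro ω
    have hD0 : ∀ c : R, KaehlerDifferential.D ℤ R (c ^ p) = 0 := by
      intro c
      rw [Derivation.leibniz_pow]
      have : (p : R) = 0 := CharP.cast_eq_zero R p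
      rw [← Nat.cast_smul_eq_nsmul R, this, zero_smul]
    have hrange : Set.range (KaehlerDifferential.D ℤ R) ⊆
        (Submodule.span R {KaehlerDifferential.D ℤ R π} : Set (Ω[R⁄ℤ])) := by
      rintro _ ⟨r, rfl⟩
      rw [coeffs_spec kp hkp hdeg hπ r, map_sum]
      refine Submodule.sum_mem _ fun i _ => ?_
      rw [Derivation.leibniz, hD0, smul_zero, zero_add, Derivation.leibniz_pow]
      refine Submodule.smul_mem _ _ ?_
      rw [← Nat.cast_smul_eq_nsmul R]
      refine Submodule.smul_mem _ _ (Submodule.smul_mem _ _ ?_)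
      exact Submodule.mem_span_singleton_self _
    have hω : ω ∈ Submodule.span R {KaehlerDifferential.D ℤ R π} := by
      have h1 : ω ∈ Submodule.span R (Set.range (KaehlerDifferential.D ℤ R)) := by
        rw [KaehlerDifferential.span_range_derivation]; trivial
      have h2 : Submodule.span R (Set.range (KaehlerDifferential.D ℤ R)) ≤
          Submodule.span R {KaehlerDifferential.D ℤ R π} := Submodule.span_le.mpr hrange
      exact h2 h1
    obtain ⟨r, hr⟩ := Submodule.mem_span_singleton.mp hω
    exact ⟨r, hr⟩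

end Derivation

end Groth.Agent.Lib.Helper68.DVRpBasis
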