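import Mathlib
import Groth.Agent.Lib.Helper24.SmoothNormal

/-!
# Étale algebras over integrally closed domains mapping to a field (helper68)

`core`: `S` étale over an integrally closed domain `R` (fraction field `K'`), mapping to a field
`L₁` generated (as a field) by elements of the form `s · k`; then the image of `S` in `L₁` contains
every element integral over `R`, and the kernel of `S → L₁` is generated by an idempotent.
-/

set_option autoImplicit false
universe u
open TensorProduct Polynomial

namespace Groth.Agent.Lib.Helper68.EtaleCompositum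

/-- Core lemma: `S` étale over an integrally closed domain `R` with fraction field `K'`, mapping to
a field `L₁` (an `R`-algebra extension of `K'`) such that every element of `L₁` is `s · k`.
Then the image of `S` in `L₁` is integrally closed in `L₁` and the kernel of `S → L₁` is generated
by an idempotent. -/
theorem core (R S K' L₁ : Type u) [CommRing R] [IsDomain R] [IsIntegrallyClosed R]
    [CommRing S] [Algebra R S] [Algebra.Etale R S]
    [Field K'] [Algebra R K'] [IsFractionRing R K']
    [Field L₁] [Algebra R L₁] [Algebra S L₁] [Algebra K' L₁] [IsScalarTower R S L₁]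
    [IsScalarTower R K' L₁]
    (G : Set L₁) (hG : Subfield.closure G = ⊤)
    (hGmem : ∀ x ∈ G, ∃ (s : S) (k : K'), x = algebraMap S L₁ s * algebraMap K' L₁ k) :
    (∀ x : L₁, IsIntegral R x → x ∈ (algebraMap S L₁).range) ∧
      ∃ e₁ : S, IsIdempotentElem e₁ ∧ RingHom.ker (algebraMap S L₁) = Ideal.span {1 - e₁} := by
  let T := S ⊗[R] K'
  let T' := K' ⊗[R] S
  let e : T' ≃ₐ[R] T := Algebra.TensorProduct.comm R K' S
  have : Module.Finite K' T' := Algebra.FormallyUnramified.finite_of_free K' T'
  have : IsArtinianRing T' := IsArtinianRing.of_finite K' T'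
  have : IsReduced T' := Algebra.FormallyUnramified.isReduced_of_field K' T'
  have hart : IsArtinianRing T := (e : T' ≃+* T).surjective.isArtinianRing
  have hred : IsReduced T :=
    isReduced_of_injective (e.symm : T ≃+* T') (e.symm : T ≃+* T').injective
  have hss : IsSemisimpleRing T := IsArtinianRing.isSemisimpleRing_of_isReduced T
  have : Module.Flat R S := Algebra.Smooth.flat R S
  have hinjST : Function.Injective (algebraMap S T) :=
    Algebra.TensorProduct.includeLeft_injective (S := S) (IsFractionRing.injective R K')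
  have hic : integralClosure R K' = ⊥ :=
    (IsIntegrallyClosed.integralClosure_eq_bot_iff K').mpr inferInstance
  -- the map `ψ : T → L₁`
  let ψ : T →ₐ[S] L₁ := Algebra.TensorProduct.lift (Algebra.ofId S L₁)
    (IsScalarTower.toAlgHom R K' L₁) (fun _ _ => Commute.all _ _)
  have hψS : ∀ s : S, ψ (algebraMap S T s) = algebraMap S L₁ s := fun s => by
    rw [AlgHom.commutes]
  have hψtmul : ∀ (s : S) (k : K'), ψ (s ⊗ₜ k) = algebraMap S L₁ s * algebraMap K' L₁ k := by
    intro s k
    show (Algebra.TensorProduct.lift (Algebra.ofId S L₁) (IsScalarTower.toAlgHom R K' L₁) _)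
      (s ⊗ₜ[R] k) = _
    rw [Algebra.TensorProduct.lift_tmul]
    rfl
  have hkerprime : (RingHom.ker (ψ : T →+* L₁)).IsPrime := RingHom.ker_isPrime _
  have hkermax : (RingHom.ker (ψ : T →+* L₁)).IsMaximal :=
    IsArtinianRing.isMaximal_of_isPrime _
  let F : Subfield L₁ :=
    { (ψ : T →+* L₁).range with
      inv_mem' := by
        rintro _ ⟨t, rfl⟩
        by_cases ht : (ψ : T →+* L₁) t = 0
        · rw [ht, inv_zero]; exact (ψ : T →+* L₁).range.zero_mem
        · obtain ⟨y, i, hi, hyi⟩ := hkermax.exists_inv (x := t) ht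
          refine ⟨y, ?_⟩
          have h1 : (ψ : T →+* L₁) y * (ψ : T →+* L₁) t = 1 := by
            have := congrArg (ψ : T →+* L₁) hyi
            rwa [map_add, map_mul, (RingHom.mem_ker).mp hi, add_zero, map_one] at this
          exact eq_inv_of_mul_eq_one_left h1 }
  have hF : F = ⊤ := by
    rw [eq_top_iff, ← hG, Subfield.closure_le]
    intro x hx
    obtain ⟨s, k, rfl⟩ := hGmem x hx
    exact ⟨s ⊗ₜ k, hψtmul s k⟩
  have hψsurj : Function.Surjective ψ := by
    intro x
    have : x ∈ F := by rw [hF]; trivial
    exact this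
  obtain ⟨ε, hε, hker⟩ := IsSemisimpleRing.ideal_eq_span_idempotent (RingHom.ker (ψ : T →+* L₁))
  have : Nontrivial S := (algebraMap S L₁).domain_nontrivial
  have hεint : IsIntegral S ε := by
    refine ⟨X ^ 2 - X, monic_X_pow_sub (by rw [degree_X]; norm_num), ?_⟩
    simp [pow_two, hε.eq]
  obtain ⟨e₀, he₀⟩ := Groth.Agent.Lib.Helper24.mem_range_of_isIntegral_tensor_of_smooth R S K' hic ε hεint
  have he₀idem : IsIdempotentElem e₀ := by
    apply hinjST
    rw [map_mul, he₀, hε.eq]
  have hψε : ψ ε = 0 := by
    have : ε ∈ RingHom.ker (ψ : T →+* L₁) := by rw [hker]; exact Ideal.mem_span_singleton_self ε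
    exact this
  have hker' : ∀ t : T, ψ t = 0 → t * (1 - ε) = 0 := by
    intro t ht
    have : t ∈ RingHom.ker (ψ : T →+* L₁) := ht
    rw [hker, Ideal.mem_span_singleton] at this
    obtain ⟨c, rfl⟩ := this
    calc ε * c * (1 - ε) = c * (ε - ε * ε) := by ring
      _ = 0 := by rw [hε.eq, sub_self, mul_zero]
  refine ⟨fun x hx => ?_, 1 - e₀, he₀idem.one_sub, ?_⟩
  · -- integrally closed
    obtain ⟨t, rfl⟩ := hψsurj x
    obtain ⟨P, hPmonic, hP⟩ := hx
    set y := t * (1 - ε) with hy
    have hψy : ψ y = ψ t := by rw [hy, map_mul, map_sub, map_one, hψε, sub_zero, mul_one]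
    have hyint : IsIntegral S y := by
      have h1 : IsIntegral R y := by
        refine ⟨X * P, monic_X.mul hPmonic, ?_⟩
        have h2 : ψ (eval₂ (algebraMap R T) y P) = 0 := by
          rw [← hP]
          have : (ψ : T →+* L₁).comp (algebraMap R T) = algebraMap R L₁ := by
            ext r
            simp [ψ]
          rw [← this, ← hψy]
          exact (Polynomial.hom_eval₂ P (algebraMap R T) (ψ : T →+* L₁) y)
        have h3 := hker' _ h2
        rw [eval₂_mul, eval₂_X]
        calc y * eval₂ (algebraMap R T) y P
            = t * (eval₂ (algebraMap R T) y P * (1 - ε)) := by rw [hy]; ring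
          _ = 0 := by rw [h3, mul_zero]
      exact h1.tower_top
    obtain ⟨s, hs⟩ := Groth.Agent.Lib.Helper24.mem_range_of_isIntegral_tensor_of_smooth R S K' hic y hyint
    exact ⟨s, by rw [← hψS, hs, hψy]⟩
  · -- kernel
    rw [sub_sub_cancel]
    apply le_antisymm
    · intro s hs
      have h1 : ψ (algebraMap S T s) = 0 := by rw [hψS]; exact hs
      have h2 := hker' _ h1
      rw [← he₀, ← map_one (algebraMap S T), ← map_sub, ← map_mul] at h2
      have h3 : s * (1 - e₀) = 0 := hinjST (by rw [h2, map_zero])
      rw [Ideal.mem_span_singleton]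
      exact ⟨s, by linear_combination h3⟩
    · rw [Ideal.span_le, Set.singleton_subset_iff, SetLike.mem_coe, RingHom.mem_ker,
        ← hψS, he₀, hψε]

end Groth.Agent.Lib.Helper68.EtaleCompositum
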