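import Mathlib

/-!
# Kernels commute with colimits that commute with kernels (helper68)

Dual companion of helper19's `CokerColim`.
Namespace `Groth.Agent.Lib.Helper68.KerColim`.
* `isLimitFork`: given a natural transformation `φ : M ⟶ N` of `J`-shaped diagrams with pointwise
  kernels `ι : K ⟶ M` and colimit cocones of `K`, `M`, `N`, if `colim : (J ⥤ 𝒞) ⥤ 𝒞` preserves
  kernels then the induced map on colimits of `ι` is a kernel of the induced map of `φ`.
* `preservesKernel_of_colimit`: if `F` preserves the `J`-shaped colimits involved and the kernels of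
  all `φ.app j`, and `colim` preserves kernels in source and target, then `F` preserves the kernel
  of the induced map on colimits.
-/

set_option autoImplicit false
universe u

open CategoryTheory CategoryTheory.Limits

namespace Groth.Agent.Lib.Helper68.KerColim

section Formal

variable {𝒞 : Type*} [Category 𝒞] [HasZeroMorphisms 𝒞] {J : Type*} [Category J]
  [HasColimitsOfShape J 𝒞]
  [PreservesLimitsOfShape WalkingParallelPair (colim : (J ⥤ 𝒞) ⥤ 𝒞)]
  {K M N : J ⥤ 𝒞} (ι : K ⟶ M) (φ : M ⟶ N)
  (hw : ∀ j, ι.app j ≫ φ.app j = 0)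
  (hker : ∀ j, IsLimit (KernelFork.ofι (ι.app j) (hw j)))
  (cK : Cocone K) (hK : IsColimit cK) (cM : Cocone M) (hM : IsColimit cM)
  (cN : Cocone N) (hN : IsColimit cN)
  (i : cK.pt ⟶ cM.pt) (hi : ∀ j, cK.ι.app j ≫ i = ι.app j ≫ cM.ι.app j)
  (f : cM.pt ⟶ cN.pt) (hf : ∀ j, cM.ι.app j ≫ f = φ.app j ≫ cN.ι.app j)

include hw hK hi hf in
theorem comp_eq_zero : i ≫ f = 0 := by
  apply hK.hom_ext
  intro j
  rw [← Category.assoc, hi, Category.assoc, hf, ← Category.assoc, hw, zero_comp, comp_zero]

include hw in
theorem nat_comp_eq_zero : ι ≫ φ = 0 := by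
  ext j
  exact hw j

/-- the fork of functors is a limit (pointwise) -/
noncomputable def isLimitForkFunctor :
    IsLimit (KernelFork.ofι ι (nat_comp_eq_zero ι φ hw)) := by
  apply evaluationJointlyReflectsLimits
  intro j
  exact (isLimitMapConeForkEquiv' ((evaluation J 𝒞).obj j) (nat_comp_eq_zero ι φ hw)).symm (hker j)

/-- the induced map on colimits of the pointwise kernels is a kernel -/
noncomputable def isLimitFork :
    IsLimit (KernelFork.ofι i (comp_eq_zero ι φ hw cK hK cM cN i hi f hf)) := by
  have h0 := isLimitForkFunctor ι φ hw hker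
  have h1 : IsLimit (KernelFork.ofι (colim.map ι)
      (by rw [← colim.map_comp, nat_comp_eq_zero ι φ hw, Functor.map_zero]) :
        Fork (colim.map φ) 0) :=
    isLimitForkMapOfIsLimit' (colim : (J ⥤ 𝒞) ⥤ 𝒞) (nat_comp_eq_zero ι φ hw) h0
  let eK : colimit K ≅ cK.pt := IsColimit.coconePointUniqueUpToIso (colimit.isColimit K) hK
  let eM : colimit M ≅ cM.pt := IsColimit.coconePointUniqueUpToIso (colimit.isColimit M) hM
  let eN : colimit N ≅ cN.pt := IsColimit.coconePointUniqueUpToIso (colimit.isColimit N) hN
  have eKι : ∀ j, colimit.ι K j ≫ eK.hom = cK.ι.app j := fun j =>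
    IsColimit.comp_coconePointUniqueUpToIso_hom (colimit.isColimit K) hK j
  have eMι : ∀ j, colimit.ι M j ≫ eM.hom = cM.ι.app j := fun j =>
    IsColimit.comp_coconePointUniqueUpToIso_hom (colimit.isColimit M) hM j
  have eNι : ∀ j, colimit.ι N j ≫ eN.hom = cN.ι.app j := fun j =>
    IsColimit.comp_coconePointUniqueUpToIso_hom (colimit.isColimit N) hN j
  refine IsKernel.ofIso (colim.map φ) h1
    (KernelFork.ofι i (comp_eq_zero ι φ hw cK hK cM cN i hi f hf)) eM eN eK ?_ ?_
  · apply colimit.hom_ext
    intro j
    have h2 : colimit.ι M j ≫ colim.map φ = φ.app j ≫ colimit.ι N j := by simp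
    rw [← Category.assoc, eMι, hf, ← Category.assoc, h2, Category.assoc, eNι]
  · apply colimit.hom_ext
    intro j
    have h2 : colimit.ι K j ≫ colim.map ι = ι.app j ≫ colimit.ι M j := by simp
    show colimit.ι K j ≫ eK.hom ≫ i = colimit.ι K j ≫ colim.map ι ≫ eM.hom
    rw [← Category.assoc, eKι, hi, ← Category.assoc, h2, Category.assoc, eMι]

end Formal

section Preserves

variable {𝒜 : Type*} [Category 𝒜] [Abelian 𝒜] {B : Type*} [Category B] [HasZeroMorphisms B]
  (F : 𝒜 ⥤ B) [F.PreservesZeroMorphisms] {J : Type*} [Category J]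
  [HasColimitsOfShape J 𝒜] [HasColimitsOfShape J B] [PreservesColimitsOfShape J F]
  [PreservesLimitsOfShape WalkingParallelPair (colim : (J ⥤ 𝒜) ⥤ 𝒜)]
  [PreservesLimitsOfShape WalkingParallelPair (colim : (J ⥤ B) ⥤ B)]
  {M N : J ⥤ 𝒜} (φ : M ⟶ N) (cM : Cocone M) (hM : IsColimit cM) (cN : Cocone N)
  (hN : IsColimit cN) (f : cM.pt ⟶ cN.pt) (hf : ∀ j, cM.ι.app j ≫ f = φ.app j ≫ cN.ι.app j)

include hM hN hf in
/-- if `F` preserves `J`-shaped colimits and the kernels of all `φ.app j`, and `J`-shaped colimits
commute with kernels in both categories, then `F` preserves the kernel of the induced map on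
colimits -/
theorem preservesKernel_of_colimit
    (h : ∀ j, PreservesLimit (parallelPair (φ.app j) 0) F) :
    PreservesLimit (parallelPair f 0) F := by
  -- pointwise kernel
  let K : J ⥤ 𝒜 := kernel φ
  let ι : K ⟶ M := kernel.ι φ
  have hw : ∀ j, ι.app j ≫ φ.app j = 0 := by
    intro j
    have := congrArg (fun t => NatTrans.app t j) (kernel.condition φ)
    exact this
  have hker : ∀ j, IsLimit (KernelFork.ofι (ι.app j) (hw j)) := by
    intro j
    have h0 : IsLimit (KernelFork.ofι ι (kernel.condition φ)) := kernelIsKernel φ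
    exact isLimitForkMapOfIsLimit' ((evaluation J 𝒜).obj j) (kernel.condition φ) h0
  let cK : Cocone K := colimit.cocone K
  have hK : IsColimit cK := colimit.isColimit K
  let i : cK.pt ⟶ cM.pt := hK.desc
    { pt := cM.pt
      ι :=
        { app := fun j => ι.app j ≫ cM.ι.app j
          naturality := by
            intro j k u
            have h3 : K.map u ≫ ι.app k = ι.app j ≫ M.map u := ι.naturality u
            have h4 : M.map u ≫ cM.ι.app k = cM.ι.app j := cM.w u
            simp only [Functor.const_obj_obj, Functor.const_obj_map, Category.comp_id]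
            rw [← Category.assoc, h3, Category.assoc, h4] } }
  have hi : ∀ j, cK.ι.app j ≫ i = ι.app j ≫ cM.ι.app j := fun j => hK.fac _ j
  have hfork := isLimitFork ι φ hw hker cK hK cM hM cN hN i hi f hf
  -- now in `B`
  have hw' : ∀ j, (Functor.whiskerRight ι F).app j ≫ (Functor.whiskerRight φ F).app j = 0 := by
    intro j
    simp only [Functor.whiskerRight_app]
    rw [← F.map_comp, hw, F.map_zero]
  have hker' : ∀ j, IsLimit (KernelFork.ofι ((Functor.whiskerRight ι F).app j) (hw' j)) := by
    intro j
    haveI := h j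
    exact isLimitForkMapOfIsLimit' F (hw j) (hker j)
  have hfork' := isLimitFork (Functor.whiskerRight ι F) (Functor.whiskerRight φ F) hw' hker'
    (F.mapCocone cK) (isColimitOfPreserves F hK) (F.mapCocone cM) (isColimitOfPreserves F hM)
    (F.mapCocone cN) (isColimitOfPreserves F hN) (F.map i)
    (by intro j; simp only [Functor.mapCocone_ι_app, Functor.whiskerRight_app]
        rw [← F.map_comp, hi, F.map_comp])
    (F.map f)
    (by intro j; simp only [Functor.mapCocone_ι_app, Functor.whiskerRight_app]
        rw [← F.map_comp, hf, F.map_comp])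
  exact preservesLimit_of_preserves_limit_cone hfork
    ((isLimitMapConeForkEquiv' F _).symm hfork')

end Preserves

end Groth.Agent.Lib.Helper68.KerColim
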