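import Mathlib
import Groth.Agent.Lib.Helper19.FPFunctor
import Groth.Agent.Lib.Helper19.FPCompact
import Groth.Agent.Lib.Helper15.FPMod
import Groth.Agent.Lib.Helper31.Coherent
import Groth.Agent.Lib.Helper68.KerColim

/-!
# Left exactness of functors on modules from left exactness on f.p. modules (helper68)

Over a coherent ring; dual companion of helper19's `FPRightExact`.
Namespace `Groth.Agent.Lib.Helper68.FPLeftExact`.
-/

set_option autoImplicit false
universe u u' v'

open CategoryTheory CategoryTheory.Limits

namespace Groth.Agent.Lib.Helper68.FPLeftExact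

open Groth.Agent.Lib.Helper15.FPMod

variable {A : Type u} [CommRing A]

/-- over a coherent ring the kernel of a map of finitely presented modules is finitely presented -/
theorem finitePresentation_ker (hcoh : ∀ I : Ideal A, I.FG → Module.FinitePresentation A I)
    {M N : Type u} [AddCommGroup M] [Module A M] [AddCommGroup N] [Module A N]
    [Module.FinitePresentation A M] [Module.FinitePresentation A N] (f : M →ₗ[A] N) :
    Module.FinitePresentation A (LinearMap.ker f) := by
  have hM := Groth.Agent.Lib.Helper31.Coh.isCoh_of_finitePresentation A hcoh M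
  have hN := Groth.Agent.Lib.Helper31.Coh.isCoh_of_finitePresentation A hcoh N
  have hrange : (LinearMap.range f).FG := by
    rw [LinearMap.range_eq_map]
    exact (Module.Finite.fg_top).map f
  haveI : Module.FinitePresentation A (LinearMap.range f) := hN.2 _ hrange
  have hker : (LinearMap.ker f.rangeRestrict).FG :=
    Module.FinitePresentation.fg_ker f.rangeRestrict f.surjective_rangeRestrict
  rw [LinearMap.ker_rangeRestrict] at hker
  exact hM.2 _ hker

variable {B : Type u'} [Category.{v'} B] [Preadditive B] (F' : ModuleCat.{u} A ⥤ B)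

section StepC

variable [F'.PreservesZeroMorphisms] [PreservesFiniteLimits (ObjectProperty.ι (fp A) ⋙ F')]
  [(ObjectProperty.ι (fp A) ⋙ F').PreservesZeroMorphisms]

/-- Step C: kernels of maps between f.p. modules are preserved -/
theorem preservesKernel_fp_fp (hcoh : ∀ I : Ideal A, I.FG → Module.FinitePresentation A I)
    {M N : ModuleCat.{u} A} (hM : Module.FinitePresentation A M)
    (hN : Module.FinitePresentation A N) (f : M ⟶ N) :
    PreservesLimit (parallelPair f 0) F' := by
  let M' : (fp A).FullSubcategory := ⟨M, hM⟩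
  let N' : (fp A).FullSubcategory := ⟨N, hN⟩
  let f' : M' ⟶ N' := ObjectProperty.homMk f
  have hQ : fp A (kernel f) := by
    haveI := hM
    haveI := hN
    haveI : Module.FinitePresentation A (LinearMap.ker f.hom) := finitePresentation_ker hcoh f.hom
    exact Module.FinitePresentation.of_equiv (ModuleCat.kernelIsoKer f).toLinearEquiv.symm
  let Q' : (fp A).FullSubcategory := ⟨kernel f, hQ⟩
  let ι' : Q' ⟶ M' := ObjectProperty.homMk (kernel.ι f)
  have w' : ι' ≫ f' = 0 := by
    apply (ObjectProperty.ι (fp A)).map_injective
    exact kernel.condition f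
  have h1 : IsLimit ((ObjectProperty.ι (fp A)).mapCone (KernelFork.ofι ι' w')) :=
    (isLimitMapConeForkEquiv' (ObjectProperty.ι (fp A)) w').symm (kernelIsKernel f)
  have h2 : IsLimit (KernelFork.ofι ι' w') := isLimitOfReflects (ObjectProperty.ι (fp A)) h1
  have h3 : IsLimit ((ObjectProperty.ι (fp A) ⋙ F').mapCone (KernelFork.ofι ι' w')) :=
    isLimitOfPreserves _ h2
  have h4 := isLimitMapConeForkEquiv' (ObjectProperty.ι (fp A) ⋙ F') w' h3
  apply preservesLimit_of_preserves_limit_cone (kernelIsKernel f)
  exact (isLimitMapConeForkEquiv' F' (kernel.condition f)).symm h4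

end StepC

section StepBA

variable [F'.PreservesZeroMorphisms] [PreservesFilteredColimitsOfSize.{u, u} F']
  [HasFilteredColimitsOfSize.{u, u} B]
  (hcomm : ∀ (J : Type u) [SmallCategory J] [IsFiltered J],
      PreservesLimitsOfShape WalkingParallelPair (colim : (J ⥤ B) ⥤ B))

include hcomm in
/-- Step B: from maps between f.p. modules to maps with f.p. source -/
theorem preservesKernel_fp_of
    (hC : ∀ {M N : ModuleCat.{u} A} (_ : Module.FinitePresentation A M)
      (_ : Module.FinitePresentation A N) (f : M ⟶ N), PreservesLimit (parallelPair f 0) F')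
    {M N : ModuleCat.{u} A} (hM : Module.FinitePresentation A M) (f : M ⟶ N) :
    PreservesLimit (parallelPair f 0) F' := by
  obtain ⟨J, _, _, D, t, ⟨hc⟩, hfp⟩ :=
    Groth.Agent.Helper19.FPFunctor.exists_filtered_fp_cocone A N
  haveI := hM
  obtain ⟨j0, g, hg⟩ :=
    Groth.Agent.Helper19.FPCompact.exists_factor_of_fp D (Cocone.mk N t) hc M f.hom
  have hg' : ModuleCat.ofHom g ≫ t.app j0 = f := by
    apply ModuleCat.hom_ext
    exact hg
  let Md : Under j0 ⥤ ModuleCat.{u} A := (Functor.const (Under j0)).obj M
  let Nd : Under j0 ⥤ ModuleCat.{u} A := Under.forget j0 ⋙ D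
  let φ : Md ⟶ Nd :=
    { app := fun u => ModuleCat.ofHom g ≫ D.map u.hom
      naturality := by
        intro u v w
        have h1 : u.hom ≫ w.right = v.hom := Under.w w
        change 𝟙 M ≫ ModuleCat.ofHom g ≫ D.map v.hom =
          (ModuleCat.ofHom g ≫ D.map u.hom) ≫ D.map w.right
        rw [Category.id_comp, Category.assoc, ← D.map_comp, h1] }
  haveI : IsConnected (Under j0) := IsFiltered.isConnected _
  have hcM : IsColimit (constCocone (Under j0) M) := isColimitConstCocone _ _
  let cN : Cocone Nd := (Cocone.mk N t).whisker (Under.forget j0)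
  have hcN : IsColimit cN :=
    (Functor.Final.isColimitWhiskerEquiv (Under.forget j0) (Cocone.mk N t)).symm hc
  haveI := hcomm (Under j0)
  refine Groth.Agent.Lib.Helper68.KerColim.preservesKernel_of_colimit F' φ
    (constCocone (Under j0) M) hcM cN hcN f ?_ (fun u => hC hM (hfp u.right) _)
  intro u
  change 𝟙 M ≫ f = (ModuleCat.ofHom g ≫ D.map u.hom) ≫ t.app u.right
  have h2 : D.map u.hom ≫ t.app u.right = t.app j0 := by
    have := t.naturality u.hom
    simpa using this
  rw [Category.id_comp, Category.assoc, h2, hg']

include hcomm in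
/-- Step A: from maps with f.p. source to all maps -/
theorem preservesKernel_of
    (hB : ∀ {M N : ModuleCat.{u} A} (_ : Module.FinitePresentation A M) (f : M ⟶ N),
      PreservesLimit (parallelPair f 0) F')
    {M N : ModuleCat.{u} A} (f : M ⟶ N) :
    PreservesLimit (parallelPair f 0) F' := by
  obtain ⟨J, _, _, D, t, ⟨hc⟩, hfp⟩ :=
    Groth.Agent.Helper19.FPFunctor.exists_filtered_fp_cocone A M
  let φ : D ⟶ (Functor.const J).obj N := t ≫ (Functor.const J).map f
  haveI : IsConnected J := IsFiltered.isConnected _
  have hcN : IsColimit (constCocone J N) := isColimitConstCocone _ _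
  haveI := hcomm J
  refine Groth.Agent.Lib.Helper68.KerColim.preservesKernel_of_colimit F' φ
    (Cocone.mk M t) hc (constCocone J N) hcN f ?_ (fun j => hB (hfp j) _)
  intro j
  change t.app j ≫ f = (t.app j ≫ f) ≫ 𝟙 N
  rw [Category.comp_id]

end StepBA

end Groth.Agent.Lib.Helper68.FPLeftExact
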