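import Groth.Agent.Lib.Helper68.Cocyclic
import Mathlib.GroupTheory.Index
import Mathlib.GroupTheory.Exponent
import Mathlib.GroupTheory.QuotientGroup.Basic

/-!
# Extending finite-index subgroups from a subgroup of an abelian group

If the torsion of `A ⧸ A'` has bounded exponent, every finite-index subgroup of `A'` contains the
trace of a finite-index subgroup of `A`.
-/

namespace Groth.Agent.Lib.Helper68

/-- Multiplicative form of `exists_finiteIndex_not_mem_of_exponent`. -/
theorem exists_finiteIndex_not_mem_of_exponent_mul {Q : Type*} [CommGroup Q]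
    (hQ : Monoid.exponent Q ≠ 0) (q : Q) (hq : q ≠ 1) :
    ∃ M : Subgroup Q, M.FiniteIndex ∧ q ∉ M := by
  obtain ⟨M, hM, hqM⟩ := exists_finiteIndex_not_mem_of_exponent (Q := Additive Q)
    (by rw [AddMonoid.exponent_additive]; exact hQ) (Additive.ofMul q)
    (by
      intro h
      exact hq (Additive.ofMul.injective h))
  refine ⟨AddSubgroup.toSubgroup' M, ?_, ?_⟩
  · have : (Subgroup.toAddSubgroup (AddSubgroup.toSubgroup' M)).FiniteIndex := by
      have e : Subgroup.toAddSubgroup (AddSubgroup.toSubgroup' M) = M := by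
        ext x
        rfl
      rw [e]
      exact hM
    exact Subgroup.finiteIndex_toAddSubgroup_iff.mp this
  · intro h
    exact hqM h

theorem exists_finiteIndex_comap_le {A : Type*} [CommGroup A] (A' : Subgroup A)
    (htors : ∃ N : ℕ, 0 < N ∧ ∀ x : A ⧸ A', IsOfFinOrder x → x ^ N = 1)
    (m' : Subgroup A') [hm' : m'.FiniteIndex] :
    ∃ m : Subgroup A, m.FiniteIndex ∧ ∀ a' : A', (a' : A) ∈ m → a' ∈ m' := by
  classical
  obtain ⟨N, hN, htors⟩ := htors
  have he : 0 < m'.index := Nat.pos_of_ne_zero hm'.index_ne_zero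
  set n := N * m'.index with hn
  have hnpos : 0 < n := Nat.mul_pos hN he
  let T : Subgroup A := (m'.map A'.subtype) ⊔ (powMonoidHom n : A →* A).range
  -- the trace of `T` on `A'` is `m'`
  have hT : ∀ a' : A', (a' : A) ∈ T → a' ∈ m' := by
    intro a' ha'
    obtain ⟨y, hy, z, hz, hyz⟩ := Subgroup.mem_sup.mp ha'
    obtain ⟨h, hh, rfl⟩ := hy
    obtain ⟨b, rfl⟩ := hz
    have hb : b ^ n = (A'.subtype h)⁻¹ * (a' : A) := by
      rw [← hyz]
      simp
    have hbn : b ^ n ∈ A' := by
      rw [hb]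
      exact A'.mul_mem (A'.inv_mem h.2) a'.2
    have hfin : IsOfFinOrder (QuotientGroup.mk b : A ⧸ A') := by
      rw [isOfFinOrder_iff_pow_eq_one]
      refine ⟨n, hnpos, ?_⟩
      rw [← QuotientGroup.mk_pow, QuotientGroup.eq_one_iff]
      exact hbn
    have hbN : b ^ N ∈ A' := by
      have := htors _ hfin
      rwa [← QuotientGroup.mk_pow, QuotientGroup.eq_one_iff] at this
    have hc : (⟨b ^ N, hbN⟩ : A') ^ m'.index ∈ m' := Subgroup.pow_index_mem m' _
    have : a' = h * (⟨b ^ N, hbN⟩ : A') ^ m'.index := by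
      apply Subtype.ext
      rw [← hyz]
      simp [hn, pow_mul]
    rw [this]
    exact m'.mul_mem hh hc
  -- the quotient by `T` has bounded exponent
  have hexp : Monoid.exponent (A ⧸ T) ≠ 0 := by
    rw [Monoid.exponent_ne_zero]
    refine ⟨n, hnpos, ?_⟩
    intro g
    obtain ⟨a, rfl⟩ := QuotientGroup.mk_surjective g
    rw [← QuotientGroup.mk_pow, QuotientGroup.eq_one_iff]
    exact (le_sup_right : (powMonoidHom n : A →* A).range ≤ T) ⟨a, rfl⟩
  -- the image of `A'` in the quotient is finite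
  have hm'T : m' ≤ ((QuotientGroup.mk' T).comp A'.subtype).ker := by
    intro h hh
    rw [MonoidHom.mem_ker]
    show (QuotientGroup.mk (h : A) : A ⧸ T) = 1
    rw [QuotientGroup.eq_one_iff]
    exact (le_sup_left : m'.map A'.subtype ≤ T) ⟨h, hh, rfl⟩
  let g : A' ⧸ m' →* A ⧸ T := QuotientGroup.lift m' ((QuotientGroup.mk' T).comp A'.subtype) hm'T
  let S : Set (A ⧸ T) := {s | s ≠ 1 ∧ s ∈ Set.range g}
  have hSfin : S.Finite := (Set.finite_range g).subset (fun s hs => hs.2)
  have : Finite S := hSfin.to_subtype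
  have hchoose : ∀ s : S, ∃ M : Subgroup (A ⧸ T), M.FiniteIndex ∧ (s : A ⧸ T) ∉ M :=
    fun s => exists_finiteIndex_not_mem_of_exponent_mul hexp s.1 s.2.1
  choose M hMfin hMs using hchoose
  have hMtot : (⨅ s : S, M s).FiniteIndex := Subgroup.finiteIndex_iInf hMfin
  refine ⟨(⨅ s : S, M s).comap (QuotientGroup.mk' T), ?_, ?_⟩
  · refine ⟨?_⟩
    rw [Subgroup.index_comap_of_surjective _ (QuotientGroup.mk'_surjective T)]
    exact hMtot.index_ne_zero
  · intro a' ha'
    by_contra hcon
    have hnT : (a' : A) ∉ T := fun h => hcon (hT a' h)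
    have hs1 : (QuotientGroup.mk (a' : A) : A ⧸ T) ≠ 1 := by
      rw [Ne, QuotientGroup.eq_one_iff]
      exact hnT
    have hsS : (QuotientGroup.mk (a' : A) : A ⧸ T) ∈ S :=
      ⟨hs1, ⟨QuotientGroup.mk a', rfl⟩⟩
    have hmem : (QuotientGroup.mk (a' : A) : A ⧸ T) ∈ ⨅ s : S, M s := ha'
    rw [Subgroup.mem_iInf] at hmem
    exact hMs ⟨_, hsS⟩ (hmem ⟨_, hsS⟩)

end Groth.Agent.Lib.Helper68
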