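import Mathlib
import Groth.Agent.Lib.Helper68.FppfBootMain
import Groth.Agent.Lib.Helper51.QuotOpenImm2
import Groth.Agent.Lib.Helper26.RepSection

/-!
# The slicing lemma for flat lfp equivalence relations of schemes (helper68)
-/

set_option autoImplicit false
set_option linter.style.haveILetI false
universe u
open CategoryTheory CategoryTheory.Limits AlgebraicGeometry

namespace Groth.Agent.Lib.Helper68.FppfBoot

open AlgSp Groth.Agent.Lib.Helper51

variable {S : Scheme.{u}}

/-- If `p : h_A ⟶ Q` is an epimorphism and the kernel pair of `p ≫ ψ` is coequalized by `p`, then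
`ψ` is a monomorphism. -/
theorem mono_of_kernelPair {A W : Over S} {Q F : Sp S} (p : (yon S).obj A ⟶ Q) [Epi p]
    (ψ : Q ⟶ F) (a b : W ⟶ A) (hw : (yon S).map a ≫ p = (yon S).map b ≫ p)
    (sq : IsPullback ((yon S).map a) ((yon S).map b) (p ≫ ψ) (p ≫ ψ)) : Mono ψ := by
  apply mono_of_forall_yon
  intro T x y hxy
  obtain ⟨S1, hS1, h1⟩ := exists_cover_lift_of_epi p x
  obtain ⟨S2, hS2, h2⟩ := exists_cover_lift_of_epi p y
  refine yon_hom_ext_of_cover x y (S1 ⊓ S2) ((J S).intersection_covering hS1 hS2) ?_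
  rintro Y f ⟨hf1, hf2⟩
  obtain ⟨a', ha'⟩ := h1 f hf1
  obtain ⟨b', hb'⟩ := h2 f hf2
  have hab : a' ≫ p ≫ ψ = b' ≫ p ≫ ψ := by
    rw [← Category.assoc, ← Category.assoc, ha', hb', Category.assoc, Category.assoc, hxy]
  rw [← ha', ← hb', ← sq.lift_fst a' b' hab]
  conv_rhs => rw [← sq.lift_snd a' b' hab]
  rw [Category.assoc, Category.assoc, hw]

/-- The slicing lemma (Stacks, Bootstrap): a flat lfp equivalence relation of schemes has a
quasi-finite flat lfp restriction with the same fppf quotient sheaf. -/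
theorem exists_slice {R U : Over S} (s t : R ⟶ U)
    (h : AlgSp.IsEqvRel s t) [Flat s.left] [LocallyOfFinitePresentation s.left]
    [Flat t.left] [LocallyOfFinitePresentation t.left] :
    ∃ (R' U' : Over S) (s' t' : R' ⟶ U') (g : U' ⟶ U) (r : R' ⟶ R)
      (ψ : QuotSh.quot Scheme.fppfPrecoverage s' t' ⟶ QuotSh.quot Scheme.fppfPrecoverage s t),
      AlgSp.IsEqvRel s' t' ∧ r ≫ s = s' ≫ g ∧ r ≫ t = t' ≫ g ∧
      Flat s'.left ∧ LocallyOfFinitePresentation s'.left ∧ LocallyQuasiFinite s'.left ∧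
      Flat t'.left ∧ LocallyOfFinitePresentation t'.left ∧ LocallyQuasiFinite t'.left ∧
      QuotSh.quotπ Scheme.fppfPrecoverage s' t' ≫ ψ =
        QuotSh.repMap Scheme.fppfPrecoverage g ≫ QuotSh.quotπ Scheme.fppfPrecoverage s t ∧
      IsIso ψ := by
  have hsq : IsPullback ((yon S).map t) ((yon S).map s) (qπ s t) (qπ s t) :=
    isPullback_yon_quotπ Scheme.fppfPrecoverage s t h.injective h.equivalence
  obtain ⟨U', g', hepi, hf, hp, hq⟩ := exists_qf_chart (qπ s t) s t hsq
  have sq' := isPullback_pull g' hsq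
  have hE' : AlgSp.IsEqvRel (pullS s t g') (pullT s t g') :=
    Groth.Agent.Lib.Helper54.isEqvRel_of_isPullback sq'
  have e1 : QuotSh.repMap Scheme.fppfPrecoverage (pullS s t g') ≫
      QuotSh.repMap Scheme.fppfPrecoverage g' =
      QuotSh.repMap Scheme.fppfPrecoverage (pullρ s t g') ≫
        QuotSh.repMap Scheme.fppfPrecoverage s := by
    rw [← Groth.Agent.Lib.Helper26.RepSection.repMap_comp,
      ← Groth.Agent.Lib.Helper26.RepSection.repMap_comp, pullρ_s]
  have e2 : QuotSh.repMap Scheme.fppfPrecoverage (pullT s t g') ≫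
      QuotSh.repMap Scheme.fppfPrecoverage g' =
      QuotSh.repMap Scheme.fppfPrecoverage (pullρ s t g') ≫
        QuotSh.repMap Scheme.fppfPrecoverage t := by
    rw [← Groth.Agent.Lib.Helper26.RepSection.repMap_comp,
      ← Groth.Agent.Lib.Helper26.RepSection.repMap_comp, pullρ_t]
  have hcond : QuotSh.repMap Scheme.fppfPrecoverage (pullS s t g') ≫
      (QuotSh.repMap Scheme.fppfPrecoverage g' ≫ QuotSh.quotπ Scheme.fppfPrecoverage s t) =
      QuotSh.repMap Scheme.fppfPrecoverage (pullT s t g') ≫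
      (QuotSh.repMap Scheme.fppfPrecoverage g' ≫ QuotSh.quotπ Scheme.fppfPrecoverage s t) :=
    calc _ = (QuotSh.repMap Scheme.fppfPrecoverage (pullS s t g') ≫
          QuotSh.repMap Scheme.fppfPrecoverage g') ≫ QuotSh.quotπ Scheme.fppfPrecoverage s t :=
          (Category.assoc _ _ _).symm
      _ = (QuotSh.repMap Scheme.fppfPrecoverage (pullρ s t g') ≫
          QuotSh.repMap Scheme.fppfPrecoverage s) ≫ QuotSh.quotπ Scheme.fppfPrecoverage s t := by
          rw [e1]
      _ = QuotSh.repMap Scheme.fppfPrecoverage (pullρ s t g') ≫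
          (QuotSh.repMap Scheme.fppfPrecoverage s ≫ QuotSh.quotπ Scheme.fppfPrecoverage s t) :=
          Category.assoc _ _ _
      _ = QuotSh.repMap Scheme.fppfPrecoverage (pullρ s t g') ≫
          (QuotSh.repMap Scheme.fppfPrecoverage t ≫ QuotSh.quotπ Scheme.fppfPrecoverage s t) := by
          rw [QuotSh.quot_condition]
      _ = (QuotSh.repMap Scheme.fppfPrecoverage (pullρ s t g') ≫
          QuotSh.repMap Scheme.fppfPrecoverage t) ≫ QuotSh.quotπ Scheme.fppfPrecoverage s t :=
          (Category.assoc _ _ _).symm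
      _ = (QuotSh.repMap Scheme.fppfPrecoverage (pullT s t g') ≫
          QuotSh.repMap Scheme.fppfPrecoverage g') ≫ QuotSh.quotπ Scheme.fppfPrecoverage s t := by
          rw [e2]
      _ = _ := Category.assoc _ _ _
  let ψ : QuotSh.quot Scheme.fppfPrecoverage (pullS s t g') (pullT s t g') ⟶
      QuotSh.quot Scheme.fppfPrecoverage s t := coequalizer.desc _ hcond
  have hψ : QuotSh.quotπ Scheme.fppfPrecoverage (pullS s t g') (pullT s t g') ≫ ψ =
      QuotSh.repMap Scheme.fppfPrecoverage g' ≫ QuotSh.quotπ Scheme.fppfPrecoverage s t :=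
    coequalizer.π_desc _ _
  have hψ' := qπ_map s t (pullS s t g') (pullT s t g') g' ψ hψ
  refine ⟨pullR s t g', U', pullS s t g', pullT s t g', g', pullρ s t g', ψ, hE', pullρ_s g',
    pullρ_t g', hf.2 _ _ _ sq', hp.2 _ _ _ sq', hq.2 _ _ _ sq', hf.2 _ _ _ sq'.flip,
    hp.2 _ _ _ sq'.flip, hq.2 _ _ _ sq'.flip, hψ, ?_⟩
  haveI : Epi (qπ (pullS s t g') (pullT s t g') ≫ ψ) := by rw [hψ']; exact hepi
  haveI : Epi ψ := epi_of_epi (qπ (pullS s t g') (pullT s t g')) ψ
  haveI : Mono ψ := by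
    refine mono_of_kernelPair (qπ (pullS s t g') (pullT s t g')) ψ (pullT s t g') (pullS s t g')
      (qπ_condition (pullS s t g') (pullT s t g')).symm ?_
    rw [hψ']
    exact sq'
  exact isIso_of_mono_of_epi_sp ψ

end Groth.Agent.Lib.Helper68.FppfBoot
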