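import Mathlib

/-!
# Fixed points of Frobenius-semilinear maps over a separably closed field (helper68)

`κ` separably closed of characteristic `p`, `V` a finite-dimensional `κ`-vector space,
`T : V →ₛₗ[frobenius κ p] V` whose values span `V`. Then `V` has a basis of `T`-fixed vectors,
`T - 1` is surjective and there are exactly `p ^ dim V` fixed vectors.
-/

open Polynomial

namespace Groth.Agent.Lib.Helper68.FrobFixed

section poly

variable {κ : Type*} [Field κ] (p : ℕ) [Fact p.Prime] [CharP κ p]

theorem derivative_pow_p (f : κ[X]) : derivative (f ^ p) = 0 := by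
  rw [derivative_pow]
  have : (C (p : κ) : κ[X]) = 0 := by rw [CharP.cast_eq_zero, C_0]
  rw [this, zero_mul, zero_mul]

/-- The additive polynomials `P_0 = a_0 X`, `P_{i+1} = P_i ^ p + a_{i+1} X`. -/
noncomputable def P (a : ℕ → κ) : ℕ → κ[X]
  | 0 => C (a 0) * X
  | (i + 1) => (P a i) ^ p + C (a (i + 1)) * X

theorem P_zero (a : ℕ → κ) : P p a 0 = C (a 0) * X := rfl

theorem P_succ (a : ℕ → κ) (i : ℕ) : P p a (i + 1) = (P p a i) ^ p + C (a (i + 1)) * X := rfl

theorem P_eval_zero (a : ℕ → κ) (i : ℕ) : (P p a i).eval 0 = 0 := by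
  induction i with
  | zero => simp [P_zero]
  | succ i ih =>
    rw [P_succ, eval_add, eval_pow, ih, zero_pow (Fact.out : p.Prime).ne_zero]
    simp

theorem P_eq_zero (a : ℕ → κ) (i : ℕ) (h : P p a i = 0) : ∀ j ≤ i, a j = 0 := by
  induction i with
  | zero =>
    intro j hj
    obtain rfl : j = 0 := Nat.le_zero.mp hj
    rw [P_zero] at h
    rcases mul_eq_zero.mp h with h | h
    · exact C_eq_zero.mp h
    · exact absurd h X_ne_zero
  | succ i ih =>
    rw [P_succ] at h
    have hd := congrArg derivative h
    rw [derivative_add, derivative_pow_p, zero_add, derivative_C_mul, derivative_X, mul_one,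
      derivative_zero] at hd
    have ha : a (i + 1) = 0 := C_eq_zero.mp hd
    rw [ha, C_0, zero_mul, add_zero] at h
    have hP : P p a i = 0 := pow_eq_zero_iff (Fact.out : p.Prime).ne_zero |>.mp h
    intro j hj
    rcases Nat.lt_or_ge j (i + 1) with hlt | hge
    · exact ih hP j (Nat.lt_succ_iff.mp hlt)
    · obtain rfl : j = i + 1 := le_antisymm hj hge
      exact ha

theorem exists_root_AS [IsSepClosed κ] (c : κ) : ∃ y : κ, y ^ p - y = c := by
  have hp : p.Prime := Fact.out
  set Q : κ[X] := X ^ p - X - C c with hQ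
  have hQ' : derivative Q = -1 := by
    rw [hQ, derivative_sub, derivative_sub, derivative_pow_p, derivative_X, derivative_C]
    simp
  have hsep : Q.Separable := by
    rw [separable_def, hQ']
    exact isCoprime_one_right.neg_right
  have hdeg : Q.degree ≠ 0 := by
    have h1 : (X ^ p - X : κ[X]).natDegree = p := FiniteField.X_pow_card_sub_X_natDegree_eq κ hp.one_lt
    have h2 : Q.natDegree = p := by
      rw [hQ, natDegree_sub_C, h1]
    intro h
    have := natDegree_eq_of_degree_eq_some h
    rw [h2] at this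
    exact hp.ne_zero (by exact_mod_cast this)
  obtain ⟨y, hy⟩ := IsSepClosed.exists_root Q hdeg hsep
  refine ⟨y, ?_⟩
  rw [IsRoot.def, hQ, eval_sub, eval_sub, eval_pow, eval_X, eval_C, sub_eq_zero] at hy
  exact hy

theorem exists_ne_zero_root [IsSepClosed κ] (f : κ[X]) (hf : f ≠ 0) (hf0 : f.eval 0 = 0) :
    ∃ z : κ, z ≠ 0 ∧ (f.eval z) ^ p = z := by
  have hp : p.Prime := Fact.out
  set Q : κ[X] := f ^ p - X with hQ
  have hQ' : derivative Q = -1 := by
    rw [hQ, derivative_sub, derivative_pow_p, derivative_X, zero_sub]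
  have hsep : Q.Separable := by
    rw [separable_def, hQ']
    exact isCoprime_one_right.neg_right
  have hQ0 : Q.coeff 0 = 0 := by
    rw [coeff_zero_eq_eval_zero, hQ, eval_sub, eval_pow, hf0, zero_pow hp.ne_zero, eval_X, sub_zero]
  obtain ⟨G, hG⟩ := X_dvd_iff.mpr hQ0
  have hGsep : G.Separable := by
    rw [hG] at hsep
    exact hsep.of_mul_right
  have hGdeg : G.degree ≠ 0 := by
    intro h
    obtain ⟨g₀, hg₀⟩ : ∃ g₀ : κ, G = C g₀ := ⟨_, eq_C_of_degree_eq_zero h⟩
    have h1 : f ^ p = C (g₀ + 1) * X := by
      have : f ^ p = Q + X := by rw [hQ]; ring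
      rw [this, hG, hg₀, C_add, C_1]; ring
    have hd := congrArg derivative h1
    rw [derivative_pow_p, derivative_C_mul, derivative_X, mul_one] at hd
    have h2 : g₀ + 1 = 0 := (C_eq_zero.mp hd.symm)
    rw [h2, C_0, zero_mul] at h1
    exact hf (pow_eq_zero_iff hp.ne_zero |>.mp h1)
  obtain ⟨z, hz⟩ := IsSepClosed.exists_root G hGdeg hGsep
  refine ⟨z, ?_, ?_⟩
  · rintro rfl
    have hd : derivative Q = G + X * derivative G := by
      rw [hG, derivative_mul, derivative_X, one_mul]
    have := congrArg (eval 0) hd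
    rw [hQ', eval_add, eval_mul, eval_X, zero_mul, add_zero, eval_neg, eval_one] at this
    rw [IsRoot.def] at hz
    rw [hz] at this
    exact one_ne_zero (neg_eq_zero.mp this)
  · have : Q.eval z = 0 := by
      rw [hG, eval_mul, hz, mul_zero]
    rw [hQ, eval_sub, eval_pow, eval_X, sub_eq_zero] at this
    exact this

end poly

section semilinear

variable {κ : Type*} [Field κ] (p : ℕ) [Fact p.Prime] [CharP κ p]
variable {V : Type*} [AddCommGroup V] [Module κ V]

theorem map_smul_frob (T : V →ₛₗ[frobenius κ p] V) (c : κ) (v : V) : T (c • v) = c ^ p • T v := by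
  rw [map_smulₛₗ, frobenius_def]

/-- A chain of vectors, none in the span of the previous ones, is linearly independent; in finite
dimension it must stop. -/
theorem exists_min_rel [FiniteDimensional κ V] (u : ℕ → V) :
    ∃ r, LinearIndependent κ (fun i : Fin r => u i) ∧
      u r ∈ Submodule.span κ (Set.range (fun i : Fin r => u i)) := by
  by_contra hcon
  push_neg at hcon
  have hall : ∀ r, LinearIndependent κ (fun i : Fin r => u i) := by
    intro r
    induction r with
    | zero => exact linearIndependent_empty_type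
    | succ r ih =>
      have h1 := LinearIndependent.finSnoc ih (hcon r ih)
      have h2 : (Fin.snoc (fun i : Fin r => u i) (u r) : Fin (r + 1) → V) =
          fun i : Fin (r + 1) => u i := by
        ext i
        refine Fin.lastCases ?_ (fun j => ?_) i
        · simp
        · simp
      rwa [h2] at h1
  have := (hall (Module.finrank κ V + 1)).fintype_card_le_finrank
  simp at this

variable (T : V →ₛₗ[frobenius κ p] V)

/-- The key computation: if `T^r m = ∑_{i<r} a_i T^i m` then
`x(z) = ∑_{i<r} P_i(z) T^i m` satisfies `T x(z) - x(z) = (P_{r-1}(z)^p - z) T^r m`. -/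
theorem T_sub_self (m : V) (s : ℕ) (a : ℕ → κ)
    (hrel : T^[s + 1] m = ∑ i ∈ Finset.range (s + 1), a i • T^[i] m) (z : κ) :
    T (∑ i ∈ Finset.range (s + 1), (P p a i).eval z • T^[i] m) -
        ∑ i ∈ Finset.range (s + 1), (P p a i).eval z • T^[i] m =
      ((P p a s).eval z ^ p - z) • T^[s + 1] m := by
  have h1 : T (∑ i ∈ Finset.range (s + 1), (P p a i).eval z • T^[i] m) =
      ∑ i ∈ Finset.range (s + 1), ((P p a i).eval z) ^ p • T^[i + 1] m := by
    rw [map_sum]
    refine Finset.sum_congr rfl fun i _ => ?_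
    rw [map_smul_frob, Function.iterate_succ_apply']
  have h2 : ∑ i ∈ Finset.range (s + 1), (P p a i).eval z • T^[i] m =
      (a 0 * z) • T^[0] m + ∑ i ∈ Finset.range s,
        (((P p a i).eval z) ^ p + a (i + 1) * z) • T^[i + 1] m := by
    rw [Finset.sum_range_succ']
    rw [add_comm]
    congr 1
    · rw [P_zero, eval_mul, eval_C, eval_X]
    · refine Finset.sum_congr rfl fun i _ => ?_
      rw [P_succ, eval_add, eval_pow, eval_mul, eval_C, eval_X]
  have h3 : z • T^[s + 1] m = (a 0 * z) • T^[0] m + ∑ i ∈ Finset.range s,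
      (a (i + 1) * z) • T^[i + 1] m := by
    rw [hrel, Finset.sum_range_succ', smul_add, Finset.smul_sum, add_comm]
    congr 1
    · rw [smul_smul, mul_comm]
    · refine Finset.sum_congr rfl fun i _ => ?_
      rw [smul_smul, mul_comm]
  rw [h1, Finset.sum_range_succ, h2, sub_smul, h3]
  simp only [add_smul, Finset.sum_add_distrib]
  abel

/-- A semilinear map whose values span a finite-dimensional space is injective. -/
theorem injective_of_span_range [FiniteDimensional κ V]
    (hspan : Submodule.span κ (Set.range T) = ⊤) : Function.Injective T := by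
  have hp : p.Prime := Fact.out
  let b := Module.finBasis κ V
  have hT : ∀ v, T v = ∑ i, (b.repr v i) ^ p • T (b i) := by
    intro v
    conv_lhs => rw [← b.sum_repr v]
    rw [map_sum]
    refine Finset.sum_congr rfl fun i _ => ?_
    rw [map_smul_frob]
  have hle : (⊤ : Submodule κ V) ≤ Submodule.span κ (Set.range (fun i => T (b i))) := by
    rw [← hspan, Submodule.span_le]
    rintro _ ⟨v, rfl⟩
    rw [hT v]
    exact Submodule.sum_mem _ fun i _ => Submodule.smul_mem _ _ (Submodule.subset_span ⟨i, rfl⟩)
  have hli : LinearIndependent κ (fun i => T (b i)) :=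
    linearIndependent_of_top_le_span_of_card_eq_finrank hle (by simp)
  rw [injective_iff_map_eq_zero]
  intro v hv
  rw [hT v] at hv
  have h0 := Fintype.linearIndependent_iff.mp hli _ hv
  have : b.repr v = 0 := by
    ext i
    exact pow_eq_zero_iff hp.ne_zero |>.mp (h0 i)
  exact (b.repr.map_eq_zero_iff).mp this

/-- Existence of a nonzero fixed vector. -/
theorem exists_fixed_ne_zero [IsSepClosed κ] [FiniteDimensional κ V] [Nontrivial V]
    (hspan : Submodule.span κ (Set.range T) = ⊤) : ∃ v : V, v ≠ 0 ∧ T v = v := by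
  have hinj := injective_of_span_range p T hspan
  obtain ⟨m, hm⟩ := exists_ne (0 : V)
  obtain ⟨r, hli, hmem⟩ := exists_min_rel (κ := κ) (fun i => T^[i] m)
  obtain ⟨c, hc⟩ := (Submodule.mem_span_range_iff_exists_fun κ).mp hmem
  -- `r ≠ 0`
  obtain ⟨s, rfl⟩ : ∃ s, r = s + 1 := by
    rcases r with _ | s
    · exfalso
      simp at hc
      exact hm hc.symm
    · exact ⟨s, rfl⟩
  let a : ℕ → κ := fun i => if h : i < s + 1 then c ⟨i, h⟩ else 0
  have hrel : T^[s + 1] m = ∑ i ∈ Finset.range (s + 1), a i • T^[i] m := by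
    rw [← hc, ← Fin.sum_univ_eq_sum_range (fun i => a i • T^[i] m)]
    refine Finset.sum_congr rfl fun i _ => ?_
    simp only [a, dif_pos i.isLt, Fin.eta]
  have hne : T^[s + 1] m ≠ 0 := by
    intro h
    have h0 : T^[s + 1] (0 : V) = 0 := by
      clear hrel hc hmem hli
      induction (s + 1) with
      | zero => rfl
      | succ n ih => rw [Function.iterate_succ_apply', ih, map_zero]
    exact hm ((hinj.iterate (s + 1)) (h.trans h0.symm))
  have hP : P p a s ≠ 0 := by
    intro h
    have ha := P_eq_zero p a s h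
    apply hne
    rw [hrel]
    refine Finset.sum_eq_zero fun i hi => ?_
    rw [ha i (Nat.lt_succ_iff.mp (Finset.mem_range.mp hi)), zero_smul]
  obtain ⟨z, hz0, hz⟩ := exists_ne_zero_root p (P p a s) hP (P_eval_zero p a s)
  refine ⟨∑ i ∈ Finset.range (s + 1), (P p a i).eval z • T^[i] m, ?_, ?_⟩
  · intro h
    rw [← Fin.sum_univ_eq_sum_range (fun i => (P p a i).eval z • T^[i] m)] at h
    have h0 := Fintype.linearIndependent_iff.mp hli (fun i : Fin (s + 1) => (P p a i).eval z) h
      (Fin.last s)
    simp only [Fin.val_last] at h0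
    rw [h0, zero_pow (Fact.out : p.Prime).ne_zero] at hz
    exact hz0 hz.symm
  · have := T_sub_self p T m s a hrel z
    rw [hz, sub_self, zero_smul, sub_eq_zero] at this
    exact this

end semilinear

section span

universe v

variable {κ : Type*} [Field κ] (p : ℕ) [Fact p.Prime] [CharP κ p] [IsSepClosed κ]

/-- The fixed vectors span. -/
theorem span_fixed_eq_top : ∀ (n : ℕ) (V : Type v) [AddCommGroup V] [Module κ V]
    [FiniteDimensional κ V] (T : V →ₛₗ[frobenius κ p] V),
    Module.finrank κ V = n → Submodule.span κ (Set.range T) = ⊤ →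
    Submodule.span κ {v : V | T v = v} = ⊤ := by
  intro n
  induction n with
  | zero =>
    intro V _ _ _ T hn _
    have : Subsingleton V := Module.finrank_zero_iff.mp hn
    exact Subsingleton.elim _ _
  | succ n ih =>
    intro V _ _ _ T hn hspan
    have : Nontrivial V := Module.nontrivial_of_finrank_pos (R := κ) (by omega)
    obtain ⟨v, hv0, hv⟩ := exists_fixed_ne_zero p T hspan
    set W : Submodule κ V := Submodule.span κ {v} with hW
    have hWT : W ≤ W.comap T := by
      intro x hx
      obtain ⟨c, rfl⟩ := Submodule.mem_span_singleton.mp hx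
      rw [Submodule.mem_comap, map_smul_frob, hv]
      exact Submodule.smul_mem _ _ (Submodule.mem_span_singleton_self v)
    let T' : (V ⧸ W) →ₛₗ[frobenius κ p] (V ⧸ W) := W.mapQ W T hWT
    have hT' : ∀ x : V, T' (W.mkQ x) = W.mkQ (T x) := fun x => rfl
    have hdim : Module.finrank κ (V ⧸ W) = n := by
      have h1 := Submodule.finrank_quotient_add_finrank W
      have h2 : Module.finrank κ W = 1 := finrank_span_singleton hv0
      omega
    have hspan' : Submodule.span κ (Set.range T') = ⊤ := by
      rw [eq_top_iff, ← Submodule.range_mkQ W, ← Submodule.map_top, ← hspan, Submodule.map_span,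
        Submodule.span_le]
      rintro _ ⟨_, ⟨x, rfl⟩, rfl⟩
      exact Submodule.subset_span ⟨W.mkQ x, hT' x⟩
    have hfix' := ih (V ⧸ W) T' hdim hspan'
    -- lifting fixed vectors
    have hlift : ∀ w' : V ⧸ W, T' w' = w' → ∃ w : V, T w = w ∧ W.mkQ w = w' := by
      intro w' hw'
      obtain ⟨w₀, rfl⟩ := W.mkQ_surjective w'
      rw [hT', ← sub_eq_zero, ← map_sub, Submodule.mkQ_apply, Submodule.Quotient.mk_eq_zero] at hw'
      obtain ⟨c, hc⟩ := Submodule.mem_span_singleton.mp hw'
      obtain ⟨y, hy⟩ := exists_root_AS p (-c)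
      refine ⟨w₀ + y • v, ?_, ?_⟩
      · rw [map_add, map_smul_frob, hv]
        have h1 : T w₀ = w₀ + c • v := by rw [hc]; abel
        have h2 : y ^ p = y - c := by linear_combination hy
        rw [h1, h2, sub_smul]
        abel
      · rw [map_add, map_smul, Submodule.mkQ_apply, Submodule.mkQ_apply,
          (Submodule.Quotient.mk_eq_zero W).mpr (Submodule.mem_span_singleton_self v), smul_zero,
          add_zero]
    set F : Submodule κ V := Submodule.span κ {v : V | T v = v} with hF
    have hWF : W ≤ F := by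
      rw [hW, Submodule.span_le, Set.singleton_subset_iff]
      exact Submodule.subset_span hv
    have hmap : F.map W.mkQ = ⊤ := by
      rw [eq_top_iff, ← hfix', Submodule.span_le]
      intro w' hw'
      obtain ⟨w, hw, rfl⟩ := hlift w' hw'
      exact Submodule.mem_map_of_mem (Submodule.subset_span hw)
    have := (Submodule.map_mkQ_eq_top W F).mp hmap
    rwa [sup_eq_right.mpr hWF] at this

end span

section consequences

universe v

variable {κ : Type*} [Field κ] (p : ℕ) [Fact p.Prime] [CharP κ p] [IsSepClosed κ]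
variable {V : Type v} [AddCommGroup V] [Module κ V] [FiniteDimensional κ V]
  (T : V →ₛₗ[frobenius κ p] V)

theorem exists_basis_fixed (hspan : Submodule.span κ (Set.range T) = ⊤) :
    ∃ (ι : Type v) (_ : Fintype ι) (b : Module.Basis ι κ V), ∀ i, T (b i) = b i := by
  have h := span_fixed_eq_top p (Module.finrank κ V) V T rfl hspan
  let b := Module.Basis.ofSpan (K := κ) (s := {v : V | T v = v}) h.ge
  refine ⟨_, FiniteDimensional.fintypeBasisIndex b, b, fun i => ?_⟩
  exact Module.Basis.ofSpan_subset h.ge ⟨i, rfl⟩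

theorem T_apply_basis {ι : Type*} [Fintype ι] (b : Module.Basis ι κ V) (hb : ∀ i, T (b i) = b i)
    (v : V) : T v = ∑ i, (b.repr v i) ^ p • b i := by
  conv_lhs => rw [← b.sum_repr v]
  rw [map_sum]
  refine Finset.sum_congr rfl fun i _ => ?_
  rw [map_smul_frob, hb]

theorem surjective_sub (hspan : Submodule.span κ (Set.range T) = ⊤) :
    Function.Surjective (fun v => T v - v) := by
  obtain ⟨ι, _, b, hb⟩ := exists_basis_fixed p T hspan
  intro w
  choose y hy using fun i => exists_root_AS p (b.repr w i)
  refine ⟨∑ i, y i • b i, ?_⟩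
  change T (∑ i, y i • b i) - ∑ i, y i • b i = w
  rw [map_sum, ← Finset.sum_sub_distrib]
  conv_rhs => rw [← b.sum_repr w]
  refine Finset.sum_congr rfl fun i _ => ?_
  rw [map_smul_frob, hb, ← sub_smul, hy]

theorem card_frob_fixed : Nat.card {y : κ // y ^ p = y} = p := by
  have hp : p.Prime := Fact.out
  set Q : κ[X] := X ^ p - X with hQ
  have hQ' : derivative Q = -1 := by
    rw [hQ, derivative_sub, derivative_pow_p, derivative_X, zero_sub]
  have hsep : Q.Separable := by
    rw [separable_def, hQ']
    exact isCoprime_one_right.neg_right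
  have hdeg : Q.natDegree = p := FiniteField.X_pow_card_sub_X_natDegree_eq κ hp.one_lt
  have hne : Q ≠ 0 := by
    intro h
    rw [h, natDegree_zero] at hdeg
    exact hp.ne_zero hdeg.symm
  have hsplit : (Q.map (algebraMap κ κ)).Splits := IsSepClosed.splits_codomain Q hsep
  have hcard := card_rootSet_eq_natDegree (K := κ) hsep hsplit
  rw [hdeg] at hcard
  have hcongr : Nat.card {y : κ // y ^ p = y} = Nat.card (Q.rootSet κ) := by
    refine Nat.card_congr (Equiv.subtypeEquivRight fun y => ?_)
    rw [mem_rootSet]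
    simp only [hne, ne_eq, not_false_eq_true, true_and]
    rw [hQ, map_sub, map_pow, aeval_X, sub_eq_zero]
  rw [hcongr, Nat.card_eq_fintype_card, hcard]

theorem equivFun_T_apply {ι : Type*} [Fintype ι] (b : Module.Basis ι κ V)
    (hb : ∀ i, T (b i) = b i) (v : V) :
    b.equivFun (T v) = fun i => (b.equivFun v i) ^ p := by
  rw [T_apply_basis p T b hb v]
  have : ∑ i, (b.repr v i) ^ p • b i = b.equivFun.symm (fun i => (b.equivFun v i) ^ p) := by
    rw [Module.Basis.equivFun_symm_apply]
    rfl
  rw [this, LinearEquiv.apply_symm_apply]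

theorem card_fixed (hspan : Submodule.span κ (Set.range T) = ⊤) :
    Nat.card {v : V // T v = v} = p ^ Module.finrank κ V := by
  have hp : p.Prime := Fact.out
  obtain ⟨ι, _, b, hb⟩ := exists_basis_fixed p T hspan
  have hiff : ∀ v : V, T v = v ↔ ∀ i, (b.equivFun v i) ^ p = b.equivFun v i := by
    intro v
    rw [← b.equivFun.injective.eq_iff, equivFun_T_apply p T b hb v, funext_iff]
  have e1 : {v : V // T v = v} ≃ {f : ι → κ // ∀ i, f i ^ p = f i} :=
    Equiv.subtypeEquiv b.equivFun.toEquiv hiff
  have e2 : {f : ι → κ // ∀ i, f i ^ p = f i} ≃ (ι → {y : κ // y ^ p = y}) :=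
    Equiv.subtypePiEquivPi (β := fun _ => κ) (p := fun _ y => y ^ p = y)
  rw [Nat.card_congr (e1.trans e2), Nat.card_pi, Finset.prod_const, card_frob_fixed,
    Finset.card_univ, Module.finrank_eq_card_basis b]

end consequences

end Groth.Agent.Lib.Helper68.FrobFixed
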