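import Mathlib
import Groth.Agent.Lib.Helper68.FrobFixed

/-!
# Frobenius-semilinear maps over a local ring of characteristic `p`: reduction mod `𝔪` (helper68)
-/

open IsLocalRing

namespace Groth.Agent.Lib.Helper68.FrobFixed

universe u v

section

variable (R : Type u) [CommRing R] [IsLocalRing R] (p : ℕ) [Fact p.Prime] [CharP R p]

theorem charP_residueField : CharP (ResidueField R) p := by
  have hp : p.Prime := Fact.out
  have h0 : ((p : ℕ) : ResidueField R) = 0 := by
    rw [← map_natCast (residue R), CharP.cast_eq_zero, map_zero]
  exact (CharP.charP_iff_prime_eq_zero hp).mpr h0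

end

section

variable {R : Type u} [CommRing R] [IsLocalRing R] (p : ℕ) [Fact p.Prime] [CharP R p]
variable (M : Type v) [AddCommGroup M] [Module R M]

/-- `M / 𝔪 M`. -/
abbrev Red : Type v := M ⧸ (maximalIdeal R • ⊤ : Submodule R M)

noncomputable instance : Module (ResidueField R) (Red (R := R) M) :=
  inferInstanceAs (Module (R ⧸ maximalIdeal R) _)

instance : IsScalarTower R (ResidueField R) (Red (R := R) M) :=
  inferInstanceAs (IsScalarTower R (R ⧸ maximalIdeal R) _)

instance [Module.Finite R M] : Module.Finite (ResidueField R) (Red (R := R) M) :=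
  Module.Finite.of_restrictScalars_finite R (ResidueField R) (Red (R := R) M)

set_option backward.isDefEq.respectTransparency false in
theorem finrank_red [Module.Finite R M] :
    Module.finrank (ResidueField R) (Red (R := R) M) =
      Module.finrank (ResidueField R) (TensorProduct R (ResidueField R) M) := by
  let e : TensorProduct R (ResidueField R) M ≃ₗ[ResidueField R] Red (R := R) M :=
    (TensorProduct.quotTensorEquivQuotSMul M (maximalIdeal R)).extendScalarsOfSurjective
      residue_surjective
  exact e.finrank_eq.symm

variable {M}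

/-- A `p`-semilinear additive map as a semilinear map. -/
def toSemilinear (T : M →+ M) (hT : ∀ (r : R) (m : M), T (r • m) = r ^ p • T m) :
    M →ₛₗ[frobenius R p] M where
  toFun := T
  map_add' := map_add T
  map_smul' := fun r m => by rw [hT, frobenius_def]

@[simp] theorem toSemilinear_apply (T : M →+ M) (hT : ∀ (r : R) (m : M), T (r • m) = r ^ p • T m)
    (m : M) : toSemilinear p T hT m = T m := rfl

variable (T : M →ₛₗ[frobenius R p] M)

theorem map_smul_frobR (c : R) (m : M) : T (c • m) = c ^ p • T m := by
  rw [map_smulₛₗ, frobenius_def]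

theorem smul_top_le_comap :
    (maximalIdeal R • ⊤ : Submodule R M) ≤ (maximalIdeal R • ⊤ : Submodule R M).comap T := by
  have hp : p.Prime := Fact.out
  intro y hy
  rw [Submodule.mem_comap]
  refine Submodule.smul_induction_on hy (fun r hr m _ => ?_) (fun a b ha hb => ?_)
  · rw [map_smul_frobR]
    exact Submodule.smul_mem_smul (Ideal.pow_mem_of_mem _ hr p hp.pos) Submodule.mem_top
  · rw [map_add]
    exact add_mem ha hb

/-- `T` maps `𝔪 M` into `𝔪 (𝔪 M)`. -/
theorem map_mem_smul_smul {y : M} (hy : y ∈ (maximalIdeal R • ⊤ : Submodule R M)) :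
    T y ∈ maximalIdeal R • (maximalIdeal R • ⊤ : Submodule R M) := by
  have hp : p.Prime := Fact.out
  refine Submodule.smul_induction_on hy (fun r hr m _ => ?_) (fun a b ha hb => ?_)
  · rw [map_smul_frobR]
    have hpow : r ^ p = r ^ (p - 1) * r := by
      rw [← pow_succ, Nat.sub_add_cancel hp.pos]
    rw [hpow, mul_smul]
    have hp1 : 0 < p - 1 := by have := hp.two_le; omega
    refine Submodule.smul_mem_smul (Ideal.pow_mem_of_mem _ hr _ hp1) ?_
    exact Submodule.smul_mem_smul hr Submodule.mem_top
  · rw [map_add]
    exact add_mem ha hb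

/-- The reduction of `T` modulo `𝔪`, semilinear over the residue field. -/
noncomputable def redT :
    letI := charP_residueField R p
    Red (R := R) M →ₛₗ[frobenius (ResidueField R) p] Red (R := R) M :=
  letI := charP_residueField R p
  { toFun := (maximalIdeal R • ⊤ : Submodule R M).mapQ _ T (smul_top_le_comap p T)
    map_add' := map_add _
    map_smul' := fun c v => by
      obtain ⟨c, rfl⟩ := residue_surjective c
      obtain ⟨m, rfl⟩ := Submodule.mkQ_surjective _ v
      change Submodule.mapQ _ _ T (smul_top_le_comap p T) (residue R c • Submodule.Quotient.mk m) =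
        (frobenius (ResidueField R) p (residue R c)) •
          Submodule.mapQ _ _ T (smul_top_le_comap p T) (Submodule.Quotient.mk m)
      have h1 : residue R c • (Submodule.Quotient.mk m : Red (R := R) M) =
          Submodule.Quotient.mk (c • m) := rfl
      rw [h1, Submodule.mapQ_apply, Submodule.mapQ_apply, map_smul_frobR, frobenius_def,
        ← map_pow]
      rfl }

theorem redT_mk (m : M) :
    letI := charP_residueField R p
    redT p T (Submodule.Quotient.mk m) = Submodule.Quotient.mk (T m) := rfl

theorem span_range_redT (hspan : Submodule.span R (Set.range T) = ⊤) :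
    letI := charP_residueField R p
    Submodule.span (ResidueField R) (Set.range (redT p T)) = ⊤ := by
  letI := charP_residueField R p
  rw [eq_top_iff]
  rintro v -
  obtain ⟨m, rfl⟩ := Submodule.mkQ_surjective _ v
  have hm : m ∈ Submodule.span R (Set.range T) := by rw [hspan]; exact Submodule.mem_top
  refine Submodule.span_induction (p := fun m _ => (Submodule.mkQ _ m : Red (R := R) M) ∈
    Submodule.span (ResidueField R) (Set.range (redT p T))) ?_ ?_ ?_ ?_ hm
  · rintro _ ⟨x, rfl⟩
    exact Submodule.subset_span ⟨Submodule.Quotient.mk x, rfl⟩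
  · rw [map_zero]; exact Submodule.zero_mem _
  · intro x y _ _ hx hy
    rw [map_add]; exact add_mem hx hy
  · intro c x _ hx
    rw [map_smul, ← algebraMap_smul (ResidueField R) c]
    exact Submodule.smul_mem _ _ hx

/-- If `T` is bijective on a finite module over a Noetherian local ring of characteristic `p`,
then `𝔪 M = 0`. -/
theorem smul_top_eq_bot_of_bijective [IsNoetherianRing R] [Module.Finite R M]
    (hbij : Function.Bijective T) : (maximalIdeal R • ⊤ : Submodule R M) = ⊥ := by
  letI := charP_residueField R p
  have hspan : Submodule.span R (Set.range T) = ⊤ := by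
    rw [hbij.2.range_eq, Submodule.span_univ]
  have hinj := injective_of_span_range p (redT p T) (span_range_redT p T hspan)
  -- `T m ∈ 𝔪 M → m ∈ 𝔪 M`
  have h3 : ∀ m : M, T m ∈ (maximalIdeal R • ⊤ : Submodule R M) →
      m ∈ (maximalIdeal R • ⊤ : Submodule R M) := by
    intro m hm
    have h0 : redT p T (Submodule.Quotient.mk m) = 0 := by
      rw [redT_mk]
      exact (Submodule.Quotient.mk_eq_zero _).mpr hm
    have := hinj (h0.trans (map_zero _).symm)
    exact (Submodule.Quotient.mk_eq_zero _).mp this
  have hle : (maximalIdeal R • ⊤ : Submodule R M) ≤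
      maximalIdeal R • (maximalIdeal R • ⊤ : Submodule R M) := by
    intro x hx
    obtain ⟨y, rfl⟩ := hbij.2 x
    exact map_mem_smul_smul p T (h3 y hx)
  exact Submodule.eq_bot_of_le_smul_of_le_jacobson_bot (maximalIdeal R) _
    (IsNoetherian.noetherian _) hle (maximalIdeal_le_jacobson ⊥)

/-- Main theorem when `𝔪 M = 0`. -/
theorem surjective_and_card_of_smul_top_eq_bot [IsSepClosed (ResidueField R)] [Module.Finite R M]
    (hspan : Submodule.span R (Set.range T) = ⊤)
    (h0 : (maximalIdeal R • ⊤ : Submodule R M) = ⊥) :
    Function.Surjective (fun m => T m - m) ∧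
      Nat.card {m : M // T m = m} =
        p ^ Module.finrank (ResidueField R) (TensorProduct R (ResidueField R) M) := by
  letI := charP_residueField R p
  have hspan' := span_range_redT p T hspan
  have hmkinj : Function.Injective
      (Submodule.Quotient.mk : M → Red (R := R) M) := by
    intro a b hab
    have := (Submodule.Quotient.eq _).mp hab
    rw [h0, Submodule.mem_bot, sub_eq_zero] at this
    exact this
  constructor
  · intro b
    obtain ⟨v, hv⟩ := surjective_sub p (redT p T) hspan' (Submodule.Quotient.mk b)
    obtain ⟨m, rfl⟩ := Submodule.mkQ_surjective _ v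
    refine ⟨m, ?_⟩
    apply hmkinj
    change redT p T (Submodule.Quotient.mk m) - Submodule.Quotient.mk m = _ at hv
    rw [redT_mk] at hv
    exact hv
  · rw [← finrank_red, ← card_fixed p (redT p T) hspan']
    refine Nat.card_congr (Equiv.subtypeEquiv
      (Equiv.ofBijective _ ⟨hmkinj, Submodule.Quotient.mk_surjective _⟩) fun m => ?_)
    change T m = m ↔ redT p T (Submodule.Quotient.mk m) = Submodule.Quotient.mk m
    rw [redT_mk]
    exact hmkinj.eq_iff.symm

end

end Groth.Agent.Lib.Helper68.FrobFixed
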