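import Mathlib
import Groth.Agent.Lib.Helper68.FrobFixedLocal
import Groth.Agent.Lib.Helper3.HenselEtale

/-!
# Frobenius-semilinear maps over a strictly henselian local ring (helper68)

The system `∑_j a_ij x_j^p - x_i - b_i = 0` defines an étale algebra; over a henselian local ring its
solutions correspond bijectively to the solutions over the residue field.
-/

open IsLocalRing MvPolynomial

namespace Groth.Agent.Lib.Helper68.FrobFixed

universe u v

section etale

variable {R : Type u} [CommRing R] (p : ℕ) [Fact p.Prime] [CharP R p] {n : ℕ}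

/-- The polynomials `∑_j a_ij X_j^p - X_i - b_i`. -/
noncomputable def vPoly (a : Fin n → Fin n → R) (b : Fin n → R) (i : Fin n) :
    MvPolynomial (Fin n) R :=
  (∑ j, C (a i j) * X j ^ p) - X i - C (b i)

theorem aeval_vPoly {S : Type*} [CommRing S] [Algebra R S] (a : Fin n → Fin n → R) (b : Fin n → R)
    (x : Fin n → S) (i : Fin n) :
    aeval x (vPoly p a b i) =
      (∑ j, algebraMap R S (a i j) * x j ^ p) - x i - algebraMap R S (b i) := by
  simp [vPoly, map_sum]

theorem pderiv_vPoly (a : Fin n → Fin n → R) (b : Fin n → R) (i k : Fin n) :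
    pderiv k (vPoly p a b i) = if i = k then -1 else 0 := by
  have hp0 : ((p : ℕ) : MvPolynomial (Fin n) R) = 0 := CharP.cast_eq_zero _ p
  have h1 : ∀ j, pderiv k (C (a i j) * X j ^ p : MvPolynomial (Fin n) R) = 0 := by
    intro j
    rw [Derivation.leibniz, pderiv_C, smul_zero, add_zero, Derivation.leibniz_pow, nsmul_eq_mul, hp0]
    simp
  rw [vPoly, map_sub, map_sub, map_sum, Finset.sum_eq_zero (fun j _ => h1 j), pderiv_C, sub_zero,
    zero_sub, pderiv_X]
  by_cases h : i = k
  · simp [h]
  · simp [h, Pi.single_apply]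

/-- The algebra `R[X_1..X_n]/(v_1..v_n)` is étale over `R`. -/
theorem etale_quot (a : Fin n → Fin n → R) (b : Fin n → R) :
    Algebra.Etale R (MvPolynomial (Fin n) R ⧸ Ideal.span (Set.range (vPoly p a b))) := by
  classical
  let pres : Algebra.PreSubmersivePresentation R
      (MvPolynomial (Fin n) R ⧸ Ideal.span (Set.range (vPoly p a b))) (Fin n) (Fin n) :=
    Algebra.PreSubmersivePresentation.naive (v := vPoly p a b) id Function.injective_id
  have hjm : pres.jacobiMatrix = -1 := by
    ext i j
    rw [Algebra.PreSubmersivePresentation.jacobiMatrix_naive, pderiv_vPoly, Matrix.neg_apply,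
      Matrix.one_apply, id]
    by_cases h : i = j
    · rw [if_pos h.symm, if_pos h]
    · rw [if_neg (fun h' => h h'.symm), if_neg h, neg_zero]
  have hjac : IsUnit pres.jacobian := by
    rw [Algebra.PreSubmersivePresentation.jacobian_eq_jacobiMatrix_det, hjm]
    apply IsUnit.map
    rw [Matrix.det_neg, Matrix.det_one, mul_one]
    exact (IsUnit.neg isUnit_one).pow _
  let P : Algebra.SubmersivePresentation R
      (MvPolynomial (Fin n) R ⧸ Ideal.span (Set.range (vPoly p a b))) (Fin n) (Fin n) :=
    { toPreSubmersivePresentation := pres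
      jacobian_isUnit := hjac }
  have hdim : P.dimension = 0 := by
    simp [Algebra.Presentation.dimension]
  have := P.isStandardSmoothOfRelativeDimension hdim
  infer_instance

end etale

section hensel

variable {R : Type u} [CommRing R] (p : ℕ) [Fact p.Prime] [CharP R p] {n : ℕ}
  (a : Fin n → Fin n → R) (b : Fin n → R)

/-- The algebra hom out of the quotient defined by a solution. -/
noncomputable def homOfSol {S : Type*} [CommRing S] [Algebra R S] (x : Fin n → S)
    (hx : ∀ i, aeval x (vPoly p a b i) = 0) :
    (MvPolynomial (Fin n) R ⧸ Ideal.span (Set.range (vPoly p a b))) →ₐ[R] S :=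
  Ideal.Quotient.liftₐ _ (aeval x) (by
    intro f hf
    have hle : Ideal.span (Set.range (vPoly p a b)) ≤ RingHom.ker (aeval x : _ →ₐ[R] S) := by
      rw [Ideal.span_le]
      rintro _ ⟨i, rfl⟩
      exact hx i
    exact hle hf)

theorem homOfSol_mk {S : Type*} [CommRing S] [Algebra R S] (x : Fin n → S)
    (hx : ∀ i, aeval x (vPoly p a b i) = 0) (f : MvPolynomial (Fin n) R) :
    homOfSol p a b x hx (Ideal.Quotient.mk _ f) = aeval x f := rfl

theorem aeval_of_hom {S : Type*} [CommRing S] [Algebra R S]
    (σ : (MvPolynomial (Fin n) R ⧸ Ideal.span (Set.range (vPoly p a b))) →ₐ[R] S) (i : Fin n) :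
    aeval (fun k => σ (Ideal.Quotient.mk _ (X k))) (vPoly p a b i) = 0 := by
  have h1 : (aeval (fun k => σ (Ideal.Quotient.mk _ (X k))) : MvPolynomial (Fin n) R →ₐ[R] S) =
      σ.comp (Ideal.Quotient.mkₐ R _) := by
    apply MvPolynomial.algHom_ext
    intro k
    simp
  rw [h1, AlgHom.comp_apply, Ideal.Quotient.mkₐ_eq_mk]
  have h0 : Ideal.Quotient.mk (Ideal.span (Set.range (vPoly p a b))) (vPoly p a b i) = 0 :=
    Ideal.Quotient.eq_zero_iff_mem.mpr (Ideal.subset_span ⟨i, rfl⟩)
  rw [h0, map_zero]

variable [HenselianLocalRing R]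

theorem exists_lift (y : Fin n → R) (hy : ∀ i, aeval y (vPoly p a b i) ∈ maximalIdeal R) :
    ∃ x : Fin n → R, (∀ i, aeval x (vPoly p a b i) = 0) ∧ ∀ i, x i - y i ∈ maximalIdeal R := by
  have := etale_quot p a b
  have hy' : ∀ i, aeval (fun k => residue R (y k)) (vPoly p a b i) = 0 := by
    intro i
    have h1 : (aeval (fun k => residue R (y k)) : MvPolynomial (Fin n) R →ₐ[R] ResidueField R) =
        (Groth.Agent.Lib.Helper3.residueAlgHom R).comp (aeval y) := by
      apply MvPolynomial.algHom_ext
      intro k
      simp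
    rw [h1, AlgHom.comp_apply, Groth.Agent.Lib.Helper3.residueAlgHom_apply,
      residue_eq_zero_iff]
    exact hy i
  obtain ⟨σ, hσ⟩ := Groth.Agent.Lib.Helper3.exists_algHom_of_etale
    (homOfSol p a b (fun k => residue R (y k)) hy')
  refine ⟨fun k => σ (Ideal.Quotient.mk _ (X k)), aeval_of_hom p a b σ, fun i => ?_⟩
  have := congrArg (fun f => f (Ideal.Quotient.mk _ (X i))) hσ
  simp only [AlgHom.comp_apply, Groth.Agent.Lib.Helper3.residueAlgHom_apply, homOfSol_mk,
    aeval_X] at this
  rw [← residue_eq_zero_iff, map_sub, this, sub_self]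

theorem lift_unique (x x' : Fin n → R) (hx : ∀ i, aeval x (vPoly p a b i) = 0)
    (hx' : ∀ i, aeval x' (vPoly p a b i) = 0) (h : ∀ i, x i - x' i ∈ maximalIdeal R) : x = x' := by
  have := etale_quot p a b
  have hcomp : (Groth.Agent.Lib.Helper3.residueAlgHom R).comp (homOfSol p a b x hx) =
      (Groth.Agent.Lib.Helper3.residueAlgHom R).comp (homOfSol p a b x' hx') := by
    apply Ideal.Quotient.algHom_ext
    apply MvPolynomial.algHom_ext
    intro k
    simp only [AlgHom.comp_apply, Ideal.Quotient.mkₐ_eq_mk, homOfSol_mk, aeval_X,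
      Groth.Agent.Lib.Helper3.residueAlgHom_apply]
    rw [← sub_eq_zero, ← map_sub, residue_eq_zero_iff]
    exact h k
  have := Groth.Agent.Lib.Helper3.algHom_ext_of_etale _ _ hcomp
  funext k
  have h2 := congrArg (fun f => f (Ideal.Quotient.mk _ (X k))) this
  simpa only [homOfSol_mk, aeval_X] using h2

end hensel

section module

theorem mem_smul_top_iff_repr {R : Type*} [CommRing R] {M : Type*} [AddCommGroup M] [Module R M]
    {ι : Type*} [Fintype ι] (e : Module.Basis ι R M) (I : Ideal R) (m : M) :
    m ∈ (I • ⊤ : Submodule R M) ↔ ∀ i, e.repr m i ∈ I := by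
  constructor
  · intro hm
    refine Submodule.smul_induction_on hm (fun r hr x _ i => ?_) (fun x y hx hy i => ?_)
    · rw [map_smul, Finsupp.smul_apply, smul_eq_mul]
      exact Ideal.mul_mem_right _ _ hr
    · rw [map_add, Finsupp.add_apply]
      exact add_mem (hx i) (hy i)
  · intro h
    rw [← e.sum_repr m]
    exact Submodule.sum_mem _ fun i _ => Submodule.smul_mem_smul (h i) Submodule.mem_top

variable {R : Type u} [CommRing R] (p : ℕ) [Fact p.Prime] [CharP R p]
  {M : Type v} [AddCommGroup M] [Module R M] (T : M →ₛₗ[frobenius R p] M)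

theorem repr_T_sub {n : ℕ} (e : Module.Basis (Fin n) R M) (b m : M) (i : Fin n) :
    e.repr (T m - m - b) i =
      aeval (fun k => e.repr m k)
        (vPoly p (fun i j => e.repr (T (e j)) i) (fun i => e.repr b i) i) := by
  have hT : T m = ∑ j, (e.repr m j) ^ p • T (e j) := by
    conv_lhs => rw [← e.sum_repr m]
    rw [map_sum]
    refine Finset.sum_congr rfl fun j _ => ?_
    rw [map_smulₛₗ, frobenius_def]
  rw [aeval_vPoly, map_sub, map_sub, Finsupp.sub_apply, Finsupp.sub_apply, hT, map_sum,
    Finsupp.finset_sum_apply]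
  congr 2
  refine Finset.sum_congr rfl fun j _ => ?_
  rw [map_smul, Finsupp.smul_apply, smul_eq_mul, Algebra.algebraMap_self_apply, mul_comm]

variable [HenselianLocalRing R] [Module.Free R M] [Module.Finite R M]

/-- Solutions of `T m - m = b` correspond bijectively to solutions modulo `𝔪`. -/
theorem existsUnique_lift (b : M) (v : Red (R := R) M)
    (hv : letI := charP_residueField R p
      redT p T v - v = Submodule.Quotient.mk b) :
    ∃! m : M, T m - m = b ∧ (Submodule.Quotient.mk m : Red (R := R) M) = v := by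
  letI := charP_residueField R p
  let e := Module.finBasis R M
  set a : Fin (Module.finrank R M) → Fin (Module.finrank R M) → R :=
    fun i j => e.repr (T (e j)) i with ha
  set bb : Fin (Module.finrank R M) → R := fun i => e.repr b i with hbb
  obtain ⟨m₀, rfl⟩ := Submodule.mkQ_surjective _ v
  have hm₀ : T m₀ - m₀ - b ∈ (maximalIdeal R • ⊤ : Submodule R M) := by
    rw [← Submodule.Quotient.mk_eq_zero, Submodule.Quotient.mk_sub, Submodule.Quotient.mk_sub,
      sub_eq_zero]
    exact hv
  have hy : ∀ i, aeval (fun k => e.repr m₀ k) (vPoly p a bb i) ∈ maximalIdeal R := by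
    intro i
    rw [← repr_T_sub p T e b m₀ i]
    exact (mem_smul_top_iff_repr e _ _).mp hm₀ i
  obtain ⟨x, hx, hxy⟩ := exists_lift p a bb _ hy
  have hrepr : ∀ k, e.repr (e.equivFun.symm x) k = x k := by
    intro k
    have := e.equivFun.apply_symm_apply x
    exact congrFun this k
  refine ⟨e.equivFun.symm x, ⟨?_, ?_⟩, ?_⟩
  · rw [← sub_eq_zero]
    apply e.repr.injective
    ext i
    rw [repr_T_sub p T e b _ i, map_zero, Finsupp.zero_apply]
    have : (fun k => e.repr (e.equivFun.symm x) k) = x := funext hrepr
    rw [this]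
    exact hx i
  · change (Submodule.Quotient.mk (e.equivFun.symm x) : Red (R := R) M) =
      Submodule.Quotient.mk m₀
    rw [Submodule.Quotient.eq, mem_smul_top_iff_repr e]
    intro i
    rw [map_sub, Finsupp.sub_apply, hrepr]
    exact hxy i
  · rintro m' ⟨hm'1, hm'2⟩
    have hm'2' : (Submodule.Quotient.mk m' : Red (R := R) M) = Submodule.Quotient.mk m₀ := hm'2
    apply e.repr.injective
    ext i
    rw [hrepr]
    have hx' : ∀ i, aeval (fun k => e.repr m' k) (vPoly p a bb i) = 0 := by
      intro i
      rw [← repr_T_sub p T e b m' i, hm'1, sub_self, map_zero, Finsupp.zero_apply]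
    have hdiff : ∀ i, e.repr m' i - x i ∈ maximalIdeal R := by
      intro i
      have h1 : m' - m₀ ∈ (maximalIdeal R • ⊤ : Submodule R M) :=
        (Submodule.Quotient.eq _).mp hm'2'
      have h2 := (mem_smul_top_iff_repr e _ _).mp h1 i
      rw [map_sub, Finsupp.sub_apply] at h2
      have h3 := hxy i
      have : e.repr m' i - x i = (e.repr m' i - e.repr m₀ i) - (x i - e.repr m₀ i) := by ring
      rw [this]
      exact sub_mem h2 h3
    exact congrFun (lift_unique p a bb _ x hx' hx hdiff) i

/-- Main theorem over a strictly henselian local ring. -/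
theorem surjective_and_card_of_henselian [IsSepClosed (ResidueField R)]
    (hspan : Submodule.span R (Set.range T) = ⊤) :
    Function.Surjective (fun m => T m - m) ∧
      Nat.card {m : M // T m = m} = p ^ Module.finrank R M := by
  letI := charP_residueField R p
  have hspan' := span_range_redT p T hspan
  constructor
  · intro b
    obtain ⟨v, hv⟩ := surjective_sub p (redT p T) hspan' (Submodule.Quotient.mk b)
    obtain ⟨m, ⟨hm, -⟩, -⟩ := existsUnique_lift p T b v hv
    exact ⟨m, hm⟩
  · have hfin : Module.finrank (ResidueField R) (Red (R := R) M) = Module.finrank R M := by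
      rw [finrank_red, Module.finrank_baseChange]
    rw [← hfin, ← card_fixed p (redT p T) hspan']
    let f : {m : M // T m = m} → {v : Red (R := R) M // redT p T v = v} :=
      fun m => ⟨Submodule.Quotient.mk m.1, by rw [redT_mk, m.2]⟩
    have hf : Function.Bijective f := by
      constructor
      · rintro ⟨m, hm⟩ ⟨m', hm'⟩ h
        have h' : (Submodule.Quotient.mk m : Red (R := R) M) = Submodule.Quotient.mk m' :=
          congrArg Subtype.val h
        have hv : redT p T (Submodule.Quotient.mk m') - Submodule.Quotient.mk m' =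
            (Submodule.Quotient.mk (0 : M) : Red (R := R) M) := by
          rw [redT_mk, hm', sub_self]; rfl
        obtain ⟨m₁, -, huniq⟩ := existsUnique_lift p T 0 _ hv
        have e1 := huniq m ⟨by rw [hm, sub_self], h'⟩
        have e2 := huniq m' ⟨by rw [hm', sub_self], rfl⟩
        exact Subtype.ext (e1.trans e2.symm)
      · rintro ⟨v, hv⟩
        have hv' : redT p T v - v = (Submodule.Quotient.mk (0 : M) : Red (R := R) M) := by
          rw [hv, sub_self]; rfl
        obtain ⟨m, ⟨hm1, hm2⟩, -⟩ := existsUnique_lift p T 0 v hv'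
        exact ⟨⟨m, sub_eq_zero.mp hm1⟩, Subtype.ext hm2⟩
    exact Nat.card_congr (Equiv.ofBijective f hf)

end module

end Groth.Agent.Lib.Helper68.FrobFixed
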