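import Mathlib.FieldTheory.KrullTopology
import Mathlib.FieldTheory.Galois.Infinite
import Mathlib.FieldTheory.Galois.Profinite
import Mathlib.Topology.LocallyConstant.Basic
import Mathlib.RepresentationTheory.Homological.GroupCohomology.Hilbert90
import Mathlib.FieldTheory.IsSepClosed
import Mathlib.RingTheory.Trace.Basic

/-!
# Descent of locally constant functions on an infinite Galois group to a finite level
-/

namespace Groth.Agent.Lib.Helper68

open scoped Topology

/-- In a compact topological group, a locally constant function is right invariant under a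
neighbourhood of the identity. -/
theorem exists_nhds_one_right_invariant {G X : Type*} [Group G] [TopologicalSpace G]
    [IsTopologicalGroup G] [CompactSpace G] (a : G → X) (hlc : IsLocallyConstant a) :
    {g : G | ∀ σ, a (σ * g) = a σ} ∈ 𝓝 (1 : G) := by
  let n : Set (G × G) := {p | a (p.1 * p.2) = a p.1}
  have hn : IsOpen n := by
    letI : TopologicalSpace X := ⊥
    haveI : DiscreteTopology X := ⟨rfl⟩
    have hcont : Continuous a := hlc.continuous
    have hn' : n = (fun p : G × G => (a (p.1 * p.2), a p.1)) ⁻¹' {q | q.1 = q.2} := rfl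
    rw [hn']
    apply IsOpen.preimage
    · exact (hcont.comp continuous_mul).prodMk (hcont.comp continuous_fst)
    · exact isOpen_discrete _
  obtain ⟨u, v, hu, hv, hsu, htv, huv⟩ :=
    generalized_tube_lemma isCompact_univ (isCompact_singleton (x := (1 : G))) hn (by
      rintro ⟨σ, g⟩ ⟨-, hg⟩
      have hg' : g = 1 := hg
      subst hg'
      show a (σ * 1) = a σ
      rw [mul_one])
  refine Filter.mem_of_superset (hv.mem_nhds (htv rfl)) ?_
  intro g hg σ
  exact huv (Set.mk_mem_prod (hsu trivial) hg)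

variable {K L : Type*} [Field K] [Field L] [Algebra K L]

/-- A locally constant function on an infinite Galois group is right invariant under the fixing
subgroup of a finite normal subextension. -/
theorem exists_finite_normal_invariant [IsGalois K L] {X : Type*} (a : (L ≃ₐ[K] L) → X)
    (hlc : IsLocallyConstant a) :
    ∃ E : IntermediateField K L, FiniteDimensional K E ∧ Normal K E ∧
      ∀ σ τ : L ≃ₐ[K] L, τ ∈ E.fixingSubgroup → a (σ * τ) = a σ := by
  have h := exists_nhds_one_right_invariant a hlc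
  rw [krullTopology_mem_nhds_one_iff_of_normal] at h
  obtain ⟨E, h1, h2, h3⟩ := h
  exact ⟨E, h1, h2, fun σ τ hτ => h3 hτ σ⟩

theorem eq_of_restrictNormalHom_eq {X : Type*} (a : (L ≃ₐ[K] L) → X)
    (E : IntermediateField K L) [Normal K E]
    (h : ∀ σ τ : L ≃ₐ[K] L, τ ∈ E.fixingSubgroup → a (σ * τ) = a σ)
    (σ σ' : L ≃ₐ[K] L)
    (hr : AlgEquiv.restrictNormalHom E σ = AlgEquiv.restrictNormalHom E σ') : a σ = a σ' := by
  have hmem : σ⁻¹ * σ' ∈ E.fixingSubgroup := by
    rw [← IntermediateField.restrictNormalHom_ker, MonoidHom.mem_ker, map_mul, map_inv, hr,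
      inv_mul_cancel]
  have := h σ _ hmem
  rw [mul_inv_cancel_left] at this
  exact this.symm

/-- Hilbert 90 for locally constant cocycles on an infinite Galois group. -/
theorem hilbert90_locallyConstant [IsGalois K L] (a : (L ≃ₐ[K] L) → Lˣ)
    (ha : ∀ σ τ : L ≃ₐ[K] L, a (σ * τ) = a σ * σ • a τ) (hlc : IsLocallyConstant a) :
    ∃ c : Lˣ, ∀ σ : L ≃ₐ[K] L, a σ = c⁻¹ * σ • c := by
  obtain ⟨E, hfin, hnorm, hinv⟩ := exists_finite_normal_invariant a hlc
  have hfact := eq_of_restrictNormalHom_eq a E hinv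
  have ha1 : a 1 = 1 := by
    have := ha 1 1
    rw [one_smul, mul_one] at this
    exact left_eq_mul.mp this
  -- `a` is trivial on the fixing subgroup
  have haH : ∀ τ ∈ E.fixingSubgroup, a τ = 1 := by
    intro τ hτ
    have := hinv 1 τ hτ
    rw [one_mul, ha1] at this
    exact this
  have hHnormal : (E.fixingSubgroup).Normal := by
    rw [← IntermediateField.restrictNormalHom_ker]
    exact MonoidHom.normal_ker _
  -- the values of `a` lie in `E`
  have hval : ∀ σ : L ≃ₐ[K] L, ((a σ : Lˣ) : L) ∈ E := by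
    intro σ
    rw [← InfiniteGalois.fixedField_fixingSubgroup E, IntermediateField.mem_fixedField_iff]
    intro τ hτ
    have h1 : a (τ * σ) = τ • a σ := by
      rw [ha τ σ, haH τ hτ, one_mul]
    have h2 : a (τ * σ) = a σ := by
      have hconj : σ⁻¹ * τ * σ ∈ E.fixingSubgroup := by
        have := hHnormal.conj_mem τ hτ σ⁻¹
        rwa [inv_inv] at this
      have := hinv σ _ hconj
      rw [← this]
      congr 1
      group
    have h3 : τ • a σ = a σ := h1.symm.trans h2
    have := congrArg (fun u : Lˣ => (u : L)) h3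
    simpa [AlgEquiv.smul_units_def] using this
  -- lifts
  have hsurj := AlgEquiv.restrictNormalHom_surjective (F := K) (K₁ := E) L
  choose lift hlift using hsurj
  -- the descended cocycle
  let abar : (E ≃ₐ[K] E) → Eˣ := fun ρ =>
    Units.mk0 (⟨((a (lift ρ) : Lˣ) : L), hval (lift ρ)⟩ : E) (by
      intro h0
      have := congrArg (fun e : E => (e : L)) h0
      exact (a (lift ρ)).ne_zero this)
  have habar : ∀ ρ, (((abar ρ : Eˣ) : E) : L) = ((a (lift ρ) : Lˣ) : L) := fun ρ => rfl
  have hcoc : groupCohomology.IsMulCocycle₁ abar := by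
    intro g h
    apply Units.ext
    apply Subtype.ext
    have e1 : a (lift (g * h)) = a (lift g * lift h) :=
      hfact _ _ (by rw [map_mul, hlift, hlift, hlift])
    rw [habar, e1, ha]
    simp only [Units.val_mul, AlgEquiv.smul_units_def, Units.coe_map, MonoidHom.coe_coe,
      MulMemClass.coe_mul]
    rw [habar, mul_comm]
    congr 1
    have := AlgEquiv.restrictNormalHom_apply E (lift g) ((abar h : Eˣ) : E)
    rw [hlift] at this
    rw [this, habar]
  obtain ⟨β, hβ⟩ := groupCohomology.isMulCoboundary₁_of_isMulCocycle₁_of_aut_to_units abar hcoc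
  refine ⟨Units.map (algebraMap E L : E →* L) β, fun σ => ?_⟩
  have e1 : a σ = a (lift (AlgEquiv.restrictNormalHom E σ)) := hfact _ _ (by rw [hlift])
  have e2 := hβ (AlgEquiv.restrictNormalHom E σ)
  apply Units.ext
  rw [e1, ← habar, ← e2]
  simp only [Units.val_mul, AlgEquiv.smul_units_def, Units.coe_map, MonoidHom.coe_coe,
    Units.val_div_eq_div_val, Units.val_inv_eq_inv_val]
  rw [IntermediateField.coe_div, AlgEquiv.restrictNormalHom_apply, div_eq_inv_mul]
  rfl

/-- Additive Hilbert 90 for a finite Galois extension. -/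
theorem add_hilbert90_finite (K E : Type*) [Field K] [Field E] [Algebra K E]
    [FiniteDimensional K E] [IsGalois K E] (f : (E ≃ₐ[K] E) → E)
    (hf : ∀ g h : E ≃ₐ[K] E, f (g * h) = f g + g (f h)) :
    ∃ y : E, ∀ g : E ≃ₐ[K] E, f g = g y - y := by
  classical
  obtain ⟨θ, hθ⟩ := Algebra.trace_surjective K E 1
  have htr : ∑ σ : E ≃ₐ[K] E, σ θ = 1 := by
    rw [← trace_eq_sum_automorphisms, hθ, map_one]
  refine ⟨-(∑ ρ : E ≃ₐ[K] E, f ρ * ρ θ), fun g => ?_⟩
  have h1 : g (∑ ρ : E ≃ₐ[K] E, f ρ * ρ θ) = ∑ ρ : E ≃ₐ[K] E, (f (g * ρ) - f g) * (g * ρ) θ := by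
    rw [map_sum]
    apply Finset.sum_congr rfl
    intro ρ _
    rw [map_mul, hf g ρ, add_sub_cancel_left, AlgEquiv.mul_apply]
  have h2 : ∑ ρ : E ≃ₐ[K] E, (f (g * ρ) - f g) * (g * ρ) θ =
      ∑ ρ : E ≃ₐ[K] E, (f ρ - f g) * ρ θ :=
    Fintype.sum_bijective (fun ρ => g * ρ) (Group.mulLeft_bijective g) _ _ (fun _ => rfl)
  have h3 : ∑ ρ : E ≃ₐ[K] E, (f ρ - f g) * ρ θ =
      (∑ ρ : E ≃ₐ[K] E, f ρ * ρ θ) - f g := by
    simp only [sub_mul, Finset.sum_sub_distrib]
    rw [← Finset.mul_sum, htr, mul_one]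
  rw [map_neg, h1, h2, h3]
  ring

/-- Additive Hilbert 90 for locally constant cocycles on an infinite Galois group. -/
theorem add_hilbert90_locallyConstant [IsGalois K L] (a : (L ≃ₐ[K] L) → L)
    (ha : ∀ σ τ : L ≃ₐ[K] L, a (σ * τ) = a σ + σ (a τ)) (hlc : IsLocallyConstant a) :
    ∃ y : L, ∀ σ : L ≃ₐ[K] L, a σ = σ y - y := by
  obtain ⟨E, hfin, hnorm, hinv⟩ := exists_finite_normal_invariant a hlc
  have hfact := eq_of_restrictNormalHom_eq a E hinv
  have ha1 : a 1 = 0 := by
    have := ha 1 1
    rw [AlgEquiv.one_apply, mul_one] at this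
    exact left_eq_add.mp this
  have haH : ∀ τ ∈ E.fixingSubgroup, a τ = 0 := by
    intro τ hτ
    have := hinv 1 τ hτ
    rw [one_mul, ha1] at this
    exact this
  have hHnormal : (E.fixingSubgroup).Normal := by
    rw [← IntermediateField.restrictNormalHom_ker]
    exact MonoidHom.normal_ker _
  have hval : ∀ σ : L ≃ₐ[K] L, a σ ∈ E := by
    intro σ
    rw [← InfiniteGalois.fixedField_fixingSubgroup E, IntermediateField.mem_fixedField_iff]
    intro τ hτ
    have h1 : a (τ * σ) = τ (a σ) := by
      rw [ha τ σ, haH τ hτ, zero_add]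
    have h2 : a (τ * σ) = a σ := by
      have hconj : σ⁻¹ * τ * σ ∈ E.fixingSubgroup := by
        have := hHnormal.conj_mem τ hτ σ⁻¹
        rwa [inv_inv] at this
      have := hinv σ _ hconj
      rw [← this]
      congr 1
      group
    exact h1.symm.trans h2
  have hsurj := AlgEquiv.restrictNormalHom_surjective (F := K) (K₁ := E) L
  choose lift hlift using hsurj
  let abar : (E ≃ₐ[K] E) → E := fun ρ => ⟨a (lift ρ), hval (lift ρ)⟩
  have habar : ∀ ρ, ((abar ρ : E) : L) = a (lift ρ) := fun ρ => rfl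
  have : IsGalois K E := ⟨⟩
  have hcoc : ∀ g h : E ≃ₐ[K] E, abar (g * h) = abar g + g (abar h) := by
    intro g h
    apply Subtype.ext
    have e1 : a (lift (g * h)) = a (lift g * lift h) :=
      hfact _ _ (by rw [map_mul, hlift, hlift, hlift])
    rw [habar, e1, ha, AddMemClass.coe_add, habar]
    congr 1
    have := AlgEquiv.restrictNormalHom_apply E (lift g) (abar h)
    rw [hlift] at this
    rw [this, habar]
  obtain ⟨y, hy⟩ := add_hilbert90_finite K E abar hcoc
  refine ⟨(y : L), fun σ => ?_⟩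
  have e1 : a σ = a (lift (AlgEquiv.restrictNormalHom E σ)) := hfact _ _ (by rw [hlift])
  have e2 := hy (AlgEquiv.restrictNormalHom E σ)
  rw [e1, ← habar, e2, AddSubgroupClass.coe_sub, AlgEquiv.restrictNormalHom_apply]

end Groth.Agent.Lib.Helper68
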