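import Mathlib

/-! # Graded algebras generated in degree one, tested on geometric fibres (helper68) -/

open TensorProduct

universe u

namespace Groth.Agent.Lib.Helper68.GradedGen

/-- Global Nakayama: a finite module `Q` with `𝔪 Q = Q` for all maximal ideals is zero. -/
theorem subsingleton_of_forall_maximal_smul_top {A : Type*} [CommRing A] {Q : Type*}
    [AddCommGroup Q] [Module A Q] [Module.Finite A Q]
    (h : ∀ 𝔪 : Ideal A, 𝔪.IsMaximal → (⊤ : Submodule A Q) ≤ 𝔪 • ⊤) : Subsingleton Q := by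
  by_contra hns
  rw [not_subsingleton_iff_nontrivial] at hns
  have hann : Module.annihilator A Q ≠ ⊤ := by
    intro htop
    have h1 : (1 : A) ∈ Module.annihilator A Q := by rw [htop]; trivial
    rw [Module.mem_annihilator] at h1
    obtain ⟨x, y, hxy⟩ := exists_pair_ne Q
    exact hxy (by rw [← one_smul A x, ← one_smul A y, h1 x, h1 y])
  obtain ⟨𝔪, h𝔪, hle⟩ := Ideal.exists_le_maximal _ hann
  obtain ⟨r, hr1, hr⟩ := Submodule.exists_sub_one_mem_and_smul_eq_zero_of_fg_of_le_smul 𝔪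
    (⊤ : Submodule A Q) Module.Finite.fg_top (h 𝔪 h𝔪)
  have hrann : r ∈ Module.annihilator A Q := by
    rw [Module.mem_annihilator]; intro x; exact hr x trivial
  have h1 : (1 : A) ∈ 𝔪 := by
    have := 𝔪.sub_mem (hle hrann) hr1
    simpa using this
  exact h𝔪.ne_top ((Ideal.eq_top_iff_one _).mpr h1)

variable (A : Type u) [CommRing A] (B : Type u) [CommRing B] [Algebra A B]
  (𝒜 : ℕ → Submodule A B) [GradedAlgebra 𝒜]

theorem pow_le_graded (m : ℕ) : (𝒜 1) ^ m ≤ 𝒜 m := by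
  induction m with
  | zero =>
    rw [pow_zero, Submodule.one_le]
    exact SetLike.GradedOne.one_mem
  | succ m ih =>
    rw [pow_succ, Submodule.mul_le]
    intro x hx y hy
    exact SetLike.GradedMul.mul_mem (ih hx) hy

theorem pow_le_adjoin (m : ℕ) :
    (𝒜 1) ^ m ≤ Subalgebra.toSubmodule (Algebra.adjoin A (𝒜 1 : Set B)) := by
  induction m with
  | zero =>
    rw [pow_zero, Submodule.one_le]
    exact Subalgebra.one_mem _
  | succ m ih =>
    rw [pow_succ, Submodule.mul_le]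
    intro x hx y hy
    exact Subalgebra.mul_mem _ (ih hx) (Algebra.subset_adjoin hy)

/-- the projection to the degree `m` part -/
noncomputable def proj (m : ℕ) : B →ₗ[A] 𝒜 m :=
  (DirectSum.component A ℕ (fun i => 𝒜 i) m) ∘ₗ (DirectSum.decomposeLinearEquiv 𝒜).toLinearMap

theorem proj_apply (m : ℕ) (x : B) : proj A B 𝒜 m x = DirectSum.decompose 𝒜 x m := rfl

theorem proj_of_mem_same {m : ℕ} {x : B} (hx : x ∈ 𝒜 m) : proj A B 𝒜 m x = ⟨x, hx⟩ := by
  apply Subtype.ext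
  rw [proj_apply]
  exact DirectSum.decompose_of_mem_same 𝒜 hx

theorem proj_of_mem_ne {m j : ℕ} {x : B} (hx : x ∈ 𝒜 j) (h : j ≠ m) : proj A B 𝒜 m x = 0 := by
  apply Subtype.ext
  rw [proj_apply]
  exact DirectSum.decompose_of_mem_ne 𝒜 hx h

/-- Elements of the multiplicative closure of `1 ⊗ 𝒜 1` are of the form `1 ⊗ p`, `p ∈ (𝒜 1)^j`. -/
theorem closure_subset (k : Type u) [Field k] [Algebra A k] (z : k ⊗[A] B)
    (hz : z ∈ Submonoid.closure
      ((Algebra.TensorProduct.includeRight : B →ₐ[A] k ⊗[A] B) '' (𝒜 1 : Set B))) :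
    ∃ (j : ℕ) (p : B), p ∈ (𝒜 1) ^ j ∧ z = (1 : k) ⊗ₜ[A] p := by
  induction hz using Submonoid.closure_induction with
  | mem z hz =>
    obtain ⟨p, hp, rfl⟩ := hz
    exact ⟨1, p, by rwa [pow_one], rfl⟩
  | one => exact ⟨0, 1, by rw [pow_zero]; exact Submodule.one_le.mp le_rfl, rfl⟩
  | mul x y _ _ hx hy =>
    obtain ⟨j, p, hp, rfl⟩ := hx
    obtain ⟨j', p', hp', rfl⟩ := hy
    refine ⟨j + j', p * p', ?_, ?_⟩
    · rw [pow_add]; exact Submodule.mul_mem_mul hp hp'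
    · rw [Algebra.TensorProduct.tmul_mul_tmul, one_mul]

theorem graded_le_pow (hfin : ∀ m : ℕ, Module.Finite A (𝒜 m))
    (hgen : ∀ (k : Type u) [Field k] [IsAlgClosed k] [Algebra A k],
      Algebra.adjoin k ((Algebra.TensorProduct.includeRight : B →ₐ[A] k ⊗[A] B) ''
        (𝒜 1 : Set B)) = ⊤) (m : ℕ) : 𝒜 m ≤ (𝒜 1) ^ m := by
  classical
  haveI := hfin m
  -- the quotient `Q = 𝒜 m / (𝒜 1)^m`
  suffices hQ : Subsingleton (𝒜 m ⧸ ((𝒜 1) ^ m).comap (𝒜 m).subtype) by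
    rw [Submodule.Quotient.subsingleton_iff] at hQ
    intro x hx
    have : (⟨x, hx⟩ : 𝒜 m) ∈ ((𝒜 1) ^ m).comap (𝒜 m).subtype := by rw [hQ]; trivial
    exact this
  apply subsingleton_of_forall_maximal_smul_top (A := A)
  intro 𝔪 h𝔪
  by_contra hnot
  letI : Field (A ⧸ 𝔪) := Ideal.Quotient.field 𝔪
  -- a nonzero vector in `V = Q / 𝔪 Q`
  obtain ⟨q, -, hq⟩ := SetLike.not_le_iff_exists.mp hnot
  have hv : Submodule.Quotient.mk (p := (𝔪 • ⊤ : Submodule A
      (𝒜 m ⧸ ((𝒜 1) ^ m).comap (𝒜 m).subtype))) q ≠ 0 := by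
    rwa [Ne, Submodule.Quotient.mk_eq_zero]
  obtain ⟨φ, hφ⟩ := Module.Projective.exists_dual_ne_zero (A ⧸ 𝔪) hv
  obtain ⟨b, rfl⟩ := Submodule.Quotient.mk_surjective _ q
  -- the `A`-linear functional on `B`
  let φA : ((𝒜 m ⧸ ((𝒜 1) ^ m).comap (𝒜 m).subtype) ⧸ (𝔪 • ⊤ : Submodule A
      (𝒜 m ⧸ ((𝒜 1) ^ m).comap (𝒜 m).subtype))) →ₗ[A] (A ⧸ 𝔪) :=
    { toFun := φ
      map_add' := φ.map_add
      map_smul' := fun a x => by
        have h1 : a • x = (Ideal.Quotient.mk 𝔪 a) • x := by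
          induction x using Submodule.Quotient.induction_on with
          | H y => rfl
        rw [h1, φ.map_smul]
        rfl }
  let lam : B →ₗ[A] AlgebraicClosure (A ⧸ 𝔪) :=
    (IsScalarTower.toAlgHom A (A ⧸ 𝔪) (AlgebraicClosure (A ⧸ 𝔪))).toLinearMap ∘ₗ φA ∘ₗ
      (Submodule.mkQ _) ∘ₗ (Submodule.mkQ (((𝒜 1) ^ m).comap (𝒜 m).subtype)) ∘ₗ proj A B 𝒜 m
  have hlam : ∀ (j : ℕ) (p : B), p ∈ (𝒜 1) ^ j → lam p = 0 := by
    intro j p hp
    have hpj : p ∈ 𝒜 j := pow_le_graded A B 𝒜 j hp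
    by_cases hjm : j = m
    · subst hjm
      have h1 : Submodule.mkQ (((𝒜 1) ^ j).comap (𝒜 j).subtype) (proj A B 𝒜 j p) = 0 := by
        rw [proj_of_mem_same A B 𝒜 hpj, Submodule.mkQ_apply, Submodule.Quotient.mk_eq_zero]
        exact hp
      simp only [lam, LinearMap.comp_apply, h1, map_zero]
    · simp only [lam, LinearMap.comp_apply, proj_of_mem_ne A B 𝒜 hpj hjm, map_zero]
  -- the functional kills the adjoin
  have hkill : ∀ z ∈ Algebra.adjoin (AlgebraicClosure (A ⧸ 𝔪))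
      ((Algebra.TensorProduct.includeRight : B →ₐ[A] AlgebraicClosure (A ⧸ 𝔪) ⊗[A] B) ''
        (𝒜 1 : Set B)), lam.liftBaseChange (AlgebraicClosure (A ⧸ 𝔪)) z = 0 := by
    intro z hz
    rw [← Subalgebra.mem_toSubmodule, Algebra.adjoin_eq_span] at hz
    induction hz using Submodule.span_induction with
    | mem z hz =>
      obtain ⟨j, p, hp, rfl⟩ := closure_subset A B 𝒜 _ z hz
      rw [LinearMap.liftBaseChange_tmul, hlam j p hp, smul_zero]
    | zero => exact map_zero _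
    | add x y _ _ hx hy => rw [map_add, hx, hy, add_zero]
    | smul c x _ hx => rw [map_smul, hx, smul_zero]
  have h2 := hkill ((1 : AlgebraicClosure (A ⧸ 𝔪)) ⊗ₜ[A] (b : B))
    (by rw [hgen (AlgebraicClosure (A ⧸ 𝔪))]; trivial)
  rw [LinearMap.liftBaseChange_tmul, one_smul] at h2
  have h3 : lam (b : B) = algebraMap (A ⧸ 𝔪) (AlgebraicClosure (A ⧸ 𝔪))
      (φ (Submodule.Quotient.mk (Submodule.Quotient.mk b))) := by
    simp only [lam, LinearMap.comp_apply]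
    rw [proj_of_mem_same A B 𝒜 b.2]
    rfl
  rw [h3] at h2
  exact hφ ((algebraMap (A ⧸ 𝔪) (AlgebraicClosure (A ⧸ 𝔪))).injective (by rw [h2, map_zero]))

theorem adjoin_eq_top (hfin : ∀ m : ℕ, Module.Finite A (𝒜 m))
    (hgen : ∀ (k : Type u) [Field k] [IsAlgClosed k] [Algebra A k],
      Algebra.adjoin k ((Algebra.TensorProduct.includeRight : B →ₐ[A] k ⊗[A] B) ''
        (𝒜 1 : Set B)) = ⊤) : Algebra.adjoin A (𝒜 1 : Set B) = ⊤ := by
  classical
  rw [eq_top_iff]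
  rintro b -
  rw [← DirectSum.sum_support_decompose 𝒜 b]
  refine Subalgebra.sum_mem _ fun m _ => ?_
  exact pow_le_adjoin A B 𝒜 m (graded_le_pow A B 𝒜 hfin hgen m (Subtype.mem _))

end Groth.Agent.Lib.Helper68.GradedGen
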