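import Mathlib

open DirectSum

namespace Groth.Agent.Lib.Helper68.GradedSkolem

variable {k : Type*} [Field k] {V W : Type*} [AddCommGroup V] [Module k V]
  [AddCommGroup W] [Module k W]

section proj

variable (𝒱 : ℤ → Submodule k V) [DirectSum.Decomposition 𝒱]

/-- Projection onto the `i`-th piece. -/
noncomputable def proj (i : ℤ) : V →ₗ[k] V :=
  (𝒱 i).subtype ∘ₗ (DirectSum.component k ℤ (fun j => 𝒱 j) i) ∘ₗ
    (DirectSum.decomposeLinearEquiv 𝒱).toLinearMap

lemma proj_apply (i : ℤ) (v : V) : proj 𝒱 i v = (DirectSum.decompose 𝒱 v i : V) := rfl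

lemma proj_mem (i : ℤ) (v : V) : proj 𝒱 i v ∈ 𝒱 i := by
  rw [proj_apply]; exact Submodule.coe_mem _

lemma proj_of_mem {i : ℤ} {v : V} (hv : v ∈ 𝒱 i) : proj 𝒱 i v = v :=
  DirectSum.decompose_of_mem_same 𝒱 hv

lemma proj_of_mem_ne {i j : ℤ} {v : V} (hv : v ∈ 𝒱 i) (hij : i ≠ j) : proj 𝒱 j v = 0 :=
  DirectSum.decompose_of_mem_ne 𝒱 hv hij

lemma eq_zero_of_proj_eq_zero {v : V} (h : ∀ i, proj 𝒱 i v = 0) : v = 0 := by
  have h0 : DirectSum.decompose 𝒱 v = 0 := by
    refine DFinsupp.ext fun i => ?_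
    apply Subtype.ext
    simpa [proj_apply] using h i
  have := congrArg (DirectSum.decompose 𝒱).symm h0
  simpa using this

lemma sum_proj [DecidableEq V] (v : V) :
    ∑ i ∈ (DirectSum.decompose 𝒱 v).support, proj 𝒱 i v = v := by
  classical
  exact DirectSum.sum_support_decompose 𝒱 v

end proj

variable (𝒱 : ℤ → Submodule k V) (𝒲 : ℤ → Submodule k W)

theorem exists_ne_bot [Nontrivial V] (h𝒱 : IsInternal 𝒱) : ∃ i, 𝒱 i ≠ ⊥ := by
  classical
  letI := h𝒱.chooseDecomposition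
  by_contra hcon
  push Not at hcon
  obtain ⟨v, hv⟩ := exists_ne (0 : V)
  refine hv (eq_zero_of_proj_eq_zero 𝒱 fun i => ?_)
  have := proj_mem 𝒱 i v
  rw [hcon i] at this
  exact (Submodule.mem_bot k).mp this

/-- The graded Skolem–Noether step: a linear isomorphism `T` such that conjugation by `T`
preserves the degree of homogeneous endomorphisms is homogeneous of some degree `n`. -/
theorem exists_shift [Nontrivial V] (h𝒱 : IsInternal 𝒱) (h𝒲 : IsInternal 𝒲) (T : V ≃ₗ[k] W)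
    (hT : ∀ (d : ℤ) (f : Module.End k V), (∀ (i : ℤ) (x : V), x ∈ 𝒱 i → f x ∈ 𝒱 (i + d)) →
      ∀ (i : ℤ) (y : W), y ∈ 𝒲 i → T (f (T.symm y)) ∈ 𝒲 (i + d)) :
    ∃ n : ℤ, ∀ i, Submodule.map T.toLinearMap (𝒱 i) = 𝒲 (i + n) := by
  classical
  letI := h𝒱.chooseDecomposition
  letI := h𝒲.chooseDecomposition
  -- a nonzero homogeneous vector of `W`
  haveI : Nontrivial W := T.symm.toEquiv.nontrivial
  obtain ⟨a, ha⟩ := exists_ne_bot 𝒲 h𝒲
  obtain ⟨w, hwa, hw0⟩ := (Submodule.ne_bot_iff _).mp ha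
  -- a component of `T⁻¹ w` which is nonzero
  have hTw : T.symm w ≠ 0 := by
    simpa using hw0
  obtain ⟨i₀, hi₀⟩ : ∃ i, proj 𝒱 i (T.symm w) ≠ 0 := by
    by_contra hcon
    push Not at hcon
    exact hTw (eq_zero_of_proj_eq_zero 𝒱 hcon)
  set x' := proj 𝒱 i₀ (T.symm w) with hx'
  have hx'mem : x' ∈ 𝒱 i₀ := proj_mem 𝒱 i₀ _
  -- `T x'` is homogeneous of degree `a`
  have hproj0 : ∀ (i : ℤ) (x : V), x ∈ 𝒱 i → proj 𝒱 i₀ x ∈ 𝒱 (i + 0) := by
    intro i x hx
    rw [add_zero]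
    by_cases hi : i = i₀
    · subst hi
      rw [proj_of_mem 𝒱 hx]
      exact hx
    · rw [proj_of_mem_ne 𝒱 hx hi]
      exact Submodule.zero_mem _
  have hTx' : T x' ∈ 𝒲 a := by
    have := hT 0 (proj 𝒱 i₀) hproj0 a w hwa
    rwa [add_zero] at this
  -- a functional which is `1` at `x'`
  obtain ⟨l₀, hl₀⟩ := Module.Projective.exists_dual_eq_one k hi₀
  refine ⟨a - i₀, ?_⟩
  have hsub : ∀ j, Submodule.map T.toLinearMap (𝒱 j) ≤ 𝒲 (j + (a - i₀)) := by
    intro j
    rintro _ ⟨y, hy, rfl⟩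
    set f : Module.End k V := LinearMap.smulRight (l₀ ∘ₗ proj 𝒱 i₀) y with hf
    have hfdeg : ∀ (i : ℤ) (x : V), x ∈ 𝒱 i → f x ∈ 𝒱 (i + (j - i₀)) := by
      intro i x hx
      rw [hf, LinearMap.smulRight_apply, LinearMap.comp_apply]
      by_cases hi : i = i₀
      · subst hi
        have : i + (j - i) = j := by ring
        rw [this]
        exact Submodule.smul_mem _ _ hy
      · rw [proj_of_mem_ne 𝒱 hx hi, map_zero, zero_smul]
        exact Submodule.zero_mem _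
    have := hT (j - i₀) f hfdeg a (T x') hTx'
    rw [T.symm_apply_apply, hf, LinearMap.smulRight_apply, LinearMap.comp_apply,
      proj_of_mem 𝒱 hx'mem, hl₀, one_smul] at this
    have he : a + (j - i₀) = j + (a - i₀) := by ring
    rw [he] at this
    exact this
  intro j
  refine le_antisymm (hsub j) ?_
  intro w' hw'
  -- decompose `T⁻¹ w'`
  set v := T.symm w' with hv
  have hsum := sum_proj 𝒱 v
  have hTv : T v = w' := T.apply_symm_apply w'
  -- the `j`-th component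
  have hcomp : ∀ i, T (proj 𝒱 i v) ∈ 𝒲 (i + (a - i₀)) := fun i =>
    hsub i ⟨_, proj_mem 𝒱 i v, rfl⟩
  have key : w' = T (proj 𝒱 j v) := by
    have h1 : proj 𝒲 (j + (a - i₀)) w' = w' := proj_of_mem 𝒲 hw'
    rw [← h1, ← hTv]
    conv_lhs => rw [← hsum]
    rw [map_sum, map_sum]
    by_cases hj : j ∈ (DirectSum.decompose 𝒱 v).support
    · rw [Finset.sum_eq_single_of_mem j hj]
      · exact proj_of_mem 𝒲 (hcomp j)
      · intro i _ hij
        exact proj_of_mem_ne 𝒲 (hcomp i) (fun h => hij (by linarith))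
    · have hz : proj 𝒱 j v = 0 := by
        rw [proj_apply]
        rw [DFinsupp.mem_support_toFun, not_not] at hj
        rw [hj]; rfl
      rw [hz, map_zero]
      refine Finset.sum_eq_zero fun i hi => ?_
      have hij : i ≠ j := fun h => hj (h ▸ hi)
      exact proj_of_mem_ne 𝒲 (hcomp i) (fun h => hij (by linarith))
  rw [key]
  exact ⟨_, proj_mem 𝒱 j v, rfl⟩

end Groth.Agent.Lib.Helper68.GradedSkolem
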