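import Mathlib.Combinatorics.SimpleGraph.Finite
import Mathlib.Combinatorics.SimpleGraph.Connectivity.Connected
import Mathlib.Algebra.Group.Pi.Lemmas
import Mathlib.Algebra.BigOperators.Group.Finset.Basic
import Mathlib.Algebra.BigOperators.Pi
import Mathlib.Algebra.Group.Even
import Mathlib.Algebra.Ring.Parity
import Mathlib.Tactic

/-!
# Alternating edge labellings along walks in a bipartite graph
-/

namespace Groth.Agent.Lib.Helper68

variable {V : Type*} [DecidableEq V] {A : Type*} [AddCommGroup A]

/-- The alternating labelling `b, -b, b, …` of the edges along a walk (summed over repetitions). -/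
def walkLab {H : SimpleGraph V} : ∀ {u v : V}, H.Walk u v → A → (Sym2 V → A)
  | _, _, .nil, _ => 0
  | u, _, .cons (v := w) _ p, b => Pi.single s(u, w) b + walkLab p (-b)

theorem walkLab_nil {H : SimpleGraph V} (u : V) (b : A) :
    walkLab (SimpleGraph.Walk.nil : H.Walk u u) b = 0 := rfl

theorem walkLab_cons {H : SimpleGraph V} {u w v : V} (h : H.Adj u w) (p : H.Walk w v) (b : A) :
    walkLab (SimpleGraph.Walk.cons h p) b = Pi.single s(u, w) b + walkLab p (-b) := rfl

theorem walkLab_add {H : SimpleGraph V} {u v : V} (p : H.Walk u v) (b b' : A) :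
    walkLab p (b + b') = walkLab p b + walkLab p b' := by
  induction p generalizing b b' with
  | nil => simp [walkLab_nil]
  | cons h p ih =>
    rw [walkLab_cons, walkLab_cons, walkLab_cons, neg_add, ih, Pi.single_add]
    abel

theorem walkLab_apply_of_not_mem {H : SimpleGraph V} {u v : V} (p : H.Walk u v) (b : A)
    (e : Sym2 V) (he : e ∉ H.edgeSet) : walkLab p b e = 0 := by
  induction p generalizing b with
  | nil => rfl
  | cons h p ih =>
    rw [walkLab_cons, Pi.add_apply, ih, add_zero, Pi.single_apply, if_neg]
    rintro rfl
    exact he ((SimpleGraph.mem_edgeSet H).mpr h)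

/-- In a properly two-coloured graph, the parity of the length of a walk is determined by the
colours of its endpoints. -/
theorem even_length_iff {H : SimpleGraph V} (c : V → Bool)
    (hbip : ∀ v w : V, H.Adj v w → c v ≠ c w) {u v : V} (p : H.Walk u v) :
    Even p.length ↔ c u = c v := by
  induction p with
  | nil => simp
  | cons h p ih =>
    rw [SimpleGraph.Walk.length_cons, Nat.even_add_one, ih]
    have := hbip _ _ h
    revert this
    cases c _ <;> cases c _ <;> cases c _ <;> simp

section Sum

variable [Fintype V] (G : SimpleGraph V) [DecidableRel G.Adj]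

theorem sum_incidence_single {u w : V} (h : G.Adj u w) (b : A) (z : V) :
    ∑ e ∈ G.incidenceFinset z, (Pi.single s(u, w) b : Sym2 V → A) e =
      (if z = u then b else 0) + (if z = w then b else 0) := by
  rw [Finset.sum_pi_single']
  have hne : u ≠ w := h.ne
  have hmem : s(u, w) ∈ G.incidenceFinset z ↔ (z = u ∨ z = w) := by
    rw [SimpleGraph.mem_incidenceFinset, SimpleGraph.incidenceSet]
    constructor
    · rintro ⟨-, hz⟩
      exact Sym2.mem_iff.mp hz
    · intro hz
      exact ⟨(SimpleGraph.mem_edgeSet G).mpr h, Sym2.mem_iff.mpr hz⟩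
  by_cases hzu : z = u
  · have hzw : z ≠ w := fun h' => hne (hzu.symm.trans h')
    rw [if_pos (hmem.mpr (Or.inl hzu)), if_pos hzu, if_neg hzw, add_zero]
  · by_cases hzw : z = w
    · rw [if_pos (hmem.mpr (Or.inr hzw)), if_neg hzu, if_pos hzw, zero_add]
    · rw [if_neg (fun h' => (hmem.mp h').elim hzu hzw), if_neg hzu, if_neg hzw, add_zero]

/-- Vertex sums of the alternating labelling of a walk in a two-coloured graph: `b` at the start
and `∓b` at the end according to whether the endpoints have the same colour. -/
theorem sum_incidence_walkLab {H : SimpleGraph V} (hH : H ≤ G) (c : V → Bool)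
    (hbip : ∀ v w : V, G.Adj v w → c v ≠ c w) {u v : V} (p : H.Walk u v) (b : A) (z : V) :
    ∑ e ∈ G.incidenceFinset z, walkLab p b e =
      (if z = u then b else 0) + (if z = v then (if c u = c v then -b else b) else 0) := by
  induction p generalizing b with
  | nil =>
    simp only [walkLab_nil, Pi.zero_apply, Finset.sum_const_zero, if_true]
    split_ifs <;> simp
  | @cons u w v h p ih =>
    rw [walkLab_cons]
    simp only [Pi.add_apply, Finset.sum_add_distrib]
    rw [sum_incidence_single G (hH h) b z, ih]
    have huw : c u ≠ c w := hbip _ _ (hH h)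
    by_cases hwv : c w = c v
    · have huv : c u ≠ c v := fun h' => huw (h'.trans hwv.symm)
      rw [if_pos hwv, if_neg huv, neg_neg]
      split_ifs <;> abel
    · have huv : c u = c v := by
        revert huw hwv
        cases c u <;> cases c w <;> cases c v <;> simp
      rw [if_neg hwv, if_pos huv]
      split_ifs <;> abel

end Sum

end Groth.Agent.Lib.Helper68
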