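import Groth.Agent.Lib.Helper68.GraphLabel
import Mathlib.Combinatorics.SimpleGraph.Acyclic

/-!
# Circulations supported on a two-coloured forest vanish
-/

namespace Groth.Agent.Lib.Helper68

variable {V : Type*} [DecidableEq V] {A : Type*} [AddCommGroup A]

/-- A labelling supported on a two-coloured forest with vanishing vertex sums is zero. -/
theorem eq_zero_of_acyclic [Fintype V] (G : SimpleGraph V) [DecidableRel G.Adj]
    (T : SimpleGraph V) (hT : T ≤ G) (hTacyc : T.IsAcyclic)
    (c : V → Bool) (hbip : ∀ v w, G.Adj v w → c v ≠ c w) (y : Sym2 V → A)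
    (hsupp : ∀ e, e ∉ T.edgeSet → y e = 0)
    (hsum : ∀ v, ∑ e ∈ G.incidenceFinset v, y e = 0) : y = 0 := by
  classical
  funext e₀
  by_cases he₀ : e₀ ∈ T.edgeSet
  swap
  · exact hsupp e₀ he₀
  induction e₀ using Sym2.ind with
  | h u w =>
  have huw : T.Adj u w := (SimpleGraph.mem_edgeSet T).mp he₀
  have hbridge : ¬ (T.deleteEdges {s(u, w)}).Reachable u w :=
    SimpleGraph.isBridge_iff.mp (SimpleGraph.isAcyclic_iff_forall_isBridge.mp hTacyc he₀)
  let T' := T.deleteEdges {s(u, w)}
  let C : Finset V := Finset.univ.filter (fun v => T'.Reachable u v)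
  have hC : ∀ v, v ∈ C ↔ T'.Reachable u v := fun v => by simp [C]
  let σ : V → ℤ := fun v => if c v then 1 else -1
  have hσ : ∀ a b, c a ≠ c b → σ a + σ b = 0 := by
    intro a b hab
    simp only [σ]
    revert hab
    cases c a <;> cases c b <;> simp
  -- the weighted sum over the component
  have h0 : ∑ v ∈ C, σ v • ∑ e ∈ G.incidenceFinset v, y e = 0 := by
    apply Finset.sum_eq_zero
    intro v _
    rw [hsum v, smul_zero]
  have hswap : ∑ v ∈ C, σ v • ∑ e ∈ G.incidenceFinset v, y e =
      ∑ e ∈ G.edgeFinset, ∑ v ∈ C.filter (fun v => v ∈ e), σ v • y e := by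
    simp_rw [SimpleGraph.incidenceFinset_eq_filter, Finset.smul_sum]
    apply Finset.sum_comm'
    intro v e
    simp only [Finset.mem_filter]
    tauto
  have hterm : ∀ e ∈ G.edgeFinset, ∑ v ∈ C.filter (fun v => v ∈ e), σ v • y e =
      if e = s(u, w) then σ u • y e else 0 := by
    intro e _
    by_cases heT : e ∈ T.edgeSet
    swap
    · have hne : e ≠ s(u, w) := fun h => heT (h ▸ he₀)
      rw [if_neg hne, hsupp e heT]
      simp
    induction e using Sym2.ind with
    | h a b =>
    have hab : T.Adj a b := (SimpleGraph.mem_edgeSet T).mp heT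
    have hne : a ≠ b := hab.ne
    have hfilter : C.filter (fun v => v ∈ s(a, b)) = ({a, b} : Finset V).filter (fun v => v ∈ C) := by
      ext v
      simp only [Finset.mem_filter, Sym2.mem_iff, Finset.mem_insert, Finset.mem_singleton]
      tauto
    rw [hfilter, Finset.sum_filter, Finset.sum_pair hne]
    by_cases heq : s(a, b) = s(u, w)
    · rw [if_pos heq]
      have huC : u ∈ C := (hC u).mpr (SimpleGraph.Reachable.refl u)
      have hwC : w ∉ C := fun h => hbridge ((hC w).mp h)
      rcases Sym2.eq_iff.mp heq with ⟨rfl, rfl⟩ | ⟨rfl, rfl⟩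
      · rw [if_pos huC, if_neg hwC, add_zero]
      · rw [if_neg hwC, if_pos huC, zero_add]
    · rw [if_neg heq]
      have hab' : T'.Adj a b := by
        rw [SimpleGraph.deleteEdges_adj]
        exact ⟨hab, fun h => heq h⟩
      have hiff : a ∈ C ↔ b ∈ C := by
        rw [hC, hC]
        exact ⟨fun h => h.trans hab'.reachable, fun h => h.trans hab'.symm.reachable⟩
      by_cases haC : a ∈ C
      · rw [if_pos haC, if_pos (hiff.mp haC), ← add_smul, hσ a b (hbip a b (hT hab)), zero_smul]
      · rw [if_neg haC, if_neg (fun h => haC (hiff.mpr h)), add_zero]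
  rw [hswap, Finset.sum_congr rfl hterm, Finset.sum_ite_eq'] at h0
  have hmem : s(u, w) ∈ G.edgeFinset := by
    rw [SimpleGraph.mem_edgeFinset]
    exact SimpleGraph.edgeSet_mono hT he₀
  rw [if_pos hmem] at h0
  simp only [σ] at h0
  rw [Pi.zero_apply]
  split_ifs at h0
  · simpa using h0
  · simpa using h0

end Groth.Agent.Lib.Helper68
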