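import Mathlib

set_option autoImplicit false
set_option linter.unusedSectionVars false
set_option linter.unusedSimpArgs false
universe u
open MeasureTheory Set Filter Topology

namespace Groth.Agent.Lib.Helper68.HaarCocycle

section Meas

variable {ι X : Type*} [Fintype ι] [TopologicalSpace X] [CompactSpace X] [MeasurableSpace X]
  [OpensMeasurableSpace X]

/-- uniform approximation of a continuous function on a finite power of a compact space by simple
functions for the product sigma-algebra (no separability) -/
theorem exists_simpleFunc_approx_pi {f : (ι → X) → ℝ} (hf : Continuous f) {ε : ℝ} (hε : 0 < ε) :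
    ∃ g : SimpleFunc (ι → X) ℝ, ∀ x, dist (f x) (g x) < ε := by
  have M : ∀ K : Set (ι → X), IsCompact K →
      ∃ (g : SimpleFunc (ι → X) ℝ) (s : Set (ι → X)), MeasurableSet s ∧ K ⊆ s ∧
        ∀ x ∈ s, dist (f x) (g x) < ε := by
    intro K hK
    apply IsCompact.induction_on
      (p := fun t ↦ ∃ (g : SimpleFunc (ι → X) ℝ) (s : Set (ι → X)), MeasurableSet s ∧ t ⊆ s ∧
        ∀ x ∈ s, dist (f x) (g x) < ε) hK
    · exact ⟨0, ∅, by simp⟩
    · intro t t' htt' ⟨g, s, s_meas, ts, hg⟩
      exact ⟨g, s, s_meas, htt'.trans ts, hg⟩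
    · intro t t' ⟨g, s, s_meas, ts, hg⟩ ⟨g', s', s'_meas, t's', hg'⟩
      refine ⟨g.piecewise s s_meas g', s ∪ s', s_meas.union s'_meas,
        union_subset_union ts t's', fun p hp ↦ ?_⟩
      by_cases H : p ∈ s
      · simpa [H, SimpleFunc.piecewise_apply] using hg p H
      · simp only [SimpleFunc.piecewise_apply, H, ite_false]
        apply hg'
        simpa [H] using (mem_union _ _ _).1 hp
    · intro x _
      have hopen : IsOpen {z | dist (f z) (f x) < ε} :=
        isOpen_lt (hf.dist continuous_const) continuous_const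
      have hx : x ∈ {z | dist (f z) (f x) < ε} := by simp [hε]
      obtain ⟨u, hu, hsub⟩ := isOpen_pi_iff'.1 hopen x hx
      refine ⟨Set.univ.pi u, nhdsWithin_le_nhds ?_, ?_⟩
      · exact set_pi_mem_nhds Set.finite_univ fun a _ => (hu a).1.mem_nhds (hu a).2
      · exact ⟨SimpleFunc.const _ (f x), Set.univ.pi u,
          MeasurableSet.univ_pi fun a => (hu a).1.measurableSet, Subset.rfl, fun z hz ↦ hsub hz⟩
  obtain ⟨g, s, -, hs, hg⟩ := M Set.univ isCompact_univ
  exact ⟨g, fun x => hg x (hs (mem_univ x))⟩

theorem stronglyMeasurable_of_continuous_pi {f : (ι → X) → ℝ} (hf : Continuous f) :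
    StronglyMeasurable f := by
  obtain ⟨u, -, u_pos, u_lim⟩ : ∃ u : ℕ → ℝ, StrictAnti u ∧ (∀ n, 0 < u n) ∧
      Tendsto u atTop (𝓝 0) := exists_seq_strictAnti_tendsto (0 : ℝ)
  have : ∀ n, ∃ g : SimpleFunc (ι → X) ℝ, ∀ x, dist (f x) (g x) < u n :=
    fun n ↦ exists_simpleFunc_approx_pi hf (u_pos n)
  choose g hg using this
  refine ⟨g, fun x => ?_⟩
  rw [tendsto_iff_dist_tendsto_zero]
  apply squeeze_zero (fun n ↦ dist_nonneg) (fun n ↦ ?_) u_lim
  rw [dist_comm]
  exact (hg n x).le

theorem integrable_of_continuous_pi {f : (ι → X) → ℝ} (hf : Continuous f)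
    (ν : Measure (ι → X)) [IsFiniteMeasure ν] : Integrable f ν := by
  obtain ⟨C, hC⟩ := isCompact_univ.exists_bound_of_continuousOn hf.continuousOn
  exact Integrable.of_bound (stronglyMeasurable_of_continuous_pi hf).aestronglyMeasurable C
    (Filter.Eventually.of_forall fun x => hC x (mem_univ x))

end Meas


section Param

/-- continuity of an integral depending on a parameter, over a compact space on which all
continuous functions are integrable; no countability assumption -/
theorem continuous_integral_param {X Y : Type*} [TopologicalSpace X] [TopologicalSpace Y]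
    [CompactSpace Y] [MeasurableSpace Y] (ν : Measure Y) [IsFiniteMeasure ν]
    (hint : ∀ h : Y → ℝ, Continuous h → Integrable h ν) (F : X → Y → ℝ)
    (hF : Continuous (Function.uncurry F)) : Continuous (fun x => ∫ y, F x y ∂ν) := by
  rw [continuous_iff_continuousAt]
  intro x₀
  rw [Metric.continuousAt_iff']
  intro ε hε
  set c : ℝ := (ν Set.univ).toReal with hc
  have hc0 : 0 ≤ c := ENNReal.toReal_nonneg
  set δ : ℝ := ε / (c + 1) with hδ
  have hδ0 : 0 < δ := div_pos hε (by linarith)
  have hopen : IsOpen {p : X × Y | dist (F p.1 p.2) (F x₀ p.2) < δ} := by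
    apply isOpen_lt _ continuous_const
    apply Continuous.dist
    · exact hF
    · exact hF.comp (continuous_const.prodMk continuous_snd)
  have hsub : ({x₀} : Set X) ×ˢ (Set.univ : Set Y) ⊆
      {p : X × Y | dist (F p.1 p.2) (F x₀ p.2) < δ} := by
    rintro ⟨x, y⟩ ⟨hx, -⟩
    have : x = x₀ := hx
    simp [this, hδ0]
  obtain ⟨u, v, hu, -, hxu, hv, huv⟩ :=
    generalized_tube_lemma isCompact_singleton isCompact_univ hopen hsub
  have hv' : v = Set.univ := Set.univ_subset_iff.1 hv
  filter_upwards [hu.mem_nhds (hxu rfl)] with x hx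
  have hFx : Continuous (F x) := hF.comp (continuous_const.prodMk continuous_id)
  have hFx₀ : Continuous (F x₀) := hF.comp (continuous_const.prodMk continuous_id)
  rw [Real.dist_eq, ← integral_sub (hint _ hFx) (hint _ hFx₀)]
  have hb : ∀ y, ‖F x y - F x₀ y‖ ≤ δ := by
    intro y
    have : (x, y) ∈ u ×ˢ v := ⟨hx, by rw [hv']; exact Set.mem_univ y⟩
    have := huv this
    rw [Real.norm_eq_abs, ← Real.dist_eq]
    exact le_of_lt this
  have h1 := norm_integral_le_of_norm_le_const (μ := ν) (Filter.Eventually.of_forall hb)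
  rw [Real.norm_eq_abs] at h1
  calc |∫ y, (F x y - F x₀ y) ∂ν| ≤ δ * c := by simpa [hc, Measure.real] using h1
    _ < ε := by
      rw [hδ, div_mul_eq_mul_div, div_lt_iff₀ (by linarith)]
      nlinarith

end Param

section Fubini

variable {G : Type u} [TopologicalSpace G] [CompactSpace G] [MeasurableSpace G] [BorelSpace G]
  (μ : Measure G) [IsProbabilityMeasure μ]

/-- the product measure on `G^m` -/
noncomputable abbrev piμ (m : ℕ) : Measure (Fin m → G) := Measure.pi (fun _ : Fin m => μ)

theorem integral_pi_succ (m : ℕ) (F : (Fin (m + 1) → G) → ℝ) (hF : Continuous F) :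
    ∫ x, F x ∂(piμ μ (m + 1)) = ∫ b, ∫ y, F (Fin.cons b y) ∂(piμ μ m) ∂μ := by
  have hmp := (measurePreserving_piFinSuccAbove (fun _ : Fin (m + 1) => μ) 0).symm
  have h1 : ∫ p, F ((MeasurableEquiv.piFinSuccAbove (fun _ : Fin (m + 1) => G) 0).symm p)
      ∂(μ.prod (piμ μ m)) = ∫ x, F x ∂(piμ μ (m + 1)) :=
    hmp.integral_comp' F
  rw [← h1]
  have hint : Integrable (fun p => F ((MeasurableEquiv.piFinSuccAbove
      (fun _ : Fin (m + 1) => G) 0).symm p)) (μ.prod (piμ μ m)) := by
    obtain ⟨C, hC⟩ := isCompact_univ.exists_bound_of_continuousOn hF.continuousOn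
    refine Integrable.of_bound ?_ C (Filter.Eventually.of_forall fun x => hC _ (mem_univ _))
    exact ((stronglyMeasurable_of_continuous_pi hF).comp_measurable
      (MeasurableEquiv.measurable _)).aestronglyMeasurable
  rw [integral_prod _ hint]
  congr 1
  funext b
  congr 1
  funext y
  congr 1
  exact Fin.insertNth_zero' b y

end Fubini

section Comb

variable {G : Type u} [AddCommGroup G]

/-- the alternating subset sum `∑_I (-1)^{|I|} φ(∑_{i ∈ I} y_i)` over all subsets `I` -/
def T (n : ℕ) (φ : G → ℝ) (y : Fin n → G) : ℝ :=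
  ∑ I ∈ (Finset.univ : Finset (Fin n)).powerset, (-1 : ℝ) ^ I.card * φ (∑ i ∈ I, y i)

theorem T_cons (n : ℕ) (φ : G → ℝ) (b : G) (y : Fin n → G) :
    T (n + 1) φ (Fin.cons b y) = T n φ y - T n (fun g => φ (b + g)) y := by
  classical
  unfold T
  have huniv : (Finset.univ : Finset (Fin (n + 1))) = insert 0 (Finset.univ.image Fin.succ) := by
    ext i
    simp only [Finset.mem_univ, Finset.mem_insert, Finset.mem_image, true_and, true_iff]
    rcases Fin.eq_zero_or_eq_succ i with h | ⟨j, hj⟩
    · exact Or.inl h
    · exact Or.inr ⟨j, hj.symm⟩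
  have h0 : (0 : Fin (n + 1)) ∉ (Finset.univ : Finset (Fin n)).image Fin.succ := by
    simp [Fin.succ_ne_zero]
  have hinj : Function.Injective (fun I : Finset (Fin n) => I.image Fin.succ) :=
    Finset.image_injective (Fin.succ_injective n)
  rw [huniv, Finset.sum_powerset_insert h0, Finset.powerset_image,
    Finset.sum_image (fun a _ b _ h => hinj h), Finset.sum_image (fun a _ b _ h => hinj h),
    sub_eq_add_neg, ← Finset.sum_neg_distrib]
  congr 1
  · apply Finset.sum_congr rfl
    intro I _
    rw [Finset.card_image_of_injective _ (Fin.succ_injective n),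
      Finset.sum_image (fun a _ b _ h => Fin.succ_injective n h)]
    simp only [Fin.cons_succ]
  · apply Finset.sum_congr rfl
    intro I _
    have h0' : (0 : Fin (n + 1)) ∉ I.image Fin.succ := by
      simp [Fin.succ_ne_zero]
    rw [Finset.card_insert_of_notMem h0', Finset.sum_insert h0',
      Finset.card_image_of_injective _ (Fin.succ_injective n),
      Finset.sum_image (fun a _ b _ h => Fin.succ_injective n h)]
    simp only [Fin.cons_succ, Fin.cons_zero, pow_succ]
    ring

theorem T_zero (φ : G → ℝ) (y : Fin 0 → G) : T 0 φ y = φ 0 := by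
  unfold T
  simp

/-- the sum in the statement in terms of `T` -/
theorem S_eq (m : ℕ) (c : G → ℝ) (x : Fin (m + 1) → G) :
    ∑ I ∈ ((Finset.univ : Finset (Fin (m + 1))).powerset.erase ∅),
      (-1 : ℝ) ^ (m + 1 + I.card) * c (∑ i ∈ I, x i) =
    (-1 : ℝ) ^ (m + 1) * (T (m + 1) c x - c 0) := by
  classical
  unfold T
  rw [← Finset.sum_erase_add _ _ (Finset.empty_mem_powerset (Finset.univ : Finset (Fin (m + 1))))]
  simp only [Finset.card_empty, pow_zero, Finset.sum_empty, one_mul, add_sub_cancel_right]
  rw [Finset.mul_sum]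
  apply Finset.sum_congr rfl
  intro I _
  rw [pow_add]
  ring

theorem T_add (n : ℕ) (φ φ' : G → ℝ) (y : Fin n → G) :
    T n (fun g => φ g + φ' g) y = T n φ y + T n φ' y := by
  unfold T
  rw [← Finset.sum_add_distrib]
  apply Finset.sum_congr rfl
  intro I _
  ring

end Comb

section Haar

variable {G : Type u} [AddCommGroup G] [TopologicalSpace G] [IsTopologicalAddGroup G]
  [CompactSpace G] [T2Space G] [MeasurableSpace G] [BorelSpace G]
  (μ : Measure G) [μ.IsAddHaarMeasure] [IsProbabilityMeasure μ]

theorem continuous_T (n : ℕ) (φ : G → ℝ) (hφ : Continuous φ) : Continuous (T n φ) := by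
  unfold T
  refine continuous_finsetSum _ fun I _ => continuous_const.mul (hφ.comp ?_)
  exact continuous_finsetSum _ fun i _ => continuous_apply i

theorem integrable_G (f : G → ℝ) (hf : Continuous f) : Integrable f μ :=
  hf.integrable_of_hasCompactSupport (HasCompactSupport.of_compactSpace f)

/-- the integral of the alternating subset sum -/
theorem integral_T (m : ℕ) : ∀ (f : G → ℝ), Continuous f →
    ∫ y, T m f y ∂(piμ μ m) = f 0 - (if m = 0 then 0 else ∫ g, f g ∂μ) := by
  induction m with
  | zero =>
    intro f _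
    simp only [T_zero, integral_const, probReal_univ, one_smul, if_true, sub_zero]
  | succ m ih =>
    intro f hf
    rw [integral_pi_succ μ m _ (continuous_T _ f hf)]
    have hshift : ∀ b : G, Continuous (fun g => f (b + g)) := fun b =>
      hf.comp (continuous_const.add continuous_id)
    have h1 : ∀ b : G, ∫ y, T (m + 1) f (Fin.cons b y) ∂(piμ μ m) =
        (f 0 - (if m = 0 then 0 else ∫ g, f g ∂μ)) -
          (f (b + 0) - (if m = 0 then 0 else ∫ g, f g ∂μ)) := by
      intro b
      simp only [T_cons]
      rw [integral_sub (integrable_of_continuous_pi (continuous_T _ f hf) _)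
        (integrable_of_continuous_pi (continuous_T _ _ (hshift b)) _), ih f hf,
        ih _ (hshift b), integral_add_left_eq_self f b]
    simp only [h1, add_zero, sub_sub_sub_cancel_right, Nat.succ_ne_zero, if_false]
    rw [integral_sub (integrable_const _) (integrable_G μ f hf), integral_const, probReal_univ,
      one_smul]


/-- averaging is a left inverse of the deviation -/
theorem eq_avg_of_eq_T (m : ℕ) (ψ : (Fin (m + 1) → G) → ℝ) (φ' : G → ℝ) (hφ' : Continuous φ')
    (h : ∀ x, ψ x = (-1 : ℝ) ^ (m + 1) * (T (m + 1) φ' x - φ' 0)) (g : G) :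
    φ' g = (-1 : ℝ) ^ m * ∫ u, ψ (Fin.cons g u) ∂(piμ μ m) := by
  have hshift : Continuous (fun h => φ' (g + h)) :=
    hφ'.comp (continuous_const.add continuous_id)
  have hs : (-1 : ℝ) ^ m * (-1 : ℝ) ^ (m + 1) = -1 := by
    rw [pow_succ, ← mul_assoc, ← mul_pow]
    simp
  have hI : ∫ u, (T m φ' u - T m (fun h => φ' (g + h)) u - φ' 0) ∂(piμ μ m) =
      (φ' 0 - (if m = 0 then 0 else ∫ g, φ' g ∂μ)) -
        (φ' (g + 0) - (if m = 0 then 0 else ∫ g, φ' g ∂μ)) - φ' 0 := by
    rw [integral_sub (f := fun u => T m φ' u - T m (fun h => φ' (g + h)) u) (g := fun _ => φ' 0)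
      ((integrable_of_continuous_pi (continuous_T _ φ' hφ') _).sub
        (integrable_of_continuous_pi (continuous_T _ _ hshift) _)) (integrable_const _),
      integral_sub (f := fun u => T m φ' u) (g := fun u => T m (fun h => φ' (g + h)) u)
        (integrable_of_continuous_pi (continuous_T _ φ' hφ') _)
        (integrable_of_continuous_pi (continuous_T _ _ hshift) _),
      integral_T μ m φ' hφ', integral_T μ m _ hshift, integral_add_left_eq_self φ' g,
      integral_const, probReal_univ, one_smul]
  simp only [h, T_cons]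
  rw [integral_const_mul, hI, ← mul_assoc, hs, add_zero]
  ring

/-- the cocycle condition in all pairs of variables -/
def IsCocycle (m : ℕ) (ψ : (Fin (m + 1) → G) → ℝ) : Prop :=
  ∀ (i j : Fin (m + 1)), i ≠ j → ∀ (x : Fin (m + 1) → G) (a b c : G),
    ψ (Function.update (Function.update x i (a + b)) j c) +
        ψ (Function.update (Function.update x i a) j b) =
      ψ (Function.update (Function.update x i a) j (b + c)) +
        ψ (Function.update (Function.update x i b) j c)

theorem continuous_cons_left (m : ℕ) (y : Fin m → G) :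
    Continuous (fun c : G => (Fin.cons c y : Fin (m + 1) → G)) :=
  Continuous.finCons continuous_id continuous_const

theorem continuous_cons_uncurry (m : ℕ) :
    Continuous (fun p : (Fin m → G) × G => (Fin.cons p.2 p.1 : Fin (m + 1) → G)) :=
  Continuous.finCons continuous_snd continuous_fst

theorem continuous_cons_uncurry' (m : ℕ) :
    Continuous (fun p : G × (Fin m → G) => (Fin.cons p.1 p.2 : Fin (m + 1) → G)) :=
  Continuous.finCons continuous_fst continuous_snd

include μ in
/-- existence of a continuous function whose deviation is the given cocycle -/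
theorem exists_eq_T (m : ℕ) : ∀ (ψ : (Fin (m + 1) → G) → ℝ), Continuous ψ → IsCocycle m ψ →
    ∃ φ' : G → ℝ, Continuous φ' ∧ ∀ x, ψ x = (-1 : ℝ) ^ (m + 1) * (T (m + 1) φ' x - φ' 0) := by
  induction m with
  | zero =>
    intro ψ hψc _
    refine ⟨fun g => ψ (Fin.cons g (default : Fin 0 → G)),
      hψc.comp (continuous_cons_left 0 _), fun x => ?_⟩
    have hx : x = Fin.cons (x 0) (default : Fin 0 → G) := by
      ext i
      have : i = 0 := Fin.ext (by omega)
      subst this
      simp
    rw [hx, T_cons, T_zero, T_zero]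
    simp
  | succ m ih =>
    intro ψ hψc hψ
    -- integrate out the variable `0`
    set ψ₁ : (Fin (m + 1) → G) → ℝ := fun y => - ∫ c, ψ (Fin.cons c y) ∂μ with hψ₁
    have hint : ∀ y : Fin (m + 1) → G, Integrable (fun c => ψ (Fin.cons c y)) μ := fun y =>
      integrable_G μ _ (hψc.comp (continuous_cons_left _ y))
    have hψ₁c : Continuous ψ₁ := by
      apply Continuous.neg
      exact continuous_integral_param μ (fun h hh => integrable_G μ h hh)
        (fun y c => ψ (Fin.cons c y)) (hψc.comp (continuous_cons_uncurry (m + 1)))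
    have hψ₁coc : IsCocycle m ψ₁ := by
      intro i j hij x a b c
      simp only [hψ₁]
      rw [← neg_add, ← neg_add, ← integral_add (hint _) (hint _),
        ← integral_add (hint _) (hint _)]
      congr 1
      apply integral_congr_ae
      filter_upwards with c'
      simp only [Fin.cons_update]
      exact hψ i.succ j.succ (fun h => hij (Fin.succ_injective _ h)) (Fin.cons c' x) a b c
    obtain ⟨φ', hφ'c, hφ'⟩ := ih ψ₁ hψ₁c hψ₁coc
    refine ⟨φ', hφ'c, fun x => ?_⟩
    -- the key identity
    have key : ∀ (a b : G) (z : Fin m → G),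
        ψ (Fin.cons b (Fin.cons a z)) =
          ψ₁ (Fin.cons (a + b) z) - ψ₁ (Fin.cons a z) - ψ₁ (Fin.cons b z) := by
      intro a b z
      have h0 : ∀ c : G,
          ψ (Fin.cons c (Fin.cons (a + b) z)) + ψ (Fin.cons b (Fin.cons a z)) =
            ψ (Fin.cons (b + c) (Fin.cons a z)) + ψ (Fin.cons c (Fin.cons b z)) := by
        intro c
        have := hψ (Fin.succ 0) 0 (Fin.succ_ne_zero 0) (Fin.cons b (Fin.cons a z)) a b c
        simpa only [← Fin.cons_update, Fin.update_cons_zero] using this
      have h1 : ∫ c, (ψ (Fin.cons c (Fin.cons (a + b) z)) + ψ (Fin.cons b (Fin.cons a z))) ∂μ =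
          ∫ c, (ψ (Fin.cons (b + c) (Fin.cons a z)) + ψ (Fin.cons c (Fin.cons b z))) ∂μ :=
        integral_congr_ae (Filter.Eventually.of_forall h0)
      have hint' : Integrable (fun c => ψ (Fin.cons (b + c) (Fin.cons a z))) μ :=
        integrable_G μ _ (hψc.comp ((continuous_cons_left _ _).comp
          (continuous_const.add continuous_id)))
      rw [integral_add (hint _) (integrable_const _), integral_add hint' (hint _),
        integral_const, probReal_univ, one_smul,
        integral_add_left_eq_self (fun c => ψ (Fin.cons c (Fin.cons a z))) b] at h1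
      simp only [hψ₁]
      linarith
    have hx : x = Fin.cons (x 0) (Fin.cons (Fin.tail x 0) (Fin.tail (Fin.tail x))) := by
      rw [Fin.cons_self_tail, Fin.cons_self_tail]
    rw [hx, key, hφ', hφ', hφ']
    simp only [T_cons]
    have hfun : (fun g => φ' (x 0 + (Fin.tail x 0 + g))) =
        (fun g => φ' (Fin.tail x 0 + x 0 + g)) := by
      funext g
      congr 1
      abel
    rw [hfun, pow_succ (-1 : ℝ) (m + 1)]
    ring

end Haar

end Groth.Agent.Lib.Helper68.HaarCocycle
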