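import Mathlib
import Groth.Prelude.Def_W4c1hilbpnTgt
import Groth.Agent.Lib.Helper92.HilbTgt
import Groth.Agent.Lib.Helper92.HilbTgtDecomp

/-!
# Socle maps and vanishing of sign-pattern pieces of `T(I)` (helper68)

Uses helper92's `finrank (tPiece I α) = nBddComp I α` machinery.

* `tPiece_ne_bot_of_socle`: a minimal monomial generator `g` and a socle monomial `γ` of `S/I`
  give a nonzero element of `T(I)` of multidegree `γ - g`.
* `exists_socle`: in three variables, a socle monomial below two "corner" generators.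
* `isEmpty_BC_of_X_mem_A/B`: if the variable `x_0 ∈ I`, no bounded components for multidegrees
  with two negative entries (three variables).
-/

namespace Groth.Agent.Lib.Helper68.HilbSocle
set_option linter.unusedSectionVars false
set_option linter.unusedVariables false
open MvPolynomial W4c1hilbpn Groth.Agent.Lib.Helper92.HilbTgt
  Groth.Agent.Lib.Helper92.HilbTgtDecomp

universe u
variable {k : Type u} [Field k] {n : ℕ} {I : Ideal (MvPolynomial (Fin n) k)}

lemma exps_of_le {β γ : Fin n →₀ ℕ} (hβ : β ∈ exps I) (h : β ≤ γ) : γ ∈ exps I := by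
  have : γ = β + (γ - β) := (add_tsub_cancel_of_le h).symm
  rw [this]; exact exps_add hβ _

/-- A minimal generator `g` and a socle monomial `γ` give a nonzero tangent vector of
multidegree `γ - g`. -/
theorem tPiece_ne_bot_of_socle (hn : 2 ≤ n) (hI : IsMonomial I)
    [Module.Finite k (MvPolynomial (Fin n) k ⧸ I)] {g γ : Fin n →₀ ℕ}
    (hg : g ∈ exps I) (hgmin : ∀ i, 0 < g i → g - Finsupp.single i 1 ∉ exps I)
    (hγ : γ ∉ exps I) (hsoc : ∀ i, γ + Finsupp.single i 1 ∈ exps I) :
    tPiece I (dif g γ) ≠ ⊥ := by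
  set α := dif g γ with hα
  have hv0 : toZ g α = fun i => (γ i : ℤ) := toZ_dif g γ
  have hnat : natPart (toZ g α) = γ := by rw [hv0, natPart_natCast]
  have hmem : toZ g α ∈ region I α := ⟨⟨g, hg, rfl⟩, fun h => hγ (hnat ▸ h.2)⟩
  let v0 : ↥(region I α) := ⟨_, hmem⟩
  -- no neighbours
  have hno : ∀ w : ↥(region I α), ¬ (RG I α).Adj v0 w := by
    intro w hadj
    obtain ⟨i, hi | hi⟩ := step_adj_cases (show (stepGraph (Fin n)).Adj v0.1 w.1 from hadj)
    · -- w = v0 + ez i
      apply w.2.2
      have hw : w.1 = toZ g α + ez i := hi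
      refine ⟨?_, ?_⟩
      · intro j
        rw [hw, hv0]
        simp only [Pi.add_apply, ez, Pi.single_apply]
        split_ifs <;> omega
      · show natPart w.1 ∈ exps I
        have h0 : 0 ≤ toZ g α i := by rw [hv0]; exact Int.natCast_nonneg _
        rw [hw, natPart_add_ez i h0, hnat]; exact hsoc i
    · -- v0 = w + ez i
      obtain ⟨⟨β, hβ, hwβ⟩, -⟩ := w.2
      have hv : toZ g α = toZ β α + ez i := by
        have h1 : w.1 = toZ β α := hwβ
        rw [← h1]; exact hi
      rw [← toZ_add_single] at hv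
      have hgβ : g = β + Finsupp.single i 1 := toZ_inj hv
      apply hgmin i (by rw [hgβ]; simp)
      rw [hgβ, add_tsub_cancel_right]; exact hβ
  set C := (RG I α).connectedComponentMk v0 with hC
  have hsupp : C.supp ⊆ {v0} := by
    intro w hw
    have hr : (RG I α).Reachable v0 w :=
      (SimpleGraph.ConnectedComponent.exact (show (RG I α).connectedComponentMk w = C from hw)).symm
    obtain ⟨p⟩ := hr
    cases p with
    | nil => rfl
    | cons h _ => exact absurd h (hno _)
  have hfin : C.supp.Finite := (Set.finite_singleton v0).subset hsupp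
  intro hbot
  let c : BC I α → k := fun _ => 1
  have hall : ∀ φ ∈ tPiece I α, φ = 0 := by
    rw [hbot]; intro φ hφ; exact (Submodule.mem_bot k).mp hφ
  have h1 : (Psi (α := α) hn hI c).1 = 0 := hall _ (Psi (α := α) hn hI c).2
  have h2 : Psi (α := α) hn hI c = 0 := Subtype.ext h1
  have h3 : c = 0 := Psi_injective hn hI (by rw [h2, map_zero])
  have := congrFun h3 ⟨C, hfin⟩
  simp [c] at this

lemma cases3' : ∀ (i j l m : Fin 3), i ≠ j → i ≠ l → j ≠ l → m = i ∨ m = j ∨ m = l := by decide

/-- In three variables: given generators `B` (not involving `x_j`) and `C` (not involving `x_i`)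
that are minimal in the `x_i`, resp. `x_j` direction, there is a socle monomial `γ` with
`γ_i < B_i` and `γ_j < C_j`. -/
theorem exists_socle {I : Ideal (MvPolynomial (Fin 3) k)} (hI : IsMonomial I)
    [Module.Finite k (MvPolynomial (Fin 3) k ⧸ I)]
    {i j l : Fin 3} (hij : i ≠ j) (hil : i ≠ l) (hjl : j ≠ l)
    {B C : Fin 3 →₀ ℕ} (hB : B ∈ exps I) (hBj : B j = 0) (hBi : 0 < B i)
    (hB' : B - Finsupp.single i 1 ∉ exps I)
    (hC : C ∈ exps I) (hCi : C i = 0) (hCj : 0 < C j)
    (hC' : C - Finsupp.single j 1 ∉ exps I) :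
    ∃ γ : Fin 3 →₀ ℕ, γ ∉ exps I ∧ γ i < B i ∧ γ j < C j ∧
      ∀ m, γ + Finsupp.single m 1 ∈ exps I := by
  classical
  set M : Set (Fin 3 →₀ ℕ) := {γ | γ ∉ exps I ∧ γ i < B i ∧ γ j < C j} with hM
  have hMfin : M.Finite := (finite_compl_exps hI).subset fun γ h => h.1
  have hBM : B - Finsupp.single i 1 ∈ M := by
    refine ⟨hB', ?_, ?_⟩
    · simp only [Finsupp.coe_tsub, Pi.sub_apply, Finsupp.single_eq_same]; omega
    · simp only [Finsupp.coe_tsub, Pi.sub_apply, Finsupp.single_apply, if_neg hij]; omega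
  have hCM : C - Finsupp.single j 1 ∈ M := by
    refine ⟨hC', ?_, ?_⟩
    · simp only [Finsupp.coe_tsub, Pi.sub_apply, Finsupp.single_apply, if_neg hij.symm]; omega
    · simp only [Finsupp.coe_tsub, Pi.sub_apply, Finsupp.single_eq_same]; omega
  obtain ⟨γ1, hγ1M, hγ1max⟩ := Set.exists_max_image M (fun γ => γ l) hMfin ⟨_, hBM⟩
  set t := γ1 l with ht
  have htB : B l ≤ t := by
    have := hγ1max _ hBM
    simpa only [Finsupp.coe_tsub, Pi.sub_apply, Finsupp.single_apply, if_neg hil, tsub_zero]
      using this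
  have htC : C l ≤ t := by
    have := hγ1max _ hCM
    simpa only [Finsupp.coe_tsub, Pi.sub_apply, Finsupp.single_apply, if_neg hjl, tsub_zero]
      using this
  set M2 : Set (Fin 3 →₀ ℕ) := {γ | γ ∈ M ∧ γ l = t} with hM2
  have hM2fin : M2.Finite := hMfin.subset fun γ h => h.1
  obtain ⟨γ, hγM2, hγmax⟩ := Set.exists_max_image M2 (fun γ => γ i + γ j) hM2fin ⟨γ1, hγ1M, rfl⟩
  obtain ⟨⟨hγout, hγi, hγj⟩, hγl⟩ := hγM2
  refine ⟨γ, hγout, hγi, hγj, ?_⟩
  have hl : γ + Finsupp.single l 1 ∈ exps I := by
    by_contra hout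
    have hmem : γ + Finsupp.single l 1 ∈ M := by
      refine ⟨hout, ?_, ?_⟩
      · simpa only [Finsupp.add_apply, Finsupp.single_apply, if_neg hil.symm, add_zero] using hγi
      · simpa only [Finsupp.add_apply, Finsupp.single_apply, if_neg hjl.symm, add_zero] using hγj
    have := hγ1max _ hmem
    simp only [Finsupp.add_apply, Finsupp.single_eq_same] at this
    omega
  have hi : γ + Finsupp.single i 1 ∈ exps I := by
    by_cases hlt : γ i + 1 < B i
    · by_contra hout
      have hmem : γ + Finsupp.single i 1 ∈ M2 := by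
        refine ⟨⟨hout, ?_, ?_⟩, ?_⟩
        · simpa only [Finsupp.add_apply, Finsupp.single_eq_same] using hlt
        · simpa only [Finsupp.add_apply, Finsupp.single_apply, if_neg hij, add_zero] using hγj
        · simpa only [Finsupp.add_apply, Finsupp.single_apply, if_neg hil, add_zero] using hγl
      have := hγmax _ hmem
      simp only [Finsupp.add_apply, Finsupp.single_eq_same, Finsupp.single_apply, if_neg hij,
        add_zero] at this
      omega
    · refine exps_of_le hB ?_
      intro m
      rcases cases3' i j l m hij hil hjl with rfl | rfl | rfl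
      · simp only [Finsupp.add_apply, Finsupp.single_eq_same]; omega
      · rw [hBj]; exact Nat.zero_le _
      · simp only [Finsupp.add_apply, Finsupp.single_apply, if_neg hil, add_zero]; omega
  have hj : γ + Finsupp.single j 1 ∈ exps I := by
    by_cases hlt : γ j + 1 < C j
    · by_contra hout
      have hmem : γ + Finsupp.single j 1 ∈ M2 := by
        refine ⟨⟨hout, ?_, ?_⟩, ?_⟩
        · simpa only [Finsupp.add_apply, Finsupp.single_apply, if_neg hij.symm, add_zero] using hγi
        · simpa only [Finsupp.add_apply, Finsupp.single_eq_same] using hlt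
        · simpa only [Finsupp.add_apply, Finsupp.single_apply, if_neg hjl, add_zero] using hγl
      have := hγmax _ hmem
      simp only [Finsupp.add_apply, Finsupp.single_eq_same, Finsupp.single_apply,
        if_neg hij.symm, add_zero] at this
      omega
    · refine exps_of_le hC ?_
      intro m
      rcases cases3' i j l m hij hil hjl with rfl | rfl | rfl
      · rw [hCi]; exact Nat.zero_le _
      · simp only [Finsupp.add_apply, Finsupp.single_eq_same]; omega
      · simp only [Finsupp.add_apply, Finsupp.single_apply, if_neg hjl, add_zero]; omega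
  intro m
  rcases cases3' i j l m hij hil hjl with rfl | rfl | rfl
  · exact hi
  · exact hj
  · exact hl

section e3lemmas

@[simp] lemma e3_zero (a b c : ℕ) : e3 a b c 0 = a := rfl
@[simp] lemma e3_one (a b c : ℕ) : e3 a b c 1 = b := rfl
@[simp] lemma e3_two (a b c : ℕ) : e3 a b c 2 = c := rfl

lemma e3_ext {β : Fin 3 →₀ ℕ} {a b c : ℕ} (h0 : β 0 = a) (h1 : β 1 = b) (h2 : β 2 = c) :
    β = e3 a b c := by
  ext m
  fin_cases m
  · exact h0
  · exact h1
  · exact h2

lemma e3_sub_single0 (a b c : ℕ) : e3 a b c - Finsupp.single 0 1 = e3 (a - 1) b c :=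
  e3_ext (by simp) (by simp) (by simp)

lemma e3_sub_single1 (a b c : ℕ) : e3 a b c - Finsupp.single 1 1 = e3 a (b - 1) c :=
  e3_ext (by simp) (by simp) (by simp)

lemma e3_sub_single2 (a b c : ℕ) : e3 a b c - Finsupp.single 2 1 = e3 a b (c - 1) :=
  e3_ext (by simp) (by simp) (by simp)

lemma e3_add_single0 (a b c : ℕ) : e3 a b c + Finsupp.single 0 1 = e3 (a + 1) b c :=
  e3_ext (by simp) (by simp) (by simp)

lemma e3_add_single1 (a b c : ℕ) : e3 a b c + Finsupp.single 1 1 = e3 a (b + 1) c :=
  e3_ext (by simp) (by simp) (by simp)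

lemma e3_add_single2 (a b c : ℕ) : e3 a b c + Finsupp.single 2 1 = e3 a b (c + 1) :=
  e3_ext (by simp) (by simp) (by simp)

end e3lemmas

/-- `tPiece I α ≤ sigPiece I N` when `α` has sign pattern `N`. -/
lemma tPiece_le_sigPiece (α : Fin n → ℤ) (N : Set (Fin n)) (h : ∀ i, α i < 0 ↔ i ∈ N) :
    tPiece I α ≤ sigPiece I N :=
  le_iSup (fun α' : {α' : Fin n → ℤ // ∀ i, α' i < 0 ↔ i ∈ N} => tPiece I α'.1) ⟨α, h⟩

lemma sigPiece_ne_bot_of_tPiece (α : Fin n → ℤ) (N : Set (Fin n)) (h : ∀ i, α i < 0 ↔ i ∈ N)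
    (hne : tPiece I α ≠ ⊥) : sigPiece I N ≠ ⊥ := by
  intro hbot
  apply hne
  rw [eq_bot_iff, ← hbot]
  exact tPiece_le_sigPiece α N h

/-- Three variables: a minimal generator `g` not involving `x_l`, dominated in the `x_i`
direction by a corner generator `B` (not involving `x_j`) and in the `x_j` direction by a corner
generator `C` (not involving `x_i`), forces a nonzero piece of sign pattern `{i, j}`. -/
theorem sigPiece_pair_ne_bot {I : Ideal (MvPolynomial (Fin 3) k)} (hI : IsMonomial I)
    [Module.Finite k (MvPolynomial (Fin 3) k ⧸ I)]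
    {i j l : Fin 3} (hij : i ≠ j) (hil : i ≠ l) (hjl : j ≠ l)
    {g B C : Fin 3 →₀ ℕ} (hg : g ∈ exps I) (hgl : g l = 0)
    (hgmin : ∀ m, 0 < g m → g - Finsupp.single m 1 ∉ exps I)
    (hB : B ∈ exps I) (hBj : B j = 0) (hBi : 0 < B i)
    (hB' : B - Finsupp.single i 1 ∉ exps I) (hBg : B i ≤ g i)
    (hC : C ∈ exps I) (hCi : C i = 0) (hCj : 0 < C j)
    (hC' : C - Finsupp.single j 1 ∉ exps I) (hCg : C j ≤ g j) :
    sigPiece I ({i, j} : Set (Fin 3)) ≠ ⊥ := by
  obtain ⟨γ, hγ, hγi, hγj, hsoc⟩ := exists_socle hI hij hil hjl hB hBj hBi hB' hC hCi hCj hC'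
  have hne := tPiece_ne_bot_of_socle (n := 3) (by norm_num) hI hg hgmin hγ hsoc
  refine sigPiece_ne_bot_of_tPiece (dif g γ) _ ?_ hne
  intro m
  rcases cases3' i j l m hij hil hjl with rfl | rfl | rfl
  · simp only [dif, Set.mem_insert_iff, true_or, iff_true]; omega
  · simp only [dif, Set.mem_insert_iff, Set.mem_singleton_iff, or_true, iff_true]; omega
  · simp only [dif, hgl, Set.mem_insert_iff, Set.mem_singleton_iff, hil.symm, hjl.symm, or_self,
      iff_false]
    omega

end Groth.Agent.Lib.Helper68.HilbSocle
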