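import Mathlib
import Groth.Prelude.Def_W4c1hilbpnTgt
import Groth.Agent.Lib.Helper92.HilbTgt
import Groth.Agent.Lib.Helper92.HilbTgtDecomp
import Groth.Agent.Lib.Helper68.HilbSocle

/-!
# No bounded components when a variable lies in `I` (helper68)

If `x_{i0} ∈ I` (monomial, finite colength), multidegrees `α` with `α_{i0} < 0` and another negative
entry, or (three variables) with `α_{i0} ≥ 0` and the two other entries negative, have no bounded
components, hence `tPiece I α = ⊥`.
-/

namespace Groth.Agent.Lib.Helper68.HilbSocle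
set_option linter.unusedSectionVars false
set_option linter.unusedVariables false
open MvPolynomial W4c1hilbpn Groth.Agent.Lib.Helper92.HilbTgt
  Groth.Agent.Lib.Helper92.HilbTgtDecomp

universe u
variable {k : Type u} [Field k] {n : ℕ} {I : Ideal (MvPolynomial (Fin n) k)} {α : Fin n → ℤ}

/-- Step down in direction `i` inside the region. -/
lemma step_down (v : ↥(region I α)) (hnn : ∀ i, 0 ≤ v.1 i) {i : Fin n} (hβi : 1 ≤ (bv v) i)
    (hmem : bv v - Finsupp.single i 1 ∈ exps I) :
    ∃ w : ↥(region I α), w.1 + ez i = v.1 ∧ (RG I α).Adj v w := by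
  have hvβ := bv_spec v
  set β := bv v with hβdef
  have hout : natPart v.1 ∉ exps I := fun h => v.2.2 ⟨hnn, h⟩
  have hβ' : β = (β - Finsupp.single i 1) + Finsupp.single i 1 := by
    ext j
    by_cases hj : j = i
    · subst hj; simp; omega
    · simp [hj]
  have hv' : v.1 = toZ (β - Finsupp.single i 1) α + ez i := by
    rw [← toZ_add_single, ← hβ']; exact hvβ
  have hreg : toZ (β - Finsupp.single i 1) α ∈ region I α := by
    refine ⟨⟨_, hmem, rfl⟩, ?_⟩
    rintro ⟨hnn', hin⟩
    apply hout
    have : natPart v.1 = natPart (toZ (β - Finsupp.single i 1) α) + Finsupp.single i 1 := by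
      rw [hv']; exact natPart_add_ez i (hnn' i)
    rw [this]; exact exps_add hin _
  refine ⟨⟨_, hreg⟩, hv'.symm, ?_⟩
  show (stepGraph (Fin n)).Adj v.1 (toZ (β - Finsupp.single i 1) α)
  rw [hv']; exact (step_adj_add_ez _ _).symm

/-- Step up in direction `i` inside the region. -/
lemma step_up (v : ↥(region I α)) {i : Fin n} (hnot : natPart (v.1 + ez i) ∉ exps I) :
    ∃ w : ↥(region I α), w.1 = v.1 + ez i ∧ (RG I α).Adj v w := by
  have hvβ := bv_spec v
  have hβ := bv_mem v
  have hreg : v.1 + ez i ∈ region I α := by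
    refine ⟨⟨bv v + Finsupp.single i 1, exps_add hβ _, ?_⟩, fun h => hnot h.2⟩
    show v.1 + ez i = toZ (bv v + Finsupp.single i 1) α
    rw [toZ_add_single, ← hvβ]
  exact ⟨⟨_, hreg⟩, rfl, step_adj_add_ez _ _⟩

lemma mem_supp_of_adj {c : (RG I α).ConnectedComponent} {v w : ↥(region I α)}
    (hv : v ∈ c.supp) (hadj : (RG I α).Adj v w) : w ∈ c.supp := by
  show (RG I α).connectedComponentMk w = c
  rw [← (show (RG I α).connectedComponentMk v = c from hv)]
  exact (SimpleGraph.ConnectedComponent.connectedComponentMk_eq_of_adj hadj).symm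

/-- If `x_{i0} ∈ I` and `α_{i0} < 0`, `α_j < 0` for some `j ≠ i0`, there are no bounded
components. -/
theorem isEmpty_BC_A (hn : 2 ≤ n) (hI : IsMonomial I)
    [Module.Finite k (MvPolynomial (Fin n) k ⧸ I)] {i0 j : Fin n} (hj : j ≠ i0)
    (hx : Finsupp.single i0 1 ∈ exps I) (h0 : α i0 < 0) (hjneg : α j < 0) :
    IsEmpty (BC I α) := by
  constructor
  intro c
  have hnnall := (supp_finite_iff hn hI c.1).mp c.2
  obtain ⟨v0, hv0⟩ := c.1.exists_rep
  obtain ⟨v, hvB, hmin⟩ := Set.exists_min_image c.1.supp
    (fun v : ↥(region I α) => v.1 j) c.2 ⟨v0, hv0⟩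
  have hnn := hnnall v hvB
  have hvβ := bv_spec v
  have hβ0 : 1 ≤ (bv v) i0 := by
    have h1 := congrFun hvβ i0
    have h2 := hnn i0
    simp only [toZ_apply] at h1
    omega
  have hβj : 1 ≤ (bv v) j := by
    have h1 := congrFun hvβ j
    have h2 := hnn j
    simp only [toZ_apply] at h1
    omega
  have hmem : bv v - Finsupp.single j 1 ∈ exps I := by
    refine exps_of_le hx ?_
    intro m
    by_cases hm : m = i0
    · subst hm
      simp only [Finsupp.single_eq_same, Finsupp.coe_tsub, Pi.sub_apply, Finsupp.single_apply,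
        if_neg hj]
      omega
    · have hm' : ¬ i0 = m := fun h => hm h.symm
      simp only [Finsupp.single_apply, if_neg hm']
      exact Nat.zero_le _
  obtain ⟨w, hw, hadj⟩ := step_down v hnn hβj hmem
  have := hmin w (mem_supp_of_adj hvB hadj)
  have e := congrFun hw j
  simp only [Pi.add_apply, ez, Pi.single_eq_same] at e
  omega

/-- Three variables: if `x_{i0} ∈ I`, `α_{i0} ≥ 0` and the other two entries of `α` are negative,
there are no bounded components. -/
theorem isEmpty_BC_B {I : Ideal (MvPolynomial (Fin 3) k)} {α : Fin 3 → ℤ} (hI : IsMonomial I)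
    [Module.Finite k (MvPolynomial (Fin 3) k ⧸ I)] {i0 i1 i2 : Fin 3}
    (h01 : i0 ≠ i1) (h02 : i0 ≠ i2) (h12 : i1 ≠ i2)
    (hx : Finsupp.single i0 1 ∈ exps I) (h0 : 0 ≤ α i0) (h1 : α i1 < 0) (h2 : α i2 < 0) :
    IsEmpty (BC I α) := by
  constructor
  intro c
  have hnnall := (supp_finite_iff (by norm_num) hI c.1).mp c.2
  obtain ⟨v0, hv0⟩ := c.1.exists_rep
  obtain ⟨v, hvB, hmax⟩ := Set.exists_max_image c.1.supp
    (fun v : ↥(region I α) => v.1 i1 - v.1 i2) c.2 ⟨v0, hv0⟩
  have hnn := hnnall v hvB
  have hvβ := bv_spec v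
  have hβ := bv_mem v
  have hout : natPart v.1 ∉ exps I := fun h => v.2.2 ⟨hnn, h⟩
  -- the `i0`-coordinate of `v` vanishes
  have hv0z : v.1 i0 = 0 := by
    by_contra hne
    apply hout
    refine exps_of_le hx ?_
    intro m
    by_cases hm : m = i0
    · subst hm
      have := hnn m
      simp only [Finsupp.single_eq_same, natPart_apply]
      omega
    · have hm' : ¬ i0 = m := fun h => hm h.symm
      simp only [Finsupp.single_apply, if_neg hm']
      exact Nat.zero_le _
  have hβ2 : 1 ≤ (bv v) i2 := by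
    have e := congrFun hvβ i2
    have := hnn i2
    simp only [toZ_apply] at e
    omega
  -- Step A
  have hA : bv v - Finsupp.single i2 1 ∉ exps I := by
    intro hmem
    obtain ⟨w, hw, hadj⟩ := step_down v hnn hβ2 hmem
    have := hmax w (mem_supp_of_adj hvB hadj)
    have e1 := congrFun hw i1
    have e2 := congrFun hw i2
    simp only [Pi.add_apply, ez, Pi.single_eq_same] at e2
    simp only [Pi.add_apply, ez, Pi.single_apply, if_neg h12, add_zero] at e1
    omega
  -- Step B
  have hB : natPart (v.1 + ez i1) ∈ exps I := by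
    by_contra hnot
    obtain ⟨w, hw, hadj⟩ := step_up v hnot
    have := hmax w (mem_supp_of_adj hvB hadj)
    have e1 := congrFun hw i1
    have e2 := congrFun hw i2
    simp only [Pi.add_apply, ez, Pi.single_eq_same] at e1
    simp only [Pi.add_apply, ez, Pi.single_apply, if_neg h12.symm, add_zero] at e2
    omega
  -- Step C
  apply hA
  refine exps_of_le hB ?_
  intro m
  have e := congrFun hvβ m
  have hm := hnn m
  simp only [toZ_apply] at e
  rcases cases3' i0 i1 i2 m h01 h02 h12 with rfl | rfl | rfl
  · simp only [natPart_apply, Pi.add_apply, ez, Pi.single_apply, if_neg h01, add_zero,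
      Finsupp.coe_tsub, Pi.sub_apply, Finsupp.single_apply, if_neg h02.symm]
    omega
  · simp only [natPart_apply, Pi.add_apply, ez, Pi.single_eq_same,
      Finsupp.coe_tsub, Pi.sub_apply, Finsupp.single_apply, if_neg h12.symm]
    omega
  · simp only [natPart_apply, Pi.add_apply, ez, Pi.single_apply, if_neg h12.symm, add_zero,
      Finsupp.coe_tsub, Pi.sub_apply, Finsupp.single_eq_same]
    omega

/-- an injective family of exponents meets `exps I` (finite colength). -/
lemma exists_mem_exps_of_injective (hI : IsMonomial I)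
    [Module.Finite k (MvPolynomial (Fin n) k ⧸ I)] (f : ℕ → Fin n →₀ ℕ)
    (hf : Function.Injective f) : ∃ t, f t ∈ exps I := by
  by_contra hcon
  push Not at hcon
  have hsub : Set.range f ⊆ {β | β ∉ exps I} := by
    rintro _ ⟨t, rfl⟩; exact hcon t
  exact (Set.infinite_range_of_injective hf) ((finite_compl_exps hI).subset hsub)

end Groth.Agent.Lib.Helper68.HilbSocle
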