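import Mathlib
import Groth.Prelude.Def_W4c1hilbpnTgt
import Groth.Agent.Lib.Helper92.HilbTgt
import Groth.Agent.Lib.Helper92.HilbTgtDecomp
import Groth.Agent.Lib.Helper92.HilbTgtPow3
import Groth.Agent.Lib.Helper68.HilbSocle
import Groth.Agent.Lib.Helper68.HilbSocle2

/-!
# Staircase numbers and corner points of bounded components (helper68)

* `stair_spec`: `x^p y^q z^c ∉ I ↔ c < stairZ I p q` for a monomial ideal of finite colength.
* `finrank_iSup_le_of_forall_finset`: bounding the dimension of an independent supremum.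
* `exists_corner`: in a bounded component of the region for a multidegree with `α 2 < 0`, there is a
  point that cannot be moved up in the `x`, `y` directions nor down in the `z` direction.
-/

namespace Groth.Agent.Lib.Helper68.HilbSocle
set_option linter.unusedSectionVars false
set_option linter.unusedVariables false
open MvPolynomial W4c1hilbpn Groth.Agent.Lib.Helper92.HilbTgt
  Groth.Agent.Lib.Helper92.HilbTgtDecomp

universe u

section linalg
variable {k : Type*} [Field k] {V : Type*} [AddCommGroup V] [Module k V] {ι : Type*}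

/-- If all finite partial sums of the dimensions of an independent family are at most `N`, so is
the dimension of the supremum. -/
lemma finrank_iSup_le_of_forall_finset (M : ι → Submodule k V) (hM : iSupIndep M)
    (hfin : ∀ i, Module.Finite k (M i)) (N : ℕ)
    (h : ∀ B : Finset ι, ∑ i ∈ B, Module.finrank k (M i) ≤ N) :
    Module.finrank k ↥(⨆ i, M i) ≤ N := by
  classical
  by_cases hfg : (⨆ i, M i).FG
  · have hc := (Submodule.fg_iff_compact _).mp hfg
    obtain ⟨B, hB⟩ := CompleteLattice.IsCompactElement.exists_finset_of_le_iSup _ hc M le_rfl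
    have heq : (⨆ i, M i) = ⨆ i ∈ B, M i :=
      le_antisymm hB (iSup₂_le fun i _ => le_iSup M i)
    rw [heq, (Groth.Agent.Lib.Helper92.HilbTgtPow3.finrank_biSup_of_indep M hM hfin B).2]
    exact h B
  · have : ¬ Module.Finite k ↥(⨆ i, M i) := fun hf => hfg (Module.Finite.iff_fg.mp hf)
    rw [Module.finrank_of_not_finite this]
    exact Nat.zero_le _

end linalg

section stair
variable {k : Type u} [Field k] {I : Ideal (MvPolynomial (Fin 3) k)}

lemma e3_self (β : Fin 3 →₀ ℕ) : β = e3 (β 0) (β 1) (β 2) := e3_ext rfl rfl rfl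

lemma e3_le_e3 {a b c a' b' c' : ℕ} (h0 : a ≤ a') (h1 : b ≤ b') (h2 : c ≤ c') :
    e3 a b c ≤ e3 a' b' c' := by
  intro m
  match m with
  | 0 => simpa using h0
  | 1 => simpa using h1
  | 2 => simpa using h2

/-- `x^p y^q z^c ∉ I ↔ c < b_{p,q}`. -/
theorem stair_spec (hI : IsMonomial I) [Module.Finite k (MvPolynomial (Fin 3) k ⧸ I)]
    (p q c : ℕ) : e3 p q c ∉ exps I ↔ c < stairZ I p q := by
  classical
  set D : Set ℕ := {c | e3 p q c ∉ exps I} with hD
  have hfin : D.Finite := by
    refine Set.Finite.of_injOn (f := fun c => e3 p q c) (t := {β | β ∉ exps I}) ?_ ?_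
      (finite_compl_exps hI)
    · intro c hc; exact hc
    · intro c _ c' _ h
      have := DFunLike.congr_fun h 2
      simpa using this
  have hdown : ∀ c c', c' ≤ c → c ∈ D → c' ∈ D := by
    intro c c' hle hc hc'
    exact hc (exps_of_le hc' (e3_le_e3 le_rfl le_rfl hle))
  have hex : ∃ m, m ∉ D := hfin.exists_notMem
  set m := Nat.find hex with hm
  have hm1 : m ∉ D := Nat.find_spec hex
  have hm2 : ∀ c, c < m → c ∈ D := fun c hc => not_not.mp (Nat.find_min hex hc)
  have hiff : ∀ c, c ∈ D ↔ c < m := by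
    intro c
    constructor
    · intro hc
      by_contra hle
      exact hm1 (hdown c m (not_lt.mp hle) hc)
    · exact hm2 c
  have hcard : stairZ I p q = m := by
    unfold stairZ
    have e : {c : ℕ // e3 p q c ∉ exps I} ≃ {c : ℕ // c < m} :=
      Equiv.subtypeEquivRight hiff
    rw [Nat.card_congr e, Nat.card_congr (Fin.equivSubtype (n := m)).symm]
    simp
  rw [hcard]
  exact hiff c

lemma stair_succ_left_le (hI : IsMonomial I) [Module.Finite k (MvPolynomial (Fin 3) k ⧸ I)]
    (p q : ℕ) : stairZ I (p + 1) q ≤ stairZ I p q := by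
  refine le_of_forall_lt fun c hc => ?_
  rw [← stair_spec hI] at hc ⊢
  exact fun h => hc (exps_of_le h (e3_le_e3 (Nat.le_succ p) le_rfl le_rfl))

lemma stair_succ_right_le (hI : IsMonomial I) [Module.Finite k (MvPolynomial (Fin 3) k ⧸ I)]
    (p q : ℕ) : stairZ I p (q + 1) ≤ stairZ I p q := by
  refine le_of_forall_lt fun c hc => ?_
  rw [← stair_spec hI] at hc ⊢
  exact fun h => hc (exps_of_le h (e3_le_e3 le_rfl (Nat.le_succ q) le_rfl))

lemma stair_eq_zero_of_mem (hI : IsMonomial I) [Module.Finite k (MvPolynomial (Fin 3) k ⧸ I)]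
    {p q : ℕ} (h : e3 p q 0 ∈ exps I) : stairZ I p q = 0 := by
  by_contra hne
  exact (stair_spec hI p q 0).mpr (Nat.pos_of_ne_zero hne) h

end stair

section corner
variable {k : Type u} [Field k] {I : Ideal (MvPolynomial (Fin 3) k)} {α : Fin 3 → ℤ}

/-- A corner point of a bounded component, for a multidegree with negative `z`-entry. -/
theorem exists_corner (hI : IsMonomial I) [Module.Finite k (MvPolynomial (Fin 3) k ⧸ I)]
    (hα2 : α 2 < 0) (U : BC I α) :
    ∃ v : ↥(region I α), v ∈ U.1.supp ∧ (∀ i, 0 ≤ v.1 i) ∧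
      bv v - Finsupp.single 2 1 ∉ exps I ∧ natPart (v.1 + ez 0) ∈ exps I ∧
      natPart (v.1 + ez 1) ∈ exps I := by
  have hnnall := (supp_finite_iff (by norm_num) hI U.1).mp U.2
  obtain ⟨v0, hv0⟩ := U.1.exists_rep
  obtain ⟨v1, hv1, hmax⟩ := Set.exists_max_image U.1.supp
    (fun v : ↥(region I α) => v.1 0 + v.1 1) U.2 ⟨v0, hv0⟩
  set S2 : Set ↥(region I α) := {v | v ∈ U.1.supp ∧ v.1 0 + v.1 1 = v1.1 0 + v1.1 1} with hS2
  have hS2fin : S2.Finite := U.2.subset fun v h => h.1
  obtain ⟨v, ⟨hvU, hvm⟩, hmin⟩ := Set.exists_min_image S2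
    (fun v : ↥(region I α) => v.1 2) hS2fin ⟨v1, hv1, rfl⟩
  have hnn := hnnall v hvU
  have hvβ := bv_spec v
  refine ⟨v, hvU, hnn, ?_, ?_, ?_⟩
  · intro hmem
    have hβ2 : 1 ≤ (bv v) 2 := by
      have e := congrFun hvβ 2
      have := hnn 2
      simp only [toZ_apply] at e
      omega
    obtain ⟨w, hw, hadj⟩ := step_down v hnn hβ2 hmem
    have hwU := mem_supp_of_adj hvU hadj
    have e0 := congrFun hw 0
    have e1 := congrFun hw 1
    have e2 := congrFun hw 2
    simp only [Pi.add_apply, ez, Pi.single_apply, Fin.reduceEq, if_false, add_zero] at e0 e1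
    simp only [Pi.add_apply, ez, Pi.single_eq_same] at e2
    have hwS : w ∈ S2 := ⟨hwU, by rw [e0, e1]; exact hvm⟩
    have := hmin w hwS
    omega
  · by_contra hnot
    obtain ⟨w, hw, hadj⟩ := step_up v hnot
    have hwU := mem_supp_of_adj hvU hadj
    have := hmax w hwU
    have e0 := congrFun hw 0
    have e1 := congrFun hw 1
    simp only [Pi.add_apply, ez, Pi.single_eq_same] at e0
    simp only [Pi.add_apply, ez, Pi.single_apply, Fin.reduceEq, if_false, add_zero] at e1
    omega
  · by_contra hnot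
    obtain ⟨w, hw, hadj⟩ := step_up v hnot
    have hwU := mem_supp_of_adj hvU hadj
    have := hmax w hwU
    have e0 := congrFun hw 0
    have e1 := congrFun hw 1
    simp only [Pi.add_apply, ez, Pi.single_apply, Fin.reduceEq, if_false, add_zero] at e0
    simp only [Pi.add_apply, ez, Pi.single_eq_same] at e1
    omega

end corner

end Groth.Agent.Lib.Helper68.HilbSocle

namespace Groth.Agent.Lib.Helper68.HilbSocle
set_option linter.unusedSectionVars false
set_option linter.unusedVariables false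
open MvPolynomial W4c1hilbpn Groth.Agent.Lib.Helper92.HilbTgt
  Groth.Agent.Lib.Helper92.HilbTgtDecomp

universe u

section cornerdata
variable {k : Type u} [Field k] {I : Ideal (MvPolynomial (Fin 3) k)} {α : Fin 3 → ℤ}

/-- Numerical data of a corner point in terms of the staircase numbers. -/
theorem corner_data (hI : IsMonomial I) [Module.Finite k (MvPolynomial (Fin 3) k ⧸ I)]
    {a1 a2 : ℕ} (h0 : α 0 = (a1 : ℤ)) (h1 : α 1 = (a2 : ℤ)) (h2 : α 2 < 0)
    (v : ↥(region I α)) (hnn : ∀ i, 0 ≤ v.1 i)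
    (hP1 : bv v - Finsupp.single 2 1 ∉ exps I) (hP2 : natPart (v.1 + ez 0) ∈ exps I)
    (hP3 : natPart (v.1 + ez 1) ∈ exps I) :
    a1 ≤ natPart v.1 0 ∧ a2 ≤ natPart v.1 1 ∧
      stairZ I (natPart v.1 0 + 1) (natPart v.1 1) ≤ natPart v.1 2 ∧
      stairZ I (natPart v.1 0) (natPart v.1 1 + 1) ≤ natPart v.1 2 ∧
      natPart v.1 2 < stairZ I (natPart v.1 0) (natPart v.1 1) ∧
      α 2 = (natPart v.1 2 : ℤ) - (stairZ I (natPart v.1 0 - a1) (natPart v.1 1 - a2) : ℤ) := by
  have hvβ := bv_spec v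
  have hβ := bv_mem v
  set β := bv v with hβdef
  set γ := natPart v.1 with hγ
  have e0 := congrFun hvβ 0
  have e1 := congrFun hvβ 1
  have e2 := congrFun hvβ 2
  simp only [toZ_apply] at e0 e1 e2
  have n0 := hnn 0
  have n1 := hnn 1
  have n2 := hnn 2
  have g0 : γ 0 = β 0 + a1 := by rw [hγ, natPart_apply]; omega
  have g1 : γ 1 = β 1 + a2 := by rw [hγ, natPart_apply]; omega
  have g2 : (γ 2 : ℤ) = v.1 2 := by rw [hγ, natPart_apply]; omega
  have hout : γ ∉ exps I := fun h => v.2.2 ⟨hnn, h⟩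
  have hγe : γ = e3 (γ 0) (γ 1) (γ 2) := e3_self γ
  have hlt : γ 2 < stairZ I (γ 0) (γ 1) := by
    rw [← stair_spec hI, ← hγe]; exact hout
  have hx : stairZ I (γ 0 + 1) (γ 1) ≤ γ 2 := by
    rw [natPart_add_ez 0 n0, ← hγ, hγe, e3_add_single0] at hP2
    by_contra hcon
    exact (stair_spec hI _ _ _).mpr (not_le.mp hcon) hP2
  have hy : stairZ I (γ 0) (γ 1 + 1) ≤ γ 2 := by
    rw [natPart_add_ez 1 n1, ← hγ, hγe, e3_add_single1] at hP3
    by_contra hcon
    exact (stair_spec hI _ _ _).mpr (not_le.mp hcon) hP3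
  have hβe : β = e3 (β 0) (β 1) (β 2) := e3_self β
  have hβ2 : 1 ≤ β 2 := by omega
  have hb1 : stairZ I (β 0) (β 1) ≤ β 2 := by
    by_contra hcon
    apply (stair_spec hI _ _ _).mpr (not_le.mp hcon)
    rw [← hβe]; exact hβ
  have hb2 : β 2 - 1 < stairZ I (β 0) (β 1) := by
    rw [← stair_spec hI, ← e3_sub_single2, ← hβe]; exact hP1
  have hb : β 2 = stairZ I (β 0) (β 1) := by omega
  refine ⟨by omega, by omega, hx, hy, hlt, ?_⟩
  have hs0 : γ 0 - a1 = β 0 := by omega
  have hs1 : γ 1 - a2 = β 1 := by omega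
  rw [hs0, hs1, ← hb, g2]
  omega

end cornerdata

end Groth.Agent.Lib.Helper68.HilbSocle
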