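import Mathlib

/-!
# A Hopf algebra map with trivial kernel is a ring epimorphism (helper68)

If `f : B → A` is a bialgebra map of commutative Hopf algebras over `k` such that the augmentation
ideal of `A` is generated by the image of the augmentation ideal of `B`, then `B → A` is an
epimorphism of rings; if moreover `A` is finite over `B`, it is surjective.
-/

open scoped TensorProduct

universe u v w

namespace Groth.Agent.Lib.Helper68.HopfMonoEpi

/-- `g ∘ S` is a left inverse of `g` for the convolution product (no bialgebra structure needed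
on the target). -/
theorem conv_inv_mul_cancel {k : Type*} {A : Type*} {T : Type*} [CommRing k] [CommRing A]
    [HopfAlgebra k A] [CommRing T] [Algebra k T] (g : A →ₐ[k] T) :
    WithConv.toConv (g.comp (HopfAlgebra.antipodeAlgHom k A)) * WithConv.toConv g = 1 := by
  have h1 := AlgHom.comp_convMul_distrib g (WithConv.toConv (HopfAlgebra.antipodeAlgHom k A))
    (WithConv.toConv (AlgHom.id k A))
  rw [AlgHom.antipode_id_cancel] at h1
  apply WithConv.ext
  rw [WithConv.ofConv_toConv, WithConv.ofConv_toConv, AlgHom.comp_id] at h1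
  rw [← h1]
  ext a
  change g (algebraMap k A (Coalgebra.counit a)) = algebraMap k T (Coalgebra.counit a)
  rw [AlgHom.commutes]

theorem surjective_of_ker_counit {k : Type u} [CommRing k] {A : Type v} {B : Type w}
    [CommRing A] [HopfAlgebra k A] [CommRing B] [HopfAlgebra k B]
    (f : B →ₐc[k] A)
    (hfin : letI : Algebra B A := (f : B →+* A).toAlgebra; Module.Finite B A)
    (hker : Ideal.map f (RingHom.ker (Bialgebra.counitAlgHom k B)) =
      RingHom.ker (Bialgebra.counitAlgHom k A)) :
    Function.Surjective f := by
  letI algBA : Algebra B A := (f : B →+* A).toAlgebra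
  have halg : ∀ b : B, algebraMap B A b = f b := fun _ => rfl
  have : IsScalarTower k B A := IsScalarTower.of_algebraMap_eq (fun c => by
    rw [halg]; exact ((f : B →ₐ[k] A).commutes c).symm)
  have : Module.Finite B A := hfin
  have hepi : Algebra.IsEpi B A := by
    rw [Algebra.isEpi_iff_forall_one_tmul_eq]
    let g₁ : A →ₐ[k] A ⊗[B] A := Algebra.TensorProduct.includeLeft
    let g₂ : A →ₐ[k] A ⊗[B] A :=
      { toRingHom := (Algebra.TensorProduct.includeRight : A →ₐ[B] A ⊗[B] A).toRingHom
        commutes' := fun c => by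
          change (1 : A) ⊗ₜ[B] (algebraMap k A c) = (algebraMap k A c) ⊗ₜ[B] (1 : A)
          rw [IsScalarTower.algebraMap_apply k B A, Algebra.algebraMap_eq_smul_one,
            TensorProduct.smul_tmul] }
    have hg₁ : ∀ a, g₁ a = a ⊗ₜ[B] 1 := fun _ => rfl
    have hg₂ : ∀ a, g₂ a = 1 ⊗ₜ[B] a := fun _ => rfl
    -- precomposition with `f` as a monoid hom between convolution groups
    let φ : WithConv (A →ₐ[k] A ⊗[B] A) →* WithConv (B →ₐ[k] A ⊗[B] A) :=
      { toFun := fun g => WithConv.toConv (g.ofConv.comp (f : B →ₐ[k] A))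
        map_one' := by
          apply WithConv.ext
          ext b
          change algebraMap k (A ⊗[B] A) (Coalgebra.counit (f b)) = algebraMap k (A ⊗[B] A) (Coalgebra.counit b)
          rw [CoalgHomClass.counit_comp_apply]
        map_mul' := fun g g' => by
          apply WithConv.ext
          exact AlgHom.convMul_comp_bialgHom_distrib g g' f }
    have hφ : ∀ g : WithConv (A →ₐ[k] A ⊗[B] A), ∀ b, (φ g).ofConv b = g.ofConv (f b) := fun _ _ => rfl
    have h12 : φ (WithConv.toConv g₁) = φ (WithConv.toConv g₂) := by
      apply WithConv.ext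
      ext b
      rw [hφ, hφ]
      change g₁ (f b) = g₂ (f b)
      rw [hg₁, hg₂, ← halg, Algebra.algebraMap_eq_smul_one, TensorProduct.smul_tmul]
    set u : WithConv (A →ₐ[k] A ⊗[B] A) :=
      WithConv.toConv (g₁.comp (HopfAlgebra.antipodeAlgHom k A)) with hu
    have hu1 : u * WithConv.toConv g₁ = 1 := conv_inv_mul_cancel g₁
    obtain ⟨u', hu'⟩ : ∃ u' : WithConv (A →ₐ[k] A ⊗[B] A), u' * u = 1 :=
      ⟨_, conv_inv_mul_cancel (g₁.comp (HopfAlgebra.antipodeAlgHom k A))⟩
    set h : WithConv (A →ₐ[k] A ⊗[B] A) := u * WithConv.toConv g₂ with hh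
    have hφh : φ h = 1 := by
      rw [hh, map_mul, ← h12, ← map_mul, hu1, map_one]
    have hfb : ∀ b, h.ofConv (f b) = algebraMap k (A ⊗[B] A) (Coalgebra.counit b) := by
      intro b
      rw [← hφ, hφh]
      rfl
    have hker' : RingHom.ker (Bialgebra.counitAlgHom k A) ≤ RingHom.ker h.ofConv := by
      rw [← hker, Ideal.map_le_iff_le_comap]
      intro b hb
      rw [Ideal.mem_comap, RingHom.mem_ker]
      rw [RingHom.mem_ker] at hb
      change h.ofConv (f b) = 0
      rw [hfb]
      change algebraMap k (A ⊗[B] A) (Bialgebra.counitAlgHom k B b) = 0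
      rw [hb, map_zero]
    have hone : h = 1 := by
      apply WithConv.ext
      ext a
      change h.ofConv a = algebraMap k (A ⊗[B] A) (Coalgebra.counit a)
      have hmem : a - algebraMap k A (Coalgebra.counit a) ∈
          RingHom.ker (Bialgebra.counitAlgHom k A) := by
        rw [RingHom.mem_ker, map_sub, AlgHom.commutes]
        simp
      have := hker' hmem
      rw [RingHom.mem_ker, map_sub, AlgHom.commutes, sub_eq_zero] at this
      exact this
    have h12' : WithConv.toConv g₁ = WithConv.toConv g₂ := by
      calc WithConv.toConv g₁ = (u' * u) * WithConv.toConv g₁ := by rw [hu', one_mul]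
        _ = u' * (u * WithConv.toConv g₁) := mul_assoc _ _ _
        _ = u' * (u * WithConv.toConv g₂) := by rw [hu1, ← hh, hone]
        _ = (u' * u) * WithConv.toConv g₂ := (mul_assoc _ _ _).symm
        _ = WithConv.toConv g₂ := by rw [hu', one_mul]
    intro a
    have := congrArg (fun g => g.ofConv a) h12'
    exact this.symm
  exact Algebra.isEpi_iff_surjective_algebraMap_of_finite.mp hepi

end Groth.Agent.Lib.Helper68.HopfMonoEpi
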