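import Mathlib
import Groth.Agent.Lib.Helper62.PerfectReducedGen

/-!
# Étale quotient by a radicial kernel over a perfect field (helper68)

For an injective bialgebra map `ψ : C → A` of commutative Hopf algebras over a perfect field `k`
with `C` étale and `(ker ε_A)^n ≤ ψ(ker ε_C) A`, every element of `A` is congruent to an element
of `ψ(C)` modulo the nilradical.
-/

set_option autoImplicit false
set_option linter.style.haveILetI false
universe u

open TensorProduct WithConv

namespace Groth.Agent.Lib.Helper68.HopfRetract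

section Hopf

variable {k : Type u} [Field k] {A C : Type u} [CommRing A] [HopfAlgebra k A]
  [CommRing C] [HopfAlgebra k C]

/-- The ideal of `A ⊗ A` generated by the `ψ c ⊗ 1 - 1 ⊗ ψ c`. -/
def IC (ψ : C →ₐc[k] A) : Ideal (A ⊗[k] A) :=
  Ideal.span (Set.range fun c : C => (ψ c) ⊗ₜ[k] (1 : A) - (1 : A) ⊗ₜ[k] (ψ c))

/-- `a ↦ Σ S(a₁) ⊗ a₂`. -/
noncomputable def gmap : A →ₐ[k] A ⊗[k] A :=
  ((toConv (Algebra.TensorProduct.includeLeft : A →ₐ[k] A ⊗[k] A))⁻¹ *
    toConv (Algebra.TensorProduct.includeRight : A →ₐ[k] A ⊗[k] A)).ofConv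

/-- `a ⊗ b ↦ (a ⊗ 1) * Σ S(b₁) ⊗ b₂`. -/
noncomputable def Psi : A ⊗[k] A →ₐ[k] A ⊗[k] A :=
  Algebra.TensorProduct.lift (Algebra.TensorProduct.includeLeft : A →ₐ[k] A ⊗[k] A)
    (gmap (k := k) (A := A)) (fun _ _ => Commute.all _ _)

theorem Psi_tmul_one (a : A) : Psi (k := k) (a ⊗ₜ[k] (1 : A)) = a ⊗ₜ[k] (1 : A) := by
  simp [Psi]

theorem Psi_one_tmul (a : A) : Psi (k := k) ((1 : A) ⊗ₜ[k] a) = gmap (k := k) a := by
  simp only [Psi, Algebra.TensorProduct.lift_tmul, map_one, one_mul]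

theorem Psi_comul (a : A) : Psi (k := k) (Coalgebra.comul (R := k) a) = (1 : A) ⊗ₜ[k] a := by
  have h : toConv (Algebra.TensorProduct.includeLeft : A →ₐ[k] A ⊗[k] A) *
      toConv (gmap (k := k) (A := A)) =
      toConv (Algebra.TensorProduct.includeRight : A →ₐ[k] A ⊗[k] A) := by
    unfold gmap
    exact mul_inv_cancel_left (G := WithConv (A →ₐ[k] A ⊗[k] A)) _ _
  have h2 := congrArg (fun F : WithConv (A →ₐ[k] A ⊗[k] A) => F.ofConv a) h
  simp only at h2
  rw [AlgHom.convMul_apply] at h2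
  simpa [Psi] using h2

theorem gmap_mem_IC (ψ : C →ₐc[k] A) (c : C) (hc : Coalgebra.counit (R := k) c = 0) :
    gmap (k := k) (ψ c) ∈ IC ψ := by
  set q : A ⊗[k] A →ₐ[k] (A ⊗[k] A) ⧸ IC ψ := Ideal.Quotient.mkₐ k (IC ψ) with hq
  set iL : A →ₐ[k] A ⊗[k] A := Algebra.TensorProduct.includeLeft with hiL
  set iR : A →ₐ[k] A ⊗[k] A := Algebra.TensorProduct.includeRight with hiR
  set S : A →ₐ[k] A := HopfAlgebra.antipodeAlgHom k A with hS
  have hg : gmap (k := k) (A := A) = (toConv (iL.comp S) * toConv iR).ofConv := rfl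
  have hqLR : (q.comp iR).comp (ψ : C →ₐ[k] A) = (q.comp iL).comp (ψ : C →ₐ[k] A) := by
    ext c
    simp only [AlgHom.comp_apply]
    symm
    rw [hq, Ideal.Quotient.mkₐ_eq_mk, Ideal.Quotient.eq]
    exact Ideal.subset_span ⟨c, rfl⟩
  have e0 : q.comp (gmap (k := k) (A := A)) =
      ofConv (toConv (q.comp (iL.comp S)) * toConv (q.comp iR)) := by
    rw [hg]
    exact AlgHom.comp_convMul_distrib q _ _
  have e1 : (q.comp (gmap (k := k) (A := A))).comp (ψ : C →ₐ[k] A) =
      ofConv (toConv ((q.comp (iL.comp S)).comp (ψ : C →ₐ[k] A)) *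
        toConv ((q.comp iR).comp (ψ : C →ₐ[k] A))) := by
    rw [e0]
    exact AlgHom.convMul_comp_bialgHom_distrib _ _ ψ
  have e2 : (q.comp iL).comp ((toConv S * toConv (AlgHom.id k A)).ofConv) =
      ofConv (toConv ((q.comp iL).comp S) * toConv ((q.comp iL).comp (AlgHom.id k A))) :=
    AlgHom.comp_convMul_distrib _ _ _
  have e3 : AlgHom.comp (toConv ((q.comp iL).comp S) *
      toConv ((q.comp iL).comp (AlgHom.id k A))).ofConv (ψ : C →ₐ[k] A) =
      ofConv (toConv (((q.comp iL).comp S).comp (ψ : C →ₐ[k] A)) *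
        toConv (((q.comp iL).comp (AlgHom.id k A)).comp (ψ : C →ₐ[k] A))) :=
    AlgHom.convMul_comp_bialgHom_distrib _ _ ψ
  have e4 : toConv S * toConv (AlgHom.id k A) = 1 := AlgHom.antipode_id_cancel
  have e5 : (q.comp (gmap (k := k) (A := A))).comp (ψ : C →ₐ[k] A) =
      ((q.comp iL).comp ((1 : WithConv (A →ₐ[k] A)).ofConv)).comp (ψ : C →ₐ[k] A) := by
    rw [e1, hqLR, ← e4, e2, e3]
    rfl
  have e6 := AlgHom.congr_fun e5 c
  simp only [AlgHom.comp_apply] at e6
  have e7 : (1 : WithConv (A →ₐ[k] A)).ofConv ((ψ : C →ₐ[k] A) c) = 0 := by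
    change (1 : WithConv (A →ₐ[k] A)) (ψ c) = 0
    rw [AlgHom.convOne_apply, CoalgHomClass.counit_comp_apply, hc, map_zero]
  rw [e7, map_zero, map_zero] at e6
  rw [hq, Ideal.Quotient.mkₐ_eq_mk, Ideal.Quotient.eq_zero_iff_mem] at e6
  exact e6

/-- the augmentation ideal -/
noncomputable abbrev aug (k A : Type u) [Field k] [CommRing A] [HopfAlgebra k A] : Ideal A :=
  RingHom.ker (Bialgebra.counitAlgHom k A)

theorem sub_mem_map_aug (x : A ⊗[k] A) :
    x - (TensorProduct.map LinearMap.id (Algebra.linearMap k A))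
        ((Coalgebra.counit (R := k) (A := A)).lTensor A x) ∈
      Ideal.map (Algebra.TensorProduct.includeRight : A →ₐ[k] A ⊗[k] A) (aug k A) := by
  induction x using TensorProduct.induction_on with
  | zero => simp
  | tmul a b =>
    have h1 : b - algebraMap k A (Coalgebra.counit (R := k) b) ∈ aug k A := by
      rw [RingHom.mem_ker, map_sub, AlgHom.commutes]
      simp
    have h2 : a ⊗ₜ[k] b - (TensorProduct.map LinearMap.id (Algebra.linearMap k A))
        ((Coalgebra.counit (R := k) (A := A)).lTensor A (a ⊗ₜ[k] b)) =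
        (a ⊗ₜ[k] (1 : A)) * (Algebra.TensorProduct.includeRight : A →ₐ[k] A ⊗[k] A)
          (b - algebraMap k A (Coalgebra.counit (R := k) b)) := by
      simp only [LinearMap.lTensor_tmul, TensorProduct.map_tmul, LinearMap.id_coe, id_eq,
        Algebra.linearMap_apply, Algebra.TensorProduct.includeRight_apply, TensorProduct.tmul_sub]
      rw [mul_sub, Algebra.TensorProduct.tmul_mul_tmul, Algebra.TensorProduct.tmul_mul_tmul,
        mul_one, one_mul, one_mul]
    rw [h2]
    exact Ideal.mul_mem_left _ _ (Ideal.mem_map_of_mem _ h1)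
  | add x y hx hy =>
    have : x + y - (TensorProduct.map LinearMap.id (Algebra.linearMap k A))
        ((Coalgebra.counit (R := k) (A := A)).lTensor A (x + y)) =
        (x - (TensorProduct.map LinearMap.id (Algebra.linearMap k A))
          ((Coalgebra.counit (R := k) (A := A)).lTensor A x)) +
        (y - (TensorProduct.map LinearMap.id (Algebra.linearMap k A))
          ((Coalgebra.counit (R := k) (A := A)).lTensor A y)) := by
      simp only [map_add]; ring
    rw [this]
    exact Ideal.add_mem _ hx hy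

theorem comul_sub_mem (a : A) :
    Coalgebra.comul (R := k) a - a ⊗ₜ[k] (1 : A) ∈
      Ideal.map (Algebra.TensorProduct.includeRight : A →ₐ[k] A ⊗[k] A) (aug k A) := by
  have h := sub_mem_map_aug (k := k) (Coalgebra.comul (R := k) a)
  rw [Coalgebra.lTensor_counit_comul] at h
  simpa using h

/-- **Key Hopf-algebraic step**: `a ⊗ 1 - 1 ⊗ a` is nilpotent modulo `IC ψ`. -/
theorem pow_mem_IC (ψ : C →ₐc[k] A) (n : ℕ)
    (hn : (aug k A) ^ n ≤ Ideal.map (ψ : C →+* A) (aug k C)) (a : A) :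
    (a ⊗ₜ[k] (1 : A) - (1 : A) ⊗ₜ[k] a) ^ n ∈ IC ψ := by
  have h1 : (a ⊗ₜ[k] (1 : A) - Coalgebra.comul (R := k) a) ^ n ∈
      Ideal.map (Algebra.TensorProduct.includeRight : A →ₐ[k] A ⊗[k] A)
        (Ideal.map (ψ : C →+* A) (aug k C)) := by
    have h2 : a ⊗ₜ[k] (1 : A) - Coalgebra.comul (R := k) a ∈
        Ideal.map (Algebra.TensorProduct.includeRight : A →ₐ[k] A ⊗[k] A) (aug k A) := by
      have := comul_sub_mem (k := k) a
      rw [← neg_sub]
      exact Ideal.neg_mem_iff _ |>.2 this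
    have h3 := Ideal.pow_mem_pow h2 n
    rw [← Ideal.map_pow] at h3
    exact Ideal.map_mono hn h3
  have h4 : Ideal.map (Psi (k := k) (A := A))
      (Ideal.map (Algebra.TensorProduct.includeRight : A →ₐ[k] A ⊗[k] A)
        (Ideal.map (ψ : C →+* A) (aug k C))) ≤ IC ψ := by
    rw [Ideal.map_le_iff_le_comap, Ideal.map_le_iff_le_comap, Ideal.map_le_iff_le_comap]
    intro c hc
    rw [Ideal.mem_comap, Ideal.mem_comap, Ideal.mem_comap]
    have : (Psi (k := k) (A := A)) ((Algebra.TensorProduct.includeRight : A →ₐ[k] A ⊗[k] A)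
        ((ψ : C →+* A) c)) = gmap (k := k) (ψ c) := Psi_one_tmul _
    rw [this]
    exact gmap_mem_IC ψ c hc
  have h5 := h4 (Ideal.mem_map_of_mem _ h1)
  rw [map_pow, map_sub, Psi_tmul_one, Psi_comul] at h5
  exact h5

end Hopf

section Lam

variable {k : Type u} [Field k] {B C : Type u} [CommRing B] [Algebra k B] [CommRing C] [Algebra k C]

/-- `x ⊗ y ↦ l y • x`. -/
noncomputable def Lam (l : B →ₗ[k] k) : B ⊗[k] B →ₗ[k] B :=
  (TensorProduct.rid k B).toLinearMap ∘ₗ (LinearMap.lTensor B l)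

@[simp] theorem Lam_tmul (l : B →ₗ[k] k) (x y : B) : Lam l (x ⊗ₜ[k] y) = l y • x := by
  simp [Lam]

theorem Lam_left_mul (l : B →ₗ[k] k) (b : B) (x : B ⊗[k] B) :
    Lam l ((b ⊗ₜ[k] (1 : B)) * x) = b * Lam l x := by
  induction x using TensorProduct.induction_on with
  | zero => simp
  | tmul x y => simp [Algebra.TensorProduct.tmul_mul_tmul]
  | add x y hx hy => rw [mul_add, map_add, map_add, hx, hy, mul_add]

theorem Lam_right_mul (l : B →ₗ[k] k) (b : B) (x : B ⊗[k] B) :
    Lam l (((1 : B) ⊗ₜ[k] b) * x) = Lam (l ∘ₗ LinearMap.mulLeft k b) x := by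
  induction x using TensorProduct.induction_on with
  | zero => simp
  | tmul x y => simp [Algebra.TensorProduct.tmul_mul_tmul]
  | add x y hx hy => rw [mul_add, map_add, map_add, hx, hy]

theorem lmul'_eq_sum {ι : Type*} [Fintype ι] (b : Module.Basis ι k B) (x : B ⊗[k] B) :
    Algebra.TensorProduct.lmul' k x = ∑ i, b i * Lam (b.coord i) x := by
  induction x using TensorProduct.induction_on with
  | zero => simp
  | tmul x y =>
    simp only [Algebra.TensorProduct.lmul'_apply_tmul, Lam_tmul, Module.Basis.coord_apply]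
    conv_lhs => rw [← b.sum_repr y]
    rw [Finset.mul_sum]
    refine Finset.sum_congr rfl fun i _ => ?_
    rw [mul_smul_comm, mul_smul_comm, mul_comm]
  | add x y hx hy =>
    rw [map_add, hx, hy, ← Finset.sum_add_distrib]
    refine Finset.sum_congr rfl fun i _ => ?_
    rw [map_add, mul_add]

/-- the functional `λ` (the trace) with `(id ⊗ λ)(t) = 1` for a separability idempotent `t`. -/
theorem exists_Lam_eq_one [Module.Finite k B] (t : B ⊗[k] B)
    (ht : ∀ s : B, ((1 : B) ⊗ₜ[k] s) * t = (s ⊗ₜ[k] (1 : B)) * t)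
    (ht1 : Algebra.TensorProduct.lmul' k t = 1) :
    ∃ l : B →ₗ[k] k, Lam l t = 1 := by
  let b := Module.finBasis k B
  refine ⟨∑ i, (b.coord i) ∘ₗ LinearMap.mulLeft k (b i), ?_⟩
  have h1 : ∀ x : B ⊗[k] B, Lam (∑ i, (b.coord i) ∘ₗ LinearMap.mulLeft k (b i)) x =
      ∑ i, Lam ((b.coord i) ∘ₗ LinearMap.mulLeft k (b i)) x := by
    intro x
    induction x using TensorProduct.induction_on with
    | zero => simp
    | tmul x y => simp [Finset.sum_smul]
    | add x y hx hy => rw [map_add, hx, hy, ← Finset.sum_add_distrib]; simp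
  rw [h1, ← ht1, lmul'_eq_sum b]
  refine Finset.sum_congr rfl fun i _ => ?_
  rw [← Lam_right_mul, ht, Lam_left_mul]

theorem mem_range_of_mul_eq (φ : C →ₐ[k] B) (hφ : Function.Injective φ) [Module.Finite k C]
    (t : C ⊗[k] C) (ht : ∀ s : C, ((1 : C) ⊗ₜ[k] s) * t = (s ⊗ₜ[k] (1 : C)) * t)
    (ht1 : Algebra.TensorProduct.lmul' k t = 1) (a : B)
    (ha : (a ⊗ₜ[k] (1 : B)) * (Algebra.TensorProduct.map φ φ t) =
      ((1 : B) ⊗ₜ[k] a) * (Algebra.TensorProduct.map φ φ t)) :
    a ∈ φ.range := by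
  obtain ⟨l, hl⟩ := exists_Lam_eq_one t ht ht1
  obtain ⟨g, hg⟩ := LinearMap.exists_leftInverse_of_injective φ.toLinearMap
    (LinearMap.ker_eq_bot.2 hφ)
  have hg' : ∀ c : C, g (φ c) = c := fun c => LinearMap.congr_fun hg c
  set l' : B →ₗ[k] k := l ∘ₗ g with hl'
  have D1 : ∀ x : C ⊗[k] C, Lam l' (Algebra.TensorProduct.map φ φ x) = φ (Lam l x) := by
    intro x
    induction x using TensorProduct.induction_on with
    | zero => simp
    | tmul x y => simp [hl', hg']
    | add x y hx hy => rw [map_add, map_add, hx, hy, map_add, map_add]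
  have D2 : ∀ x : C ⊗[k] C,
      Lam l' (((1 : B) ⊗ₜ[k] a) * Algebra.TensorProduct.map φ φ x) ∈ φ.range := by
    intro x
    induction x using TensorProduct.induction_on with
    | zero => simp
    | tmul x y =>
      refine ⟨l' (a * φ y) • x, ?_⟩
      simp [Algebra.TensorProduct.tmul_mul_tmul]
    | add x y hx hy =>
      rw [map_add, mul_add, map_add]
      exact Subalgebra.add_mem _ hx hy
  have h1 : a = Lam l' ((a ⊗ₜ[k] (1 : B)) * (Algebra.TensorProduct.map φ φ t)) := by
    rw [Lam_left_mul, D1, hl, map_one, mul_one]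
  rw [h1, ha]
  exact D2 t

end Lam

section Main

variable {k : Type u} [Field k] [PerfectField k] {A C : Type u} [CommRing A] [HopfAlgebra k A]
  [CommRing C] [HopfAlgebra k C] [Algebra.Etale k C]

theorem IC_mul_eq_zero (ψ : C →ₐc[k] A) (z : A ⊗[k] A) (hz : z ∈ IC ψ) :
    z * Algebra.TensorProduct.map (ψ : C →ₐ[k] A) (ψ : C →ₐ[k] A)
      (Algebra.FormallyUnramified.elem k C) = 0 := by
  set t' := Algebra.TensorProduct.map (ψ : C →ₐ[k] A) (ψ : C →ₐ[k] A)
      (Algebra.FormallyUnramified.elem k C) with ht'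
  have hle : IC ψ ≤ LinearMap.ker (LinearMap.mulRight (A ⊗[k] A) t') := by
    unfold IC
    rw [Ideal.span_le]
    rintro _ ⟨c, rfl⟩
    rw [SetLike.mem_coe, LinearMap.mem_ker, LinearMap.mulRight_apply]
    have h := Algebra.FormallyUnramified.one_tmul_sub_tmul_one_mul_elem (R := k) (S := C) c
    have h2 := congrArg (Algebra.TensorProduct.map (ψ : C →ₐ[k] A) (ψ : C →ₐ[k] A)) h
    rw [map_mul, map_zero, map_sub, Algebra.TensorProduct.map_tmul,
      Algebra.TensorProduct.map_tmul, map_one] at h2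
    change (ψ c ⊗ₜ[k] (1 : A) - (1 : A) ⊗ₜ[k] ψ c) * t' = 0
    rw [← neg_sub, neg_mul, neg_eq_zero]
    exact h2
  have := hle hz
  rwa [LinearMap.mem_ker, LinearMap.mulRight_apply] at this

/-- **Main lemma**: every element of `A` is, modulo the nilradical, in the image of `C`. -/
theorem exists_sub_mem_nilradical (ψ : C →ₐc[k] A) (hψ : Function.Injective ψ) (n : ℕ)
    (hn : (aug k A) ^ n ≤ Ideal.map (ψ : C →+* A) (aug k C)) (a : A) :
    ∃ c : C, a - ψ c ∈ nilradical A := by
  haveI : IsReduced C := Algebra.FormallyUnramified.isReduced_of_field k C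
  haveI : Module.Finite k C := Algebra.FormallyUnramified.finite_of_free k C
  let B := A ⧸ nilradical A
  haveI : IsReduced B :=
    (Ideal.isRadical_iff_quotient_reduced (nilradical A)).1 (Ideal.radical_isRadical ⊥)
  haveI : IsReduced (B ⊗[k] B) :=
    Groth.Agent.Lib.Helper62.isReduced_tensor_of_isReduced_of_perfectField k B B
  let π : A →ₐ[k] B := Ideal.Quotient.mkₐ k (nilradical A)
  let φ : C →ₐ[k] B := π.comp (ψ : C →ₐ[k] A)
  have hφ : Function.Injective φ := by
    rw [injective_iff_map_eq_zero]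
    intro c hc
    have h1 : ψ c ∈ nilradical A := by
      rw [← Ideal.Quotient.eq_zero_iff_mem]
      exact hc
    obtain ⟨m, hm⟩ := mem_nilradical.1 h1
    have h2 : ψ (c ^ m) = ψ 0 := by rw [map_pow, hm, map_zero]
    have h3 : c ^ m = 0 := hψ h2
    exact IsReduced.eq_zero c ⟨m, h3⟩
  set t := Algebra.FormallyUnramified.elem k C with ht
  set t' := Algebra.TensorProduct.map (ψ : C →ₐ[k] A) (ψ : C →ₐ[k] A) t with ht'
  set x : A ⊗[k] A := a ⊗ₜ[k] (1 : A) - (1 : A) ⊗ₜ[k] a with hx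
  have hxn : x ^ n * t' = 0 := IC_mul_eq_zero ψ _ (pow_mem_IC ψ n hn a)
  have hnil : IsNilpotent (Algebra.TensorProduct.map π π (x * t')) := by
    refine ⟨n + 1, ?_⟩
    rw [← map_pow]
    have : (x * t') ^ (n + 1) = x * (x ^ n * t') * t' ^ n := by ring
    rw [this, hxn, mul_zero, zero_mul, map_zero]
  have hzero : Algebra.TensorProduct.map π π (x * t') = 0 := IsReduced.eq_zero _ hnil
  have hmap : Algebra.TensorProduct.map π π t' = Algebra.TensorProduct.map φ φ t := by
    rw [ht']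
    rw [← AlgHom.comp_apply, ← Algebra.TensorProduct.map_comp]
  have hmem : π a ∈ φ.range := by
    refine mem_range_of_mul_eq φ hφ t
      (fun s => Algebra.FormallyUnramified.one_tmul_mul_elem (R := k) (S := C) s)
      (Algebra.FormallyUnramified.lmul_elem (R := k) (S := C)) (π a) ?_
    rw [map_mul, hmap, hx, map_sub, Algebra.TensorProduct.map_tmul,
      Algebra.TensorProduct.map_tmul, map_one, sub_mul, sub_eq_zero] at hzero
    exact hzero
  obtain ⟨c, hc⟩ := hmem
  refine ⟨c, ?_⟩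
  have h1 : π (a - ψ c) = 0 := by
    rw [map_sub, sub_eq_zero]
    exact hc.symm
  exact Ideal.Quotient.eq_zero_iff_mem.1 h1

end Main

end Groth.Agent.Lib.Helper68.HopfRetract
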