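import Mathlib
import Groth.Prelude.Def_Grpd
import Groth.Agent.Lib.Helper37.GroupoidTranslate
import Groth.Agent.Lib.Helper37.GroupoidRank
import Groth.Agent.Lib.Helper22.WeightingSemicont
import Groth.Agent.Lib.Helper48.QuasiFiniteLocus
import Groth.Agent.Lib.Helper7.EtaleNbhd

/-!
# Orbits of a point with finite `s`-fibre in a groupoid scheme (helper68)

For a groupoid scheme `(U, R, s, t, c)` and a point `u` of `U` with `s⁻¹{u}` finite: the orbit
`T_U = t(s⁻¹{u})` is finite, `T_R = s⁻¹(T_U)` is finite and stable under `t`, and quasi-finiteness of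
`U → S` at `u` propagates to `T_U` and `T_R`.
-/

set_option autoImplicit false
set_option linter.style.haveILetI false

open AlgebraicGeometry CategoryTheory Limits Grpd

namespace Groth.Agent.Lib.Helper68.KMLoc

universe u

open Groth.Agent.Lib.Helper37

section general

variable {X Y : Scheme.{u}}

/-- The fibre product of `f` with a field-valued point over `y` is finite when `f⁻¹{y}` is. -/
theorem finite_pullback_of_finite_fibre (f : X ⟶ Y) [LocallyOfFiniteType f] (y : Y)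
    (hfin : (f ⁻¹' {y}).Finite) {K : Type u} [Field K] (φ : Y.residueField y ⟶ CommRingCat.of K) :
    Finite ↥(pullback f (Spec.map φ ≫ Y.fromSpecResidueField y)) := by
  have hF : Finite ↥(f.fiber y) := by
    have : Finite ↥(f ⁻¹' {y}) := hfin
    exact Finite.of_equiv _ (f.fiberHomeo y).symm.toEquiv
  haveI h0 : LocallyOfFiniteType (f.fiberToSpecResidueField y) := by
    unfold Scheme.Hom.fiberToSpecResidueField
    exact MorphismProperty.pullback_snd (P := @LocallyOfFiniteType) _ _ inferInstance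
  haveI h1 : LocallyQuasiFinite (f.fiberToSpecResidueField y) :=
    LocallyQuasiFinite.of_finite_preimage_singleton _ (fun _ => Set.toFinite _)
  have h2 := Groth.Agent.Lib.Helper22.Weighting.finite_fiber_of_isPullback (f.fiberToSpecResidueField y)
    (fun _ => Set.toFinite _)
    (IsPullback.of_hasPullback (f.fiberToSpecResidueField y) (Spec.map φ))
    (IsLocalRing.closedPoint K)
  have h4 : Finite ↥(pullback (f.fiberToSpecResidueField y) (Spec.map φ)) := by
    refine Set.finite_univ_iff.mp (h2.subset ?_)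
    intro x _
    exact Subsingleton.elim (α := PrimeSpectrum K) _ _
  let e : pullback (f.fiberToSpecResidueField y) (Spec.map φ) ≅
      pullback f (Spec.map φ ≫ Y.fromSpecResidueField y) :=
    pullbackLeftPullbackSndIso f (Y.fromSpecResidueField y) (Spec.map φ)
  exact Finite.of_equiv _ (Scheme.homeoOfIso e).toEquiv

/-- Quasi-finiteness passes to the image under an open map. -/
theorem quasiFiniteAt_of_comp_of_isOpenMap {S : Scheme.{u}} (f : X ⟶ Y) (g : Y ⟶ S)
    [LocallyOfFiniteType g] [LocallyOfFiniteType (f ≫ g)] (hf : IsOpenMap f) (x : X)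
    (h : (f ≫ g).QuasiFiniteAt x) : g.QuasiFiniteAt (f x) := by
  rw [Groth.Agent.Lib.Helper48.quasiFiniteAt_iff_exists_isOpen] at h ⊢
  obtain ⟨O, hO, hxO, hOx⟩ := h
  refine ⟨f '' O, hf O hO, ⟨x, hxO, rfl⟩, ?_⟩
  rintro _ ⟨w, hw, rfl⟩ hgw
  rw [hOx w hw hgw]

end general

variable {S : Scheme.{u}} (G : GroupoidScheme S)

/-- The orbit of `u`. -/
def TU (u : G.U) : Set G.U := G.t '' (G.s ⁻¹' {u})

/-- The arrows with source in the orbit of `u`. -/
def TR (u : G.U) : Set G.R := G.s ⁻¹' (TU G u)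

lemma e_s_apply (u : G.U) : G.s (G.e u) = u := by
  rw [← Scheme.Hom.comp_apply, G.e_s]
  rfl

lemma e_t_apply (u : G.U) : G.t (G.e u) = u := by
  rw [← Scheme.Hom.comp_apply, G.e_t]
  rfl

lemma mem_TU_self (u : G.U) : u ∈ TU G u := ⟨G.e u, e_s_apply G u, e_t_apply G u⟩

lemma pU_s (r : G.R) : G.pU (G.s r) = G.pR r := by
  rw [← Scheme.Hom.comp_apply, G.s_over]

lemma pU_t (r : G.R) : G.pU (G.t r) = G.pR r := by
  rw [← Scheme.Hom.comp_apply, G.t_over]

lemma pU_of_mem_TU {u x : G.U} (hx : x ∈ TU G u) : G.pU x = G.pU u := by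
  obtain ⟨r, hr, rfl⟩ := hx
  rw [pU_t, ← pU_s, hr]

lemma pR_of_mem_TR {u : G.U} {r : G.R} (hr : r ∈ TR G u) : G.pR r = G.pU u := by
  rw [← pU_s]
  exact pU_of_mem_TU G hr

/-- composition on points -/
lemma exists_comp_point (r r₀ : G.R) (h : G.s r = G.t r₀) :
    ∃ r₂ : G.R, G.s r₂ = G.s r₀ ∧ G.t r₂ = G.t r := by
  obtain ⟨z, hz1, hz2⟩ := Scheme.Pullback.exists_preimage_pullback (f := G.s) (g := G.t) r r₀ h
  refine ⟨G.c z, ?_, ?_⟩
  · rw [← Scheme.Hom.comp_apply, c_s, Scheme.Hom.comp_apply, hz2]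
  · rw [← Scheme.Hom.comp_apply, c_t, Scheme.Hom.comp_apply, hz1]

lemma t_mem_TU_of_mem_TR {u : G.U} {r : G.R} (hr : r ∈ TR G u) : G.t r ∈ TU G u := by
  obtain ⟨r₀, hr₀, hr₀t⟩ := hr
  obtain ⟨r₂, h1, h2⟩ := exists_comp_point G r r₀ hr₀t.symm
  exact ⟨r₂, h1.trans hr₀, h2⟩

lemma TU_finite {u : G.U} (hfin : (⇑G.s ⁻¹' {u}).Finite) : (TU G u).Finite := hfin.image _

set_option backward.isDefEq.respectTransparency false in
/-- The `s`-fibres over the points of the orbit are finite. -/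
theorem finite_fibre_s_of_mem_TU [LocallyOfFiniteType G.s] {u : G.U}
    (hfin : (⇑G.s ⁻¹' {u}).Finite) {x : G.U} (hx : x ∈ TU G u) : (⇑G.s ⁻¹' {x}).Finite := by
  obtain ⟨r₀, hr₀, rfl⟩ := hx
  have hr₀' : G.s r₀ = u := hr₀
  subst hr₀'
  set γ := G.R.fromSpecResidueField r₀ with hγ
  obtain ⟨φ, -, -⟩ := exists_iso_pullback_s G (γ ≫ G.s) (γ ≫ G.t) γ rfl rfl
  have ha : γ ≫ G.s = Spec.map (G.s.residueFieldMap r₀) ≫ G.U.fromSpecResidueField (G.s r₀) :=
    (Scheme.Hom.SpecMap_residueFieldMap_fromSpecResidueField G.s r₀).symm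
  have h1 : Finite ↥(pullback G.s (γ ≫ G.s)) := by
    rw [ha]
    exact finite_pullback_of_finite_fibre G.s (G.s r₀) hfin _
  have h2 : Finite ↥(pullback G.s (γ ≫ G.t)) :=
    Finite.of_equiv _ (Scheme.homeoOfIso φ).toEquiv
  have h3 : ⇑G.s ⁻¹' {G.t r₀} = Set.range (pullback.fst G.s (γ ≫ G.t)) := by
    rw [Scheme.Pullback.range_fst]
    congr 1
    ext y
    simp only [Set.mem_singleton_iff, Set.mem_range]
    constructor
    · rintro rfl
      exact ⟨IsLocalRing.closedPoint _, by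
        rw [Scheme.Hom.comp_apply, hγ, Scheme.fromSpecResidueField_apply]⟩
    · rintro ⟨z, rfl⟩
      rw [Scheme.Hom.comp_apply, hγ, Scheme.fromSpecResidueField_apply]
  rw [h3]
  exact Set.finite_range _

theorem TR_finite [LocallyOfFiniteType G.s] {u : G.U} (hfin : (⇑G.s ⁻¹' {u}).Finite) :
    (TR G u).Finite := by
  have : TR G u = ⋃ x ∈ TU G u, ⇑G.s ⁻¹' {x} := by
    ext r
    simp only [TR, Set.mem_preimage, Set.mem_iUnion, Set.mem_singleton_iff, exists_prop,
      exists_eq_right']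
  rw [this]
  exact (TU_finite G hfin).biUnion fun x hx => finite_fibre_s_of_mem_TU G hfin hx

section qf

variable [LocallyOfFiniteType G.pU] [Flat G.s] [LocallyOfFinitePresentation G.s] [Flat G.t]
  [LocallyOfFinitePresentation G.t]

instance : LocallyOfFiniteType G.pR := by
  rw [← G.s_over]
  infer_instance

set_option backward.isDefEq.respectTransparency false in
theorem quasiFiniteAt_pR_of_s {r : G.R} (hs : G.s.QuasiFiniteAt r)
    (hu : G.pU.QuasiFiniteAt (G.s r)) : G.pR.QuasiFiniteAt r := by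
  have gen : ∀ k : G.R ⟶ S, k = G.s ≫ G.pU → k.QuasiFiniteAt r := by
    rintro k rfl
    show (Scheme.Hom.stalkMap _ r).hom.QuasiFinite
    rw [Scheme.Hom.stalkMap_comp, CommRingCat.hom_comp]
    exact RingHom.QuasiFinite.comp hs hu
  exact gen _ G.s_over.symm

theorem quasiFiniteAt_pU_of_mem_TU {u : G.U} (hq : G.pU.QuasiFiniteAt u)
    (hfin : (⇑G.s ⁻¹' {u}).Finite) {x : G.U} (hx : x ∈ TU G u) : G.pU.QuasiFiniteAt x := by
  obtain ⟨r₀, hr₀, rfl⟩ := hx
  have hr₀' : G.s r₀ = u := hr₀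
  subst hr₀'
  have h1 : G.s.QuasiFiniteAt r₀ :=
    Groth.Agent.Lib.Helper7.EtaleNbhd.quasiFiniteAt_of_finite_fibre G.s r₀ hfin
  have h2 : G.pR.QuasiFiniteAt r₀ := quasiFiniteAt_pR_of_s G h1 hq
  have gen : ∀ k : G.R ⟶ S, k = G.t ≫ G.pU → k.QuasiFiniteAt r₀ → G.pU.QuasiFiniteAt (G.t r₀) := by
    rintro k rfl hk
    exact quasiFiniteAt_of_comp_of_isOpenMap G.t G.pU G.t.isOpenMap r₀ hk
  exact gen _ G.t_over.symm h2

theorem quasiFiniteAt_pR_of_mem_TR {u : G.U} (hq : G.pU.QuasiFiniteAt u)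
    (hfin : (⇑G.s ⁻¹' {u}).Finite) {r : G.R} (hr : r ∈ TR G u) : G.pR.QuasiFiniteAt r := by
  have h1 : G.s.QuasiFiniteAt r :=
    Groth.Agent.Lib.Helper7.EtaleNbhd.quasiFiniteAt_of_finite_fibre G.s r
      (finite_fibre_s_of_mem_TU G hfin hr)
  exact quasiFiniteAt_pR_of_s G h1 (quasiFiniteAt_pU_of_mem_TU G hq hfin hr)

end qf

end Groth.Agent.Lib.Helper68.KMLoc
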