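import Mathlib
import Groth.Prelude.Def_Grpd
import Groth.Prelude.Def_Hens2
import Groth.Agent.Lib.Helper68.KMLocA
import Groth.Agent.Lib.Helper68.QSplitInit

/-!
# Étale localisation of a groupoid scheme at a point with finite orbit (helper68)

`Data G g u p'`: open and closed subschemes `VU ⊆ U_{S'}`, `VR ⊆ R_{S'}`, finite over `S'`, whose
points over `p'` are exactly the points over the orbit `T_U` of `u`, resp. `T_R = s⁻¹(T_U)`.
-/

set_option autoImplicit false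
set_option linter.style.haveILetI false

open AlgebraicGeometry CategoryTheory Limits Grpd

namespace Groth.Agent.Lib.Helper68.KMLoc

universe u

open Groth.Agent.Lib.Helper7.EtaleNbhd Groth.Agent.Lib.Helper68.QSplit

variable {S : Scheme.{u}} (G : GroupoidScheme S) {S' : Scheme.{u}} (g : S' ⟶ S)

/-- The base change of `s`. -/
noncomputable def sB : pullback G.pR g ⟶ pullback G.pU g :=
  pullback.map G.pR g G.pU g G.s (𝟙 S') (𝟙 S) ((Category.comp_id _).trans G.s_over.symm)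
    ((Category.comp_id _).trans (Category.id_comp _).symm)

/-- The base change of `t`. -/
noncomputable def tB : pullback G.pR g ⟶ pullback G.pU g :=
  pullback.map G.pR g G.pU g G.t (𝟙 S') (𝟙 S) ((Category.comp_id _).trans G.t_over.symm)
    ((Category.comp_id _).trans (Category.id_comp _).symm)

@[reassoc]
lemma sB_fst : sB G g ≫ pullback.fst G.pU g = pullback.fst G.pR g ≫ G.s :=
  pullback.lift_fst _ _ _

@[reassoc]
lemma sB_snd : sB G g ≫ pullback.snd G.pU g = pullback.snd G.pR g :=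
  (pullback.lift_snd _ _ _).trans (Category.comp_id _)

@[reassoc]
lemma tB_fst : tB G g ≫ pullback.fst G.pU g = pullback.fst G.pR g ≫ G.t :=
  pullback.lift_fst _ _ _

@[reassoc]
lemma tB_snd : tB G g ≫ pullback.snd G.pU g = pullback.snd G.pR g :=
  (pullback.lift_snd _ _ _).trans (Category.comp_id _)

lemma sB_fst_apply (r : ↥(pullback G.pR g)) :
    pullback.fst G.pU g (sB G g r) = G.s (pullback.fst G.pR g r) := by
  rw [← Scheme.Hom.comp_apply, sB_fst, Scheme.Hom.comp_apply]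

lemma sB_snd_apply (r : ↥(pullback G.pR g)) :
    pullback.snd G.pU g (sB G g r) = pullback.snd G.pR g r := by
  rw [← Scheme.Hom.comp_apply, sB_snd]

lemma tB_fst_apply (r : ↥(pullback G.pR g)) :
    pullback.fst G.pU g (tB G g r) = G.t (pullback.fst G.pR g r) := by
  rw [← Scheme.Hom.comp_apply, tB_fst, Scheme.Hom.comp_apply]

lemma tB_snd_apply (r : ↥(pullback G.pR g)) :
    pullback.snd G.pU g (tB G g r) = pullback.snd G.pR g r := by
  rw [← Scheme.Hom.comp_apply, tB_snd]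

variable {S'' : Scheme.{u}} (γ : S'' ⟶ S')

lemma sB_q : sB G (γ ≫ g) ≫ q G.pU g γ = q G.pR g γ ≫ sB G g := by
  apply pullback.hom_ext
  · rw [Category.assoc, q_fst, sB_fst, Category.assoc, sB_fst, q_fst_assoc]
  · rw [Category.assoc, q_snd, sB_snd_assoc, Category.assoc, sB_snd, q_snd]

lemma tB_q : tB G (γ ≫ g) ≫ q G.pU g γ = q G.pR g γ ≫ tB G g := by
  apply pullback.hom_ext
  · rw [Category.assoc, q_fst, tB_fst, Category.assoc, tB_fst, q_fst_assoc]
  · rw [Category.assoc, q_snd, tB_snd_assoc, Category.assoc, tB_snd, q_snd]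

lemma sB_q_apply (r : ↥(pullback G.pR (γ ≫ g))) :
    q G.pU g γ (sB G (γ ≫ g) r) = sB G g (q G.pR g γ r) := by
  rw [← Scheme.Hom.comp_apply, sB_q, Scheme.Hom.comp_apply]

lemma tB_q_apply (r : ↥(pullback G.pR (γ ≫ g))) :
    q G.pU g γ (tB G (γ ≫ g) r) = tB G g (q G.pR g γ r) := by
  rw [← Scheme.Hom.comp_apply, tB_q, Scheme.Hom.comp_apply]

/-- The data of the étale localisation. -/
structure Data (u : G.U) (p' : S') where
  VU : (pullback G.pU g).Opens
  VR : (pullback G.pR g).Opens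
  closedU : IsClosed (VU : Set ↥(pullback G.pU g))
  closedR : IsClosed (VR : Set ↥(pullback G.pR g))
  finU : IsFinite (VU.ι ≫ pullback.snd G.pU g)
  finR : IsFinite (VR.ι ≫ pullback.snd G.pR g)
  memU : ∀ w : ↥(pullback G.pU g), pullback.snd G.pU g w = p' →
    (w ∈ VU ↔ pullback.fst G.pU g w ∈ TU G u)
  memR : ∀ w : ↥(pullback G.pR g), pullback.snd G.pR g w = p' →
    (w ∈ VR ↔ pullback.fst G.pR g w ∈ TR G u)

variable {G g}

/-- Base change of the data. -/
noncomputable def Data.baseChange {u : G.U} {p' : S'} (D : Data G g u p') (p'' : S'')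
    (hp : γ p'' = p') : Data G (γ ≫ g) u p'' where
  VU := q G.pU g γ ⁻¹ᵁ D.VU
  VR := q G.pR g γ ⁻¹ᵁ D.VR
  closedU := D.closedU.preimage (q G.pU g γ).continuous
  closedR := D.closedR.preimage (q G.pR g γ).continuous
  finU := by
    have h1 := (isPullback_morphismRestrict (q G.pU g γ) D.VU).paste_vert (isPullback_q G.pU g γ)
    exact MorphismProperty.of_isPullback (P := @IsFinite) h1 D.finU
  finR := by
    have h1 := (isPullback_morphismRestrict (q G.pR g γ) D.VR).paste_vert (isPullback_q G.pR g γ)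
    exact MorphismProperty.of_isPullback (P := @IsFinite) h1 D.finR
  memU := fun w hw => by
    change q G.pU g γ w ∈ D.VU ↔ _
    rw [D.memU _ (by rw [← Scheme.Hom.comp_apply, q_snd, Scheme.Hom.comp_apply, hw, hp]),
      ← Scheme.Hom.comp_apply, q_fst]
  memR := fun w hw => by
    change q G.pR g γ w ∈ D.VR ↔ _
    rw [D.memR _ (by rw [← Scheme.Hom.comp_apply, q_snd, Scheme.Hom.comp_apply, hw, hp]),
      ← Scheme.Hom.comp_apply, q_fst]

/-- `s'` and `t'` map `VR` into `VU`. -/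
def Data.Stable {u : G.U} {p' : S'} (D : Data G g u p') : Prop :=
  ⇑(sB G g) '' (D.VR : Set ↥(pullback G.pR g)) ⊆ D.VU ∧
    ⇑(tB G g) '' (D.VR : Set ↥(pullback G.pR g)) ⊆ D.VU

/-- `VR` is the full restriction. -/
def Data.Full {u : G.U} {p' : S'} (D : Data G g u p') : Prop :=
  (D.VR : Set ↥(pullback G.pR g)) =
    ⇑(sB G g) ⁻¹' (D.VU : Set ↥(pullback G.pU g)) ∩ ⇑(tB G g) ⁻¹' (D.VU : Set ↥(pullback G.pU g))

lemma Data.Stable.baseChange {u : G.U} {p' : S'} {D : Data G g u p'} (h : D.Stable) (p'' : S'')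
    (hp : γ p'' = p') : (D.baseChange γ p'' hp).Stable := by
  constructor
  · rintro _ ⟨r, hr, rfl⟩
    change q G.pU g γ _ ∈ D.VU
    rw [sB_q_apply]
    exact h.1 ⟨_, hr, rfl⟩
  · rintro _ ⟨r, hr, rfl⟩
    change q G.pU g γ _ ∈ D.VU
    rw [tB_q_apply]
    exact h.2 ⟨_, hr, rfl⟩

/-- Existence of the data over some elementary étale neighbourhood. -/
theorem exists_data (G : GroupoidScheme S) [LocallyOfFiniteType G.pU] [IsSeparated G.pU]
    [IsSeparated G.pR] [Flat G.s] [LocallyOfFinitePresentation G.s] [Flat G.t]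
    [LocallyOfFinitePresentation G.t] (u : G.U) (hq : G.pU.QuasiFiniteAt u)
    (hfin : (⇑G.s ⁻¹' {u}).Finite) :
    ∃ N : ENbhd S (G.pU u), Nonempty (Data G N.g u N.u) := by
  obtain ⟨N₁, hN₁⟩ := exists_goodX_of_finite G.pU (G.pU u) (TU G u) (TU_finite G hfin)
    (fun x hx => pU_of_mem_TU G hx) (fun x hx => quasiFiniteAt_pU_of_mem_TU G hq hfin hx)
  obtain ⟨N₂, hN₂⟩ := exists_goodX_of_finite G.pR (G.pU u) (TR G u) (TR_finite G hfin)
    (fun x hx => pR_of_mem_TR G hx) (fun x hx => quasiFiniteAt_pR_of_mem_TR G hq hfin hx)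
  obtain ⟨N₃, γ₁, γ₂, h₁, h₂, hu₁, hu₂⟩ := N₁.exists_refinement N₂
  have g₁ := hN₁.baseChange γ₁ N₃.u hu₁
  have g₂ := hN₂.baseChange γ₂ N₃.u hu₂
  rw [← h₁] at g₁
  rw [← h₂] at g₂
  obtain ⟨VU, cU, fU, mU⟩ := g₁
  obtain ⟨VR, cR, fR, mR⟩ := g₂
  exact ⟨N₃, ⟨⟨VU, VR, cU, cR, fU, fR, mU, mR⟩⟩⟩

/-- The image of a closed subset of an open `V` on which `f` is a closed map is closed. -/
lemma isClosed_image_of_subset {X Y : Scheme.{u}} (f : X ⟶ Y) (V : X.Opens)
    (hV : IsClosedMap (V.ι ≫ f)) (A : Set X) (hA : IsClosed A) (hAV : A ⊆ V) :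
    IsClosed (f '' A) := by
  have : f '' A = (V.ι ≫ f) '' (V.ι ⁻¹' A) := by
    ext y
    constructor
    · rintro ⟨a, ha, rfl⟩
      obtain ⟨b, rfl⟩ : a ∈ Set.range V.ι := by rw [Scheme.Opens.range_ι]; exact hAV ha
      exact ⟨b, ha, by rw [Scheme.Hom.comp_apply]⟩
    · rintro ⟨b, hb, rfl⟩
      exact ⟨V.ι b, hb, by rw [Scheme.Hom.comp_apply]⟩
  rw [this]
  exact hV _ (hA.preimage V.ι.continuous)

/-- Shrinking the base to avoid a set with closed image. -/
theorem Data.exists_shrink {u : G.U} {p' : S'} (_D : Data G g u p')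
    (A : Set ↥(pullback G.pR g)) (hA : IsClosed (pullback.snd G.pR g '' A))
    (hp : p' ∉ pullback.snd G.pR g '' A) :
    ∃ (W : S'.Opens) (_ : p' ∈ W), ∀ r : ↥(pullback G.pR (W.ι ≫ g)), q G.pR g W.ι r ∉ A := by
  obtain ⟨W, hW⟩ : ∃ W : S'.Opens, (W : Set S') = (pullback.snd G.pR g '' A)ᶜ :=
    ⟨⟨(pullback.snd G.pR g '' A)ᶜ, hA.isOpen_compl⟩, rfl⟩
  refine ⟨W, ?_, fun r hr => ?_⟩
  · rw [← SetLike.mem_coe, hW]
    exact hp
  have h1 : pullback.snd G.pR g (q G.pR g W.ι r) = W.ι (pullback.snd G.pR (W.ι ≫ g) r) := by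
    rw [← Scheme.Hom.comp_apply, q_snd, Scheme.Hom.comp_apply]
  have h2 : W.ι (pullback.snd G.pR (W.ι ≫ g) r) ∈ (W : Set S') := by
    rw [← Scheme.Opens.range_ι]
    exact Set.mem_range_self _
  rw [hW] at h2
  exact h2 ⟨_, hr, h1⟩

theorem Data.exists_stable {u : G.U} {p' : S'} (D : Data G g u p') :
    ∃ (W : S'.Opens) (hW : p' ∈ W), (D.baseChange W.ι ⟨p', hW⟩ rfl).Stable := by
  obtain ⟨A, hAdef⟩ : ∃ A : Set ↥(pullback G.pR g), A = (D.VR : Set ↥(pullback G.pR g)) ∩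
      (⇑(sB G g) ⁻¹' (D.VU : Set ↥(pullback G.pU g))ᶜ ∪
        ⇑(tB G g) ⁻¹' (D.VU : Set ↥(pullback G.pU g))ᶜ) := ⟨_, rfl⟩
  have hAc : IsClosed A := by
    rw [hAdef]
    exact D.closedR.inter ((D.VU.isOpen.isClosed_compl.preimage (sB G g).continuous).union
      (D.VU.isOpen.isClosed_compl.preimage (tB G g).continuous))
  have hA : IsClosed (pullback.snd G.pR g '' A) := by
    have := D.finR
    exact isClosed_image_of_subset _ D.VR (D.VR.ι ≫ pullback.snd G.pR g).isClosedMap A hAc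
      (by rw [hAdef]; exact Set.inter_subset_left)
  have hp : p' ∉ pullback.snd G.pR g '' A := by
    rintro ⟨r, hrA, hrp⟩
    rw [hAdef] at hrA
    obtain ⟨hrV, hr⟩ := hrA
    have hrT : pullback.fst G.pR g r ∈ TR G u := (D.memR r hrp).mp hrV
    rcases hr with hr | hr
    · apply hr
      rw [SetLike.mem_coe, D.memU _ (by rw [sB_snd_apply, hrp]), sB_fst_apply]
      exact hrT
    · apply hr
      rw [SetLike.mem_coe, D.memU _ (by rw [tB_snd_apply, hrp]), tB_fst_apply]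
      exact t_mem_TU_of_mem_TR G hrT
  obtain ⟨W, hW, hWA⟩ := D.exists_shrink A hA hp
  refine ⟨W, hW, ?_, ?_⟩
  · rintro _ ⟨r, hr, rfl⟩
    change q G.pU g W.ι _ ∈ D.VU
    rw [sB_q_apply]
    by_contra hcon
    exact hWA r (by rw [hAdef]; exact ⟨hr, Or.inl hcon⟩)
  · rintro _ ⟨r, hr, rfl⟩
    change q G.pU g W.ι _ ∈ D.VU
    rw [tB_q_apply]
    by_contra hcon
    exact hWA r (by rw [hAdef]; exact ⟨hr, Or.inr hcon⟩)

/-- The fibrewise conclusions. -/
theorem Data.conclusions {u : G.U} {p' : S'} (D : Data G g u p') (hgp : g p' = G.pU u)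
    (hiso : IsIso (g.residueFieldMap p')) :
    (∃ u' : ↥(pullback G.pU g), u' ∈ D.VU ∧ pullback.fst G.pU g u' = u ∧
      pullback.snd G.pU g u' = p') ∧
    (∀ u' : ↥(pullback G.pU g), u' ∈ D.VU → pullback.fst G.pU g u' = u →
      pullback.snd G.pU g u' = p' →
      {x : ↥(pullback G.pU g) | x ∈ D.VU ∧ pullback.snd G.pU g x = p'} =
        ⇑(tB G g) '' (⇑(sB G g) ⁻¹' {u'})) ∧
    {r : ↥(pullback G.pR g) | r ∈ D.VR ∧ pullback.snd G.pR g r = p'} =
      ⇑(sB G g) ⁻¹' {x | x ∈ D.VU ∧ pullback.snd G.pU g x = p'} := by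
  refine ⟨?_, ?_, ?_⟩
  · obtain ⟨u', h1, h2⟩ := Scheme.Pullback.exists_preimage_pullback (f := G.pU) (g := g) u p'
      hgp.symm
    exact ⟨u', (D.memU u' h2).mpr (by rw [h1]; exact mem_TU_self G u), h1, h2⟩
  · intro u' _ hu'1 hu'2
    ext x
    simp only [Set.mem_ofPred_eq, Set.mem_image, Set.mem_preimage, Set.mem_singleton_iff]
    constructor
    · rintro ⟨hxV, hxp⟩
      obtain ⟨r₀, hr₀s, hr₀t⟩ := (D.memU x hxp).mp hxV
      have hr₀s' : G.s r₀ = u := hr₀s
      have hpr : G.pR r₀ = g p' := by rw [← pU_s, hr₀s', hgp]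
      obtain ⟨r, hr1, hr2⟩ := Scheme.Pullback.exists_preimage_pullback (f := G.pR) (g := g) r₀ p'
        hpr
      refine ⟨r, ?_, ?_⟩
      · apply eq_of_fst_eq_of_snd_eq G.pU g
        · rw [sB_fst_apply, hr1, hr₀s', hu'1]
        · rw [sB_snd_apply, hr2, hu'2]
        · rw [hu'2]; exact hiso
      · apply eq_of_fst_eq_of_snd_eq G.pU g
        · rw [tB_fst_apply, hr1, hr₀t]
        · rw [tB_snd_apply, hr2, hxp]
        · rw [hxp]; exact hiso
    · rintro ⟨r, hr, rfl⟩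
      have h2 : pullback.snd G.pU g (tB G g r) = p' := by
        rw [tB_snd_apply, ← sB_snd_apply, hr, hu'2]
      refine ⟨(D.memU _ h2).mpr ?_, h2⟩
      rw [tB_fst_apply]
      refine ⟨pullback.fst G.pR g r, ?_, rfl⟩
      change G.s _ = u
      rw [← sB_fst_apply, hr, hu'1]
  · ext r
    simp only [Set.mem_ofPred_eq, Set.mem_preimage]
    rw [sB_snd_apply]
    constructor
    · rintro ⟨hrV, hrp⟩
      refine ⟨?_, hrp⟩
      rw [D.memU _ (by rw [sB_snd_apply, hrp]), sB_fst_apply]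
      exact (D.memR r hrp).mp hrV
    · rintro ⟨hrV, hrp⟩
      refine ⟨?_, hrp⟩
      rw [D.memR r hrp]
      rw [D.memU _ (by rw [sB_snd_apply, hrp]), sB_fst_apply] at hrV
      exact hrV

/-- The étale localisation: existence of a stable datum. -/
theorem exists_stable_data (G : GroupoidScheme S) [LocallyOfFiniteType G.pU] [IsSeparated G.pU]
    [IsSeparated G.pR] [Flat G.s] [LocallyOfFinitePresentation G.s] [Flat G.t]
    [LocallyOfFinitePresentation G.t] (p : S) (u : G.U) (hu : G.pU u = p)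
    (hqf : ∃ V : G.U.Opens, u ∈ V ∧ ∀ x ∈ V, G.pU x = p → x = u)
    (hfin : (⇑G.s ⁻¹' {u}).Finite) :
    ∃ (S' : Scheme.{u}) (g : S' ⟶ S) (p' : S') (_ : Hens2.IsEtaleNbhd g p' p)
      (_ : IsIso (g.residueFieldMap p')) (D : Data G g u p'), g p' = G.pU u ∧ D.Stable := by
  have hq : G.pU.QuasiFiniteAt u := by
    rw [Groth.Agent.Lib.Helper48.quasiFiniteAt_iff_exists_isOpen]
    obtain ⟨V, huV, hV⟩ := hqf
    exact ⟨V, V.isOpen, huV, fun w hw hwu => hV w hw (hwu.trans hu)⟩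
  obtain ⟨N, ⟨D₀⟩⟩ := exists_data G u hq hfin
  obtain ⟨W, hW, hst⟩ := D₀.exists_stable
  have := N.etale
  have hgp : (W.ι ≫ N.g) ⟨N.u, hW⟩ = G.pU u := by
    rw [Scheme.Hom.comp_apply]
    exact N.g_u
  have hiso : IsIso ((W.ι ≫ N.g).residueFieldMap ⟨N.u, hW⟩) := by
    rw [Scheme.residueFieldMap_comp]
    have h1 : IsIso (N.g.residueFieldMap (W.ι ⟨N.u, hW⟩)) := N.isIso
    have h2 : IsIso (W.ι.residueFieldMap ⟨N.u, hW⟩) := inferInstance
    exact @IsIso.comp_isIso _ _ _ _ _ _ _ h1 h2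
  exact ⟨W, W.ι ≫ N.g, ⟨N.u, hW⟩, ⟨inferInstance, hgp.trans hu,
    ConcreteCategory.bijective_of_isIso _⟩, hiso, _, hgp, hst⟩

end Groth.Agent.Lib.Helper68.KMLoc
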