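import Mathlib
import Groth.Prelude.Def_Grpd
import Groth.Prelude.Def_Hens2
import Groth.Agent.Lib.Helper68.KMLocB

/-!
# Étale localisation of a groupoid scheme: the full restriction (helper68)

When `j = (t, s) : R → U ×_S U` is universally closed, the étale neighbourhood can be shrunk so that
`VR = s'⁻¹(VU) ∩ t'⁻¹(VU)`.
-/

set_option autoImplicit false
set_option linter.style.haveILetI false

open AlgebraicGeometry CategoryTheory Limits Grpd

namespace Groth.Agent.Lib.Helper68.KMLoc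

universe u

open Groth.Agent.Lib.Helper7.EtaleNbhd Groth.Agent.Lib.Helper68.QSplit

variable {S : Scheme.{u}} (G : GroupoidScheme S) {S' : Scheme.{u}} (g : S' ⟶ S)

/-- The structure morphism of `U ×_S U`. -/
noncomputable def dd : pullback G.pU G.pU ⟶ S := pullback.fst G.pU G.pU ≫ G.pU

lemma j_fst : G.j ≫ pullback.fst G.pU G.pU = G.t := pullback.lift_fst _ _ _

lemma j_snd : G.j ≫ pullback.snd G.pU G.pU = G.s := pullback.lift_snd _ _ _

lemma j_dd : G.j ≫ dd G = G.pR := by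
  unfold dd
  rw [← Category.assoc, j_fst, G.t_over]

lemma dd_eq_snd : dd G = pullback.snd G.pU G.pU ≫ G.pU := pullback.condition

/-- The base change of `j`. -/
noncomputable def jB : pullback G.pR g ⟶ pullback (dd G) g :=
  pullback.map G.pR g (dd G) g G.j (𝟙 S') (𝟙 S) ((Category.comp_id _).trans (j_dd G).symm)
    ((Category.comp_id _).trans (Category.id_comp _).symm)

/-- First projection `(U ×_S U)_{S'} → U_{S'}`. -/
noncomputable def pr₁ : pullback (dd G) g ⟶ pullback G.pU g :=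
  pullback.map (dd G) g G.pU g (pullback.fst G.pU G.pU) (𝟙 S') (𝟙 S) (Category.comp_id _)
    ((Category.comp_id _).trans (Category.id_comp _).symm)

/-- Second projection `(U ×_S U)_{S'} → U_{S'}`. -/
noncomputable def pr₂ : pullback (dd G) g ⟶ pullback G.pU g :=
  pullback.map (dd G) g G.pU g (pullback.snd G.pU G.pU) (𝟙 S') (𝟙 S)
    ((Category.comp_id _).trans (dd_eq_snd G))
    ((Category.comp_id _).trans (Category.id_comp _).symm)

@[reassoc]
lemma jB_fst : jB G g ≫ pullback.fst (dd G) g = pullback.fst G.pR g ≫ G.j :=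
  pullback.lift_fst _ _ _

@[reassoc]
lemma jB_snd : jB G g ≫ pullback.snd (dd G) g = pullback.snd G.pR g :=
  (pullback.lift_snd _ _ _).trans (Category.comp_id _)

@[reassoc]
lemma pr₁_fst : pr₁ G g ≫ pullback.fst G.pU g = pullback.fst (dd G) g ≫ pullback.fst G.pU G.pU :=
  pullback.lift_fst _ _ _

@[reassoc]
lemma pr₁_snd : pr₁ G g ≫ pullback.snd G.pU g = pullback.snd (dd G) g :=
  (pullback.lift_snd _ _ _).trans (Category.comp_id _)

@[reassoc]
lemma pr₂_fst : pr₂ G g ≫ pullback.fst G.pU g = pullback.fst (dd G) g ≫ pullback.snd G.pU G.pU :=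
  pullback.lift_fst _ _ _

@[reassoc]
lemma pr₂_snd : pr₂ G g ≫ pullback.snd G.pU g = pullback.snd (dd G) g :=
  (pullback.lift_snd _ _ _).trans (Category.comp_id _)

lemma jB_pr₁ : jB G g ≫ pr₁ G g = tB G g := by
  apply pullback.hom_ext
  · rw [Category.assoc, pr₁_fst, jB_fst_assoc, j_fst, tB_fst]
  · rw [Category.assoc, pr₁_snd, jB_snd, tB_snd]

lemma jB_pr₂ : jB G g ≫ pr₂ G g = sB G g := by
  apply pullback.hom_ext
  · rw [Category.assoc, pr₂_fst, jB_fst_assoc, j_snd, sB_fst]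
  · rw [Category.assoc, pr₂_snd, jB_snd, sB_snd]

lemma isPullback_jB : IsPullback (jB G g) (pullback.fst G.pR g) (pullback.fst (dd G) g) G.j := by
  refine IsPullback.of_right (h₁₂ := pullback.snd (dd G) g) (h₂₂ := dd G) (v₁₃ := g) ?_
    (jB_fst G g) (IsPullback.of_hasPullback (dd G) g).flip
  rw [jB_snd, j_dd]
  exact (IsPullback.of_hasPullback G.pR g).flip

lemma isPullback_pr₁ : IsPullback (pr₁ G g) (pullback.fst (dd G) g) (pullback.fst G.pU g)
    (pullback.fst G.pU G.pU) := by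
  refine IsPullback.of_right (h₁₂ := pullback.snd G.pU g) (h₂₂ := G.pU) (v₁₃ := g) ?_
    (pr₁_fst G g) (IsPullback.of_hasPullback G.pU g).flip
  rw [pr₁_snd]
  exact (IsPullback.of_hasPullback (dd G) g).flip

lemma isPullback_pr₂_pr₁ : IsPullback (pr₂ G g) (pr₁ G g) (pullback.snd G.pU g)
    (pullback.snd G.pU g) := by
  have h1 := (isPullback_pr₁ G g).paste_vert (IsPullback.of_hasPullback G.pU G.pU)
  refine IsPullback.of_right (h₁₂ := pullback.fst G.pU g) (h₂₂ := g) (v₁₃ := G.pU) ?_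
    ((pr₂_snd G g).trans (pr₁_snd G g).symm) (IsPullback.of_hasPullback G.pU g)
  rw [pr₂_fst, ← pullback.condition]
  exact h1.flip

variable {G g}

/-- If `j` is universally closed, the image in `S'` of a closed subset of `s'⁻¹(VU) ∩ t'⁻¹(VU)`
is closed. -/
theorem Data.isClosed_image_snd [UniversallyClosed G.j] {u : G.U} {p' : S'} (D : Data G g u p')
    (A : Set ↥(pullback G.pR g)) (hA : IsClosed A)
    (hAs : A ⊆ ⇑(sB G g) ⁻¹' (D.VU : Set ↥(pullback G.pU g)))
    (hAt : A ⊆ ⇑(tB G g) ⁻¹' (D.VU : Set ↥(pullback G.pU g))) :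
    IsClosed (pullback.snd G.pR g '' A) := by
  haveI : UniversallyClosed (jB G g) :=
    MorphismProperty.of_isPullback (P := @UniversallyClosed) (isPullback_jB G g).flip inferInstance
  have hC : IsClosed (jB G g '' A) := (jB G g).isClosedMap _ hA
  -- the restriction of `pr₂` to `pr₁⁻¹(VU)` is finite
  have hfin : IsFinite ((pr₁ G g ⁻¹ᵁ D.VU).ι ≫ pr₂ G g) := by
    have h1 := (isPullback_morphismRestrict (pr₁ G g) D.VU).flip.paste_horiz
      (isPullback_pr₂_pr₁ G g)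
    exact MorphismProperty.of_isPullback (P := @IsFinite) h1.flip D.finU
  have h2 : IsClosed (pr₂ G g '' (jB G g '' A)) := by
    refine isClosed_image_of_subset _ (pr₁ G g ⁻¹ᵁ D.VU)
      ((pr₁ G g ⁻¹ᵁ D.VU).ι ≫ pr₂ G g).isClosedMap _ hC ?_
    rintro _ ⟨a, ha, rfl⟩
    change pr₁ G g (jB G g a) ∈ D.VU
    rw [← Scheme.Hom.comp_apply, jB_pr₁]
    exact hAt ha
  have h3 : pr₂ G g '' (jB G g '' A) = sB G g '' A := by
    rw [Set.image_image]
    congr 1
    ext a
    rw [← Scheme.Hom.comp_apply, jB_pr₂]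
  rw [h3] at h2
  have h4 : IsClosed (pullback.snd G.pU g '' (sB G g '' A)) := by
    have := D.finU
    refine isClosed_image_of_subset _ D.VU (D.VU.ι ≫ pullback.snd G.pU g).isClosedMap _ h2 ?_
    rintro _ ⟨a, ha, rfl⟩
    exact hAs ha
  have h5 : pullback.snd G.pU g '' (sB G g '' A) = pullback.snd G.pR g '' A := by
    rw [Set.image_image]
    congr 1
    ext a
    rw [sB_snd_apply]
  rwa [h5] at h4

theorem Data.exists_full [UniversallyClosed G.j] {u : G.U} {p' : S'} (D : Data G g u p')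
    (hD : D.Stable) :
    ∃ (W : S'.Opens) (hW : p' ∈ W), (D.baseChange W.ι ⟨p', hW⟩ rfl).Full := by
  obtain ⟨A, hAdef⟩ : ∃ A : Set ↥(pullback G.pR g), A =
      (⇑(sB G g) ⁻¹' (D.VU : Set ↥(pullback G.pU g)) ∩
        ⇑(tB G g) ⁻¹' (D.VU : Set ↥(pullback G.pU g))) ∩ (D.VR : Set ↥(pullback G.pR g))ᶜ :=
    ⟨_, rfl⟩
  have hAc : IsClosed A := by
    rw [hAdef]
    exact ((D.closedU.preimage (sB G g).continuous).inter
      (D.closedU.preimage (tB G g).continuous)).inter D.VR.isOpen.isClosed_compl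
  have hA : IsClosed (pullback.snd G.pR g '' A) :=
    D.isClosed_image_snd A hAc (by rw [hAdef]; exact fun a ha => ha.1.1)
      (by rw [hAdef]; exact fun a ha => ha.1.2)
  have hp : p' ∉ pullback.snd G.pR g '' A := by
    rintro ⟨r, hrA, hrp⟩
    rw [hAdef] at hrA
    obtain ⟨⟨hrs, -⟩, hrV⟩ := hrA
    apply hrV
    rw [SetLike.mem_coe, D.memR r hrp]
    have hrs' : sB G g r ∈ D.VU := hrs
    rw [D.memU _ (by rw [sB_snd_apply, hrp]), sB_fst_apply] at hrs'
    exact hrs'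
  obtain ⟨W, hW, hWA⟩ := D.exists_shrink A hA hp
  refine ⟨W, hW, ?_⟩
  have hst := hD.baseChange W.ι ⟨p', hW⟩ rfl
  apply Set.Subset.antisymm
  · intro r hr
    exact ⟨hst.1 ⟨r, hr, rfl⟩, hst.2 ⟨r, hr, rfl⟩⟩
  · rintro r ⟨hrs, hrt⟩
    change q G.pR g W.ι r ∈ D.VR
    by_contra hcon
    refine hWA r ?_
    rw [hAdef]
    refine ⟨⟨?_, ?_⟩, hcon⟩
    · change sB G g _ ∈ D.VU
      rw [← sB_q_apply]
      exact hrs
    · change tB G g _ ∈ D.VU
      rw [← tB_q_apply]
      exact hrt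

/-- The étale localisation with full restriction. -/
theorem exists_full_data (G : GroupoidScheme S) [UniversallyClosed G.j] [LocallyOfFiniteType G.pU]
    [IsSeparated G.pU] [IsSeparated G.pR] [Flat G.s] [LocallyOfFinitePresentation G.s] [Flat G.t]
    [LocallyOfFinitePresentation G.t] (p : S) (u : G.U) (hu : G.pU u = p)
    (hqf : ∃ V : G.U.Opens, u ∈ V ∧ ∀ x ∈ V, G.pU x = p → x = u)
    (hfin : (⇑G.s ⁻¹' {u}).Finite) :
    ∃ (S' : Scheme.{u}) (g : S' ⟶ S) (p' : S') (_ : Hens2.IsEtaleNbhd g p' p)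
      (_ : IsIso (g.residueFieldMap p')) (D : Data G g u p'),
      g p' = G.pU u ∧ D.Stable ∧ D.Full := by
  obtain ⟨S₀, g₀, p₀, hN, hiso₀, D₀, hgp₀, hst₀⟩ := exists_stable_data G p u hu hqf hfin
  obtain ⟨W, hW, hfull⟩ := D₀.exists_full hst₀
  have := hN.etale
  have hgp : (W.ι ≫ g₀) ⟨p₀, hW⟩ = G.pU u := by
    rw [Scheme.Hom.comp_apply]
    exact hgp₀
  have hiso : IsIso ((W.ι ≫ g₀).residueFieldMap ⟨p₀, hW⟩) := by
    rw [Scheme.residueFieldMap_comp]
    have h1 : IsIso (g₀.residueFieldMap (W.ι ⟨p₀, hW⟩)) := hiso₀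
    have h2 : IsIso (W.ι.residueFieldMap ⟨p₀, hW⟩) := inferInstance
    exact @IsIso.comp_isIso _ _ _ _ _ _ _ h1 h2
  exact ⟨W, W.ι ≫ g₀, ⟨p₀, hW⟩, ⟨inferInstance, hgp.trans hu,
    ConcreteCategory.bijective_of_isIso _⟩, hiso, _, hgp, hst₀.baseChange W.ι ⟨p₀, hW⟩ rfl, hfull⟩

end Groth.Agent.Lib.Helper68.KMLoc
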