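import Mathlib

/-! # Kaplansky's theorem on field extensions `k'/k` with `k'ˣ/kˣ` torsion (helper68) -/

open Polynomial

universe u

namespace Groth.Agent.Lib.Helper68.Kaplansky

variable {k k' : Type u} [Field k] [Field k'] [Algebra k k']

/-- A separable element outside `k` has another conjugate in the algebraic closure. -/
theorem exists_conj (a : k') (hsep : IsSeparable k a) (ha : a ∉ (algebraMap k k').range) :
    ∃ b : AlgebraicClosure k', b ≠ algebraMap k' (AlgebraicClosure k') a ∧
      aeval b (minpoly k a) = 0 := by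
  classical
  have hint : IsIntegral k a := hsep.isIntegral
  have hdeg : 2 ≤ (minpoly k a).natDegree := (minpoly.two_le_natDegree_iff hint).mpr ha
  have hcard : Fintype.card ((minpoly k a).rootSet (AlgebraicClosure k')) =
      (minpoly k a).natDegree := card_rootSet_eq_natDegree hsep (IsAlgClosed.splits _)
  have h1 : 1 < Fintype.card ((minpoly k a).rootSet (AlgebraicClosure k')) := by omega
  obtain ⟨x, y, hxy⟩ := Fintype.one_lt_card_iff.mp h1
  by_cases hx : (x : AlgebraicClosure k') = algebraMap k' (AlgebraicClosure k') a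
  · refine ⟨y, fun hy => hxy (Subtype.ext (hx.trans hy.symm)), (mem_rootSet.mp y.2).2⟩
  · exact ⟨x, hx, (mem_rootSet.mp x.2).2⟩

/-- Conjugates satisfy the same pure equations over `k`. -/
theorem conj_pow_eq (a : k') (b : AlgebraicClosure k') (hb : aeval b (minpoly k a) = 0)
    (c d : k) (n : ℕ) (h : (a + algebraMap k k' c) ^ n = algebraMap k k' d) :
    (b + algebraMap k (AlgebraicClosure k') c) ^ n = algebraMap k (AlgebraicClosure k') d := by
  have hQ : aeval a ((X + C c) ^ n - C d : k[X]) = 0 := by
    simp [h]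
  obtain ⟨u, hu⟩ := minpoly.dvd k a hQ
  have : aeval b ((X + C c) ^ n - C d : k[X]) = 0 := by
    rw [hu, map_mul, hb, zero_mul]
  simpa [sub_eq_zero] using this

variable (H : ∀ x : k', ∃ n : ℕ, 0 < n ∧ x ^ n ∈ Set.range (algebraMap k k'))
include H

/-- The ratio `(b + c)/(a + c)` is a root of unity. -/
theorem exists_root_of_unity (a : k') (ha : a ∉ (algebraMap k k').range)
    (b : AlgebraicClosure k') (hb : aeval b (minpoly k a) = 0) (c : k) :
    algebraMap k' (AlgebraicClosure k') a + algebraMap k (AlgebraicClosure k') c ≠ 0 ∧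
    ∃ n : ℕ, 0 < n ∧ ((b + algebraMap k (AlgebraicClosure k') c) /
      (algebraMap k' (AlgebraicClosure k') a + algebraMap k (AlgebraicClosure k') c)) ^ n = 1 := by
  have hne : algebraMap k' (AlgebraicClosure k') a + algebraMap k (AlgebraicClosure k') c ≠ 0 := by
    intro h0
    apply ha
    refine ⟨-c, ?_⟩
    apply (algebraMap k' (AlgebraicClosure k')).injective
    rw [map_neg, map_neg, ← IsScalarTower.algebraMap_apply]
    exact (eq_neg_of_add_eq_zero_left h0).symm
  refine ⟨hne, ?_⟩
  obtain ⟨n, hn, d, hd⟩ := H (a + algebraMap k k' c)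
  refine ⟨n, hn, ?_⟩
  have h1 := conj_pow_eq a b hb c d n hd.symm
  have h2 : (algebraMap k' (AlgebraicClosure k') a + algebraMap k (AlgebraicClosure k') c) ^ n =
      algebraMap k (AlgebraicClosure k') d := by
    have := congrArg (algebraMap k' (AlgebraicClosure k')) hd.symm
    rw [map_pow, map_add, ← IsScalarTower.algebraMap_apply, ← IsScalarTower.algebraMap_apply] at this
    exact this
  rw [div_pow, h1, h2, div_self]
  rw [← h2]
  exact pow_ne_zero _ hne

/-- A separable element outside `k` is algebraic over any base domain `R₀` (e.g. the prime field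
or `ℤ`). -/
theorem isAlgebraic_int_of_isSeparable (R₀ : Type*) [CommRing R₀] [IsDomain R₀] [Algebra R₀ k']
    (a : k') (hsep : IsSeparable k a)
    (ha : a ∉ (algebraMap k k').range) : IsAlgebraic R₀ a := by
  obtain ⟨b, hba, hb⟩ := exists_conj a hsep ha
  obtain ⟨hne0, n0, hn0, h0⟩ := exists_root_of_unity H a ha b hb 0
  obtain ⟨hne1, n1, hn1, h1⟩ := exists_root_of_unity H a ha b hb 1
  simp only [map_zero, add_zero, map_one] at hne0 h0 hne1 h1
  -- notation
  obtain ⟨a', ha'⟩ : ∃ a' : AlgebraicClosure k', a' = algebraMap k' (AlgebraicClosure k') a :=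
    ⟨_, rfl⟩
  rw [← ha'] at hne0 h0 hne1 h1 hba
  have hw0 : IsAlgebraic R₀ (b / a') :=
    (IsIntegral.of_pow hn0 (by rw [h0]; exact isIntegral_one)).isAlgebraic
  have hw1 : IsAlgebraic R₀ ((b + 1) / (a' + 1)) :=
    (IsIntegral.of_pow hn1 (by rw [h1]; exact isIntegral_one)).isAlgebraic
  have hne : b / a' ≠ (b + 1) / (a' + 1) := by
    intro heq
    apply hba
    have : b * (a' + 1) = (b + 1) * a' := by
      rw [div_eq_div_iff hne0 hne1] at heq
      exact heq
    linear_combination this
  have hrel : a' * (b / a' - (b + 1) / (a' + 1)) = (b + 1) / (a' + 1) - 1 := by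
    field_simp
    ring
  have ha'alg : IsAlgebraic R₀ a' := by
    have : a' = ((b + 1) / (a' + 1) - 1) * (b / a' - (b + 1) / (a' + 1))⁻¹ := by
      rw [← hrel, mul_assoc, mul_inv_cancel₀ (sub_ne_zero.mpr hne), mul_one]
    rw [this]
    exact (hw1.sub isAlgebraic_one).mul (hw0.sub hw1).inv
  rw [ha'] at ha'alg
  exact (isAlgebraic_algebraMap_iff (algebraMap k' (AlgebraicClosure k')).injective).mp ha'alg

/-- If some separable element lies outside `k`, everything is algebraic over the prime ring. -/
theorem isAlgebraic_int_all (R₀ : Type*) [CommRing R₀] [IsDomain R₀] [Algebra R₀ k']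
    (a : k') (hsep : IsSeparable k a)
    (ha : a ∉ (algebraMap k k').range) (y : k') : IsAlgebraic R₀ y := by
  have haalg := isAlgebraic_int_of_isSeparable H R₀ a hsep ha
  have ha0 : a ≠ 0 := by
    rintro rfl
    exact ha ⟨0, map_zero _⟩
  have hk : ∀ c : k, IsAlgebraic R₀ (algebraMap k k' c) := by
    intro c
    by_cases hc : c = 0
    · rw [hc, map_zero]; exact isAlgebraic_zero
    have hsep' : IsSeparable k (algebraMap k k' c * a) :=
      Field.isSeparable_mul (isSeparable_algebraMap c) hsep
    have hnot : algebraMap k k' c * a ∉ (algebraMap k k').range := by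
      rintro ⟨e, he⟩
      apply ha
      refine ⟨e / c, ?_⟩
      rw [map_div₀, he, mul_div_assoc, mul_comm, div_mul_cancel₀]
      simpa using hc
    have h1 := isAlgebraic_int_of_isSeparable H R₀ _ hsep' hnot
    have : algebraMap k k' c = (algebraMap k k' c * a) * a⁻¹ := by
      rw [mul_assoc, mul_inv_cancel₀ ha0, mul_one]
    rw [this]
    exact h1.mul haalg.inv
  obtain ⟨n, hn, d, hd⟩ := H y
  exact IsAlgebraic.of_pow hn (hd ▸ hk d)

/-- In characteristic zero there is no separable element outside `k`. -/
theorem false_of_charZero [CharZero k'] (a : k') (hsep : IsSeparable k a)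
    (ha : a ∉ (algebraMap k k').range) : False := by
  classical
  obtain ⟨b, hba, hb⟩ := exists_conj a hsep ha
  have haalg := isAlgebraic_int_of_isSeparable H ℤ a hsep ha
  obtain ⟨a', ha'⟩ : ∃ a' : AlgebraicClosure k', a' = algebraMap k' (AlgebraicClosure k') a :=
    ⟨_, rfl⟩
  have ha'alg : IsAlgebraic ℤ a' := by
    rw [ha']
    exact (isAlgebraic_algebraMap_iff (algebraMap k' (AlgebraicClosure k')).injective).mpr haalg
  -- the roots of unity
  have hroot : ∀ c : ℕ, a' + (c : AlgebraicClosure k') ≠ 0 ∧ ∃ n : ℕ, 0 < n ∧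
      ((b + (c : AlgebraicClosure k')) / (a' + (c : AlgebraicClosure k'))) ^ n = 1 := by
    intro c
    have := exists_root_of_unity H a ha b hb (c : k)
    simpa [← ha'] using this
  have hbalg : IsAlgebraic ℤ b := by
    obtain ⟨hne0, n0, hn0, h0⟩ := hroot 0
    simp only [Nat.cast_zero, add_zero] at hne0 h0
    have hw0 : IsAlgebraic ℤ (b / a') :=
      (IsIntegral.of_pow hn0 (by rw [h0]; exact isIntegral_one)).isAlgebraic
    have hb0 : b = (b / a') * a' := by field_simp
    rw [hb0]
    exact hw0.mul ha'alg
  have hinta : IsIntegral ℚ a' :=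
    (ha'alg.extendScalars (R := ℤ) (S := ℚ) Int.cast_injective).isIntegral
  have hintb : IsIntegral ℚ b :=
    (hbalg.extendScalars (R := ℤ) (S := ℚ) Int.cast_injective).isIntegral
  haveI : FiniteDimensional ℚ (IntermediateField.adjoin ℚ ({a', b} : Set (AlgebraicClosure k'))) :=
    IntermediateField.finiteDimensional_adjoin_pair hinta hintb
  haveI : NumberField (IntermediateField.adjoin ℚ ({a', b} : Set (AlgebraicClosure k'))) :=
    { to_charZero := inferInstance, to_finiteDimensional := inferInstance }
  have hamem : a' ∈ IntermediateField.adjoin ℚ ({a', b} : Set (AlgebraicClosure k')) :=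
    IntermediateField.subset_adjoin _ _ (by simp)
  have hbmem : b ∈ IntermediateField.adjoin ℚ ({a', b} : Set (AlgebraicClosure k')) :=
    IntermediateField.subset_adjoin _ _ (by simp)
  have hwmem : ∀ c : ℕ, (b + (c : AlgebraicClosure k')) / (a' + (c : AlgebraicClosure k')) ∈
      IntermediateField.adjoin ℚ ({a', b} : Set (AlgebraicClosure k')) := fun c =>
    div_mem (add_mem hbmem (natCast_mem _ c)) (add_mem hamem (natCast_mem _ c))
  have hfin := NumberField.Embeddings.finite_of_norm_le
    (IntermediateField.adjoin ℚ ({a', b} : Set (AlgebraicClosure k'))) ℂ 1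
  refine hfin.not_infinite (Set.infinite_of_injective_forall_mem
    (f := fun c : ℕ => (⟨_, hwmem c⟩ :
      IntermediateField.adjoin ℚ ({a', b} : Set (AlgebraicClosure k')))) ?_ ?_)
  · intro c c' hcc
    have heq : (b + (c : AlgebraicClosure k')) / (a' + (c : AlgebraicClosure k')) =
        (b + (c' : AlgebraicClosure k')) / (a' + (c' : AlgebraicClosure k')) :=
      congrArg Subtype.val hcc
    rw [div_eq_div_iff (hroot c).1 (hroot c').1] at heq
    have h1 : (b - a') * ((c' : AlgebraicClosure k') - (c : AlgebraicClosure k')) = 0 := by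
      linear_combination heq
    rcases mul_eq_zero.mp h1 with h2 | h2
    · exact absurd (ha' ▸ sub_eq_zero.mp h2) hba
    · exact (Nat.cast_injective (sub_eq_zero.mp h2)).symm
  · intro c
    obtain ⟨-, n, hn, hpow⟩ := hroot c
    have hpow' : (⟨_, hwmem c⟩ :
        IntermediateField.adjoin ℚ ({a', b} : Set (AlgebraicClosure k'))) ^ n = 1 :=
      Subtype.ext hpow
    refine ⟨IsIntegral.of_pow hn (by rw [hpow']; exact isIntegral_one), fun φ => ?_⟩
    have h1 : ‖φ ⟨_, hwmem c⟩‖ ^ n = 1 := by
      rw [← norm_pow, ← map_pow, hpow', map_one, norm_one]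
    exact ((pow_eq_one_iff_of_nonneg (norm_nonneg _) hn.ne').mp h1).le

omit H in
/-- Easy direction. -/
theorem backward
    (h : Function.Surjective (algebraMap k k') ∨
      ∃ p : ℕ, p.Prime ∧ CharP k' p ∧
        (IsPurelyInseparable k k' ∨ Algebra.IsAlgebraic (⊥ : Subfield k') k')) :
    ∀ x : k', ∃ n : ℕ, 0 < n ∧ x ^ n ∈ Set.range (algebraMap k k') := by
  classical
  intro x
  rcases h with hsurj | ⟨p, hprime, hchar, hpi | halg⟩
  · obtain ⟨c, hc⟩ := hsurj x
    exact ⟨1, one_pos, c, by rw [pow_one, hc]⟩
  · haveI : CharP k p := (algebraMap k k').charP (algebraMap k k').injective p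
    haveI : ExpChar k p := ExpChar.prime hprime
    obtain ⟨n, c, hc⟩ := IsPurelyInseparable.pow_mem k p x
    exact ⟨p ^ n, pow_pos hprime.pos n, c, hc⟩
  · by_cases hx : x = 0
    · exact ⟨1, one_pos, 0, by rw [hx, pow_one, map_zero]⟩
    haveI : Fact p.Prime := ⟨hprime⟩
    letI := ZMod.algebra k' p
    have hFfin : Finite (⊥ : Subfield k') := by
      have h1 : ((⊥ : Subfield k') : Set k').Finite := by
        rw [Subfield.bot_eq_of_zMod_algebra p, RingHom.coe_fieldRange]
        exact Set.finite_range _
      exact h1.to_subtype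
    have hxint : IsIntegral (⊥ : Subfield k') x := (Algebra.IsAlgebraic.isAlgebraic x).isIntegral
    haveI : FiniteDimensional (⊥ : Subfield k') (IntermediateField.adjoin (⊥ : Subfield k') {x}) :=
      IntermediateField.adjoin.finiteDimensional hxint
    haveI : Finite (IntermediateField.adjoin (⊥ : Subfield k') {x}) :=
      Module.finite_of_finite (⊥ : Subfield k')
    have hx' : (⟨x, IntermediateField.mem_adjoin_simple_self _ x⟩ :
        IntermediateField.adjoin (⊥ : Subfield k') {x}) ≠ 0 := by
      intro h0
      exact hx (congrArg Subtype.val h0)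
    have hn := orderOf_pos (Units.mk0 _ hx')
    have hpow := pow_orderOf_eq_one (Units.mk0 _ hx')
    refine ⟨orderOf (Units.mk0 _ hx'), hn, 1, ?_⟩
    have h2 := congrArg (fun u : (IntermediateField.adjoin (⊥ : Subfield k') {x})ˣ =>
      ((u : IntermediateField.adjoin (⊥ : Subfield k') {x}) : k')) hpow
    simp only [Units.val_pow_eq_pow_val, Units.val_mk0, Units.val_one] at h2
    rw [map_one]
    simpa using h2.symm

/-- Hard direction. -/
theorem forward :
    Function.Surjective (algebraMap k k') ∨
      ∃ p : ℕ, p.Prime ∧ CharP k' p ∧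
        (IsPurelyInseparable k k' ∨ Algebra.IsAlgebraic (⊥ : Subfield k') k') := by
  classical
  by_cases hsurj : Function.Surjective (algebraMap k k')
  · exact Or.inl hsurj
  right
  have hint : Algebra.IsIntegral k k' := ⟨fun x => by
    obtain ⟨n, hn, d, hd⟩ := H x
    exact IsIntegral.of_pow hn (hd ▸ isIntegral_algebraMap)⟩
  obtain ⟨p, hp⟩ := CharP.exists k'
  by_cases hex : ∃ a : k', IsSeparable k a ∧ a ∉ (algebraMap k k').range
  · obtain ⟨a, hsep, ha⟩ := hex
    have hp0 : p ≠ 0 := by
      rintro rfl
      haveI : CharZero k' := CharP.charP_to_charZero k'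
      exact false_of_charZero H a hsep ha
    have hprime : p.Prime := (CharP.char_is_prime_or_zero k' p).resolve_right hp0
    exact ⟨p, hprime, hp, Or.inr ⟨fun y =>
      isAlgebraic_int_all H (⊥ : Subfield k') a hsep ha y⟩⟩
  · push_neg at hex
    have hp0 : p ≠ 0 := by
      rintro rfl
      haveI : CharZero k' := CharP.charP_to_charZero k'
      haveI : CharZero k := (algebraMap k k').charZero
      apply hsurj
      intro x
      have hx : IsIntegral k x := Algebra.IsIntegral.isIntegral x
      exact hex x (minpoly.irreducible hx).separable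
    have hprime : p.Prime := (CharP.char_is_prime_or_zero k' p).resolve_right hp0
    exact ⟨p, hprime, hp, Or.inl ⟨hint, fun x hx => hex x hx⟩⟩

end Groth.Agent.Lib.Helper68.Kaplansky
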