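import Mathlib
import Groth.Agent.S1965
import Groth.Agent.Lib.Helper3.CompleteFinite

/-!
# Krasner-type approximation over a complete discrete valuation ring (helper68)

* `exists_root_of_eval_eq_sq_mul`: Newton–Hensel with non-unit derivative in an adically
  complete ring.
* `exists_sub_algebraMap_mem_pow`: a Noetherian local ring is dense in its completion.
* `exists_bezout_of_separable_map`: integral Bezout relation for a polynomial separable over the
  fraction field.
* `exists_root_adjoinRoot`: over a complete DVR `R`, if `g` is monic and close enough to `f`, then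
  `f` has a root in `R[X]/(g)`.
* `exists_monic_approx`: approximating monic polynomials over the completion.
* `exists_equiv_adjoinRoot`: a finite separable extension of the fraction field of a complete DVR
  is `Kh[X]/(g)` for all monic `g` close to a suitable `f`.
* `exists_descent_of_equiv_adjoinRoot`: field-theoretic descent step.
-/

set_option autoImplicit false

open Polynomial IsLocalRing

namespace Groth.Agent.Lib.Helper68.KrasnerDVR

/-- Newton–Hensel with non-unit derivative in an `I`-adically complete ring: if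
`F(x) = F'(x)² e` with `e ∈ I`, then `F` has a root. -/
theorem exists_root_of_eval_eq_sq_mul {S : Type*} [CommRing S] (I : Ideal S)
    [IsAdicComplete I S] (F : S[X]) (x e : S) (he : e ∈ I)
    (hF : F.eval x = (derivative F).eval x ^ 2 * e) :
    ∃ β : S, F.eval β = 0 := by
  classical
  set d := (derivative F).eval x with hd
  set a : ℕ → S := fun k => (taylor x F).coeff k with ha
  have ha0 : a 0 = d ^ 2 * e := by rw [ha]; simp only; rw [taylor_coeff_zero, hF]
  have ha1 : a 1 = d := by rw [ha]; simp only; rw [taylor_coeff_one]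
  set D := F.natDegree with hD
  set G : S[X] := ∑ k ∈ Finset.range D, C (a (k + 2) * d ^ k) * X ^ k with hG
  set H : S[X] := C e + X * (1 + X * G) with hH
  have hH0 : H.eval 0 = e := by simp [hH]
  have hH0' : (derivative H).eval 0 = 1 := by simp [hH]
  obtain ⟨t, ht, -⟩ := Groth.Agent.S1965.hensel_nonmonic S I H 0 (by rw [hH0]; exact he)
    (by rw [hH0', map_one]; exact isUnit_one)
  have hHt : e + t * (1 + t * G.eval t) = 0 := by
    have : H.eval t = 0 := ht
    simpa [hH] using this
  refine ⟨x + d * t, ?_⟩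
  have h1 : F.eval (x + d * t) = (taylor x F).eval (d * t) := by
    rw [taylor_eval, add_comm]
  have hdeg : (taylor x F).natDegree < D + 2 := by
    rw [natDegree_taylor]; omega
  rw [h1, eval_eq_sum_range' hdeg, Finset.sum_range_succ', Finset.sum_range_succ']
  have hGt : G.eval t = ∑ k ∈ Finset.range D, a (k + 2) * d ^ k * t ^ k := by
    rw [hG, eval_finsetSum]
    refine Finset.sum_congr rfl fun k _ => ?_
    simp
  have h2 : ∑ k ∈ Finset.range D, (taylor x F).coeff (k + 1 + 1) * (d * t) ^ (k + 1 + 1)
      = d ^ 2 * t ^ 2 * G.eval t := by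
    rw [hGt, Finset.mul_sum]
    refine Finset.sum_congr rfl fun k _ => ?_
    show a (k + 2) * (d * t) ^ (k + 1 + 1) = _
    ring
  rw [h2]
  have h3 : (taylor x F).coeff (0 + 1) = d := ha1
  have h4 : (taylor x F).coeff 0 = d ^ 2 * e := ha0
  rw [h3, h4]
  linear_combination d ^ 2 * hHt

/-- Density of `A` in its completion. -/
theorem exists_sub_algebraMap_mem_pow (A : Type*) [CommRing A] [IsLocalRing A] [IsNoetherianRing A]
    (x : AdicCompletion (maximalIdeal A) A) (N : ℕ) :
    ∃ a : A, x - algebraMap A (AdicCompletion (maximalIdeal A) A) a ∈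
      maximalIdeal (AdicCompletion (maximalIdeal A) A) ^ N := by
  have fg : (maximalIdeal A).FG := Ideal.fg_of_isNoetherianRing _
  obtain ⟨a, ha⟩ := Submodule.Quotient.mk_surjective _ (x.val N)
  refine ⟨a, ?_⟩
  rw [AdicCompletion.maximalIdeal_eq_map, ← Ideal.map_pow, ← Submodule.restrictScalars_mem A,
    ← Ideal.smul_top_eq_map, AdicCompletion.pow_smul_top_eq_ker_eval fg, LinearMap.mem_ker,
    map_sub, sub_eq_zero]
  rw [AdicCompletion.eval_apply, AdicCompletion.algebraMap_apply]
  rw [AdicCompletion.eval_apply, AdicCompletion.of_apply, ← ha]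
  rfl

/-- Bezout relation with coefficients in the domain, from separability over the fraction field. -/
theorem exists_bezout_of_separable_map (R K : Type*) [CommRing R] [IsDomain R] [Field K]
    [Algebra R K] [IsFractionRing R K] (f : R[X]) (hf : (f.map (algebraMap R K)).Separable) :
    ∃ (δ : R) (U V : R[X]), δ ≠ 0 ∧ U * f + V * derivative f = C δ := by
  obtain ⟨u, v, huv⟩ := hf
  obtain ⟨b₁, hb₁m, hb₁⟩ := IsLocalization.integerNormalization_spec (nonZeroDivisors R) u
  obtain ⟨b₂, hb₂m, hb₂⟩ := IsLocalization.integerNormalization_spec (nonZeroDivisors R) v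
  set U := IsLocalization.integerNormalization (nonZeroDivisors R) u
  set V := IsLocalization.integerNormalization (nonZeroDivisors R) v
  refine ⟨(b₁ : R) * b₂, C (b₂ : R) * U, C (b₁ : R) * V,
    mul_ne_zero (nonZeroDivisors.ne_zero hb₁m) (nonZeroDivisors.ne_zero hb₂m), ?_⟩
  apply Polynomial.map_injective (algebraMap R K) (IsFractionRing.injective R K)
  simp only [Polynomial.map_add, Polynomial.map_mul, Polynomial.map_C, hb₁, hb₂,
    ← derivative_map]
  rw [Algebra.smul_def, Algebra.smul_def]
  simp only [Polynomial.algebraMap_apply, Polynomial.map_C, Algebra.algebraMap_self,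
    RingHom.id_apply, map_mul]
  have : C (algebraMap R K (b₂ : R)) * (C (algebraMap R K (b₁ : R)) * u) * map (algebraMap R K) f +
      C (algebraMap R K (b₁ : R)) * (C (algebraMap R K (b₂ : R)) * v) *
        derivative (map (algebraMap R K) f) =
      C (algebraMap R K (b₁ : R)) * C (algebraMap R K (b₂ : R)) *
        (u * map (algebraMap R K) f + v * derivative (map (algebraMap R K) f)) := by ring
  rw [this, huv, mul_one]

/-- A finite algebra over a complete Noetherian local ring is complete for the extended ideal. -/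
theorem isAdicComplete_map_of_finite (R : Type*) [CommRing R] [IsLocalRing R] [IsNoetherianRing R]
    [IsAdicComplete (maximalIdeal R) R] (S : Type*) [CommRing S] [Algebra R S] [Module.Finite R S] :
    IsAdicComplete ((maximalIdeal R).map (algebraMap R S)) S := by
  rw [IsAdicComplete.map_algebraMap_iff]
  have h1 : IsPrecomplete (maximalIdeal R) S :=
    Groth.Agent.Lib.Helper3.isPrecomplete_of_finite (maximalIdeal R) S
  have h2 : IsHausdorff (maximalIdeal R) S := inferInstance
  exact { h1, h2 with }

theorem exists_root_adjoinRoot (R : Type*) [CommRing R] [IsDomain R] [IsDiscreteValuationRing R]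
    [IsAdicComplete (maximalIdeal R) R] (f U V : R[X]) (δ : R) (hδ : δ ≠ 0)
    (hUV : U * f + V * derivative f = C δ) :
    ∃ N : ℕ, ∀ g : R[X], g.Monic → (∀ i, (f - g).coeff i ∈ maximalIdeal R ^ N) →
      ∃ β : AdjoinRoot g, aeval β f = 0 := by
  obtain ⟨ϖ, hϖ⟩ := IsDiscreteValuationRing.exists_irreducible R
  have hmax : maximalIdeal R = Ideal.span {ϖ} := hϖ.maximalIdeal_eq
  obtain ⟨c, hc⟩ := IsDiscreteValuationRing.associated_pow_irreducible hδ hϖ
  obtain ⟨u, hu⟩ := hc
  refine ⟨2 * c + 1, fun g hg hfg => ?_⟩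
  have hfin : Module.Finite R (AdjoinRoot g) := hg.finite_adjoinRoot
  have hcompl := isAdicComplete_map_of_finite R (AdjoinRoot g)
  set J := (maximalIdeal R).map (algebraMap R (AdjoinRoot g)) with hJ
  set x := AdjoinRoot.root g with hx
  set ϖS := algebraMap R (AdjoinRoot g) ϖ with hϖS
  have hϖJ : ϖS ∈ J := Ideal.mem_map_of_mem _ (by rw [hmax]; exact Ideal.mem_span_singleton_self ϖ)
  -- `f - g = C (ϖ ^ N) * q`
  have hdvd : C (ϖ ^ (2 * c + 1)) ∣ f - g := by
    rw [Polynomial.C_dvd_iff_dvd_coeff]
    intro i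
    have := hfg i
    rw [hmax, Ideal.span_singleton_pow, Ideal.mem_span_singleton] at this
    exact this
  obtain ⟨q, hq⟩ := hdvd
  have hgx : aeval x g = 0 := AdjoinRoot.aeval_eq g ▸ AdjoinRoot.mk_self
  have hfx : aeval x f = ϖS ^ (2 * c + 1) * aeval x q := by
    have : f = g + C (ϖ ^ (2 * c + 1)) * q := by rw [← hq]; ring
    rw [this, map_add, hgx, zero_add, map_mul, aeval_C, map_pow]
  set y := aeval x q with hy
  -- Bezout evaluated at `x`
  have hbez : aeval x U * aeval x f + aeval x V * aeval x (derivative f) =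
      algebraMap R (AdjoinRoot g) δ := by
    rw [← map_mul, ← map_mul, ← map_add, hUV, aeval_C]
  set d := aeval x (derivative f) with hd
  set uS := algebraMap R (AdjoinRoot g) (u : R) with huS
  have hδu : algebraMap R (AdjoinRoot g) δ * uS = ϖS ^ c := by
    rw [huS, hϖS, ← map_mul, hu, map_pow]
  -- the unit `1 - ϖS z`
  set z := ϖS ^ c * aeval x U * uS * y with hz
  have hunit : IsUnit (1 - ϖS * z) := by
    have hjac : ϖS ∈ (⊥ : Ideal (AdjoinRoot g)).jacobson :=
      IsAdicComplete.le_jacobson_bot J hϖJ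
    have := (Ideal.mem_jacobson_bot.mp hjac) (-z)
    convert this using 1
    ring
  obtain ⟨w', hw'⟩ := isUnit_iff_exists_inv.mp hunit
  set w := aeval x V * uS * w' with hw
  have hwd : w * d = ϖS ^ c := by
    have h1 : aeval x V * d = algebraMap R (AdjoinRoot g) δ - aeval x U * aeval x f := by
      rw [← hbez]; ring
    calc w * d = (aeval x V * d) * uS * w' := by rw [hw]; ring
      _ = (algebraMap R (AdjoinRoot g) δ - aeval x U * aeval x f) * uS * w' := by rw [h1]
      _ = (algebraMap R (AdjoinRoot g) δ * uS - aeval x U * (ϖS ^ (2 * c + 1) * y) * uS) * w' := by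
          rw [hfx]; ring
      _ = (ϖS ^ c * (1 - ϖS * z)) * w' := by rw [hδu, hz]; ring
      _ = ϖS ^ c := by rw [mul_assoc, hw', mul_one]
  -- Newton
  set F := f.map (algebraMap R (AdjoinRoot g)) with hF
  have hFx : F.eval x = aeval x f := by rw [hF, eval_map_algebraMap]
  have hF'x : (derivative F).eval x = d := by
    rw [hF, derivative_map, eval_map_algebraMap]
  obtain ⟨β, hβ⟩ := exists_root_of_eval_eq_sq_mul J F x (w ^ 2 * ϖS * y)
    (by
      have : w ^ 2 * ϖS * y = (w ^ 2 * y) * ϖS := by ring
      rw [this]; exact Ideal.mul_mem_left _ _ hϖJ)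
    (by
      rw [hFx, hF'x, hfx]
      calc ϖS ^ (2 * c + 1) * y = (ϖS ^ c) ^ 2 * ϖS * y := by ring
        _ = (w * d) ^ 2 * ϖS * y := by rw [hwd]
        _ = d ^ 2 * (w ^ 2 * ϖS * y) := by ring)
  refine ⟨β, ?_⟩
  rw [← eval_map_algebraMap]
  exact hβ

/-- Approximating a monic polynomial over the completion by a monic polynomial over `A`. -/
theorem exists_monic_approx (A : Type*) [CommRing A] [IsLocalRing A] [IsNoetherianRing A]
    (hdens : ∀ (x : AdicCompletion (maximalIdeal A) A) (N : ℕ), ∃ a : A,
      x - algebraMap A (AdicCompletion (maximalIdeal A) A) a ∈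
      maximalIdeal (AdicCompletion (maximalIdeal A) A) ^ N)
    (f : (AdicCompletion (maximalIdeal A) A)[X]) (hf : f.Monic) (N : ℕ) :
    ∃ g : A[X], g.Monic ∧ g.natDegree = f.natDegree ∧
      ∀ i, (f - g.map (algebraMap A (AdicCompletion (maximalIdeal A) A))).coeff i ∈
        maximalIdeal (AdicCompletion (maximalIdeal A) A) ^ N := by
  classical
  choose a ha using fun i => hdens (f.coeff i) N
  set n := f.natDegree with hn
  set p : A[X] := ∑ i : Fin n, C (a i) * X ^ (i : ℕ) with hp
  have hpdeg : p.degree < n := degree_sum_fin_lt _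
  have hpcoeff : ∀ j, p.coeff j = if j < n then a j else 0 := by
    intro j
    rw [hp, Fin.sum_univ_eq_sum_range (fun i => C (a i) * X ^ i) n, finsetSum_coeff]
    simp only [coeff_C_mul, coeff_X_pow, mul_ite, mul_one, mul_zero]
    rw [Finset.sum_ite_eq]
    simp
  have hgm : (X ^ n + p).Monic := monic_X_pow_add hpdeg
  refine ⟨X ^ n + p, hgm, ?_, fun i => ?_⟩
  · nontriviality A
    rw [natDegree_add_eq_left_of_degree_lt (by rw [degree_X_pow]; exact hpdeg), natDegree_X_pow]
  · rw [coeff_sub, coeff_map, coeff_add, coeff_X_pow, hpcoeff]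
    rcases lt_trichotomy i n with h | h | h
    · rw [if_neg h.ne, if_pos h, zero_add]
      exact ha i
    · subst h
      rw [if_pos rfl, if_neg (lt_irrefl _), add_zero, hn, hf.coeff_natDegree, map_one, sub_self]
      exact zero_mem _
    · rw [if_neg h.ne', if_neg (not_lt.mpr h.le), add_zero, map_zero, sub_zero,
        coeff_eq_zero_of_natDegree_lt (hn ▸ h)]
      exact zero_mem _

/-- Over a complete DVR `R` with fraction field `Kh`, a finite separable field extension `M` of `Kh`
is isomorphic to `Kh[X]/(g)` for every monic `g ∈ R[X]` close enough to a suitable monic `f`. -/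
theorem exists_equiv_adjoinRoot (R Kh M : Type*) [CommRing R] [IsDomain R]
    [IsDiscreteValuationRing R] [IsAdicComplete (maximalIdeal R) R] [Field Kh] [Algebra R Kh]
    [IsFractionRing R Kh] [Field M] [Algebra Kh M] [FiniteDimensional Kh M]
    [Algebra.IsSeparable Kh M] :
    ∃ (f : R[X]) (N : ℕ), f.Monic ∧ ∀ g : R[X], g.Monic → g.natDegree = f.natDegree →
      (∀ i, (f - g).coeff i ∈ maximalIdeal R ^ N) →
      Nonempty (M ≃ₐ[Kh] AdjoinRoot (g.map (algebraMap R Kh))) := by
  let _ : Algebra R M := ((algebraMap Kh M).comp (algebraMap R Kh)).toAlgebra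
  have : IsScalarTower R Kh M := IsScalarTower.of_algebraMap_eq (fun _ => rfl)
  let pb := Field.powerBasisOfFiniteOfSeparable Kh M
  have hγalg : IsAlgebraic R pb.gen :=
    (IsFractionRing.isAlgebraic_iff R Kh M).mpr (Algebra.IsAlgebraic.isAlgebraic pb.gen)
  obtain ⟨b, hb0, hbint⟩ := hγalg.exists_integral_multiple
  set α := b • pb.gen with hα
  have hαK : IsIntegral Kh α := hbint.tower_top
  have hbK : algebraMap R Kh b ≠ 0 := by
    rw [Ne, map_eq_zero_iff _ (IsFractionRing.injective R Kh)]; exact hb0
  have hγmem : pb.gen ∈ Algebra.adjoin Kh ({α} : Set M) := by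
    have : pb.gen = (algebraMap R Kh b)⁻¹ • α := by
      rw [hα, ← algebraMap_smul Kh b pb.gen, inv_smul_smul₀ hbK]
    rw [this]
    exact Subalgebra.smul_mem _ (Algebra.subset_adjoin (Set.mem_singleton α)) _
  have hadj : Algebra.adjoin Kh ({α} : Set M) = ⊤ := PowerBasis.adjoin_eq_top_of_gen_mem_adjoin hγmem
  let pb' := PowerBasis.ofAdjoinEqTop hαK hadj
  have hpb'gen : pb'.gen = α := PowerBasis.ofAdjoinEqTop_gen hαK hadj
  have hpb'dim : pb'.dim = (minpoly Kh α).natDegree := PowerBasis.ofAdjoinEqTop_dim hαK hadj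
  set f := minpoly R α with hf
  have hfmonic : f.Monic := minpoly.monic hbint
  have hfK : minpoly Kh α = f.map (algebraMap R Kh) :=
    minpoly.isIntegrallyClosed_eq_field_fractions' Kh hbint
  have hsep : (f.map (algebraMap R Kh)).Separable := by
    rw [← hfK]; exact Algebra.IsSeparable.isSeparable Kh α
  obtain ⟨δ, U, V, hδ, hUV⟩ := exists_bezout_of_separable_map R Kh f hsep
  obtain ⟨N, hN⟩ := exists_root_adjoinRoot R f U V δ hδ hUV
  refine ⟨f, N, hfmonic, fun g hg hdeg hfg => ?_⟩
  obtain ⟨β, hβ⟩ := hN g hg hfg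
  set gK := g.map (algebraMap R Kh) with hgK
  have hgKmonic : gK.Monic := hg.map _
  let τ : AdjoinRoot g →+* AdjoinRoot gK := AdjoinRoot.map (algebraMap R Kh) g gK dvd_rfl
  have hτ : τ.comp (algebraMap R (AdjoinRoot g)) =
      (algebraMap Kh (AdjoinRoot gK)).comp (algebraMap R Kh) := by
    ext r
    simp only [RingHom.comp_apply, AdjoinRoot.algebraMap_eq]
    exact AdjoinRoot.map_of _ _ _ _ r
  have hroot : aeval (τ β) (minpoly Kh pb'.gen) = 0 := by
    rw [hpb'gen, hfK, aeval_def, eval₂_map, ← hτ, ← hom_eval₂, ← aeval_def, hβ, map_zero]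
  let ψ : M →ₐ[Kh] AdjoinRoot gK := pb'.lift (τ β) hroot
  have hdegK : gK.natDegree = f.natDegree := by rw [hgK, hg.natDegree_map, hdeg]
  have hfdeg : (minpoly Kh α).natDegree = f.natDegree := by rw [hfK, hfmonic.natDegree_map]
  have hpos : 0 < f.natDegree := by rw [← hfdeg, ← hpb'dim]; exact pb'.dim_pos
  have hgK0 : gK ≠ 0 := hgKmonic.ne_zero
  have : Nontrivial (AdjoinRoot gK) := by
    apply AdjoinRoot.nontrivial
    intro h0
    have := natDegree_eq_zero_iff_degree_le_zero.mpr h0.le
    omega
  have hψinj : Function.Injective ψ := (ψ : M →+* AdjoinRoot gK).injective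
  let pbT := AdjoinRoot.powerBasis hgK0
  have : FiniteDimensional Kh (AdjoinRoot gK) := pbT.finite
  have hrank : Module.finrank Kh M = Module.finrank Kh (AdjoinRoot gK) := by
    rw [pb'.finrank, pbT.finrank, hpb'dim, hfdeg, AdjoinRoot.powerBasis_dim, hdegK]
  have hψsurj : Function.Surjective ψ :=
    (LinearMap.injective_iff_surjective_of_finrank_eq_finrank (f := ψ.toLinearMap) hrank).mp hψinj
  exact ⟨AlgEquiv.ofBijective ψ ⟨hψinj, hψsurj⟩⟩

universe u v w

open TensorProduct in
/-- If `Kh[X]/(g)` is a finite separable field extension `M` of `Kh` for a monic `g ∈ K[X]`, then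
`L = K[X]/(g)` is a finite separable field extension of `K` with `Kh ⊗[K] L ≃ M`. -/
theorem exists_descent_of_equiv_adjoinRoot (K : Type u) (Kh : Type v) (M : Type w) [Field K]
    [Field Kh] [Algebra K Kh] [Field M] [Algebra Kh M] [Algebra.IsSeparable Kh M]
    (g : K[X]) (hg : g.Monic) (e : M ≃ₐ[Kh] AdjoinRoot (g.map (algebraMap K Kh))) :
    ∃ (L : Type u) (_ : Field L) (_ : Algebra K L), FiniteDimensional K L ∧
      Algebra.IsSeparable K L ∧ Nonempty ((Kh ⊗[K] L) ≃ₐ[Kh] M) := by
  set gK := g.map (algebraMap K Kh) with hgK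
  have hgKmonic : gK.Monic := hg.map _
  have hgK0 : gK ≠ 0 := hgKmonic.ne_zero
  have hg0 : g ≠ 0 := hg.ne_zero
  -- `gK` is irreducible
  have hfield : IsField (AdjoinRoot gK) := MulEquiv.isField (Field.toIsField M) e.symm.toMulEquiv
  have hmax : (Ideal.span {gK} : Ideal Kh[X]).IsMaximal := Ideal.Quotient.maximal_of_isField _ hfield
  have hirrK : Irreducible gK := ((Ideal.span_singleton_prime hgK0).mp hmax.isPrime).irreducible
  have hirr : Irreducible g := Monic.irreducible_of_irreducible_map (algebraMap K Kh) g hg hirrK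
  have : Fact (Irreducible g) := ⟨hirr⟩
  -- separability
  have hroot : aeval (e.symm (AdjoinRoot.root gK)) gK = 0 := by
    rw [aeval_algHom_apply, AdjoinRoot.aeval_eq, AdjoinRoot.mk_self, map_zero]
  have hmin : gK = minpoly Kh (e.symm (AdjoinRoot.root gK)) :=
    minpoly.eq_of_irreducible_of_monic hirrK hroot hgKmonic
  have hsepK : gK.Separable := by
    rw [hmin]; exact Algebra.IsSeparable.isSeparable Kh _
  have hsep : g.Separable := (Polynomial.separable_map (algebraMap K Kh)).mp hsepK
  have hrootsep : IsSeparable K (AdjoinRoot.root g) := by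
    unfold IsSeparable
    rw [AdjoinRoot.minpoly_root hg0, hg.leadingCoeff, inv_one, map_one, mul_one]
    exact hsep
  have htop : IntermediateField.adjoin K ({AdjoinRoot.root g} : Set (AdjoinRoot g)) = ⊤ :=
    IntermediateField.adjoin_eq_top_of_algebra K _ AdjoinRoot.adjoinRoot_eq_top
  have hsepL : Algebra.IsSeparable K (AdjoinRoot g) := by
    have h1 : Algebra.IsSeparable K
        (IntermediateField.adjoin K ({AdjoinRoot.root g} : Set (AdjoinRoot g))) :=
      (IntermediateField.isSeparable_adjoin_simple_iff_isSeparable K (AdjoinRoot g)).mpr hrootsep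
    rw [Algebra.isSeparable_def]
    intro x
    have hx : x ∈ IntermediateField.adjoin K ({AdjoinRoot.root g} : Set (AdjoinRoot g)) := by
      rw [htop]; trivial
    exact IntermediateField.isSeparable_of_mem_isSeparable K (AdjoinRoot g) hx
  have hfinL : FiniteDimensional K (AdjoinRoot g) := (AdjoinRoot.powerBasis hg0).finite
  -- the base change isomorphism
  let q : (Kh ⊗[K] K)[X] :=
    g.map (Algebra.TensorProduct.includeRight (R := K) (A := Kh) (B := K)).toRingHom
  let e1 : Kh ⊗[K] AdjoinRoot g ≃ₐ[Kh] AdjoinRoot q :=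
    AdjoinRoot.tensorAlgEquiv (R := K) (T := Kh) g q rfl
  let e2 : AdjoinRoot q ≃ₐ[Kh] AdjoinRoot gK :=
    AdjoinRoot.mapAlgEquiv (Algebra.TensorProduct.rid K Kh Kh) q gK (by
      rw [Polynomial.map_map]
      have : (RingHomClass.toRingHom (Algebra.TensorProduct.rid K Kh Kh)).comp
          (Algebra.TensorProduct.includeRight (R := K) (A := Kh) (B := K)).toRingHom =
          algebraMap K Kh := by
        ext r
        simp [Algebra.algebraMap_eq_smul_one]
      rw [this])
  exact ⟨AdjoinRoot g, inferInstance, inferInstance, hfinL, hsepL, ⟨(e1.trans e2).trans e.symm⟩⟩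

end Groth.Agent.Lib.Helper68.KrasnerDVR
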