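import Mathlib

/-! # Inverse limits of finite modules are finite over the completion (helper68) -/

universe u v

namespace Groth.Agent.Lib.Helper68.LimitFinite

variable {A : Type u} [CommRing A] (I : Ideal A)

section Smul

variable {L : Type v} [AddCommGroup L] [Module A L]
  [Module (AdicCompletion I A) L] [IsScalarTower A (AdicCompletion I A) L]

/-- An element of the completion vanishing at level `m` multiplies `L` into `I^m L`. -/
theorem smul_mem_of_val_eq_zero (hI : I.FG) {m : ℕ} (d : AdicCompletion I A) (hd : d.val m = 0)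
    (x : L) : d • x ∈ (I ^ m • ⊤ : Submodule A L) := by
  have hd' : d ∈ (I ^ m • ⊤ : Submodule A (AdicCompletion I A)) := by
    rw [AdicCompletion.pow_smul_top_eq_ker_eval hI, LinearMap.mem_ker]
    exact hd
  refine Submodule.smul_induction_on (p := fun d => d • x ∈ (I ^ m • ⊤ : Submodule A L)) hd' ?_ ?_
  · intro c hc a' _
    rw [smul_assoc]
    exact Submodule.smul_mem_smul hc trivial
  · intro u w hu hw
    rw [add_smul]
    exact add_mem hu hw

end Smul

variable {I}

/-- Main theorem. -/
theorem finite_of_limit (hI : I.FG)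
    (M : ℕ → Type v) [∀ n, AddCommGroup (M n)] [∀ n, Module A (M n)] [∀ n, Module.Finite A (M n)]
    (f : ∀ n, M (n + 1) →ₗ[A] M n) (hf : ∀ n, Function.Surjective (f n))
    (hker : ∀ n, LinearMap.ker (f n) = I ^ (n + 1) • (⊤ : Submodule A (M (n + 1))))
    (hkill : ∀ n, I ^ (n + 1) • (⊤ : Submodule A (M n)) = ⊥)
    (L : Type v) [AddCommGroup L] [Module A L] (π : ∀ n, L →ₗ[A] M n)
    (hπ : ∀ n, f n ∘ₗ π (n + 1) = π n)
    (hinj : ∀ x : L, (∀ n, π n x = 0) → x = 0)
    (hlift : ∀ y : (∀ n, M n), (∀ n, f n (y (n + 1)) = y n) → ∃ x : L, ∀ n, π n x = y n)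
    [Module (AdicCompletion I A) L] [IsScalarTower A (AdicCompletion I A) L] :
    Module.Finite (AdicCompletion I A) L := by
  classical
  have hπ' : ∀ n (x : L), f n (π (n + 1) x) = π n x := fun n x => LinearMap.congr_fun (hπ n) x
  -- `π n` kills `I^(n+1) L`
  have hπkill : ∀ n (z : L), z ∈ (I ^ (n + 1) • ⊤ : Submodule A L) → π n z = 0 := by
    intro n z hz
    have h1 : π n z ∈ (I ^ (n + 1) • ⊤ : Submodule A L).map (π n) := Submodule.mem_map_of_mem hz
    rw [Submodule.map_smul''] at h1
    have h2 : (I ^ (n + 1) • (⊤ : Submodule A L).map (π n)) ≤ I ^ (n + 1) • (⊤ : Submodule A (M n)) :=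
      Submodule.smul_mono le_rfl le_top
    have h3 := h2 h1
    rw [hkill n] at h3
    exact h3
  -- compatibility of the completion action with `π n`
  have hπsmul : ∀ n (a : AdicCompletion I A) (b : A) (x : L),
      a.val (n + 1) = Submodule.Quotient.mk b → π n (a • x) = b • π n x := by
    intro n a b x hab
    have h1 : a • x = (a - b • (1 : AdicCompletion I A)) • x + b • x := by
      rw [sub_smul, smul_assoc, one_smul]; abel
    rw [h1, map_add, hπkill n _ (smul_mem_of_val_eq_zero I hI _ ?_ x), zero_add, map_smul]
    rw [AdicCompletion.val_sub_apply, AdicCompletion.val_smul_apply, hab]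
    show Submodule.Quotient.mk b - b • (Submodule.Quotient.mk (1 : A)) = 0
    rw [← Submodule.Quotient.mk_smul]
    simp
  -- lifting elements of `M 0` to `L`
  have hlift0 : ∀ g : M 0, ∃ x : L, π 0 x = g := by
    intro g
    obtain ⟨x, hx⟩ := hlift
      (fun n => Nat.rec (motive := fun n => M n) g (fun n prev => Classical.choose (hf n prev)) n)
      (fun n => Classical.choose_spec (hf n _))
    exact ⟨x, hx 0⟩
  -- generators
  obtain ⟨r, g, hg⟩ := Module.Finite.exists_fin (R := A) (M := M 0)
  choose xt hxt using fun i => hlift0 (g i)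
  -- the images of `xt` generate each `M n`
  have hgen : ∀ n, Submodule.span A (Set.range fun i => π n (xt i)) = ⊤ := by
    intro n
    induction n with
    | zero =>
      rw [← hg]; congr 1; ext z; simp [hxt]
    | succ n ih =>
      have h1 : (⊤ : Submodule A (M (n + 1))) ≤
          Submodule.span A (Set.range fun i => π (n + 1) (xt i)) ⊔
            I ^ (n + 1) • (⊤ : Submodule A (M (n + 1))) := by
        intro z _
        have hz : f n z ∈ Submodule.span A (Set.range fun i => π n (xt i)) := by rw [ih]; trivial
        have himg : Submodule.span A (Set.range fun i => π n (xt i)) =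
            (Submodule.span A (Set.range fun i => π (n + 1) (xt i))).map (f n) := by
          rw [Submodule.map_span]
          congr 1
          ext w
          simp [hπ']
        rw [himg] at hz
        obtain ⟨w, hw, hwz⟩ := hz
        have : z - w ∈ LinearMap.ker (f n) := by
          rw [LinearMap.mem_ker, map_sub, hwz, sub_self]
        rw [hker n] at this
        have hzw : z = w + (z - w) := by abel
        rw [hzw]
        exact Submodule.add_mem_sup hw this
      have h2 : I ^ (n + 1) • (⊤ : Submodule A (M (n + 1))) ≤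
          Submodule.span A (Set.range fun i => π (n + 1) (xt i)) := by
        calc I ^ (n + 1) • (⊤ : Submodule A (M (n + 1)))
            ≤ I ^ (n + 1) • (Submodule.span A (Set.range fun i => π (n + 1) (xt i)) ⊔
                I ^ (n + 1) • (⊤ : Submodule A (M (n + 1)))) := Submodule.smul_mono le_rfl h1
          _ = I ^ (n + 1) • Submodule.span A (Set.range fun i => π (n + 1) (xt i)) ⊔
                I ^ (n + 1) • (I ^ (n + 1) • (⊤ : Submodule A (M (n + 1)))) := Submodule.smul_sup _ _ _
          _ ≤ Submodule.span A (Set.range fun i => π (n + 1) (xt i)) ⊔ ⊥ := by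
              refine sup_le_sup Submodule.smul_le_right ?_
              rw [← Submodule.mul_smul, ← pow_add, ← hkill (n + 1)]
              exact Submodule.smul_mono_left (Ideal.pow_le_pow_right (by omega))
          _ = _ := sup_bot_eq _
      exact top_le_iff.mp (h1.trans (sup_le le_rfl h2))
  -- approximation step
  have hstep : ∀ (y : L) (n : ℕ) (b : Fin r → A), π n y = ∑ i, b i • π n (xt i) →
      ∃ b' : Fin r → A, π (n + 1) y = ∑ i, b' i • π (n + 1) (xt i) ∧
        ∀ i, b' i - b i ∈ I ^ (n + 1) := by
    intro y n b hb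
    have hz : π (n + 1) y - ∑ i, b i • π (n + 1) (xt i) ∈ LinearMap.ker (f n) := by
      rw [LinearMap.mem_ker, map_sub, map_sum, hπ', hb, sub_eq_zero]
      refine Finset.sum_congr rfl fun i _ => ?_
      rw [map_smul, hπ']
    rw [hker n, ← hgen (n + 1), Submodule.mem_ideal_smul_span_iff_exists_sum] at hz
    obtain ⟨c, hc, hcz⟩ := hz
    refine ⟨fun i => b i + c i, ?_, fun i => by simpa using hc i⟩
    rw [Finsupp.sum_fintype c (fun i c => c • π (n + 1) (xt i)) (fun i => zero_smul _ _)] at hcz
    simp only [add_smul, Finset.sum_add_distrib]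
    rw [hcz]; abel
  have hstart : ∀ y : L, ∃ b : Fin r → A, π 0 y = ∑ i, b i • π 0 (xt i) := by
    intro y
    have : π 0 y ∈ Submodule.span A (Set.range fun i => π 0 (xt i)) := by rw [hgen 0]; trivial
    rw [Submodule.mem_span_range_iff_exists_fun] at this
    obtain ⟨b, hb⟩ := this
    exact ⟨b, hb.symm⟩
  -- conclusion
  refine ⟨⟨Finset.univ.image xt, ?_⟩⟩
  rw [eq_top_iff]
  rintro y -
  obtain ⟨b0, hb0⟩ := hstart y
  -- the sequence of approximations
  let seq : (n : ℕ) → {b : Fin r → A // π n y = ∑ i, b i • π n (xt i)} := fun n =>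
    Nat.rec (motive := fun n => {b : Fin r → A // π n y = ∑ i, b i • π n (xt i)}) ⟨b0, hb0⟩
      (fun n prev => ⟨Classical.choose (hstep y n prev.1 prev.2),
        (Classical.choose_spec (hstep y n prev.1 prev.2)).1⟩) n
  have hseq : ∀ n i, (seq (n + 1)).1 i - (seq n).1 i ∈ I ^ (n + 1) := fun n i =>
    (Classical.choose_spec (hstep y n (seq n).1 (seq n).2)).2 i
  -- the coefficients in the completion
  let a : Fin r → AdicCompletion I A := fun i =>
    AdicCompletion.mk I A (AdicCompletion.AdicCauchySequence.mk I A (fun n => (seq n).1 i)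
      (fun n => by
        rw [SModEq.sub_mem]
        have h := hseq n i
        have h' : (seq n).1 i - (seq (n + 1)).1 i ∈ I ^ (n + 1) := by
          rw [← neg_sub]; exact neg_mem h
        have h'' : (seq n).1 i - (seq (n + 1)).1 i ∈ I ^ n := Ideal.pow_le_pow_right (Nat.le_succ n) h'
        simpa using h''))
  have hy : y = ∑ i, a i • xt i := by
    rw [← sub_eq_zero]
    apply hinj
    intro n
    rw [map_sub, map_sum, sub_eq_zero, (seq n).2]
    refine Finset.sum_congr rfl fun i _ => ?_
    symm
    apply hπsmul n (a i) ((seq n).1 i) (xt i)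
    show Submodule.Quotient.mk ((seq (n + 1)).1 i) = Submodule.Quotient.mk ((seq n).1 i)
    rw [Submodule.Quotient.eq]
    simpa using hseq n i
  rw [hy]
  refine Submodule.sum_mem _ fun i _ => Submodule.smul_mem _ _ (Submodule.subset_span ?_)
  simp

end Groth.Agent.Lib.Helper68.LimitFinite
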