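import Mathlib
import Groth.Agent.Lib.Helper84.LinRedInt
import Groth.Agent.Lib.Helper84.CoinvSub
import Groth.Agent.Lib.Helper84.HopfFFEpi
import Groth.Agent.Lib.Helper84.HopfFFField
import Groth.Agent.Lib.Helper84.Antipode
import Groth.Agent.Lib.Helper84.HopfFFInf

/-!
# Linear reductivity in an exact sequence `1 → K → G → Q → 1` of affine group schemes (helper68)

Coordinate rings `B = O(Q) ↪ A = O(G) ↠ C = O(K)`, `ker ψ = φ(B⁺) A`.

* `hasIntegral_of_injective`: an integral on `A` restricts to `B` (so `G` lin. red. ⇒ `Q` lin. red.);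
* `hasIntegral_of_exact`: integrals on `C` and `B` give one on `A` (`K`, `Q` lin. red. ⇒ `G` lin. red.);
* `cond_of_hasIntegral`: an integral on `A` gives the fixed-vector criterion `LinRedKL.Cond` for `C`
  (`G` lin. red. ⇒ `K` lin. red.), via the induced module `V □_C A`, the torsor map
  `θ : C → A ⊗_B A`, flatness of `A` over `B` (`span_Ecot_eq_top`: `A · (V □_C A) = A ⊗ V`) and
  faithfully flat descent.
-/

set_option autoImplicit false
set_option linter.unusedSectionVars false
set_option linter.style.haveILetI false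
universe u
open TensorProduct

namespace Groth.Agent.Lib.Helper68.LinRedExact

open Groth.Agent.H40 Groth.Agent.Lib.Helper84.LinRedInt Coalgebra

section Slice
variable {k : Type u} [Field k] {A B : Type u} [CommRing A] [HopfAlgebra k A]
  [CommRing B] [HopfAlgebra k B]

/-- `φ (slice (I ∘ φ) t) = slice I ((φ ⊗ φ) t)`. -/
theorem map_slice_comp (φ : B →ₐc[k] A) (I : A →ₗ[k] k) (t : B ⊗[k] B) :
    φ (slice (I ∘ₗ (φ : B →ₐ[k] A).toLinearMap) t) =
      slice I (TensorProduct.map (φ : B →ₐ[k] A).toLinearMap (φ : B →ₐ[k] A).toLinearMap t) := by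
  induction t using TensorProduct.induction_on with
  | zero => simp
  | tmul x y => simp
  | add x y hx hy => simp only [map_add, hx, hy]

theorem comul_map (φ : B →ₐc[k] A) (b : B) :
    comul (R := k) (φ b) =
      TensorProduct.map (φ : B →ₐ[k] A).toLinearMap (φ : B →ₐ[k] A).toLinearMap (comul b) := by
  have := CoalgHomClass.map_comp_comul_apply φ b
  exact this.symm

theorem hasIntegral_of_injective (φ : B →ₐc[k] A) (hφ : Function.Injective φ)
    (h : HasIntegral k A) : HasIntegral k B := by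
  obtain ⟨I, hI1, hI⟩ := h
  refine ⟨I ∘ₗ (φ : B →ₐ[k] A).toLinearMap, ?_, ?_⟩
  · simp [hI1]
  · intro b
    apply hφ
    rw [map_slice_comp, ← comul_map, hI]
    simp

end Slice

section Avg
variable {k : Type u} [Field k] {A : Type u} [CommRing A] [HopfAlgebra k A]

/-- `a ↦ Σ a₁ f(a₂)`. -/
noncomputable def avg (f : A →ₗ[k] k) : A →ₗ[k] A := slice f ∘ₗ comul

theorem avg_apply (f : A →ₗ[k] k) (a : A) : avg f a = slice f (comul a) := rfl

theorem slice_natural {X Y D : Type*} [AddCommGroup X] [Module k X] [AddCommGroup Y] [Module k Y]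
    [AddCommGroup D] [Module k D] (f : D →ₗ[k] k) (g : X →ₗ[k] Y) (t : X ⊗[k] D) :
    g (slice f t) = slice f (g.rTensor D t) := by
  induction t using TensorProduct.induction_on with
  | zero => simp
  | tmul x y => simp
  | add x y hx hy => simp only [map_add, hx, hy]

theorem slice_assoc_symm {X Y D : Type*} [AddCommGroup X] [Module k X] [AddCommGroup Y]
    [Module k Y] [AddCommGroup D] [Module k D] (f : D →ₗ[k] k) (w : X ⊗[k] (Y ⊗[k] D)) :
    slice f ((TensorProduct.assoc k X Y D).symm w) = (slice f).lTensor X w := by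
  induction w using TensorProduct.induction_on with
  | zero => simp
  | tmul x t =>
    induction t using TensorProduct.induction_on with
    | zero => simp
    | tmul y d => simp [TensorProduct.tmul_smul]
    | add s t hs ht => simp only [TensorProduct.tmul_add, map_add, hs, ht]
  | add x y hx hy => simp only [map_add, hx, hy]

theorem comul_avg (f : A →ₗ[k] k) (a : A) :
    comul (R := k) (avg f a) = (avg f).lTensor A (comul a) := by
  rw [avg_apply, slice_natural, ← Coalgebra.coassoc_symm_apply, slice_assoc_symm]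
  rw [← LinearMap.comp_apply, ← LinearMap.lTensor_comp]
  rfl

theorem slice_comp {X D D' : Type*} [AddCommGroup X] [Module k X] [AddCommGroup D] [Module k D]
    [AddCommGroup D'] [Module k D'] (f : D' →ₗ[k] k) (g : D →ₗ[k] D') (t : X ⊗[k] D) :
    slice (f ∘ₗ g) t = slice f (g.lTensor X t) := by
  induction t using TensorProduct.induction_on with
  | zero => simp
  | tmul x y => simp
  | add x y hx hy => simp only [map_add, hx, hy]

theorem lTensor_unit_comp {X D : Type*} [AddCommGroup X] [Module k X] [CommRing D] [Algebra k D]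
    (f : A →ₗ[k] k) (t : X ⊗[k] A) :
    ((Algebra.linearMap k D) ∘ₗ f).lTensor X t = slice f t ⊗ₜ[k] (1 : D) := by
  induction t using TensorProduct.induction_on with
  | zero => simp
  | tmul x y =>
    simp only [LinearMap.lTensor_tmul, LinearMap.comp_apply, Algebra.linearMap_apply, slice_tmul]
    rw [Algebra.algebraMap_eq_smul_one, TensorProduct.tmul_smul, TensorProduct.smul_tmul']
  | add x y hx hy => simp only [map_add, hx, hy, TensorProduct.add_tmul]

end Avg


section Exact
variable {k : Type u} [Field k] {A B C : Type u} [CommRing A] [HopfAlgebra k A]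
  [CommRing B] [HopfAlgebra k B] [CommRing C] [HopfAlgebra k C]
  (φ : B →ₐc[k] A) (ψ : A →ₐc[k] C)

/-- `ψ ∘ φ = η ∘ ε` in an exact sequence. -/
theorem psi_phi
    (hker : RingHom.ker (ψ : A →ₐ[k] C) =
      Ideal.map (φ : B →ₐ[k] A) (RingHom.ker (Bialgebra.counitAlgHom k B))) (b : B) :
    ψ (φ b) = algebraMap k C (counit b) := by
  have h1 : b - algebraMap k B (counit b) ∈ RingHom.ker (Bialgebra.counitAlgHom k B) := by
    rw [RingHom.mem_ker, map_sub]
    simp
  have h2 : (φ : B →ₐ[k] A) (b - algebraMap k B (counit b)) ∈ RingHom.ker (ψ : A →ₐ[k] C) := by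
    rw [hker]
    exact Ideal.mem_map_of_mem _ h1
  rw [RingHom.mem_ker, map_sub, map_sub, sub_eq_zero] at h2
  have h3 : (ψ : A →ₐ[k] C) ((φ : B →ₐ[k] A) b) = ψ (φ b) := rfl
  rw [h3] at h2
  rw [h2]
  simp

theorem ker_eq_augIdealSpan
    (hker : RingHom.ker (ψ : A →ₐ[k] C) =
      Ideal.map (φ : B →ₐ[k] A) (RingHom.ker (Bialgebra.counitAlgHom k B))) :
    RingHom.ker (ψ : A →ₐ[k] C) = SGA3.augIdealSpan k A (φ : B →ₐ[k] A).range := by
  rw [hker]
  unfold SGA3.augIdealSpan Ideal.map
  congr 1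
  ext a
  constructor
  · rintro ⟨b, hb, rfl⟩
    refine ⟨⟨b, rfl⟩, ?_⟩
    have : counit (R := k) ((φ : B →ₐ[k] A) b) = counit (R := k) b :=
      CoalgHomClass.counit_comp_apply φ b
    rw [this]
    exact hb
  · rintro ⟨⟨b, rfl⟩, h0⟩
    refine ⟨b, ?_, rfl⟩
    have : counit (R := k) ((φ : B →ₐ[k] A) b) = counit (R := k) b :=
      CoalgHomClass.counit_comp_apply φ b
    change counit (R := k) ((φ : B →ₐ[k] A) b) = 0 at h0
    rw [this] at h0
    exact h0

end Exact


section Exact2
variable {k : Type u} [Field k] {A B C : Type u} [CommRing A] [HopfAlgebra k A]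
  [CommRing B] [HopfAlgebra k B] [CommRing C] [HopfAlgebra k C]
  (φ : B →ₐc[k] A) (ψ : A →ₐc[k] C)

/-- right coinvariants of `ψ` lie in the range of `φ`. -/
theorem mem_range_of_rightCoinv (hψ : Function.Surjective ψ)
    (hker : RingHom.ker (ψ : A →ₐ[k] C) =
      Ideal.map (φ : B →ₐ[k] A) (RingHom.ker (Bialgebra.counitAlgHom k B)))
    (x : A) (hx : (ψ : A →ₐ[k] C).toLinearMap.lTensor A (comul (R := k) x) = x ⊗ₜ[k] (1 : C)) :
    x ∈ (φ : B →ₐ[k] A).range := by
  have hB : SGA3.IsHopfSubalgebra k A (φ : B →ₐ[k] A).range :=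
    (Groth.Agent.Lib.Helper84.HopfFFUnion.isHopfSub_iff _).2
      (Groth.Agent.Lib.Helper84.HopfFFEpi.isHopfSub_range φ)
  rw [← Groth.Agent.Lib.Helper84.CoinvSub.coinv_augIdealSpan _ hB,
    ← ker_eq_augIdealSpan φ ψ hker, Groth.Agent.Lib.Helper84.Coinv.mem_coinv]
  unfold Groth.Agent.Lib.Helper84.Coinv.IsCoinv
  let e : (A ⧸ RingHom.ker (ψ : A →ₐ[k] C)) ≃ₐ[k] C :=
    Ideal.quotientKerAlgEquivOfSurjective (f := (ψ : A →ₐ[k] C)) hψ
  have he : e.toLinearMap ∘ₗ (Ideal.Quotient.mkₐ k (RingHom.ker (ψ : A →ₐ[k] C))).toLinearMap =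
      (ψ : A →ₐ[k] C).toLinearMap := by
    ext a
    rfl
  have hinj : Function.Injective (e.toLinearEquiv.lTensor A) := (e.toLinearEquiv.lTensor A).injective
  apply hinj
  have h1 : ∀ t, (e.toLinearEquiv.lTensor A) t = (e.toLinearMap).lTensor A t := fun t => rfl
  rw [h1, h1, ← LinearMap.comp_apply, ← LinearMap.lTensor_comp, he, hx]
  simp

theorem psi_avg (I : C →ₗ[k] k)
    (hI : ∀ c : C, slice I (comul (R := k) c) = I c • (1 : C)) (a : A) :
    ψ (avg (I ∘ₗ (ψ : A →ₐ[k] C).toLinearMap) a) = I (ψ a) • (1 : C) := by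
  rw [avg_apply, map_slice_comp, ← comul_map, hI]

theorem avg_mem_range (hψ : Function.Surjective ψ)
    (hker : RingHom.ker (ψ : A →ₐ[k] C) =
      Ideal.map (φ : B →ₐ[k] A) (RingHom.ker (Bialgebra.counitAlgHom k B)))
    (I : C →ₗ[k] k)
    (hI : ∀ c : C, slice I (comul (R := k) c) = I c • (1 : C)) (a : A) :
    avg (I ∘ₗ (ψ : A →ₐ[k] C).toLinearMap) a ∈ (φ : B →ₐ[k] A).range := by
  apply mem_range_of_rightCoinv φ ψ hψ hker
  rw [comul_avg, ← LinearMap.comp_apply, ← LinearMap.lTensor_comp]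
  have h : (ψ : A →ₐ[k] C).toLinearMap ∘ₗ avg (I ∘ₗ (ψ : A →ₐ[k] C).toLinearMap) =
      (Algebra.linearMap k C) ∘ₗ (I ∘ₗ (ψ : A →ₐ[k] C).toLinearMap) := by
    ext b
    simp only [LinearMap.comp_apply, Algebra.linearMap_apply]
    have := psi_avg ψ I hI b
    rw [Algebra.algebraMap_eq_smul_one]
    exact this
  rw [h, lTensor_unit_comp]
  rfl

theorem hasIntegral_of_exact (hφ : Function.Injective φ) (hψ : Function.Surjective ψ)
    (hker : RingHom.ker (ψ : A →ₐ[k] C) =
      Ideal.map (φ : B →ₐ[k] A) (RingHom.ker (Bialgebra.counitAlgHom k B)))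
    (hK : HasIntegral k C) (hQ : HasIntegral k B) : HasIntegral k A := by
  obtain ⟨IK, hIK1, hIK⟩ := hK
  obtain ⟨IQ, hIQ1, hIQ⟩ := hQ
  obtain ⟨g, hg⟩ := LinearMap.exists_leftInverse_of_injective (φ : B →ₐ[k] A).toLinearMap
    (LinearMap.ker_eq_bot.2 hφ)
  have hgφ : ∀ b, g (φ b) = b := fun b => LinearMap.congr_fun hg b
  set f : A →ₗ[k] k := IK ∘ₗ (ψ : A →ₐ[k] C).toLinearMap with hf
  set J : A →ₗ[k] k := IQ ∘ₗ g with hJ
  have hJφ : J ∘ₗ (φ : B →ₐ[k] A).toLinearMap = IQ := by
    ext b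
    simp [hJ, hgφ]
  refine ⟨J ∘ₗ avg f, ?_, ?_⟩
  · have h1 : avg f 1 = 1 := by
      rw [avg_apply, Bialgebra.comul_one, Algebra.TensorProduct.one_def, slice_tmul, hf]
      simp [hIK1]
    rw [LinearMap.comp_apply, h1]
    have : (1 : A) = φ 1 := (map_one φ).symm
    rw [this, hJ, LinearMap.comp_apply, hgφ, hIQ1]
  · intro a
    obtain ⟨q, hq⟩ := avg_mem_range φ ψ hψ hker IK hIK a
    rw [slice_comp, ← comul_avg, LinearMap.comp_apply]
    have hq' : avg f a = φ q := hq.symm
    rw [hq', comul_map, ← map_slice_comp, hJφ, hIQ]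
    have : J (φ q) = IQ q := LinearMap.congr_fun hJφ q
    rw [this]
    simp

end Exact2


section FlatGen

theorem liftBaseChange_mem_span_ker {R S M N : Type*} [CommRing R] [CommRing S] [Algebra R S]
    [Module.Flat R S] [AddCommGroup M] [Module R M] [Module S M] [IsScalarTower R S M]
    [AddCommGroup N] [Module R N] (d : M →ₗ[R] N) (y : S ⊗[R] M) (hy : d.lTensor S y = 0) :
    (LinearMap.id (R := R) (M := M)).liftBaseChange S y ∈
      Submodule.span S (LinearMap.ker d : Set M) := by
  have hex : Function.Exact (LinearMap.ker d).subtype d := LinearMap.exact_subtype_ker_map d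
  have hex' := Module.Flat.lTensor_exact S hex
  obtain ⟨z, rfl⟩ := (hex' y).1 hy
  clear hy
  induction z using TensorProduct.induction_on with
  | zero => simp
  | tmul s m =>
    rw [LinearMap.lTensor_tmul, LinearMap.liftBaseChange_tmul]
    exact Submodule.smul_mem _ _ (Submodule.subset_span m.2)
  | add x y hx hy => 
    rw [map_add, map_add]
    exact Submodule.add_mem _ hx hy

end FlatGen

section Ind
variable {k : Type u} [Field k] {A B C : Type u} [CommRing A] [HopfAlgebra k A]
  [CommRing B] [HopfAlgebra k B] [CommRing C] [HopfAlgebra k C]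
  [Algebra B A] [IsScalarTower k B A]
  (φ : B →ₐc[k] A) (hφa : ∀ b, algebraMap B A b = φ b)
  (ψ : A →ₐc[k] C) (hψφ : ∀ b, ψ (φ b) = algebraMap k C (counit b))

/-- `a ↦ Σ a₂ ⊗ ψ a₁`, as an algebra map. -/
noncomputable def tauAlg : A →ₐ[k] A ⊗[k] C :=
  (Algebra.TensorProduct.map (AlgHom.id k A) (ψ : A →ₐ[k] C)).comp
    ((Algebra.TensorProduct.comm k A A).toAlgHom.comp (Bialgebra.comulAlgHom k A))

theorem tauAlg_apply (a : A) :
    tauAlg ψ a = (ψ : A →ₐ[k] C).toLinearMap.lTensor A (TensorProduct.comm k A A (comul a)) := by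
  unfold tauAlg
  simp only [AlgHom.comp_apply, Bialgebra.comulAlgHom_apply]
  generalize comul (R := k) a = t
  induction t using TensorProduct.induction_on with
  | zero => simp
  | tmul x y => simp
  | add x y hx hy => simp only [map_add, hx, hy]

include hψφ in
theorem tauAlg_phi (b : B) : tauAlg ψ (φ b) = φ b ⊗ₜ[k] (1 : C) := by
  rw [tauAlg_apply, comul_map]
  have key : ∀ t : B ⊗[k] B,
      (ψ : A →ₐ[k] C).toLinearMap.lTensor A (TensorProduct.comm k A A
        (TensorProduct.map (φ : B →ₐ[k] A).toLinearMap (φ : B →ₐ[k] A).toLinearMap t)) =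
      φ (TensorProduct.lid k B ((counit (R := k) (A := B)).rTensor B t)) ⊗ₜ[k] (1 : C) := by
    intro t
    induction t using TensorProduct.induction_on with
    | zero => simp
    | tmul x y =>
      simp only [TensorProduct.map_tmul, AlgHom.toLinearMap_apply, TensorProduct.comm_tmul,
        LinearMap.lTensor_tmul, LinearMap.rTensor_tmul, TensorProduct.lid_tmul]
      have h1 : (ψ : A →ₐ[k] C) ((φ : B →ₐ[k] A) x) = ψ (φ x) := rfl
      have h2 : (φ : B →ₐ[k] A) y = φ y := rfl
      rw [h1, h2, hψφ, Algebra.algebraMap_eq_smul_one, TensorProduct.tmul_smul, map_smul,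
        TensorProduct.smul_tmul']
    | add x y hx hy => simp only [map_add, hx, hy, TensorProduct.add_tmul]
  rw [key, Coalgebra.rTensor_counit_comul]
  simp

include hφa in
theorem smul_eq_mul_tmul (b : B) (t : A ⊗[k] C) : b • t = (φ b ⊗ₜ[k] (1 : C)) * t := by
  induction t using TensorProduct.induction_on with
  | zero => simp
  | tmul x y =>
    rw [TensorProduct.smul_tmul', Algebra.TensorProduct.tmul_mul_tmul, one_mul, Algebra.smul_def,
      hφa]
  | add x y hx hy => rw [smul_add, mul_add, hx, hy]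

/-- `tauAlg` as a `B`-linear map. -/
noncomputable def tauB : A →ₗ[B] A ⊗[k] C where
  toFun := tauAlg ψ
  map_add' := map_add _
  map_smul' b a := by
    rw [RingHom.id_apply, Algebra.smul_def, hφa, map_mul, tauAlg_phi φ ψ hψφ,
      smul_eq_mul_tmul φ hφa]

theorem tauB_apply (a : A) : tauB φ hφa ψ hψφ a = tauAlg ψ a := rfl

variable (V : Type u) [AddCommGroup V] [Module k V] [cV : HopfRep.Comod k C V]

/-- `a ⊗ v ↦ a ⊗ ρ v`. -/
noncomputable def d1 : A ⊗[k] V →ₗ[B] A ⊗[k] (V ⊗[k] C) :=
  TensorProduct.AlgebraTensorModule.lTensor B A (HopfRep.Comod.coact (k := k) (A := C) (V := V))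

/-- `a ⊗ v ↦ Σ a₂ ⊗ (v ⊗ ψ a₁)`. -/
noncomputable def d2 : A ⊗[k] V →ₗ[B] A ⊗[k] (V ⊗[k] C) :=
  (TensorProduct.AlgebraTensorModule.lTensor B A (TensorProduct.comm k C V).toLinearMap) ∘ₗ
    (TensorProduct.AlgebraTensorModule.assoc k k B A C V).toLinearMap ∘ₗ
    (TensorProduct.AlgebraTensorModule.rTensor k V (tauB φ hφa ψ hψφ))

variable {V}

theorem d1_tmul (a : A) (v : V) :
    d1 (B := B) V (a ⊗ₜ[k] v) = a ⊗ₜ[k] HopfRep.Comod.coact (k := k) (A := C) v := rfl

theorem d2_tmul (a : A) (v : V) :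
    d2 φ hφa ψ hψφ V (a ⊗ₜ[k] v) = (TensorProduct.mk k V C v).lTensor A (tauAlg ψ a) := by
  unfold d2
  simp only [LinearMap.comp_apply, TensorProduct.AlgebraTensorModule.rTensor_tmul, tauB_apply,
    LinearEquiv.coe_coe]
  generalize tauAlg ψ a = s
  induction s using TensorProduct.induction_on with
  | zero => simp
  | tmul x y => simp
  | add x y hx hy => simp only [TensorProduct.add_tmul, map_add, hx, hy]

variable (V) in
/-- the induced module `V □_C A` as a `B`-submodule of `A ⊗ V`. -/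
noncomputable def Ecot : Submodule B (A ⊗[k] V) :=
  LinearMap.ker (d1 (B := B) V - d2 φ hφa ψ hψφ V)

end Ind


section Theta
variable {k : Type u} [Field k] {A B C : Type u} [CommRing A] [HopfAlgebra k A]
  [CommRing B] [HopfAlgebra k B] [CommRing C] [HopfAlgebra k C]
  [Algebra B A] [IsScalarTower k B A]
  (φ : B →ₐc[k] A) (hφa : ∀ b, algebraMap B A b = φ b)
  (ψ : A →ₐc[k] C) (hψφ : ∀ b, ψ (φ b) = algebraMap k C (counit b))

/-- `x ⊗ y ↦ S y ⊗_B x`. -/
noncomputable def Pmap : A ⊗[k] A →ₗ[k] A ⊗[B] A :=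
  (TensorProduct.mapOfCompatibleSMul B k k A A) ∘ₗ
    (TensorProduct.map (HopfAlgebra.antipode k (A := A)) LinearMap.id) ∘ₗ
      (TensorProduct.comm k A A).toLinearMap

theorem Pmap_tmul (x y : A) :
    Pmap (k := k) (B := B) (x ⊗ₜ[k] y) = (HopfAlgebra.antipode k y) ⊗ₜ[B] x := by
  simp [Pmap]

/-- `θ` as an algebra map. -/
noncomputable def thetaAlg : A →ₐ[k] A ⊗[B] A :=
  (Algebra.TensorProduct.lift
    ((Algebra.TensorProduct.includeRight : A →ₐ[B] A ⊗[B] A).restrictScalars k)
    ((Algebra.TensorProduct.includeLeft (R := B) (S := k) : A →ₐ[k] A ⊗[B] A).comp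
      (HopfAlgebra.antipodeAlgHom k A))
    (fun _ _ => .all ..)).comp (Bialgebra.comulAlgHom k A)

theorem thetaAlg_apply (a : A) : thetaAlg (k := k) (B := B) a = Pmap (k := k) (B := B) (comul (R := k) a) := by
  unfold thetaAlg
  simp only [AlgHom.comp_apply, Bialgebra.comulAlgHom_apply]
  generalize comul (R := k) a = t
  induction t using TensorProduct.induction_on with
  | zero => simp
  | tmul x y => simp [Pmap_tmul, Algebra.TensorProduct.tmul_mul_tmul]
  | add x y hx hy => simp only [map_add, hx, hy]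

include hφa in
theorem thetaAlg_phi (b : B) :
    thetaAlg (k := k) (B := B) (φ b) = algebraMap k (A ⊗[B] A) (counit b) := by
  rw [thetaAlg_apply, comul_map]
  have key : ∀ t : B ⊗[k] B,
      Pmap (k := k) (B := B)
        (TensorProduct.map (φ : B →ₐ[k] A).toLinearMap (φ : B →ₐ[k] A).toLinearMap t) =
      φ (LinearMap.mul' k B ((HopfAlgebra.antipode k (A := B)).lTensor B t)) ⊗ₜ[B] (1 : A) := by
    intro t
    induction t using TensorProduct.induction_on with
    | zero => simp
    | tmul x y =>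
      simp only [TensorProduct.map_tmul, AlgHom.toLinearMap_apply, Pmap_tmul,
        LinearMap.lTensor_tmul, LinearMap.mul'_apply]
      have h1 : (φ : B →ₐ[k] A) x = algebraMap B A x := (hφa x).symm
      have h2 : (φ : B →ₐ[k] A) y = φ y := rfl
      rw [h1, h2, Algebra.algebraMap_eq_smul_one, ← TensorProduct.smul_tmul, map_mul,
        ← Groth.Agent.Lib.Helper84.HopfFFInf.bialgHom_antipode, Algebra.smul_def, hφa]
    | add x y hx hy => simp only [map_add, hx, hy, TensorProduct.add_tmul]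
  rw [key, HopfAlgebra.mul_antipode_lTensor_comul_apply]
  rw [Algebra.TensorProduct.algebraMap_apply]
  congr 1
  exact AlgHomClass.commutes φ _

include hφa in
theorem exists_Theta (hψ : Function.Surjective ψ)
    (hker : RingHom.ker (ψ : A →ₐ[k] C) =
      Ideal.map (φ : B →ₐ[k] A) (RingHom.ker (Bialgebra.counitAlgHom k B))) :
    ∃ Θ : C →ₗ[k] A ⊗[B] A, ∀ a : A, Θ (ψ a) = Pmap (k := k) (B := B) (comul (R := k) a) := by
  have hkill : ∀ a : A, ψ a = 0 → thetaAlg (k := k) (B := B) a = 0 := by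
    intro a ha
    have hmem : a ∈ RingHom.ker (ψ : A →ₐ[k] C) := ha
    rw [hker] at hmem
    have hle : Ideal.map (φ : B →ₐ[k] A) (RingHom.ker (Bialgebra.counitAlgHom k B)) ≤
        RingHom.ker (thetaAlg (k := k) (B := B)) := by
      rw [Ideal.map_le_iff_le_comap]
      intro q hq
      rw [Ideal.mem_comap, RingHom.mem_ker]
      change thetaAlg (k := k) (B := B) (φ q) = 0
      rw [thetaAlg_phi φ hφa]
      have : counit (R := k) q = 0 := hq
      rw [this, map_zero]
    exact hle hmem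
  obtain ⟨s, hs⟩ := LinearMap.exists_rightInverse_of_surjective (ψ : A →ₐ[k] C).toLinearMap
    (LinearMap.range_eq_top.2 hψ)
  refine ⟨(thetaAlg (k := k) (B := B)).toLinearMap ∘ₗ s, fun a => ?_⟩
  rw [← thetaAlg_apply]
  have h1 : ψ (s (ψ a)) = ψ a := LinearMap.congr_fun hs (ψ a)
  have h2 : ψ (s (ψ a) - a) = 0 := by rw [map_sub, h1, sub_self]
  have h3 := hkill _ h2
  rw [map_sub, sub_eq_zero] at h3
  exact h3

/-- `x ⊗ (a ⊗_B a') ↦ a ⊗_B (a' ⊗ x)`. -/
noncomputable def Gam (X : Type*) [AddCommGroup X] [Module k X] :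
    X ⊗[k] (A ⊗[B] A) →ₗ[k] A ⊗[B] (A ⊗[k] X) :=
  ((TensorProduct.AlgebraTensorModule.assoc k B B A A X).toLinearMap.restrictScalars k) ∘ₗ
    (TensorProduct.comm k X (A ⊗[B] A)).toLinearMap

theorem Gam_tmul {X : Type*} [AddCommGroup X] [Module k X] (x : X) (a a' : A) :
    Gam (k := k) (B := B) X (x ⊗ₜ[k] (a ⊗ₜ[B] a')) = a ⊗ₜ[B] (a' ⊗ₜ[k] x) := rfl

end Theta


section Main
variable {k : Type u} [Field k] {A B C : Type u} [CommRing A] [HopfAlgebra k A]
  [CommRing B] [HopfAlgebra k B] [CommRing C] [HopfAlgebra k C]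
  [Algebra B A] [IsScalarTower k B A]
  (φ : B →ₐc[k] A) (hφa : ∀ b, algebraMap B A b = φ b)
  (ψ : A →ₐc[k] C) (hψφ : ∀ b, ψ (φ b) = algebraMap k C (counit b))
  {V : Type u} [AddCommGroup V] [Module k V] [cV : HopfRep.Comod k C V]
  (Θ : C →ₗ[k] A ⊗[B] A) (hΘ : ∀ a : A, Θ (ψ a) = Pmap (k := k) (B := B) (comul (R := k) a))

/-- (2a) -/
theorem d1_Gam (v : V) (t : A ⊗[B] A) :
    (d1 (B := B) V).lTensor A (Gam (k := k) (B := B) V (v ⊗ₜ[k] t)) =
      Gam (k := k) (B := B) (V ⊗[k] C) (HopfRep.Comod.coact (k := k) (A := C) v ⊗ₜ[k] t) := by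
  induction t using TensorProduct.induction_on with
  | zero => simp
  | tmul a a' => 
    rw [Gam_tmul, Gam_tmul, LinearMap.lTensor_tmul, d1_tmul]
  | add x y hx hy => simp only [TensorProduct.tmul_add, map_add, hx, hy]

/-- (2b') -/
theorem d2_Gam_Pmap (v : V) (t : A ⊗[k] A) :
    (d2 φ hφa ψ hψφ V).lTensor A (Gam (k := k) (B := B) V (v ⊗ₜ[k] Pmap (k := k) (B := B) t)) =
      Gam (k := k) (B := B) (V ⊗[k] C)
        (TensorProduct.map ((TensorProduct.mk k V C v) ∘ₗ (ψ : A →ₐ[k] C).toLinearMap)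
          (Pmap (k := k) (B := B))
          (TensorProduct.assoc k A A A ((comul (R := k) (A := A)).rTensor A t))) := by
  induction t using TensorProduct.induction_on with
  | zero => simp
  | tmul x y =>
    rw [Pmap_tmul, Gam_tmul, LinearMap.lTensor_tmul, d2_tmul, tauAlg_apply, LinearMap.rTensor_tmul]
    generalize comul (R := k) x = s
    induction s using TensorProduct.induction_on with
    | zero => simp
    | tmul p q =>
      simp only [TensorProduct.comm_tmul, LinearMap.lTensor_tmul, TensorProduct.assoc_tmul,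
        TensorProduct.map_tmul, Pmap_tmul, Gam_tmul, LinearMap.comp_apply,
        AlgHom.toLinearMap_apply, TensorProduct.mk_apply]
    | add s s' hs hs' =>
      simp only [map_add, TensorProduct.add_tmul, TensorProduct.tmul_add, hs, hs']
  | add x y hx hy => simp only [TensorProduct.tmul_add, map_add, hx, hy]

include hΘ in
/-- (2b) -/
theorem d2_Gam_Theta (hψ : Function.Surjective ψ) (v : V) (c : C) :
    (d2 φ hφa ψ hψφ V).lTensor A (Gam (k := k) (B := B) V (v ⊗ₜ[k] Θ c)) =
      Gam (k := k) (B := B) (V ⊗[k] C)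
        (TensorProduct.map (TensorProduct.mk k V C v) Θ (comul (R := k) c)) := by
  obtain ⟨b, rfl⟩ := hψ c
  rw [hΘ, d2_Gam_Pmap, Coalgebra.coassoc_apply, comul_map]
  congr 1
  generalize comul (R := k) b = t
  induction t using TensorProduct.induction_on with
  | zero => simp
  | tmul x y =>
    simp only [LinearMap.lTensor_tmul, TensorProduct.map_tmul, LinearMap.comp_apply,
      AlgHom.toLinearMap_apply]
    have : (ψ : A →ₐ[k] C) y = ψ y := rfl
    rw [this, hΘ]
  | add x y hx hy => simp only [map_add, hx, hy]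

/-- step A1 -/
theorem d1_Gam_lTensor (w : V ⊗[k] C) :
    (d1 (B := B) V).lTensor A (Gam (k := k) (B := B) V (Θ.lTensor V w)) =
      Gam (k := k) (B := B) (V ⊗[k] C)
        (TensorProduct.map (HopfRep.Comod.coact (k := k) (A := C) (V := V)) Θ w) := by
  induction w using TensorProduct.induction_on with
  | zero => simp
  | tmul v c => rw [LinearMap.lTensor_tmul, d1_Gam, TensorProduct.map_tmul]
  | add x y hx hy => simp only [map_add, hx, hy]

include hΘ in
/-- step A2 -/
theorem d2_Gam_lTensor (hψ : Function.Surjective ψ) (w : V ⊗[k] C) :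
    (d2 φ hφa ψ hψφ V).lTensor A (Gam (k := k) (B := B) V (Θ.lTensor V w)) =
      Gam (k := k) (B := B) (V ⊗[k] C)
        (TensorProduct.map LinearMap.id Θ
          ((TensorProduct.assoc k V C C).symm ((comul (R := k) (A := C)).lTensor V w))) := by
  induction w using TensorProduct.induction_on with
  | zero => simp
  | tmul v c =>
    rw [LinearMap.lTensor_tmul, d2_Gam_Theta φ hφa ψ hψφ Θ hΘ hψ, LinearMap.lTensor_tmul]
    congr 1
    generalize comul (R := k) c = s
    induction s using TensorProduct.induction_on with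
    | zero => simp
    | tmul x y => simp
    | add x y hx hy => simp only [map_add, TensorProduct.tmul_add, hx, hy]
  | add x y hx hy => simp only [map_add, hx, hy]

include hΘ in
/-- (A): the element `y v` is killed by `d1 - d2` after base change. -/
theorem sub_lTensor_y (hψ : Function.Surjective ψ) (v : V) :
    (d1 (B := B) V - d2 φ hφa ψ hψφ V).lTensor A
      (Gam (k := k) (B := B) V (Θ.lTensor V (HopfRep.Comod.coact (k := k) (A := C) v))) = 0 := by
  rw [LinearMap.lTensor_sub, LinearMap.sub_apply, d1_Gam_lTensor,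
    d2_Gam_lTensor φ hφa ψ hψφ Θ hΘ hψ, sub_eq_zero]
  congr 1
  have hco := LinearMap.congr_fun (HopfRep.Comod.coassoc (k := k) (A := C) (V := V)) v
  simp only [LinearMap.comp_apply, LinearEquiv.coe_coe] at hco
  rw [← hco, LinearEquiv.symm_apply_apply]
  generalize HopfRep.Comod.coact (k := k) (A := C) v = w
  induction w using TensorProduct.induction_on with
  | zero => simp
  | tmul x y => simp
  | add x y hx hy => simp only [map_add, hx, hy]

theorem lift_Gam_Pmap (v : V) (t : A ⊗[k] A) :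
    (LinearMap.id (R := B) (M := A ⊗[k] V)).liftBaseChange A
      (Gam (k := k) (B := B) V (v ⊗ₜ[k] Pmap (k := k) (B := B) t)) =
      (LinearMap.mul' k A ((HopfAlgebra.antipode k (A := A)).lTensor A t)) ⊗ₜ[k] v := by
  induction t using TensorProduct.induction_on with
  | zero => simp
  | tmul x y =>
    rw [Pmap_tmul, Gam_tmul, LinearMap.liftBaseChange_tmul, LinearMap.id_apply,
      TensorProduct.smul_tmul', smul_eq_mul, LinearMap.lTensor_tmul, LinearMap.mul'_apply,
      mul_comm]
  | add x y hx hy => simp only [TensorProduct.tmul_add, map_add, hx, hy, TensorProduct.add_tmul]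

include hΘ in
theorem lift_Gam_lTensor (hψ : Function.Surjective ψ) (w : V ⊗[k] C) :
    (LinearMap.id (R := B) (M := A ⊗[k] V)).liftBaseChange A
      (Gam (k := k) (B := B) V (Θ.lTensor V w)) =
      (1 : A) ⊗ₜ[k] (TensorProduct.rid k V ((counit (R := k) (A := C)).lTensor V w)) := by
  induction w using TensorProduct.induction_on with
  | zero => simp
  | tmul v c =>
    obtain ⟨b, rfl⟩ := hψ c
    rw [LinearMap.lTensor_tmul, hΘ, lift_Gam_Pmap, HopfAlgebra.mul_antipode_lTensor_comul_apply,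
      LinearMap.lTensor_tmul, TensorProduct.rid_tmul]
    have : counit (R := k) (ψ b) = counit (R := k) b := CoalgHomClass.counit_comp_apply ψ b
    rw [this, Algebra.algebraMap_eq_smul_one, TensorProduct.smul_tmul]
  | add x y hx hy => simp only [map_add, hx, hy, TensorProduct.tmul_add]

include hΘ in
/-- (B): multiplying out `y v` gives `1 ⊗ v`. -/
theorem lift_y (hψ : Function.Surjective ψ) (v : V) :
    (LinearMap.id (R := B) (M := A ⊗[k] V)).liftBaseChange A
      (Gam (k := k) (B := B) V (Θ.lTensor V (HopfRep.Comod.coact (k := k) (A := C) v))) =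
      (1 : A) ⊗ₜ[k] v := by
  rw [lift_Gam_lTensor ψ Θ hΘ hψ]
  have hcu := LinearMap.congr_fun (HopfRep.Comod.counit_comp (k := k) (A := C) (V := V)) v
  simp only [LinearMap.comp_apply] at hcu
  rw [hcu]
  simp

include hΘ in
/-- `A · (V □_C A) = A ⊗ V` when `A` is flat over `B`. -/
theorem span_Ecot_eq_top [Module.Flat B A] (hψ : Function.Surjective ψ) :
    Submodule.span A (Ecot φ hφa ψ hψφ V : Set (A ⊗[k] V)) = ⊤ := by
  rw [eq_top_iff]
  have h1 : ∀ v : V, (1 : A) ⊗ₜ[k] v ∈ Submodule.span A (Ecot φ hφa ψ hψφ V : Set (A ⊗[k] V)) := by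
    intro v
    rw [← lift_y ψ Θ hΘ hψ v]
    exact liftBaseChange_mem_span_ker _ _ (sub_lTensor_y φ hφa ψ hψφ Θ hΘ hψ v)
  intro x _
  induction x using TensorProduct.induction_on with
  | zero => exact Submodule.zero_mem _
  | tmul a v =>
    have : a ⊗ₜ[k] v = a • ((1 : A) ⊗ₜ[k] v) := by
      rw [TensorProduct.smul_tmul', smul_eq_mul, mul_one]
    rw [this]
    exact Submodule.smul_mem _ _ (h1 v)
  | add x y hx hy => exact Submodule.add_mem _ (hx trivial) (hy trivial)

end Main


section Antipode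
variable {k : Type u} [Field k] {A : Type u} [CommRing A] [HopfAlgebra k A]

theorem antipode_antipode (a : A) :
    HopfAlgebra.antipode k (HopfAlgebra.antipode k a) = a := by
  have h := inv_inv (WithConv.toConv (AlgHom.id k A))
  have h2 := congrArg (fun f => f.ofConv a) h
  exact h2

end Antipode

section LeftCoinv
variable {k : Type u} [Field k] {A B C : Type u} [CommRing A] [HopfAlgebra k A]
  [CommRing B] [HopfAlgebra k B] [CommRing C] [HopfAlgebra k C]
  (φ : B →ₐc[k] A) (ψ : A →ₐc[k] C)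

/-- left coinvariants of `ψ` lie in the range of `φ`. -/
theorem mem_range_of_leftCoinv (hψ : Function.Surjective ψ)
    (hker : RingHom.ker (ψ : A →ₐ[k] C) =
      Ideal.map (φ : B →ₐ[k] A) (RingHom.ker (Bialgebra.counitAlgHom k B)))
    (a : A) (ha : tauAlg ψ a = a ⊗ₜ[k] (1 : C)) :
    a ∈ (φ : B →ₐ[k] A).range := by
  have h1 : (ψ : A →ₐ[k] C).toLinearMap.lTensor A (comul (R := k) (HopfAlgebra.antipode k a)) =
      HopfAlgebra.antipode k a ⊗ₜ[k] (1 : C) := by
    rw [Groth.Agent.Lib.Helper84.comul_antipode]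
    have key : ∀ s : A ⊗[k] A,
        (ψ : A →ₐ[k] C).toLinearMap.lTensor A
          (TensorProduct.map (HopfAlgebra.antipode k) (HopfAlgebra.antipode k) s) =
        TensorProduct.map (HopfAlgebra.antipode k) (HopfAlgebra.antipode k)
          ((ψ : A →ₐ[k] C).toLinearMap.lTensor A s) := by
      intro s
      induction s using TensorProduct.induction_on with
      | zero => simp
      | tmul x y =>
        simp only [TensorProduct.map_tmul, LinearMap.lTensor_tmul, AlgHom.toLinearMap_apply]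
        have : (ψ : A →ₐ[k] C) (HopfAlgebra.antipode k y) = ψ (HopfAlgebra.antipode k y) := rfl
        rw [this, Groth.Agent.Lib.Helper84.HopfFFInf.bialgHom_antipode]
        rfl
      | add x y hx hy => simp only [map_add, hx, hy]
    rw [key, ← tauAlg_apply, ha, TensorProduct.map_tmul, HopfAlgebra.antipode_one]
  obtain ⟨q, hq⟩ := mem_range_of_rightCoinv φ ψ hψ hker _ h1
  refine ⟨HopfAlgebra.antipode k q, ?_⟩
  have h2 : (φ : B →ₐ[k] A) (HopfAlgebra.antipode k q) = φ (HopfAlgebra.antipode k q) := rfl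
  have h3 : φ q = HopfAlgebra.antipode k a := hq
  change (φ : B →ₐ[k] A) (HopfAlgebra.antipode k q) = a
  rw [h2, Groth.Agent.Lib.Helper84.HopfFFInf.bialgHom_antipode, h3, antipode_antipode]

end LeftCoinv

section Final
variable {k : Type u} [Field k] {A B C : Type u} [CommRing A] [HopfAlgebra k A]
  [CommRing B] [HopfAlgebra k B] [CommRing C] [HopfAlgebra k C]
  [Algebra B A] [IsScalarTower k B A]
  (φ : B →ₐc[k] A) (hφa : ∀ b, algebraMap B A b = φ b)
  (ψ : A →ₐc[k] C) (hψφ : ∀ b, ψ (φ b) = algebraMap k C (counit b))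
  {V : Type u} [AddCommGroup V] [Module k V] [cV : HopfRep.Comod k C V]
  (π : V →ₗ[k] k)

/-- `a ⊗ v ↦ π v • a`. -/
noncomputable def pr : A ⊗[k] V →ₗ[A] A :=
  (TensorProduct.AlgebraTensorModule.rid k A A).toLinearMap ∘ₗ
    (TensorProduct.AlgebraTensorModule.lTensor A A π)

omit cV in
theorem pr_tmul (a : A) (v : V) : pr π (a ⊗ₜ[k] v) = π v • a := by
  simp [pr]

/-- `a ⊗ (v ⊗ c) ↦ a ⊗ π v • c`. -/
noncomputable def qr : A ⊗[k] (V ⊗[k] C) →ₗ[k] A ⊗[k] C :=
  ((TensorProduct.lid k C).toLinearMap ∘ₗ π.rTensor C).lTensor A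

theorem qr_d1 (hπ : LinearMap.rTensor C π ∘ₗ HopfRep.Comod.coact (k := k) (A := C) (V := V) =
      (TensorProduct.mk k k C).flip (1 : C) ∘ₗ π) (x : A ⊗[k] V) :
    qr (C := C) π (d1 (B := B) V x) = pr π x ⊗ₜ[k] (1 : C) := by
  induction x using TensorProduct.induction_on with
  | zero => simp
  | tmul a v =>
    have h := LinearMap.congr_fun hπ v
    simp only [LinearMap.comp_apply, LinearMap.flip_apply, TensorProduct.mk_apply] at h
    rw [d1_tmul, pr_tmul, qr, LinearMap.lTensor_tmul, LinearMap.comp_apply, h]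
    simp only [LinearEquiv.coe_coe, TensorProduct.lid_tmul]
    rw [TensorProduct.tmul_smul, TensorProduct.smul_tmul']
  | add x y hx hy => simp only [map_add, hx, hy, TensorProduct.add_tmul]

theorem qr_d2 (x : A ⊗[k] V) :
    qr (C := C) π (d2 φ hφa ψ hψφ V x) = tauAlg ψ (pr π x) := by
  induction x using TensorProduct.induction_on with
  | zero => simp
  | tmul a v =>
    rw [d2_tmul, pr_tmul, map_smul, qr]
    generalize tauAlg ψ a = s
    induction s using TensorProduct.induction_on with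
    | zero => simp
    | tmul x c => simp [TensorProduct.tmul_smul]
    | add s s' hs hs' => simp only [map_add, smul_add, hs, hs']
  | add x y hx hy => simp only [map_add, hx, hy]

/-- J1 -/
theorem tauAlg_pr_of_mem (hπ : LinearMap.rTensor C π ∘ₗ
      HopfRep.Comod.coact (k := k) (A := C) (V := V) =
      (TensorProduct.mk k k C).flip (1 : C) ∘ₗ π) (x : A ⊗[k] V)
    (hx : x ∈ Ecot φ hφa ψ hψφ V) :
    tauAlg ψ (pr π x) = pr π x ⊗ₜ[k] (1 : C) := by
  have h : d1 (B := B) V x = d2 φ hφa ψ hψφ V x := by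
    have := hx
    rw [Ecot, LinearMap.mem_ker, LinearMap.sub_apply, sub_eq_zero] at this
    exact this
  rw [← qr_d2 φ hφa ψ hψφ π, ← h, qr_d1 π hπ]

/-- J3: some element of the induced module maps to `1`. -/
theorem exists_mem_Ecot_pr_eq_one [Module.FaithfullyFlat B A]
    (hψ : Function.Surjective ψ)
    (hker : RingHom.ker (ψ : A →ₐ[k] C) =
      Ideal.map (φ : B →ₐ[k] A) (RingHom.ker (Bialgebra.counitAlgHom k B)))
    (hπs : Function.Surjective π)
    (hπ : LinearMap.rTensor C π ∘ₗ HopfRep.Comod.coact (k := k) (A := C) (V := V) =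
      (TensorProduct.mk k k C).flip (1 : C) ∘ₗ π) :
    ∃ x ∈ Ecot φ hφa ψ hψφ V, pr π x = 1 := by
  obtain ⟨Θ, hΘ⟩ := exists_Theta φ hφa ψ hψ hker
  have htop := span_Ecot_eq_top φ hφa ψ hψφ (V := V) Θ hΘ hψ
  -- the `B`-submodule `p(E)` of `A` and its pullback to `B`
  let N : Submodule B A := Submodule.map ((pr (A := A) π).restrictScalars B) (Ecot φ hφa ψ hψφ V)
  let J : Ideal B := N.comap (Algebra.linearMap B A)
  have hJ : ∀ x ∈ Ecot φ hφa ψ hψφ V, pr π x ∈ Ideal.map (algebraMap B A) J := by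
    intro x hx
    obtain ⟨q, hq⟩ := mem_range_of_leftCoinv φ ψ hψ hker _
      (tauAlg_pr_of_mem φ hφa ψ hψφ π hπ x hx)
    have hq' : algebraMap B A q = pr π x := by rw [hφa]; exact hq
    rw [← hq']
    apply Ideal.mem_map_of_mem
    change Algebra.linearMap B A q ∈ N
    rw [Algebra.linearMap_apply, hq']
    exact ⟨x, hx, rfl⟩
  have hall : ∀ x ∈ Submodule.span A (Ecot φ hφa ψ hψφ V : Set (A ⊗[k] V)),
      pr π x ∈ Ideal.map (algebraMap B A) J := by
    intro x hx
    induction hx using Submodule.span_induction with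
    | mem x hx => exact hJ x hx
    | zero => rw [map_zero]; exact Submodule.zero_mem _
    | add x y _ _ hx hy => rw [map_add]; exact Submodule.add_mem _ hx hy
    | smul a x _ hx => rw [map_smul]; exact Ideal.mul_mem_left _ a hx
  obtain ⟨v₀, hv₀⟩ := hπs 1
  have h1 : (1 : A) ∈ Ideal.map (algebraMap B A) J := by
    have := hall ((1 : A) ⊗ₜ[k] v₀) (by rw [htop]; trivial)
    rw [pr_tmul, hv₀, one_smul] at this
    exact this
  have h2 : Ideal.map (algebraMap B A) J = ⊤ := (Ideal.eq_top_iff_one _).2 h1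
  have h3 : J = ⊤ := by
    rw [← Ideal.comap_map_eq_self_of_faithfullyFlat (B := A) J, h2, Ideal.comap_top]
  have h4 : (1 : B) ∈ J := by rw [h3]; trivial
  have h5 : Algebra.linearMap B A 1 ∈ N := h4
  rw [Algebra.linearMap_apply, map_one] at h5
  obtain ⟨x, hx, hx1⟩ := h5
  exact ⟨x, hx, hx1⟩

/-- contraction with a form on `A`. -/
noncomputable def ctr (X : Type*) [AddCommGroup X] [Module k X] (I : A →ₗ[k] k) :
    A ⊗[k] X →ₗ[k] X :=
  (TensorProduct.lid k X).toLinearMap ∘ₗ I.rTensor X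

omit [Algebra B A] [IsScalarTower k B A] in
theorem ctr_tmul {X : Type*} [AddCommGroup X] [Module k X] (I : A →ₗ[k] k) (a : A) (x : X) :
    ctr X I (a ⊗ₜ[k] x) = I a • x := by
  simp [ctr]

omit cV in
theorem pi_ctr (I : A →ₗ[k] k) (x : A ⊗[k] V) : π (ctr V I x) = I (pr π x) := by
  induction x using TensorProduct.induction_on with
  | zero => simp
  | tmul a v => rw [ctr_tmul, pr_tmul, map_smul, map_smul, smul_eq_mul, smul_eq_mul, mul_comm]
  | add x y hx hy => simp only [map_add, hx, hy]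

theorem coact_ctr (I : A →ₗ[k] k) (x : A ⊗[k] V) :
    HopfRep.Comod.coact (k := k) (A := C) (ctr V I x) = ctr (V ⊗[k] C) I (d1 (B := B) V x) := by
  induction x using TensorProduct.induction_on with
  | zero => simp
  | tmul a v => rw [ctr_tmul, d1_tmul, ctr_tmul, map_smul]
  | add x y hx hy => simp only [map_add, hx, hy]

theorem ctr_d2 (I : A →ₗ[k] k)
    (hI : ∀ a : A, slice I (comul (R := k) a) = I a • (1 : A)) (x : A ⊗[k] V) :
    ctr (V ⊗[k] C) I (d2 φ hφa ψ hψφ V x) = ctr V I x ⊗ₜ[k] (1 : C) := by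
  induction x using TensorProduct.induction_on with
  | zero => simp
  | tmul a v =>
    rw [d2_tmul, tauAlg_apply, ctr_tmul]
    have key : ∀ s : A ⊗[k] A,
        ctr (V ⊗[k] C) I ((TensorProduct.mk k V C v).lTensor A
          ((ψ : A →ₐ[k] C).toLinearMap.lTensor A (TensorProduct.comm k A A s))) =
        v ⊗ₜ[k] ψ (slice I s) := by
      intro s
      induction s using TensorProduct.induction_on with
      | zero => simp
      | tmul x y =>
        simp only [TensorProduct.comm_tmul, LinearMap.lTensor_tmul, ctr_tmul, slice_tmul,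
          TensorProduct.mk_apply, AlgHom.toLinearMap_apply, map_smul, TensorProduct.tmul_smul]
        rfl
      | add s s' hs hs' => simp only [map_add, hs, hs', TensorProduct.tmul_add]
    rw [key, hI, map_smul, map_one, TensorProduct.tmul_smul, TensorProduct.smul_tmul']
  | add x y hx hy => simp only [map_add, hx, hy, TensorProduct.add_tmul]

include hφa hψφ in
/-- `G` linearly reductive ⇒ `K` satisfies the fixed-vector criterion. -/
theorem cond_of_hasIntegral [Module.FaithfullyFlat B A]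
    (hψ : Function.Surjective ψ)
    (hker : RingHom.ker (ψ : A →ₐ[k] C) =
      Ideal.map (φ : B →ₐ[k] A) (RingHom.ker (Bialgebra.counitAlgHom k B)))
    (hG : HasIntegral k A) : Groth.Agent.Lib.Helper84.LinRedKL.Cond k C := by
  obtain ⟨I, hI1, hI⟩ := hG
  intro V _ _ cV _ π hπs hπ
  obtain ⟨x, hx, hx1⟩ := exists_mem_Ecot_pr_eq_one φ hφa ψ hψφ π hψ hker hπs hπ
  refine ⟨ctr V I x, ?_, ?_⟩
  · change HopfRep.Comod.coact (k := k) (A := C) (ctr V I x) = ctr V I x ⊗ₜ[k] (1 : C)
    have h : d1 (B := B) V x = d2 φ hφa ψ hψφ V x := by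
      have := hx
      rw [Ecot, LinearMap.mem_ker, LinearMap.sub_apply, sub_eq_zero] at this
      exact this
    rw [coact_ctr (B := B), h, ctr_d2 φ hφa ψ hψφ I hI]
  · rw [pi_ctr, hx1, hI1]
    exact one_ne_zero

end Final


end Groth.Agent.Lib.Helper68.LinRedExact
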