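import Mathlib
import Groth.Agent.Lib.Helper68.LinRedExact
import Groth.Agent.Lib.Helper84.Antipode
import Groth.Agent.Lib.Helper84.HopfFFInf

/-!
# Linear reductivity of a subgroup with affine quotient: abstract torsor form (helper68)

Generalisation of the induction argument of `LinRedExact`: `A`, `C` commutative Hopf algebras,
`ψ : A → C` a surjective bialgebra map, `B` any commutative `k`-algebra with `A` a faithfully flat
`B`-algebra such that `B` maps into the left coinvariants of `ψ` (`hτ`), the left coinvariants are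
exactly the image of `B` (`hL`) and there is a linear map `Θ : C → A ⊗_B A` with
`Θ (ψ a) = Σ S a₂ ⊗ a₁`.  Then an integral on `A` yields the fixed-vector criterion for `C`.
-/

set_option autoImplicit false
set_option linter.unusedSectionVars false
set_option linter.style.haveILetI false
universe u
open TensorProduct

namespace Groth.Agent.Lib.Helper68.LinRedExact2

open Groth.Agent.H40 Groth.Agent.Lib.Helper84.LinRedInt Coalgebra
open Groth.Agent.Lib.Helper68.LinRedExact (tauAlg tauAlg_apply ctr ctr_tmul pr pr_tmul qr pi_ctr comul_map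
  liftBaseChange_mem_span_ker)

section Gen
variable {k : Type u} [Field k] {A B C : Type u} [CommRing A] [HopfAlgebra k A]
  [CommRing B] [Algebra k B] [CommRing C] [HopfAlgebra k C]
  [Algebra B A] [IsScalarTower k B A]
  (ψ : A →ₐc[k] C)
  (hτ : ∀ b : B, tauAlg ψ (algebraMap B A b) = algebraMap B A b ⊗ₜ[k] (1 : C))

theorem smul_eq_mul_tmul (b : B) (t : A ⊗[k] C) :
    b • t = (algebraMap B A b ⊗ₜ[k] (1 : C)) * t := by
  induction t using TensorProduct.induction_on with
  | zero => simp
  | tmul x y =>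
    rw [TensorProduct.smul_tmul', Algebra.TensorProduct.tmul_mul_tmul, one_mul, Algebra.smul_def]
  | add x y hx hy => rw [smul_add, mul_add, hx, hy]

/-- `tauAlg` as a `B`-linear map. -/
noncomputable def tauB : A →ₗ[B] A ⊗[k] C where
  toFun := tauAlg ψ
  map_add' := map_add _
  map_smul' b a := by
    rw [RingHom.id_apply, Algebra.smul_def, map_mul, hτ, smul_eq_mul_tmul]

theorem tauB_apply (a : A) : tauB ψ hτ a = tauAlg ψ a := rfl

variable (V : Type u) [AddCommGroup V] [Module k V] [cV : HopfRep.Comod k C V]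

/-- `a ⊗ v ↦ a ⊗ ρ v`. -/
noncomputable def d1 : A ⊗[k] V →ₗ[B] A ⊗[k] (V ⊗[k] C) :=
  TensorProduct.AlgebraTensorModule.lTensor B A (HopfRep.Comod.coact (k := k) (A := C) (V := V))

/-- `a ⊗ v ↦ Σ a₂ ⊗ (v ⊗ ψ a₁)`. -/
noncomputable def d2 : A ⊗[k] V →ₗ[B] A ⊗[k] (V ⊗[k] C) :=
  (TensorProduct.AlgebraTensorModule.lTensor B A (TensorProduct.comm k C V).toLinearMap) ∘ₗ
    (TensorProduct.AlgebraTensorModule.assoc k k B A C V).toLinearMap ∘ₗ
    (TensorProduct.AlgebraTensorModule.rTensor k V (tauB ψ hτ))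

variable {V}

theorem d1_tmul (a : A) (v : V) :
    d1 (B := B) V (a ⊗ₜ[k] v) = a ⊗ₜ[k] HopfRep.Comod.coact (k := k) (A := C) v := rfl

theorem d2_tmul (a : A) (v : V) :
    d2 ψ hτ V (a ⊗ₜ[k] v) = (TensorProduct.mk k V C v).lTensor A (tauAlg ψ a) := by
  unfold d2
  simp only [LinearMap.comp_apply, TensorProduct.AlgebraTensorModule.rTensor_tmul, tauB_apply,
    LinearEquiv.coe_coe]
  generalize tauAlg ψ a = s
  induction s using TensorProduct.induction_on with
  | zero => simp
  | tmul x y => simp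
  | add x y hx hy => simp only [TensorProduct.add_tmul, map_add, hx, hy]

variable (V) in
/-- the induced module `V □_C A` as a `B`-submodule of `A ⊗ V`. -/
noncomputable def Ecot : Submodule B (A ⊗[k] V) :=
  LinearMap.ker (d1 (B := B) V - d2 ψ hτ V)

/-- `x ⊗ y ↦ S y ⊗_B x`. -/
noncomputable def Pmap : A ⊗[k] A →ₗ[k] A ⊗[B] A :=
  (TensorProduct.mapOfCompatibleSMul B k k A A) ∘ₗ
    (TensorProduct.map (HopfAlgebra.antipode k (A := A)) LinearMap.id) ∘ₗ
      (TensorProduct.comm k A A).toLinearMap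

theorem Pmap_tmul (x y : A) :
    Pmap (k := k) (B := B) (x ⊗ₜ[k] y) = (HopfAlgebra.antipode k y) ⊗ₜ[B] x := by
  simp [Pmap]


/-- `x ⊗ (a ⊗_B a') ↦ a ⊗_B (a' ⊗ x)`. -/
noncomputable def Gam (X : Type*) [AddCommGroup X] [Module k X] :
    X ⊗[k] (A ⊗[B] A) →ₗ[k] A ⊗[B] (A ⊗[k] X) :=
  ((TensorProduct.AlgebraTensorModule.assoc k B B A A X).toLinearMap.restrictScalars k) ∘ₗ
    (TensorProduct.comm k X (A ⊗[B] A)).toLinearMap

theorem Gam_tmul {X : Type*} [AddCommGroup X] [Module k X] (x : X) (a a' : A) :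
    Gam (k := k) (B := B) X (x ⊗ₜ[k] (a ⊗ₜ[B] a')) = a ⊗ₜ[B] (a' ⊗ₜ[k] x) := rfl

end Gen

section Main
variable {k : Type u} [Field k] {A B C : Type u} [CommRing A] [HopfAlgebra k A]
  [CommRing B] [Algebra k B] [CommRing C] [HopfAlgebra k C]
  [Algebra B A] [IsScalarTower k B A]
  (ψ : A →ₐc[k] C)
  (hτ : ∀ b : B, tauAlg ψ (algebraMap B A b) = algebraMap B A b ⊗ₜ[k] (1 : C))
variable {V : Type u} [AddCommGroup V] [Module k V] [cV : HopfRep.Comod k C V]
  (Θ : C →ₗ[k] A ⊗[B] A) (hΘ : ∀ a : A, Θ (ψ a) = Pmap (k := k) (B := B) (comul (R := k) a))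

/-- (2a) -/
theorem d1_Gam (v : V) (t : A ⊗[B] A) :
    (d1 (B := B) V).lTensor A (Gam (k := k) (B := B) V (v ⊗ₜ[k] t)) =
      Gam (k := k) (B := B) (V ⊗[k] C) (HopfRep.Comod.coact (k := k) (A := C) v ⊗ₜ[k] t) := by
  induction t using TensorProduct.induction_on with
  | zero => simp
  | tmul a a' => 
    rw [Gam_tmul, Gam_tmul, LinearMap.lTensor_tmul, d1_tmul]
  | add x y hx hy => simp only [TensorProduct.tmul_add, map_add, hx, hy]

/-- (2b') -/
theorem d2_Gam_Pmap (v : V) (t : A ⊗[k] A) :
    (d2 ψ hτ V).lTensor A (Gam (k := k) (B := B) V (v ⊗ₜ[k] Pmap (k := k) (B := B) t)) =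
      Gam (k := k) (B := B) (V ⊗[k] C)
        (TensorProduct.map ((TensorProduct.mk k V C v) ∘ₗ (ψ : A →ₐ[k] C).toLinearMap)
          (Pmap (k := k) (B := B))
          (TensorProduct.assoc k A A A ((comul (R := k) (A := A)).rTensor A t))) := by
  induction t using TensorProduct.induction_on with
  | zero => simp
  | tmul x y =>
    rw [Pmap_tmul, Gam_tmul, LinearMap.lTensor_tmul, d2_tmul, tauAlg_apply, LinearMap.rTensor_tmul]
    generalize comul (R := k) x = s
    induction s using TensorProduct.induction_on with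
    | zero => simp
    | tmul p q =>
      simp only [TensorProduct.comm_tmul, LinearMap.lTensor_tmul, TensorProduct.assoc_tmul,
        TensorProduct.map_tmul, Pmap_tmul, Gam_tmul, LinearMap.comp_apply,
        AlgHom.toLinearMap_apply, TensorProduct.mk_apply]
    | add s s' hs hs' =>
      simp only [map_add, TensorProduct.add_tmul, TensorProduct.tmul_add, hs, hs']
  | add x y hx hy => simp only [TensorProduct.tmul_add, map_add, hx, hy]

include hΘ in
/-- (2b) -/
theorem d2_Gam_Theta (hψ : Function.Surjective ψ) (v : V) (c : C) :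
    (d2 ψ hτ V).lTensor A (Gam (k := k) (B := B) V (v ⊗ₜ[k] Θ c)) =
      Gam (k := k) (B := B) (V ⊗[k] C)
        (TensorProduct.map (TensorProduct.mk k V C v) Θ (comul (R := k) c)) := by
  obtain ⟨b, rfl⟩ := hψ c
  rw [hΘ, d2_Gam_Pmap, Coalgebra.coassoc_apply, comul_map]
  congr 1
  generalize comul (R := k) b = t
  induction t using TensorProduct.induction_on with
  | zero => simp
  | tmul x y =>
    simp only [LinearMap.lTensor_tmul, TensorProduct.map_tmul, LinearMap.comp_apply,
      AlgHom.toLinearMap_apply]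
    have : (ψ : A →ₐ[k] C) y = ψ y := rfl
    rw [this, hΘ]
  | add x y hx hy => simp only [map_add, hx, hy]

/-- step A1 -/
theorem d1_Gam_lTensor (w : V ⊗[k] C) :
    (d1 (B := B) V).lTensor A (Gam (k := k) (B := B) V (Θ.lTensor V w)) =
      Gam (k := k) (B := B) (V ⊗[k] C)
        (TensorProduct.map (HopfRep.Comod.coact (k := k) (A := C) (V := V)) Θ w) := by
  induction w using TensorProduct.induction_on with
  | zero => simp
  | tmul v c => rw [LinearMap.lTensor_tmul, d1_Gam, TensorProduct.map_tmul]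
  | add x y hx hy => simp only [map_add, hx, hy]

include hΘ in
/-- step A2 -/
theorem d2_Gam_lTensor (hψ : Function.Surjective ψ) (w : V ⊗[k] C) :
    (d2 ψ hτ V).lTensor A (Gam (k := k) (B := B) V (Θ.lTensor V w)) =
      Gam (k := k) (B := B) (V ⊗[k] C)
        (TensorProduct.map LinearMap.id Θ
          ((TensorProduct.assoc k V C C).symm ((comul (R := k) (A := C)).lTensor V w))) := by
  induction w using TensorProduct.induction_on with
  | zero => simp
  | tmul v c =>
    rw [LinearMap.lTensor_tmul, d2_Gam_Theta ψ hτ Θ hΘ hψ, LinearMap.lTensor_tmul]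
    congr 1
    generalize comul (R := k) c = s
    induction s using TensorProduct.induction_on with
    | zero => simp
    | tmul x y => simp
    | add x y hx hy => simp only [map_add, TensorProduct.tmul_add, hx, hy]
  | add x y hx hy => simp only [map_add, hx, hy]

include hΘ in
/-- (A): the element `y v` is killed by `d1 - d2` after base change. -/
theorem sub_lTensor_y (hψ : Function.Surjective ψ) (v : V) :
    (d1 (B := B) V - d2 ψ hτ V).lTensor A
      (Gam (k := k) (B := B) V (Θ.lTensor V (HopfRep.Comod.coact (k := k) (A := C) v))) = 0 := by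
  rw [LinearMap.lTensor_sub, LinearMap.sub_apply, d1_Gam_lTensor,
    d2_Gam_lTensor ψ hτ Θ hΘ hψ, sub_eq_zero]
  congr 1
  have hco := LinearMap.congr_fun (HopfRep.Comod.coassoc (k := k) (A := C) (V := V)) v
  simp only [LinearMap.comp_apply, LinearEquiv.coe_coe] at hco
  rw [← hco, LinearEquiv.symm_apply_apply]
  generalize HopfRep.Comod.coact (k := k) (A := C) v = w
  induction w using TensorProduct.induction_on with
  | zero => simp
  | tmul x y => simp
  | add x y hx hy => simp only [map_add, hx, hy]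

theorem lift_Gam_Pmap (v : V) (t : A ⊗[k] A) :
    (LinearMap.id (R := B) (M := A ⊗[k] V)).liftBaseChange A
      (Gam (k := k) (B := B) V (v ⊗ₜ[k] Pmap (k := k) (B := B) t)) =
      (LinearMap.mul' k A ((HopfAlgebra.antipode k (A := A)).lTensor A t)) ⊗ₜ[k] v := by
  induction t using TensorProduct.induction_on with
  | zero => simp
  | tmul x y =>
    rw [Pmap_tmul, Gam_tmul, LinearMap.liftBaseChange_tmul, LinearMap.id_apply,
      TensorProduct.smul_tmul', smul_eq_mul, LinearMap.lTensor_tmul, LinearMap.mul'_apply,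
      mul_comm]
  | add x y hx hy => simp only [TensorProduct.tmul_add, map_add, hx, hy, TensorProduct.add_tmul]

include hΘ in
theorem lift_Gam_lTensor (hψ : Function.Surjective ψ) (w : V ⊗[k] C) :
    (LinearMap.id (R := B) (M := A ⊗[k] V)).liftBaseChange A
      (Gam (k := k) (B := B) V (Θ.lTensor V w)) =
      (1 : A) ⊗ₜ[k] (TensorProduct.rid k V ((counit (R := k) (A := C)).lTensor V w)) := by
  induction w using TensorProduct.induction_on with
  | zero => simp
  | tmul v c =>
    obtain ⟨b, rfl⟩ := hψ c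
    rw [LinearMap.lTensor_tmul, hΘ, lift_Gam_Pmap, HopfAlgebra.mul_antipode_lTensor_comul_apply,
      LinearMap.lTensor_tmul, TensorProduct.rid_tmul]
    have : counit (R := k) (ψ b) = counit (R := k) b := CoalgHomClass.counit_comp_apply ψ b
    rw [this, Algebra.algebraMap_eq_smul_one, TensorProduct.smul_tmul]
  | add x y hx hy => simp only [map_add, hx, hy, TensorProduct.tmul_add]

include hΘ in
/-- (B): multiplying out `y v` gives `1 ⊗ v`. -/
theorem lift_y (hψ : Function.Surjective ψ) (v : V) :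
    (LinearMap.id (R := B) (M := A ⊗[k] V)).liftBaseChange A
      (Gam (k := k) (B := B) V (Θ.lTensor V (HopfRep.Comod.coact (k := k) (A := C) v))) =
      (1 : A) ⊗ₜ[k] v := by
  rw [lift_Gam_lTensor ψ Θ hΘ hψ]
  have hcu := LinearMap.congr_fun (HopfRep.Comod.counit_comp (k := k) (A := C) (V := V)) v
  simp only [LinearMap.comp_apply] at hcu
  rw [hcu]
  simp

include hΘ in
/-- `A · (V □_C A) = A ⊗ V` when `A` is flat over `B`. -/
theorem span_Ecot_eq_top [Module.Flat B A] (hψ : Function.Surjective ψ) :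
    Submodule.span A (Ecot ψ hτ V : Set (A ⊗[k] V)) = ⊤ := by
  rw [eq_top_iff]
  have h1 : ∀ v : V, (1 : A) ⊗ₜ[k] v ∈ Submodule.span A (Ecot ψ hτ V : Set (A ⊗[k] V)) := by
    intro v
    rw [← lift_y ψ Θ hΘ hψ v]
    exact liftBaseChange_mem_span_ker _ _ (sub_lTensor_y ψ hτ Θ hΘ hψ v)
  intro x _
  induction x using TensorProduct.induction_on with
  | zero => exact Submodule.zero_mem _
  | tmul a v =>
    have : a ⊗ₜ[k] v = a • ((1 : A) ⊗ₜ[k] v) := by
      rw [TensorProduct.smul_tmul', smul_eq_mul, mul_one]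
    rw [this]
    exact Submodule.smul_mem _ _ (h1 v)
  | add x y hx hy => exact Submodule.add_mem _ (hx trivial) (hy trivial)

end Main

section Final
variable {k : Type u} [Field k] {A B C : Type u} [CommRing A] [HopfAlgebra k A]
  [CommRing B] [Algebra k B] [CommRing C] [HopfAlgebra k C]
  [Algebra B A] [IsScalarTower k B A]
  (ψ : A →ₐc[k] C)
  (hτ : ∀ b : B, tauAlg ψ (algebraMap B A b) = algebraMap B A b ⊗ₜ[k] (1 : C))
variable {V : Type u} [AddCommGroup V] [Module k V] [cV : HopfRep.Comod k C V]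
  (π : V →ₗ[k] k)

theorem qr_d1 (hπ : LinearMap.rTensor C π ∘ₗ HopfRep.Comod.coact (k := k) (A := C) (V := V) =
      (TensorProduct.mk k k C).flip (1 : C) ∘ₗ π) (x : A ⊗[k] V) :
    qr (C := C) π (d1 (B := B) V x) = pr π x ⊗ₜ[k] (1 : C) := by
  induction x using TensorProduct.induction_on with
  | zero => simp
  | tmul a v =>
    have h := LinearMap.congr_fun hπ v
    simp only [LinearMap.comp_apply, LinearMap.flip_apply, TensorProduct.mk_apply] at h
    rw [d1_tmul, pr_tmul, qr, LinearMap.lTensor_tmul, LinearMap.comp_apply, h]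
    simp only [LinearEquiv.coe_coe, TensorProduct.lid_tmul]
    rw [TensorProduct.tmul_smul, TensorProduct.smul_tmul']
  | add x y hx hy => simp only [map_add, hx, hy, TensorProduct.add_tmul]

theorem qr_d2 (x : A ⊗[k] V) :
    qr (C := C) π (d2 ψ hτ V x) = tauAlg ψ (pr π x) := by
  induction x using TensorProduct.induction_on with
  | zero => simp
  | tmul a v =>
    rw [d2_tmul, pr_tmul, map_smul, qr]
    generalize tauAlg ψ a = s
    induction s using TensorProduct.induction_on with
    | zero => simp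
    | tmul x c => simp [TensorProduct.tmul_smul]
    | add s s' hs hs' => simp only [map_add, smul_add, hs, hs']
  | add x y hx hy => simp only [map_add, hx, hy]

/-- J1 -/
theorem tauAlg_pr_of_mem (hπ : LinearMap.rTensor C π ∘ₗ
      HopfRep.Comod.coact (k := k) (A := C) (V := V) =
      (TensorProduct.mk k k C).flip (1 : C) ∘ₗ π) (x : A ⊗[k] V)
    (hx : x ∈ Ecot ψ hτ V) :
    tauAlg ψ (pr π x) = pr π x ⊗ₜ[k] (1 : C) := by
  have h : d1 (B := B) V x = d2 ψ hτ V x := by
    have := hx
    rw [Ecot, LinearMap.mem_ker, LinearMap.sub_apply, sub_eq_zero] at this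
    exact this
  rw [← qr_d2 ψ hτ π, ← h, qr_d1 π hπ]

/-- J3: some element of the induced module maps to `1`. -/
theorem exists_mem_Ecot_pr_eq_one [Module.FaithfullyFlat B A]
    (hψ : Function.Surjective ψ)
    (Θ : C →ₗ[k] A ⊗[B] A) (hΘ : ∀ a : A, Θ (ψ a) = Pmap (k := k) (B := B) (comul (R := k) a))
    (hL : ∀ a : A, tauAlg ψ a = a ⊗ₜ[k] (1 : C) → a ∈ Set.range (algebraMap B A))
    (hπs : Function.Surjective π)
    (hπ : LinearMap.rTensor C π ∘ₗ HopfRep.Comod.coact (k := k) (A := C) (V := V) =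
      (TensorProduct.mk k k C).flip (1 : C) ∘ₗ π) :
    ∃ x ∈ Ecot ψ hτ V, pr π x = 1 := by
  have htop := span_Ecot_eq_top ψ hτ (V := V) Θ hΘ hψ
  -- the `B`-submodule `p(E)` of `A` and its pullback to `B`
  let N : Submodule B A := Submodule.map ((pr (A := A) π).restrictScalars B) (Ecot ψ hτ V)
  let J : Ideal B := N.comap (Algebra.linearMap B A)
  have hJ : ∀ x ∈ Ecot ψ hτ V, pr π x ∈ Ideal.map (algebraMap B A) J := by
    intro x hx
    obtain ⟨q, hq⟩ := hL _ (tauAlg_pr_of_mem ψ hτ π hπ x hx)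
    have hq' : algebraMap B A q = pr π x := hq
    rw [← hq']
    apply Ideal.mem_map_of_mem
    change Algebra.linearMap B A q ∈ N
    rw [Algebra.linearMap_apply, hq']
    exact ⟨x, hx, rfl⟩
  have hall : ∀ x ∈ Submodule.span A (Ecot ψ hτ V : Set (A ⊗[k] V)),
      pr π x ∈ Ideal.map (algebraMap B A) J := by
    intro x hx
    induction hx using Submodule.span_induction with
    | mem x hx => exact hJ x hx
    | zero => rw [map_zero]; exact Submodule.zero_mem _
    | add x y _ _ hx hy => rw [map_add]; exact Submodule.add_mem _ hx hy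
    | smul a x _ hx => rw [map_smul]; exact Ideal.mul_mem_left _ a hx
  obtain ⟨v₀, hv₀⟩ := hπs 1
  have h1 : (1 : A) ∈ Ideal.map (algebraMap B A) J := by
    have := hall ((1 : A) ⊗ₜ[k] v₀) (by rw [htop]; trivial)
    rw [pr_tmul, hv₀, one_smul] at this
    exact this
  have h2 : Ideal.map (algebraMap B A) J = ⊤ := (Ideal.eq_top_iff_one _).2 h1
  have h3 : J = ⊤ := by
    rw [← Ideal.comap_map_eq_self_of_faithfullyFlat (B := A) J, h2, Ideal.comap_top]
  have h4 : (1 : B) ∈ J := by rw [h3]; trivial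
  have h5 : Algebra.linearMap B A 1 ∈ N := h4
  rw [Algebra.linearMap_apply, map_one] at h5
  obtain ⟨x, hx, hx1⟩ := h5
  exact ⟨x, hx, hx1⟩

theorem coact_ctr (I : A →ₗ[k] k) (x : A ⊗[k] V) :
    HopfRep.Comod.coact (k := k) (A := C) (ctr V I x) = ctr (V ⊗[k] C) I (d1 (B := B) V x) := by
  induction x using TensorProduct.induction_on with
  | zero => simp
  | tmul a v => rw [ctr_tmul, d1_tmul, ctr_tmul, map_smul]
  | add x y hx hy => simp only [map_add, hx, hy]

theorem ctr_d2 (I : A →ₗ[k] k)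
    (hI : ∀ a : A, slice I (comul (R := k) a) = I a • (1 : A)) (x : A ⊗[k] V) :
    ctr (V ⊗[k] C) I (d2 ψ hτ V x) = ctr V I x ⊗ₜ[k] (1 : C) := by
  induction x using TensorProduct.induction_on with
  | zero => simp
  | tmul a v =>
    rw [d2_tmul, tauAlg_apply, ctr_tmul]
    have key : ∀ s : A ⊗[k] A,
        ctr (V ⊗[k] C) I ((TensorProduct.mk k V C v).lTensor A
          ((ψ : A →ₐ[k] C).toLinearMap.lTensor A (TensorProduct.comm k A A s))) =
        v ⊗ₜ[k] ψ (slice I s) := by
      intro s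
      induction s using TensorProduct.induction_on with
      | zero => simp
      | tmul x y =>
        simp only [TensorProduct.comm_tmul, LinearMap.lTensor_tmul, ctr_tmul, slice_tmul,
          TensorProduct.mk_apply, AlgHom.toLinearMap_apply, map_smul, TensorProduct.tmul_smul]
        rfl
      | add s s' hs hs' => simp only [map_add, hs, hs', TensorProduct.tmul_add]
    rw [key, hI, map_smul, map_one, TensorProduct.tmul_smul, TensorProduct.smul_tmul']
  | add x y hx hy => simp only [map_add, hx, hy, TensorProduct.add_tmul]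

include hτ in
/-- `G` linearly reductive ⇒ `K` satisfies the fixed-vector criterion. -/
theorem cond_of_hasIntegral [Module.FaithfullyFlat B A]
    (hψ : Function.Surjective ψ)
    (Θ : C →ₗ[k] A ⊗[B] A) (hΘ : ∀ a : A, Θ (ψ a) = Pmap (k := k) (B := B) (comul (R := k) a))
    (hL : ∀ a : A, tauAlg ψ a = a ⊗ₜ[k] (1 : C) → a ∈ Set.range (algebraMap B A))
    (hG : HasIntegral k A) : Groth.Agent.Lib.Helper84.LinRedKL.Cond k C := by
  obtain ⟨I, hI1, hI⟩ := hG
  intro V _ _ cV _ π hπs hπ
  obtain ⟨x, hx, hx1⟩ := exists_mem_Ecot_pr_eq_one ψ hτ π hψ Θ hΘ hL hπs hπ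
  refine ⟨ctr V I x, ?_, ?_⟩
  · change HopfRep.Comod.coact (k := k) (A := C) (ctr V I x) = ctr V I x ⊗ₜ[k] (1 : C)
    have h : d1 (B := B) V x = d2 ψ hτ V x := by
      have := hx
      rw [Ecot, LinearMap.mem_ker, LinearMap.sub_apply, sub_eq_zero] at this
      exact this
    rw [coact_ctr (B := B), h, ctr_d2 ψ hτ I hI]
  · rw [pi_ctr, hx1, hI1]
    exact one_ne_zero

end Final

open WithConv

section Wrap
variable {k : Type u} [Field k] {A B C : Type u} [CommRing A] [HopfAlgebra k A]
  [CommRing B] [Algebra k B] [CommRing C] [HopfAlgebra k C]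
  [Algebra B A] [IsScalarTower k B A]
  (ψ : A →ₐc[k] C)

/-- `x ↦ x ⊗_B 1` as a `k`-algebra map. -/
noncomputable def inL : A →ₐ[k] A ⊗[B] A :=
  Algebra.TensorProduct.includeLeft (R := B) (S := k)

/-- `x ↦ 1 ⊗_B x` as a `k`-algebra map. -/
noncomputable def inR : A →ₐ[k] A ⊗[B] A :=
  (Algebra.TensorProduct.includeRight : A →ₐ[B] A ⊗[B] A).restrictScalars k

theorem inL_apply (x : A) : inL (k := k) (B := B) x = x ⊗ₜ[B] (1 : A) := rfl
theorem inR_apply (x : A) : inR (k := k) (B := B) x = (1 : A) ⊗ₜ[B] x := rfl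

/-- `inR * (inL ∘ S)` is `a ↦ Σ S a₂ ⊗ a₁`. -/
theorem inR_mul_inL_inv_apply (a : A) :
    (toConv (inR (k := k) (B := B)) * (toConv (inL (k := k) (B := B)))⁻¹ :
      WithConv (A →ₐ[k] A ⊗[B] A)).ofConv a =
      Pmap (k := k) (B := B) (comul (R := k) a) := by
  change (toConv (inR (k := k) (B := B)) * (toConv (inL (k := k) (B := B)))⁻¹ :
      WithConv (A →ₐ[k] A ⊗[B] A)) a = _
  rw [AlgHom.convMul_apply]
  have h3 : ((toConv (inL (k := k) (B := B)))⁻¹).ofConv =
      (inL (k := k) (B := B)).comp (HopfAlgebra.antipodeAlgHom k A) := rfl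
  rw [h3]
  generalize comul (R := k) a = t
  induction t using TensorProduct.induction_on with
  | zero => simp
  | tmul x y =>
    rw [Pmap_tmul]
    simp [inL_apply, inR_apply, Algebra.TensorProduct.tmul_mul_tmul]
  | add x y hx hy => simp only [map_add, hx, hy]

/-- `τ (S x) = S x ⊗ 1` for a right coinvariant `x`. -/
theorem tauAlg_antipode_of_rightCoinv (x : A)
    (hx : (ψ : A →ₐ[k] C).toLinearMap.lTensor A (comul (R := k) x) = x ⊗ₜ[k] (1 : C)) :
    tauAlg ψ (HopfAlgebra.antipode k x) = HopfAlgebra.antipode k x ⊗ₜ[k] (1 : C) := by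
  rw [tauAlg_apply, Groth.Agent.Lib.Helper84.comul_antipode]
  have key : ∀ t : A ⊗[k] A,
      (ψ : A →ₐ[k] C).toLinearMap.lTensor A (TensorProduct.comm k A A
        (TensorProduct.map (HopfAlgebra.antipode k) (HopfAlgebra.antipode k)
          (TensorProduct.comm k A A t))) =
      TensorProduct.map (HopfAlgebra.antipode k) (HopfAlgebra.antipode k)
        ((ψ : A →ₐ[k] C).toLinearMap.lTensor A t) := by
    intro t
    induction t using TensorProduct.induction_on with
    | zero => simp
    | tmul x y =>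
      simp only [TensorProduct.comm_tmul, TensorProduct.map_tmul, LinearMap.lTensor_tmul,
        AlgHom.toLinearMap_apply]
      have : (ψ : A →ₐ[k] C) (HopfAlgebra.antipode k y) = ψ (HopfAlgebra.antipode k y) := rfl
      rw [this, Groth.Agent.Lib.Helper84.HopfFFInf.bialgHom_antipode]
      rfl
    | add x y hx hy => simp only [map_add, hx, hy]
  rw [key, hx, TensorProduct.map_tmul, HopfAlgebra.antipode_one]

theorem cond_of_torsor [Module.FaithfullyFlat B A] (hψ : Function.Surjective ψ)
    (f : B →ₐ[k] A) (hf' : ∀ b, algebraMap B A b = HopfAlgebra.antipode k (f b))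
    (hR2 : ∀ b, (ψ : A →ₐ[k] C).toLinearMap.lTensor A (comul (R := k) (f b)) =
      f b ⊗ₜ[k] (1 : C))
    (η : C →ₐ[k] A ⊗[B] A)
    (hη : (toConv (inR (k := k) (B := B)))⁻¹ * toConv (η.comp (ψ : A →ₐ[k] C)) =
      (toConv (inL (k := k) (B := B)))⁻¹)
    (hG : HasIntegral k A) : Groth.Agent.Lib.Helper84.LinRedKL.Cond k C := by
  have hη' : toConv (η.comp (ψ : A →ₐ[k] C)) =
      toConv (inR (k := k) (B := B)) * (toConv (inL (k := k) (B := B)))⁻¹ :=
    inv_mul_eq_iff_eq_mul.1 hη
  have hτ : ∀ b : B, tauAlg ψ (algebraMap B A b) = algebraMap B A b ⊗ₜ[k] (1 : C) := by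
    intro b
    rw [hf']
    exact tauAlg_antipode_of_rightCoinv ψ _ (hR2 b)
  have hΘ : ∀ a : A, η.toLinearMap (ψ a) = Pmap (k := k) (B := B) (comul (R := k) a) := by
    intro a
    rw [← inR_mul_inL_inv_apply, ← hη']
    rfl
  have hη'' : toConv (η.comp (ψ : A →ₐ[k] C)) * toConv (inL (k := k) (B := B)) =
      toConv (inR (k := k) (B := B)) := by
    rw [hη', inv_mul_cancel_right]
  have hL : ∀ a : A, tauAlg ψ a = a ⊗ₜ[k] (1 : C) → a ∈ Set.range (algebraMap B A) := by
    intro a ha
    have h1 : (toConv (η.comp (ψ : A →ₐ[k] C)) * toConv (inL (k := k) (B := B)) :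
        WithConv (A →ₐ[k] A ⊗[B] A)) a = (1 : A) ⊗ₜ[B] a := by
      rw [hη'']
      rfl
    rw [AlgHom.convMul_apply] at h1
    have h2 : ∀ t : A ⊗[k] A,
        Algebra.TensorProduct.lift (η.comp (ψ : A →ₐ[k] C)) (inL (k := k) (B := B))
          (fun _ _ => .all _ _) t =
        Algebra.TensorProduct.lift η (inL (k := k) (B := B)) (fun _ _ => .all _ _)
          (TensorProduct.comm k A C ((ψ : A →ₐ[k] C).toLinearMap.lTensor A
            (TensorProduct.comm k A A t))) := by
      intro t
      induction t using TensorProduct.induction_on with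
      | zero => simp
      | tmul x y => simp
      | add x y hx hy => simp only [map_add, hx, hy]
    have h1' : Algebra.TensorProduct.lift (η.comp (ψ : A →ₐ[k] C)) (inL (k := k) (B := B))
        (fun _ _ => .all _ _) (comul (R := k) a) = (1 : A) ⊗ₜ[B] a := h1
    rw [h2, ← tauAlg_apply, ha] at h1'
    have h3 : a ⊗ₜ[B] (1 : A) = (1 : A) ⊗ₜ[B] a := by
      rw [← h1']
      simp [inL_apply]
    -- descent
    let Bm : Submodule B A := LinearMap.range (Algebra.linearMap B A)
    have h4 := congrArg (LinearMap.lTensor A Bm.mkQ) h3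
    rw [LinearMap.lTensor_tmul, LinearMap.lTensor_tmul] at h4
    have h5 : Bm.mkQ (1 : A) = 0 := by
      rw [Submodule.mkQ_apply, Submodule.Quotient.mk_eq_zero]
      exact ⟨1, by simp⟩
    rw [h5, TensorProduct.tmul_zero] at h4
    have h6 := (Module.FaithfullyFlat.one_tmul_eq_zero_iff (R := B) (A := A) (M := A ⧸ Bm)
      (Bm.mkQ a)).1 h4.symm
    rw [Submodule.mkQ_apply, Submodule.Quotient.mk_eq_zero] at h6
    obtain ⟨b, hb⟩ := h6
    exact ⟨b, hb⟩
  exact cond_of_hasIntegral ψ hτ hψ η.toLinearMap hΘ hL hG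

end Wrap


end Groth.Agent.Lib.Helper68.LinRedExact2
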