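import Mathlib

open MvPolynomial Finsupp

namespace Groth.Agent.Lib.Helper68.MonoDecomp

theorem single_add_single_le_of_ne {σ : Type*} [DecidableEq σ] {x : σ →₀ ℕ} {p q : σ} (hpq : p ≠ q)
    (hp : 1 ≤ x p) (hq : 1 ≤ x q) : single p 1 + single q 1 ≤ x := by
  intro i
  simp only [Finsupp.add_apply, Finsupp.single_apply]
  by_cases h1 : p = i
  · subst h1
    rw [if_pos rfl, if_neg (Ne.symm hpq)]
    simpa using hp
  · by_cases h2 : q = i
    · subst h2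
      rw [if_neg h1, if_pos rfl]
      simpa using hq
    · rw [if_neg h1, if_neg h2]
      simp

theorem single_two_le {σ : Type*} {x : σ →₀ ℕ} {p : σ} (hp : 2 ≤ x p) :
    single p 1 + single p 1 ≤ x := by
  rw [← Finsupp.single_add]
  exact Finsupp.single_le_iff.mpr hp

variable (n k0 e1 e2 : ℕ)

/-- exponents of the generators of the left-hand ideal -/
def Lset : Set (Fin (n + 1) →₀ ℕ) :=
  {s | ∃ p q : Fin (n + 1), e1 ≤ p.val ∧ p.val ≤ e2 ∧ e1 ≤ q.val ∧ q.val ≤ e2 ∧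
    s = single p 1 + single q 1} ∪
  {s | ∃ p q m : Fin (n + 1), e1 ≤ p.val ∧ p.val < q.val ∧ q.val ≤ e2 ∧
    m.val + k0 = n + 1 + q.val ∧ s = single p 1 + single m 1}

/-- exponents of the generators of the `j`-th component -/
def Rset (j : Fin (n + 1)) : Set (Fin (n + 1) →₀ ℕ) :=
  {s | ∃ i : Fin (n + 1), e1 ≤ i.val ∧ i.val ≤ e2 ∧ i ≠ j ∧ s = single i 1} ∪ {single j 2} ∪
  {s | ∃ q m : Fin (n + 1), j.val < q.val ∧ q.val ≤ e2 ∧ m.val + k0 = n + 1 + q.val ∧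
    s = single m 1}

variable {n k0 e1 e2}

theorem core (hn : 2 * k0 ≤ n + 1) (he : e1 ≤ e2) (he2 : e2 + 1 ≤ k0)
    (x : Fin (n + 1) →₀ ℕ) :
    (∃ s ∈ Lset n k0 e1 e2, s ≤ x) ↔
      ∀ j : Fin (n + 1), e1 ≤ j.val ∧ j.val ≤ e2 → ∃ s ∈ Rset n k0 e1 e2 j, s ≤ x := by
  classical
  constructor
  · rintro ⟨s, hs, hsx⟩ j ⟨hj1, hj2⟩
    rcases hs with ⟨p, q, hp1, hp2, hq1, hq2, rfl⟩ | ⟨p, q, m, hp1, hpq, hq2, hm, rfl⟩
    · by_cases hpj : p = j
      · by_cases hqj : q = j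
        · refine ⟨single j 2, Or.inl (Or.inr rfl), ?_⟩
          rw [hpj, hqj, ← Finsupp.single_add] at hsx
          exact hsx
        · exact ⟨single q 1, Or.inl (Or.inl ⟨q, hq1, hq2, hqj, rfl⟩),
            le_trans le_add_self hsx⟩
      · exact ⟨single p 1, Or.inl (Or.inl ⟨p, hp1, hp2, hpj, rfl⟩),
          le_trans le_self_add hsx⟩
    · by_cases hpj : p = j
      · subst hpj
        exact ⟨single m 1, Or.inr ⟨q, m, hpq, hq2, hm, rfl⟩,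
          le_trans le_add_self hsx⟩
      · exact ⟨single p 1, Or.inl (Or.inl ⟨p, hp1, by omega, hpj, rfl⟩),
          le_trans le_self_add hsx⟩
  · intro h
    by_cases hA : ∃ i : Fin (n + 1), e1 ≤ i.val ∧ i.val ≤ e2 ∧ 2 ≤ x i
    · obtain ⟨i, hi1, hi2, hxi⟩ := hA
      exact ⟨single i 1 + single i 1, Or.inl ⟨i, i, hi1, hi2, hi1, hi2, rfl⟩, single_two_le hxi⟩
    by_cases hB : ∃ i i' : Fin (n + 1), e1 ≤ i.val ∧ i.val ≤ e2 ∧ e1 ≤ i'.val ∧ i'.val ≤ e2 ∧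
        i ≠ i' ∧ 1 ≤ x i ∧ 1 ≤ x i'
    · obtain ⟨i, i', hi1, hi2, hi'1, hi'2, hne, hxi, hxi'⟩ := hB
      exact ⟨single i 1 + single i' 1, Or.inl ⟨i, i', hi1, hi2, hi'1, hi'2, rfl⟩,
        single_add_single_le_of_ne hne hxi hxi'⟩
    push Not at hA hB
    by_cases hC : ∃ i₀ : Fin (n + 1), e1 ≤ i₀.val ∧ i₀.val ≤ e2 ∧ 1 ≤ x i₀
    · obtain ⟨i₀, h01, h02, hx0⟩ := hC
      obtain ⟨s, hs, hsx⟩ := h i₀ ⟨h01, h02⟩
      rcases hs with (⟨i, hi1, hi2, hne, rfl⟩ | hs) | ⟨q, m, hjq, hq2, hm, rfl⟩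
      · exfalso
        have hxi : 1 ≤ x i := Finsupp.single_le_iff.mp hsx
        have := hB i i₀ hi1 hi2 h01 h02 hne hxi
        omega
      · exfalso
        have hs' : s = single i₀ 2 := hs
        subst hs'
        have hxi : 2 ≤ x i₀ := Finsupp.single_le_iff.mp hsx
        have := hA i₀ h01 h02
        omega
      · have hxm : 1 ≤ x m := Finsupp.single_le_iff.mp hsx
        have hne : i₀ ≠ m := by
          intro heq
          have : i₀.val = m.val := congrArg Fin.val heq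
          omega
        exact ⟨single i₀ 1 + single m 1, Or.inr ⟨i₀, q, m, h01, hjq, hq2, hm, rfl⟩,
          single_add_single_le_of_ne hne hx0 hxm⟩
    · exfalso
      push Not at hC
      have he2n : e2 < n + 1 := by omega
      obtain ⟨s, hs, hsx⟩ := h ⟨e2, he2n⟩ ⟨he, le_refl _⟩
      rcases hs with (⟨i, hi1, hi2, hne, rfl⟩ | hs) | ⟨q, m, hjq, hq2, hm, rfl⟩
      · have hxi : 1 ≤ x i := Finsupp.single_le_iff.mp hsx
        have := hC i hi1 hi2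
        omega
      · have hs' : s = single ⟨e2, he2n⟩ 2 := hs
        subst hs'
        have hxi : 2 ≤ x ⟨e2, he2n⟩ := Finsupp.single_le_iff.mp hsx
        have := hC ⟨e2, he2n⟩ he (le_refl _)
        omega
      · simp only at hjq
        omega

end Groth.Agent.Lib.Helper68.MonoDecomp

namespace Groth.Agent.Lib.Helper68.MonoDecomp

open MvPolynomial Finsupp

variable {k : Type*} [CommRing k] {n k0 e1 e2 : ℕ}

theorem lhs_eq_image :
    ({f : MvPolynomial (Fin (n + 1)) k | ∃ p q : Fin (n + 1), e1 ≤ p.val ∧ p.val ≤ e2 ∧ e1 ≤ q.val ∧ q.val ≤ e2 ∧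
        f = MvPolynomial.X p * MvPolynomial.X q} ∪
      {f : MvPolynomial (Fin (n + 1)) k | ∃ p q m : Fin (n + 1), e1 ≤ p.val ∧ p.val < q.val ∧ q.val ≤ e2 ∧
        m.val + k0 = n + 1 + q.val ∧ f = MvPolynomial.X p * MvPolynomial.X m}) =
    (fun s => monomial s (1 : k)) '' Lset n k0 e1 e2 := by
  have hXX : ∀ a b : Fin (n + 1), (X a * X b : MvPolynomial (Fin (n + 1)) k) =
      monomial (single a 1 + single b 1) 1 := by
    intro a b
    rw [X, X, monomial_mul, one_mul]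
  ext f
  simp only [Lset, Set.mem_union, Set.mem_ofPred_eq, Set.mem_image]
  constructor
  · rintro (⟨p, q, h1, h2, h3, h4, rfl⟩ | ⟨p, q, m, h1, h2, h3, h4, rfl⟩)
    · exact ⟨_, Or.inl ⟨p, q, h1, h2, h3, h4, rfl⟩, (hXX p q).symm⟩
    · exact ⟨_, Or.inr ⟨p, q, m, h1, h2, h3, h4, rfl⟩, (hXX p m).symm⟩
  · rintro ⟨s, (⟨p, q, h1, h2, h3, h4, rfl⟩ | ⟨p, q, m, h1, h2, h3, h4, rfl⟩), rfl⟩
    · exact Or.inl ⟨p, q, h1, h2, h3, h4, (hXX p q).symm⟩
    · exact Or.inr ⟨p, q, m, h1, h2, h3, h4, (hXX p m).symm⟩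

theorem rhs_eq_image (j : Fin (n + 1)) :
    ({f : MvPolynomial (Fin (n + 1)) k | ∃ i : Fin (n + 1), e1 ≤ i.val ∧ i.val ≤ e2 ∧ i ≠ j ∧ f = MvPolynomial.X i} ∪
        {MvPolynomial.X j ^ 2} ∪
        {f : MvPolynomial (Fin (n + 1)) k | ∃ q m : Fin (n + 1), j.val < q.val ∧ q.val ≤ e2 ∧ m.val + k0 = n + 1 + q.val ∧
          f = MvPolynomial.X m}) =
    (fun s => monomial s (1 : k)) '' Rset n k0 e1 e2 j := by
  have hX2 : (X j ^ 2 : MvPolynomial (Fin (n + 1)) k) = monomial (single j 2) 1 := by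
    rw [X_pow_eq_monomial]
  ext f
  simp only [Rset, Set.mem_union, Set.mem_ofPred_eq, Set.mem_image, Set.mem_singleton_iff]
  constructor
  · rintro ((⟨i, h1, h2, h3, rfl⟩ | rfl) | ⟨q, m, h1, h2, h3, rfl⟩)
    · exact ⟨_, Or.inl (Or.inl ⟨i, h1, h2, h3, rfl⟩), rfl⟩
    · exact ⟨_, Or.inl (Or.inr rfl), hX2.symm⟩
    · exact ⟨_, Or.inr ⟨q, m, h1, h2, h3, rfl⟩, rfl⟩
  · rintro ⟨s, ((⟨i, h1, h2, h3, rfl⟩ | rfl) | ⟨q, m, h1, h2, h3, rfl⟩), rfl⟩
    · exact Or.inl (Or.inl ⟨i, h1, h2, h3, rfl⟩)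
    · exact Or.inl (Or.inr hX2.symm)
    · exact Or.inr ⟨q, m, h1, h2, h3, rfl⟩

theorem decomposition (hn : 2 * k0 ≤ n + 1) (he : e1 ≤ e2) (he2 : e2 + 1 ≤ k0) :
    Ideal.span ({f : MvPolynomial (Fin (n + 1)) k | ∃ p q : Fin (n + 1), e1 ≤ p.val ∧ p.val ≤ e2 ∧ e1 ≤ q.val ∧ q.val ≤ e2 ∧
        f = MvPolynomial.X p * MvPolynomial.X q} ∪
      {f : MvPolynomial (Fin (n + 1)) k | ∃ p q m : Fin (n + 1), e1 ≤ p.val ∧ p.val < q.val ∧ q.val ≤ e2 ∧
        m.val + k0 = n + 1 + q.val ∧ f = MvPolynomial.X p * MvPolynomial.X m}) =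
    ⨅ j : Fin (n + 1), ⨅ (_ : e1 ≤ j.val ∧ j.val ≤ e2),
      Ideal.span ({f : MvPolynomial (Fin (n + 1)) k | ∃ i : Fin (n + 1), e1 ≤ i.val ∧ i.val ≤ e2 ∧ i ≠ j ∧ f = MvPolynomial.X i} ∪
        {MvPolynomial.X j ^ 2} ∪
        {f : MvPolynomial (Fin (n + 1)) k | ∃ q m : Fin (n + 1), j.val < q.val ∧ q.val ≤ e2 ∧ m.val + k0 = n + 1 + q.val ∧
          f = MvPolynomial.X m}) := by
  ext f
  rw [lhs_eq_image, mem_ideal_span_monomial_image]
  simp only [Ideal.mem_iInf, rhs_eq_image, mem_ideal_span_monomial_image]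
  constructor
  · intro h j hj x hx
    exact (core hn he he2 x).mp (h x hx) j hj
  · intro h x hx
    exact (core hn he he2 x).mpr fun j hj => h j hj x hx

end Groth.Agent.Lib.Helper68.MonoDecomp
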