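import Groth.Prelude.Def_W4c1hilbpnTgt
import Mathlib.RingTheory.Noetherian.Basic
import Mathlib.RingTheory.Finiteness.Basic
import Mathlib.LinearAlgebra.FiniteDimensional.Defs

/-!
# Monomial ideals of finite colength: finitely many monomials outside the ideal
-/

namespace Groth.Agent.Lib.Helper68

open MvPolynomial W4c1hilbpn

variable {σ : Type*} {k : Type*} [Field k]

/-- The classes of the monomials outside a monomial ideal are linearly independent. -/
theorem linearIndependent_monomial_not_mem (I : Ideal (MvPolynomial σ k)) (hI : IsMonomial I) :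
    LinearIndependent k (fun β : {β : σ →₀ ℕ // β ∉ exps I} =>
      Ideal.Quotient.mk I (monomial β.1 (1 : k))) := by
  classical
  rw [linearIndependent_iff']
  intro s g hg β₀ hβ₀
  by_contra hne
  have hp : (∑ β ∈ s, monomial β.1 (g β) : MvPolynomial σ k) ∈ I := by
    rw [← Ideal.Quotient.eq_zero_iff_mem, map_sum, ← hg]
    apply Finset.sum_congr rfl
    intro β _
    have hm : monomial β.1 (g β) = g β • monomial β.1 (1 : k) := by
      rw [smul_monomial, smul_eq_mul, mul_one]
    rw [hm]
    exact map_smul (Ideal.Quotient.mkₐ k I) (g β) _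
  have hcoeff : coeff β₀.1 (∑ β ∈ s, monomial β.1 (g β) : MvPolynomial σ k) = g β₀ := by
    rw [coeff_sum]
    simp_rw [coeff_monomial]
    rw [Finset.sum_eq_single β₀]
    · simp
    · intro β _ hβ
      rw [if_neg]
      intro h
      exact hβ (Subtype.ext h)
    · intro h
      exact absurd hβ₀ h
  have hsupp : β₀.1 ∈ (∑ β ∈ s, monomial β.1 (g β) : MvPolynomial σ k).support := by
    rw [mem_support_iff, hcoeff]
    exact hne
  exact β₀.2 (hI _ hp _ hsupp)

/-- For a monomial ideal of finite colength, only finitely many monomials lie outside it. -/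
theorem finite_not_mem_exps (I : Ideal (MvPolynomial σ k)) (hI : IsMonomial I)
    [Module.Finite k (MvPolynomial σ k ⧸ I)] : {β : σ →₀ ℕ | β ∉ exps I}.Finite := by
  have h := linearIndependent_monomial_not_mem I hI
  have : Finite ↑{β : σ →₀ ℕ | β ∉ exps I} := h.finite_of_isNoetherian
  exact Set.toFinite _

end Groth.Agent.Lib.Helper68
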