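import Mathlib
import Groth.Prelude.Def_AlgSp
import Groth.Prelude.Def_AlgSp3
import Groth.Prelude.Def_CInt
import Groth.Agent.H52.Epi
import Groth.Agent.Lib.Helper51.EpiDescentPullback

set_option autoImplicit false
universe u
open CategoryTheory CategoryTheory.Limits AlgebraicGeometry AlgSp

namespace Groth.Agent.Lib.Helper68.NeronSp

variable {S : Scheme.{u}}

/-- Descent of a morphism along an epimorphism of sheaves with a given kernel pair. -/
theorem exists_desc_of_epi {A B F G : Sp S} (p : A ⟶ F) [Epi p] (s t : B ⟶ A)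
    (hpb : IsPullback s t p p) (g : A ⟶ G) (hg : s ≫ g = t ≫ g) :
    ∃ φ : F ⟶ G, p ≫ φ = g := by
  have : EffectiveEpi p :=
    (isRegularEpi_iff_effectiveEpi p).1 (IsRegularEpiCategory.regularEpiOfEpi p)
  have key : ∀ {Z : Sp S} (g₁ g₂ : Z ⟶ A), g₁ ≫ p = g₂ ≫ p → g₁ ≫ g = g₂ ≫ g := by
    intro Z g₁ g₂ h
    calc g₁ ≫ g = (hpb.lift g₁ g₂ h ≫ s) ≫ g := by rw [hpb.lift_fst]
      _ = (hpb.lift g₁ g₂ h ≫ t) ≫ g := by rw [Category.assoc, hg, Category.assoc]
      _ = g₂ ≫ g := by rw [hpb.lift_snd]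
  exact ⟨EffectiveEpi.desc p g key, EffectiveEpi.fac p g key⟩


/-- The product of an epimorphism of sheaves with an identity is an epimorphism. -/
theorem epi_prod_map_id {A F W : Sp S} (p : A ⟶ F) [Epi p] :
    Epi (prod.map p (𝟙 W)) := by
  apply Groth.Agent.Lib.Helper51.epi_of_forall_local_lift
  intro T z
  obtain ⟨Sv, hSv, hl⟩ := Groth.Agent.Lib.Helper51.exists_cover_lift_of_epi p (z ≫ prod.fst)
  refine ⟨Sv, hSv, fun Y f hf => ?_⟩
  obtain ⟨a, ha⟩ := hl f hf
  refine ⟨prod.lift a ((yon S).map f ≫ z ≫ prod.snd), ?_⟩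
  apply Limits.prod.hom_ext
  · rw [Category.assoc, prod.map_fst, prod.lift_fst_assoc, ha, Category.assoc]
  · rw [Category.assoc, prod.map_snd, Category.comp_id, prod.lift_snd, Category.assoc]

variable (U : S.Opens)

/-- `U` as an object over `S`. -/
abbrev UU : Over S := Over.mk U.ι

/-- `Y ×_S U` as an object over `S`. -/
noncomputable abbrev YU (Y : Over S) : Over S := (Over.map U.ι).obj ((Over.pullback U.ι).obj Y)

/-- The projection `Y ×_S U ⟶ Y`. -/
noncomputable abbrev cY (Y : Over S) : YU U Y ⟶ Y := (Over.mapPullbackAdj U.ι).counit.app Y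

/-- The projection `Y ×_S U ⟶ U`. -/
noncomputable def dY (Y : Over S) : YU U Y ⟶ UU U := Over.homMk (pullback.snd Y.hom U.ι) (by simp)

/-- the comparison map to the product in `Over S`. -/
noncomputable def theta (Y : Over S) : YU U Y ⟶ Y ⨯ UU U := prod.lift (cY U Y) (dY U Y)

lemma theta_left (Y : Over S) :
    (theta U Y).left ≫ (Over.prodLeftIsoPullback Y (UU U)).hom = 𝟙 _ := by
  apply pullback.hom_ext
  · rw [Category.assoc, Over.prodLeftIsoPullback_hom_fst, ← Over.comp_left, theta, prod.lift_fst]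
    simp
  · rw [Category.assoc, Over.prodLeftIsoPullback_hom_snd, ← Over.comp_left, theta, prod.lift_snd]
    simp [dY]

instance (Y : Over S) : IsIso (theta U Y) := by
  have h : IsIso ((Over.forget S).map (theta U Y)) := by
    have : (theta U Y).left = (Over.prodLeftIsoPullback Y (UU U)).inv := by
      rw [← cancel_mono (Over.prodLeftIsoPullback Y (UU U)).hom, theta_left, Iso.inv_hom_id]
    change IsIso (theta U Y).left
    rw [this]
    infer_instance
  exact isIso_of_reflects_iso _ (Over.forget S)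

/-- `h_{Y ×_S U} ≅ h_Y × h_U`. -/
noncomputable def eY (Y : Over S) :
    (yon S).obj (YU U Y) ≅ (yon S).obj Y ⨯ (yon S).obj (UU U) :=
  (yon S).mapIso (asIso (theta U Y)) ≪≫ asIso (prodComparison (yon S) Y (UU U))

lemma eY_hom_fst (Y : Over S) : (eY U Y).hom ≫ prod.fst = (yon S).map (cY U Y) := by
  simp only [eY, Iso.trans_hom, Functor.mapIso_hom, asIso_hom, Category.assoc,
    prodComparison_fst, ← Functor.map_comp, theta, prod.lift_fst]

lemma eY_hom_snd (Y : Over S) : (eY U Y).hom ≫ prod.snd = (yon S).map (dY U Y) := by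
  simp only [eY, Iso.trans_hom, Functor.mapIso_hom, asIso_hom, Category.assoc,
    prodComparison_snd, ← Functor.map_comp, theta, prod.lift_snd]

/-- the base change of a morphism. -/
noncomputable abbrev fU {Y Y' : Over S} (f : Y ⟶ Y') : YU U Y ⟶ YU U Y' :=
  (Over.map U.ι).map ((Over.pullback U.ι).map f)

lemma fU_cY {Y Y' : Over S} (f : Y ⟶ Y') : fU U f ≫ cY U Y' = cY U Y ≫ f :=
  (Over.mapPullbackAdj U.ι).counit.naturality f

lemma fU_dY {Y Y' : Over S} (f : Y ⟶ Y') : fU U f ≫ dY U Y' = dY U Y := by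
  ext
  simp only [dY, Over.comp_left, Over.map_map_left, Over.pullback_map_left, Over.homMk_left]
  exact pullback.lift_snd _ _ _

lemma eY_naturality {Y Y' : Over S} (f : Y ⟶ Y') :
    (yon S).map (fU U f) ≫ (eY U Y').hom =
      (eY U Y).hom ≫ prod.map ((yon S).map f) (𝟙 _) := by
  apply Limits.prod.hom_ext
  · rw [Category.assoc, eY_hom_fst, Category.assoc, prod.map_fst, ← Category.assoc, eY_hom_fst,
      ← Functor.map_comp, ← Functor.map_comp, fU_cY]
  · rw [Category.assoc, eY_hom_snd, Category.assoc, prod.map_snd, Category.comp_id, eY_hom_snd,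
      ← Functor.map_comp, fU_dY]

end Groth.Agent.Lib.Helper68.NeronSp
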