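import Mathlib
import Groth.Prelude.Def_AlgSp
import Groth.Prelude.Def_AlgSp3
import Groth.Prelude.Def_AlgSpGpd
import Groth.Agent.Lib.Helper68.NeronSp

/-!
# Descent of Néron models along a smooth cover, part A (helper68)

The abstract "Néron package": a smooth `S'`-scheme `N'` (all viewed over `S`), with a map
`ρ : h_{N'} × h_U ⟶ h_A` which identifies `h_{N'} × h_U` with `h_A × h_{S'}` and such that
`N'` has the Néron mapping property for smooth `S'`-schemes (phrased through `ρ`).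
We construct the equivalence relation `R = N' ×_S S' ⇉ N'`.
-/

set_option autoImplicit false
universe u
open CategoryTheory CategoryTheory.Limits AlgebraicGeometry AlgSp

namespace Groth.Agent.Lib.Helper68.NeronDesc

variable {S : Scheme.{u}}

/-- The abstract package. -/
structure Pkg (S : Scheme.{u}) where
  N' : Over S
  S' : Over S
  UU : Over S
  A : Over S
  pr : N' ⟶ S'
  a : A ⟶ UU
  ρ : (yon S).obj N' ⨯ (yon S).obj UU ⟶ (yon S).obj A
  smooth_S' : Smooth S'.hom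
  surj_S' : Surjective S'.hom
  smooth_pr : Smooth pr.left
  sep_pr : IsSeparated pr.left
  ρ_a : ρ ≫ (yon S).map a = prod.snd
  isIso_κ : IsIso (prod.lift ρ (prod.fst ≫ (yon S).map pr))
  uniq : ∀ (Y : Over S) (y : Y ⟶ S'), Smooth y.left → ∀ f₁ f₂ : Y ⟶ N', f₁ ≫ pr = y → f₂ ≫ pr = y →
    prod.map ((yon S).map f₁) (𝟙 ((yon S).obj UU)) ≫ ρ =
      prod.map ((yon S).map f₂) (𝟙 ((yon S).obj UU)) ≫ ρ → f₁ = f₂
  ex : ∀ (Y : Over S) (y : Y ⟶ S'), Smooth y.left →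
    ∀ α : (yon S).obj Y ⨯ (yon S).obj UU ⟶ (yon S).obj A, α ≫ (yon S).map a = prod.snd →
      ∃ f : Y ⟶ N', f ≫ pr = y ∧ prod.map ((yon S).map f) (𝟙 ((yon S).obj UU)) ≫ ρ = α

/-- The second projection of a product in `Over S` is smooth when the first factor is. -/
theorem smooth_prod_snd (A B : Over S) (hA : Smooth A.hom) :
    Smooth (prod.snd : A ⨯ B ⟶ B).left := by
  have h : (prod.snd : A ⨯ B ⟶ B).left =
      (Over.prodLeftIsoPullback A B).hom ≫ pullback.snd A.hom B.hom :=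
    (Over.prodLeftIsoPullback_hom_snd A B).symm
  rw [h]
  infer_instance

/-- The first projection of a product in `Over S` is smooth when the second factor is. -/
theorem smooth_prod_fst (A B : Over S) (hB : Smooth B.hom) :
    Smooth (prod.fst : A ⨯ B ⟶ A).left := by
  have h : (prod.fst : A ⨯ B ⟶ A).left =
      (Over.prodLeftIsoPullback A B).hom ≫ pullback.fst A.hom B.hom :=
    (Over.prodLeftIsoPullback_hom_fst A B).symm
  rw [h]
  infer_instance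

/-- The first projection of a product in `Over S` is surjective when the second factor is. -/
theorem surjective_prod_fst (A B : Over S) (hB : Surjective B.hom) :
    Surjective (prod.fst : A ⨯ B ⟶ A).left := by
  have h : (prod.fst : A ⨯ B ⟶ A).left =
      (Over.prodLeftIsoPullback A B).hom ≫ pullback.fst A.hom B.hom :=
    (Over.prodLeftIsoPullback_hom_fst A B).symm
  rw [h]
  infer_instance

namespace Pkg

variable (P : Pkg S)

/-- `h_U`. -/
noncomputable abbrev hU : Sp S := (yon S).obj P.UU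

theorem smooth_N' : Smooth P.N'.hom := by
  have := P.smooth_pr
  have := P.smooth_S'
  rw [← Over.w P.pr]
  infer_instance

/-- The relation scheme `R = N' ×_S S'`. -/
noncomputable abbrev R : Over S := P.N' ⨯ P.S'

/-- source map -/
noncomputable abbrev s : P.R ⟶ P.N' := prod.fst

/-- the structure map of `R` over `S'` used for the target map -/
noncomputable abbrev q : P.R ⟶ P.S' := prod.snd

theorem smooth_q : Smooth P.q.left := smooth_prod_snd _ _ P.smooth_N'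

theorem smooth_s : Smooth P.s.left := smooth_prod_fst _ _ P.smooth_S'

theorem surjective_s : Surjective P.s.left := surjective_prod_fst _ _ P.surj_S'

/-- `ρ` applied after a map into `N'`. -/
noncomputable def ρ' {Y : Over S} (f : Y ⟶ P.N') : (yon S).obj Y ⨯ P.hU ⟶ (yon S).obj P.A :=
  prod.map ((yon S).map f) (𝟙 P.hU) ≫ P.ρ

theorem ρ'_def {Y : Over S} (f : Y ⟶ P.N') :
    P.ρ' f = prod.map ((yon S).map f) (𝟙 P.hU) ≫ P.ρ := rfl

theorem uniq' (Y : Over S) (y : Y ⟶ P.S') (hy : Smooth y.left) (f₁ f₂ : Y ⟶ P.N')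
    (h1 : f₁ ≫ P.pr = y) (h2 : f₂ ≫ P.pr = y) (h : P.ρ' f₁ = P.ρ' f₂) : f₁ = f₂ :=
  P.uniq Y y hy f₁ f₂ h1 h2 h

theorem ex' (Y : Over S) (y : Y ⟶ P.S') (hy : Smooth y.left)
    (α : (yon S).obj Y ⨯ P.hU ⟶ (yon S).obj P.A) (hα : α ≫ (yon S).map P.a = prod.snd) :
    ∃ f : Y ⟶ P.N', f ≫ P.pr = y ∧ P.ρ' f = α :=
  P.ex Y y hy α hα

theorem ρ'_a {Y : Over S} (f : Y ⟶ P.N') : P.ρ' f ≫ (yon S).map P.a = prod.snd := by
  rw [ρ'_def, Category.assoc, P.ρ_a, prod.map_snd, Category.comp_id]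

theorem ρ'_comp {Z Y : Over S} (h : Z ⟶ Y) (f : Y ⟶ P.N') :
    P.ρ' (h ≫ f) = prod.map ((yon S).map h) (𝟙 P.hU) ≫ P.ρ' f := by
  rw [ρ'_def, ρ'_def, ← Category.assoc, prod.map_map, Category.comp_id, ← Functor.map_comp]

theorem exists_t : ∃ t : P.R ⟶ P.N', t ≫ P.pr = P.q ∧ P.ρ' t = P.ρ' P.s :=
  P.ex' P.R P.q P.smooth_q (P.ρ' P.s) (P.ρ'_a _)

/-- target map -/
noncomputable def t : P.R ⟶ P.N' := P.exists_t.choose

theorem t_pr : P.t ≫ P.pr = P.q := P.exists_t.choose_spec.1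

theorem ρ'_t : P.ρ' P.t = P.ρ' P.s := P.exists_t.choose_spec.2

/-- the identity of the groupoid -/
noncomputable def eR : P.N' ⟶ P.R := prod.lift (𝟙 _) P.pr

theorem eR_s : P.eR ≫ P.s = 𝟙 _ := prod.lift_fst _ _

theorem eR_q : P.eR ≫ P.q = P.pr := prod.lift_snd _ _

theorem eR_t : P.eR ≫ P.t = 𝟙 _ := by
  refine P.uniq' P.N' P.pr P.smooth_pr _ _ ?_ (Category.id_comp _) ?_
  · rw [Category.assoc, P.t_pr, P.eR_q]
  · rw [ρ'_comp, P.ρ'_t, ← ρ'_comp, P.eR_s]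

/-- the inverse of the groupoid -/
noncomputable def iR : P.R ⟶ P.R := prod.lift P.t (P.s ≫ P.pr)

theorem iR_s : P.iR ≫ P.s = P.t := prod.lift_fst _ _

theorem iR_q : P.iR ≫ P.q = P.s ≫ P.pr := prod.lift_snd _ _

theorem iR_t : P.iR ≫ P.t = P.s := by
  have hsm : Smooth (P.s ≫ P.pr).left := by
    have := P.smooth_s
    have := P.smooth_pr
    rw [Over.comp_left]
    infer_instance
  refine P.uniq' P.R (P.s ≫ P.pr) hsm _ _ ?_ rfl ?_
  · rw [Category.assoc, P.t_pr, P.iR_q]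
  · rw [ρ'_comp, P.ρ'_t, ← ρ'_comp, P.iR_s, P.ρ'_t]

/-- every point of `R` is determined by its source and `q`. -/
theorem R_ext {Y : Over S} (r₁ r₂ : Y ⟶ P.R) (h1 : r₁ ≫ P.s = r₂ ≫ P.s)
    (h2 : r₁ ≫ P.q = r₂ ≫ P.q) : r₁ = r₂ :=
  Limits.prod.hom_ext h1 h2

/-- The composition law: `t (t r, σ) = t (s r, σ)` universally on `R × S'`. -/
theorem comp_law :
    (prod.lift ((prod.fst : P.R ⨯ P.S' ⟶ P.R) ≫ P.t) prod.snd : P.R ⨯ P.S' ⟶ P.R) ≫ P.t =
      (prod.lift ((prod.fst : P.R ⨯ P.S' ⟶ P.R) ≫ P.s) prod.snd : P.R ⨯ P.S' ⟶ P.R) ≫ P.t := by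
  have hR : Smooth P.R.hom := by
    have := P.smooth_q
    have := P.smooth_S'
    rw [← Over.w P.q]
    infer_instance
  have hsm : Smooth (prod.snd : P.R ⨯ P.S' ⟶ P.S').left := smooth_prod_snd _ _ hR
  refine P.uniq' (P.R ⨯ P.S') prod.snd hsm _ _ ?_ ?_ ?_
  · rw [Category.assoc, P.t_pr, prod.lift_snd]
  · rw [Category.assoc, P.t_pr, prod.lift_snd]
  · have e1 : P.ρ' ((prod.lift ((prod.fst : P.R ⨯ P.S' ⟶ P.R) ≫ P.t) prod.snd : P.R ⨯ P.S' ⟶ P.R) ≫ P.t) =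
        P.ρ' ((prod.fst : P.R ⨯ P.S' ⟶ P.R) ≫ P.s) := by
      rw [P.ρ'_comp, P.ρ'_t, ← P.ρ'_comp, prod.lift_fst, P.ρ'_comp, P.ρ'_t, ← P.ρ'_comp]
    have e2 : P.ρ' ((prod.lift ((prod.fst : P.R ⨯ P.S' ⟶ P.R) ≫ P.s) prod.snd : P.R ⨯ P.S' ⟶ P.R) ≫ P.t) =
        P.ρ' ((prod.fst : P.R ⨯ P.S' ⟶ P.R) ≫ P.s) := by
      rw [P.ρ'_comp, P.ρ'_t, ← P.ρ'_comp, prod.lift_fst]
    rw [e1, e2]

/-- transitivity on points -/
theorem trans_pts {Y : Over S} (r₁ r₂ : Y ⟶ P.R) (h : r₁ ≫ P.t = r₂ ≫ P.s) :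
    (prod.lift (r₁ ≫ P.s) (r₂ ≫ P.q) : Y ⟶ P.R) ≫ P.t = r₂ ≫ P.t := by
  have key := congrArg (fun m => (prod.lift r₁ (r₂ ≫ P.q) : Y ⟶ P.R ⨯ P.S') ≫ m) P.comp_law
  simp only [← Category.assoc] at key
  have e1 : (prod.lift r₁ (r₂ ≫ P.q) : Y ⟶ P.R ⨯ P.S') ≫
      (prod.lift ((prod.fst : P.R ⨯ P.S' ⟶ P.R) ≫ P.t) prod.snd : P.R ⨯ P.S' ⟶ P.R) = r₂ := by
    apply P.R_ext
    · rw [Category.assoc, prod.lift_fst, prod.lift_fst_assoc, h]
    · rw [Category.assoc, prod.lift_snd, prod.lift_snd]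
  have e2 : (prod.lift r₁ (r₂ ≫ P.q) : Y ⟶ P.R ⨯ P.S') ≫
      (prod.lift ((prod.fst : P.R ⨯ P.S' ⟶ P.R) ≫ P.s) prod.snd : P.R ⨯ P.S' ⟶ P.R) =
      prod.lift (r₁ ≫ P.s) (r₂ ≫ P.q) := by
    apply P.R_ext
    · rw [Category.assoc, prod.lift_fst, prod.lift_fst_assoc, prod.lift_fst]
    · rw [Category.assoc, prod.lift_snd, prod.lift_snd, prod.lift_snd]
  rw [e1, e2] at key
  exact key.symm

end Pkg

end Groth.Agent.Lib.Helper68.NeronDesc
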