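import Groth.Agent.Lib.Helper68.NeronDescB
import Groth.Agent.S10553
import Groth.Agent.H52.QS
import Groth.Agent.H52.QSChart
import Groth.Agent.H52.DescInst

/-!
# Descent of Néron models along a smooth cover, part C (helper68)

The structure map `π : N ⟶ h_S` is smooth and separated.
-/

set_option autoImplicit false
universe u
open CategoryTheory CategoryTheory.Limits AlgebraicGeometry AlgSp

namespace Groth.Agent.Lib.Helper68.NeronDesc

variable {S : Scheme.{u}}

/-- The product of an identity with an epimorphism of sheaves is an epimorphism. -/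
theorem epi_prod_map_id' {A F W : Sp S} (p : A ⟶ F) [Epi p] :
    Epi (prod.map (𝟙 W) p) := by
  apply Groth.Agent.Lib.Helper51.epi_of_forall_local_lift
  intro T z
  obtain ⟨Sv, hSv, hl⟩ := Groth.Agent.Lib.Helper51.exists_cover_lift_of_epi p (z ≫ prod.snd)
  refine ⟨Sv, hSv, fun Y f hf => ?_⟩
  obtain ⟨a, ha⟩ := hl f hf
  refine ⟨prod.lift ((yon S).map f ≫ z ≫ prod.fst) a, ?_⟩
  apply Limits.prod.hom_ext
  · rw [Category.assoc, prod.map_fst, Category.comp_id, prod.lift_fst, Category.assoc]
  · rw [Category.assoc, prod.map_snd, prod.lift_snd_assoc, ha, Category.assoc]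

theorem epi_prod_map {A F A' F' : Sp S} (p : A ⟶ F) (p' : A' ⟶ F') [Epi p] [Epi p'] :
    Epi (prod.map p p') := by
  have h : prod.map p p' = prod.map p (𝟙 A') ≫ prod.map (𝟙 F) p' := by
    rw [prod.map_map, Category.comp_id, Category.id_comp]
  rw [h]
  have := Groth.Agent.Lib.Helper68.NeronSp.epi_prod_map_id (W := A') p
  have := epi_prod_map_id' (W := F) p'
  exact epi_comp _ _

namespace Pkg

variable (P : Pkg S)

/-- The structure map of `N`. -/
noncomputable def π : P.N ⟶ (yon S).obj (Over.mk (𝟙 S)) :=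
  (Groth.Agent.H52.yonBaseIsTerminal S).from _

theorem locP_smooth_π : LocP @Smooth P.π := by
  have hcov : IsSmCover (fun _ : PUnit.{u + 1} => P.X') (fun _ => P.πN) := by
    refine ⟨fun _ => Groth.Agent.H52.isEtLocal_smooth.locP_of_repWith' _ P.repWith_smooth_πN,
      fun x => ⟨PUnit.unit, ?_⟩⟩
    exact Groth.Agent.H52.surjective_points_of_repWith_surjective _ P.repWith_surjective_πN x
  have h := Groth.Agent.S10553.result S (fun _ : PUnit.{u + 1} => P.X') (fun _ => P.πN)
    P.isAlgSpace_N (fun _ => IsAlgSpace.yon_obj _) hcov P.π (IsAlgSpace.yon_obj _)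
  rw [h]
  intro _
  obtain ⟨f, hf⟩ := (yon S).map_surjective (P.πN ≫ P.π)
  rw [← hf]
  refine Groth.Agent.H52.isEtLocal_smooth.locP_of_repWith' _ ?_
  rw [repWith_yon_map_iff]
  have h1 : f.left = P.N'.hom := by
    have := Over.w f
    simpa using this
  rw [h1]
  exact P.smooth_N'

/-- `(t, s) : R ⟶ N' × N'`. -/
noncomputable def jR : P.R ⟶ P.N' ⨯ P.N' := prod.lift P.t P.s

/-- a retraction of `jR`. -/
noncomputable def mR : P.N' ⨯ P.N' ⟶ P.R :=
  prod.lift prod.snd (prod.fst ≫ P.pr)

theorem jR_mR : P.jR ≫ P.mR = 𝟙 _ := by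
  apply P.R_ext
  · rw [Category.assoc, mR, prod.lift_fst, jR, prod.lift_snd, Category.id_comp]
  · rw [Category.assoc, mR, prod.lift_snd, jR, prod.lift_fst_assoc, P.t_pr, Category.id_comp]

theorem isSeparated_mR : IsSeparated P.mR.left := by
  -- `mR` is `pr × 𝟙` followed by the swap
  have h : P.mR = prod.map P.pr (𝟙 P.N') ≫ (prod.braiding P.S' P.N').hom := by
    apply P.R_ext
    · rw [mR, prod.lift_fst, Category.assoc, prod.braiding_hom, prod.lift_fst, prod.map_snd,
        Category.comp_id]
    · rw [mR, prod.lift_snd, Category.assoc, prod.braiding_hom, prod.lift_snd, prod.map_fst]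
  have sq := (IsPullback.of_prod_fst_with_id P.pr P.N').map (Over.forget S)
  have h1 : IsSeparated (prod.map P.pr (𝟙 P.N')).left :=
    MorphismProperty.of_isPullback (P := @IsSeparated) sq P.sep_pr
  rw [h, Over.comp_left]
  have : IsIso (prod.braiding P.S' P.N').hom.left :=
    inferInstanceAs (IsIso ((Over.forget S).map (prod.braiding P.S' P.N').hom))
  infer_instance

theorem isClosedImmersion_jR : IsClosedImmersion P.jR.left := by
  have h : P.jR.left ≫ P.mR.left = 𝟙 _ := by
    rw [← Over.comp_left, P.jR_mR, Over.id_left]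
  have := P.isSeparated_mR
  have : IsClosedImmersion (P.jR.left ≫ P.mR.left) := by
    rw [h]
    infer_instance
  exact IsClosedImmersion.of_comp P.jR.left P.mR.left

theorem repWith_isClosedImmersion_jS :
    RepWith @IsClosedImmersion (prod.lift P.tS P.sS) := by
  have h : prod.lift P.tS P.sS = (yon S).map P.jR ≫ prodComparison (yon S) P.N' P.N' := by
    apply Limits.prod.hom_ext
    · rw [prod.lift_fst, Category.assoc, prodComparison_fst, ← Functor.map_comp, jR, prod.lift_fst]
    · rw [prod.lift_snd, Category.assoc, prodComparison_snd, ← Functor.map_comp, jR, prod.lift_snd]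
  rw [h]
  refine MorphismProperty.RespectsIso.postcomp _ _ _ ?_
  rw [repWith_yon_map_iff]
  exact P.isClosedImmersion_jR

theorem isSeparatedSp_N : IsSeparatedSp P.N := by
  have := Groth.Agent.Lib.Helper1.descendsAlong_isClosedImmersion_fpqc.{u}
  refine Groth.Agent.Lib.Helper54.repWith_of_fpqc_local @IsClosedImmersion (Limits.diag P.N)
    P.isAlgSpace_N.diag ?_
  intro T hT y
  have : Epi (prod.map P.πN P.πN) := epi_prod_map _ _
  obtain ⟨m, W, c, l, haff, hflat, hsurj, hl⟩ :=
    Groth.Agent.H53.Residual.exists_flat_affine_lifts_of_epi (prod.map P.πN P.πN) hT y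
  refine ⟨m, W, c, haff, hflat, hsurj, fun j => ?_⟩
  have sq1 : IsPullback (P.tS ≫ P.πN) (prod.lift P.tS P.sS) (Limits.diag P.N)
      (prod.map P.πN P.πN) := Groth.Agent.H52.isPullback_diag_prod_map' P.isPullback_πN
  have sq2 := IsPullback.of_hasPullback (prod.lift P.tS P.sS) (l j)
  have big := sq2.paste_horiz sq1
  rw [hl j] at big
  exact ⟨_, _, _, big, MorphismProperty.of_isPullback sq2 P.repWith_isClosedImmersion_jS⟩

theorem isSeparatedMor_π : IsSeparatedMor P.π :=
  (Groth.Agent.H52.repWith_diag_iff_diagonal_from @IsClosedImmersion P.N).1 P.isSeparatedSp_N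

end Pkg

end Groth.Agent.Lib.Helper68.NeronDesc
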