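import Groth.Agent.Lib.Helper68.NeronDescC
import Groth.Agent.H53.EffDescSp

/-!
# Descent of Néron models along a smooth cover, part D (helper68)

The comparison `N × h_U ≅ h_A` and the Néron mapping property of `N`.
-/

set_option autoImplicit false
universe u
open CategoryTheory CategoryTheory.Limits AlgebraicGeometry AlgSp

namespace Groth.Agent.Lib.Helper68.NeronDesc

variable {S : Scheme.{u}}

/-- Descent along an epimorphism of sheaves, tested on points with values in schemes. -/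
theorem exists_desc_of_pts {A F G : Sp S} (p : A ⟶ F) [Epi p] (g : A ⟶ G)
    (h : ∀ (T : Over S) (x₁ x₂ : (yon S).obj T ⟶ A), x₁ ≫ p = x₂ ≫ p → x₁ ≫ g = x₂ ≫ g) :
    ∃ φ : F ⟶ G, p ≫ φ = g := by
  have : EffectiveEpi p :=
    (isRegularEpi_iff_effectiveEpi p).1 (IsRegularEpiCategory.regularEpiOfEpi p)
  have key : ∀ {Z : Sp S} (g₁ g₂ : Z ⟶ A), g₁ ≫ p = g₂ ≫ p → g₁ ≫ g = g₂ ≫ g := by
    intro Z g₁ g₂ h12
    apply Groth.Agent.H52.sp_hom_ext
    intro T x
    rw [← Category.assoc, ← Category.assoc]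
    apply h
    rw [Category.assoc, Category.assoc, h12]
  exact ⟨EffectiveEpi.desc p g key, EffectiveEpi.fac p g key⟩

namespace Pkg

variable (P : Pkg S)

/-- `h_A` -/
noncomputable abbrev hA : Sp S := (yon S).obj P.A

/-- `h_{S'}` -/
noncomputable abbrev B' : Sp S := (yon S).obj P.S'

/-- The comparison `h_{N'} × h_U ⟶ h_A × h_{S'}`. -/
noncomputable def κ : P.X' ⨯ P.hU ⟶ P.hA ⨯ P.B' := prod.lift P.ρ (prod.fst ≫ (yon S).map P.pr)

instance : IsIso P.κ := P.isIso_κ

theorem epi_B' : Epi ((Groth.Agent.H52.yonBaseIsTerminal S).from P.B') := by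
  let φ : P.S' ⟶ Over.mk (𝟙 S) := Over.homMk P.S'.hom (by simp)
  have h : (Groth.Agent.H52.yonBaseIsTerminal S).from P.B' = (yon S).map φ :=
    (Groth.Agent.H52.yonBaseIsTerminal S).hom_ext _ _
  rw [h]
  have h1 : Smooth φ.left := P.smooth_S'
  have h2 : Surjective φ.left := P.surj_S'
  exact Groth.Agent.H52.epi_yon_map_of_fppf φ

theorem epi_ρ : Epi P.ρ := by
  have h : P.ρ = P.κ ≫ prod.fst := (prod.lift_fst _ _).symm
  have sq : IsPullback (prod.fst : P.hA ⨯ P.B' ⟶ P.hA) prod.snd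
      ((Groth.Agent.H52.yonBaseIsTerminal S).from P.hA)
      ((Groth.Agent.H52.yonBaseIsTerminal S).from P.B') :=
    IsPullback.of_is_product (limit.isLimit (pair P.hA P.B')) (Groth.Agent.H52.yonBaseIsTerminal S)
  have := P.epi_B'
  have : Epi (prod.fst : P.hA ⨯ P.B' ⟶ P.hA) := Groth.Agent.H53.EffDesc.epi_fst_of_isPullback sq
  rw [h]
  exact epi_comp _ _

/-- `π_N × 𝟙`. -/
noncomputable abbrev p₁ : P.X' ⨯ P.hU ⟶ P.N ⨯ P.hU := prod.map P.πN (𝟙 _)

instance : Epi P.p₁ := Groth.Agent.Lib.Helper68.NeronSp.epi_prod_map_id _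

/-- `ρ` at a point given by its two components. -/
theorem lift_ρ' {T Y : Over S} (r : T ⟶ Y) (f : Y ⟶ P.N') (u : (yon S).obj T ⟶ P.hU) :
    prod.lift ((yon S).map (r ≫ f)) u ≫ P.ρ = prod.lift ((yon S).map r) u ≫ P.ρ' f := by
  rw [ρ'_def, ← Category.assoc, prod.lift_map, Category.comp_id, Functor.map_comp]

theorem pts_iff {T : Over S} (x₁ x₂ : (yon S).obj T ⟶ P.X' ⨯ P.hU) :
    x₁ ≫ P.p₁ = x₂ ≫ P.p₁ ↔ x₁ ≫ P.ρ = x₂ ≫ P.ρ := by
  obtain ⟨n₁, hn₁⟩ := (yon S).map_surjective (x₁ ≫ prod.fst)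
  obtain ⟨n₂, hn₂⟩ := (yon S).map_surjective (x₂ ≫ prod.fst)
  have hx₁ : x₁ = prod.lift ((yon S).map n₁) (x₁ ≫ prod.snd) := by
    apply Limits.prod.hom_ext
    · rw [prod.lift_fst, hn₁]
    · rw [prod.lift_snd]
  have hx₂ : x₂ = prod.lift ((yon S).map n₂) (x₂ ≫ prod.snd) := by
    apply Limits.prod.hom_ext
    · rw [prod.lift_fst, hn₂]
    · rw [prod.lift_snd]
  constructor
  · intro h
    have hs : x₁ ≫ prod.snd = x₂ ≫ prod.snd := by
      have := congrArg (· ≫ prod.snd) h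
      simpa only [Category.assoc, prod.map_snd, Category.comp_id] using this
    have hf : (yon S).map n₁ ≫ P.πN = (yon S).map n₂ ≫ P.πN := by
      have := congrArg (· ≫ prod.fst) h
      simp only [Category.assoc, prod.map_fst] at this
      rw [← Category.assoc, ← Category.assoc, ← hn₁, ← hn₂] at this
      exact this
    obtain ⟨r, hr1, hr2⟩ := P.exists_rel n₁ n₂ hf
    rw [hx₁, hx₂, ← hs, ← hr1, ← hr2, P.lift_ρ', P.lift_ρ', P.ρ'_t]
  · intro h
    have hs : x₁ ≫ prod.snd = x₂ ≫ prod.snd := by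
      have := congrArg (· ≫ (yon S).map P.a) h
      simpa only [Category.assoc, P.ρ_a] using this
    let r : T ⟶ P.R := prod.lift n₁ (n₂ ≫ P.pr)
    have hrs : r ≫ P.s = n₁ := prod.lift_fst _ _
    have hrq : r ≫ P.q = n₂ ≫ P.pr := prod.lift_snd _ _
    have hrt : r ≫ P.t = n₂ := by
      apply (yon S).map_injective
      have hy : prod.lift ((yon S).map (r ≫ P.t)) (x₂ ≫ prod.snd) = x₂ := by
        rw [← cancel_mono P.κ]
        apply Limits.prod.hom_ext
        · rw [Category.assoc, Category.assoc, κ, prod.lift_fst, P.lift_ρ', P.ρ'_t, ← P.lift_ρ', hrs,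
            ← h, ← hs, ← hx₁]
        · rw [Category.assoc, Category.assoc, κ, prod.lift_snd, prod.lift_fst_assoc,
            ← Functor.map_comp, Category.assoc, P.t_pr, hrq, Functor.map_comp, hn₂, Category.assoc]
      have := congrArg (· ≫ prod.fst) hy
      simp only [prod.lift_fst] at this
      rw [this, hn₂]
    have hf : (yon S).map n₁ ≫ P.πN = (yon S).map n₂ ≫ P.πN := by
      rw [← hrs, ← hrt, Functor.map_comp, Functor.map_comp, Category.assoc, Category.assoc,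
        P.πN_condition]
    apply Limits.prod.hom_ext
    · rw [Category.assoc, Category.assoc, prod.map_fst, ← Category.assoc, ← Category.assoc, ← hn₁,
        ← hn₂, hf]
    · rw [Category.assoc, Category.assoc, prod.map_snd, Category.comp_id]
      exact hs

theorem exists_e₁ : ∃ e₁ : P.N ⨯ P.hU ⟶ P.hA, P.p₁ ≫ e₁ = P.ρ :=
  exists_desc_of_pts P.p₁ P.ρ fun _ x₁ x₂ h => (P.pts_iff x₁ x₂).1 h

theorem exists_e₂ : ∃ e₂ : P.hA ⟶ P.N ⨯ P.hU, P.ρ ≫ e₂ = P.p₁ := by
  have := P.epi_ρ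
  exact exists_desc_of_pts P.ρ P.p₁ fun _ x₁ x₂ h => (P.pts_iff x₁ x₂).2 h

/-- The identification of the generic fibre. -/
noncomputable def e : P.N ⨯ P.hU ≅ P.hA where
  hom := P.exists_e₁.choose
  inv := P.exists_e₂.choose
  hom_inv_id := by
    rw [← cancel_epi P.p₁, ← Category.assoc, P.exists_e₁.choose_spec, P.exists_e₂.choose_spec,
      Category.comp_id]
  inv_hom_id := by
    have := P.epi_ρ
    rw [← cancel_epi P.ρ, ← Category.assoc, P.exists_e₂.choose_spec, P.exists_e₁.choose_spec,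
      Category.comp_id]

theorem p₁_e : P.p₁ ≫ P.e.hom = P.ρ := P.exists_e₁.choose_spec

theorem e_a : P.e.hom ≫ (yon S).map P.a = prod.snd := by
  rw [← cancel_epi P.p₁, ← Category.assoc, P.p₁_e, P.ρ_a, prod.map_snd, Category.comp_id]

theorem ρ'_eq {Y : Over S} (f : Y ⟶ P.N') :
    P.ρ' f = prod.map ((yon S).map f ≫ P.πN) (𝟙 P.hU) ≫ P.e.hom := by
  rw [ρ'_def, ← P.p₁_e, ← Category.assoc, prod.map_map, Category.comp_id]

/-- `h_{N'} ≅ N × h_{S'}`: points of `N'` are determined by their images in `N` and `S'`. -/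
theorem eq_of_πN_pr {Y : Over S} (n₁ n₂ : Y ⟶ P.N')
    (h1 : (yon S).map n₁ ≫ P.πN = (yon S).map n₂ ≫ P.πN) (h2 : n₁ ≫ P.pr = n₂ ≫ P.pr) : n₁ = n₂ := by
  obtain ⟨r, hr1, hr2⟩ := P.exists_rel n₁ n₂ h1
  have : r = n₁ ≫ P.eR := by
    apply P.R_ext
    · rw [hr1, Category.assoc, P.eR_s, Category.comp_id]
    · rw [Category.assoc, P.eR_q, ← P.t_pr, ← Category.assoc, hr2, h2]
  rw [← hr2, this, Category.assoc, P.eR_t, Category.comp_id]

/-- Local existence of lifts of points of `N × h_{S'}` to `N'`. -/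
theorem epi_toProd : Epi (prod.lift P.πN ((yon S).map P.pr) : P.X' ⟶ P.N ⨯ P.B') := by
  apply Groth.Agent.Lib.Helper51.epi_of_forall_local_lift
  intro T z
  obtain ⟨Sv, hSv, hl⟩ := Groth.Agent.Lib.Helper51.exists_cover_lift_of_epi P.πN (z ≫ prod.fst)
  refine ⟨Sv, hSv, fun Y f hf => ?_⟩
  obtain ⟨a, ha⟩ := hl f hf
  obtain ⟨n, rfl⟩ := (yon S).map_surjective a
  obtain ⟨b, hb⟩ := (yon S).map_surjective ((yon S).map f ≫ z ≫ prod.snd)
  refine ⟨(yon S).map ((prod.lift n b : Y ⟶ P.R) ≫ P.t), ?_⟩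
  apply Limits.prod.hom_ext
  · rw [Category.assoc, prod.lift_fst, Functor.map_comp, Category.assoc, ← P.πN_condition,
      ← Category.assoc, ← Functor.map_comp, prod.lift_fst, ha, Category.assoc]
  · rw [Category.assoc, prod.lift_snd, ← Functor.map_comp, Category.assoc, P.t_pr, prod.lift_snd,
      hb, Category.assoc]

theorem mono_toProd : Mono (prod.lift P.πN ((yon S).map P.pr) : P.X' ⟶ P.N ⨯ P.B') := by
  apply Groth.Agent.Lib.Helper51.mono_of_forall_yon
  intro T x y hxy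
  obtain ⟨n₁, rfl⟩ := (yon S).map_surjective x
  obtain ⟨n₂, rfl⟩ := (yon S).map_surjective y
  congr 1
  apply P.eq_of_πN_pr
  · have := congrArg (· ≫ prod.fst) hxy
    simpa only [Category.assoc, prod.lift_fst] using this
  · have := congrArg (· ≫ prod.snd) hxy
    simp only [Category.assoc, prod.lift_snd, ← Functor.map_comp] at this
    exact (yon S).map_injective this

theorem exists_lift_of_πN_pr {Y : Over S} (ν : (yon S).obj Y ⟶ P.N) (b : Y ⟶ P.S') :
    ∃ n : Y ⟶ P.N', (yon S).map n ≫ P.πN = ν ∧ n ≫ P.pr = b := by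
  have := P.epi_toProd
  have := P.mono_toProd
  have hiso : IsIso (prod.lift P.πN ((yon S).map P.pr) : P.X' ⟶ P.N ⨯ P.B') :=
    Groth.Agent.Lib.Helper51.isIso_of_mono_of_epi_sp _
  obtain ⟨n, hn⟩ := (yon S).map_surjective
    (prod.lift ν ((yon S).map b) ≫ inv (prod.lift P.πN ((yon S).map P.pr) : P.X' ⟶ P.N ⨯ P.B'))
  have h : (yon S).map n ≫ (prod.lift P.πN ((yon S).map P.pr) : P.X' ⟶ P.N ⨯ P.B') =
      prod.lift ν ((yon S).map b) := by
    rw [hn, Category.assoc, IsIso.inv_hom_id, Category.comp_id]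
  refine ⟨n, ?_, ?_⟩
  · have := congrArg (· ≫ prod.fst) h
    simpa only [Category.assoc, prod.lift_fst] using this
  · have := congrArg (· ≫ prod.snd) h
    simp only [Category.assoc, prod.lift_snd, ← Functor.map_comp] at this
    exact (yon S).map_injective this

end Pkg

end Groth.Agent.Lib.Helper68.NeronDesc
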