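import Groth.Agent.Lib.Helper68.NeronDescD

/-!
# Descent of Néron models along a smooth cover, part E (helper68)

The Néron mapping property of the quotient `N`.
-/

set_option autoImplicit false
universe u
open CategoryTheory CategoryTheory.Limits AlgebraicGeometry AlgSp

namespace Groth.Agent.Lib.Helper68.NeronDesc

variable {S : Scheme.{u}}

theorem prod_map_comp_id {A B C W : Sp S} (f : A ⟶ B) (g : B ⟶ C) :
    prod.map (f ≫ g) (𝟙 W) = prod.map f (𝟙 W) ≫ prod.map g (𝟙 W) := by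
  rw [prod.map_map, Category.comp_id]

namespace Pkg

variable (P : Pkg S)

section

variable (T : Over S) (hT : Smooth T.hom)

/-- `T' = T ×_S S'`. -/
noncomputable abbrev T' : Over S := T ⨯ P.S'

/-- the projection `T' ⟶ T`. -/
noncomputable abbrev τ : P.T' T ⟶ T := prod.fst

/-- the projection `T' ⟶ S'`. -/
noncomputable abbrev σ : P.T' T ⟶ P.S' := prod.snd

include hT in
theorem smooth_σ : Smooth (P.σ T).left := smooth_prod_snd _ _ hT

theorem epi_τ : Epi ((yon S).map (P.τ T)) := by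
  have h1 : Smooth (P.τ T).left := smooth_prod_fst _ _ P.smooth_S'
  have h2 : Surjective (P.τ T).left := surjective_prod_fst _ _ P.surj_S'
  exact Groth.Agent.H52.epi_yon_map_of_fppf (P.τ T)

theorem epi_τ_prod : Epi (prod.map ((yon S).map (P.τ T)) (𝟙 P.hU)) := by
  have := P.epi_τ T
  exact Groth.Agent.Lib.Helper68.NeronSp.epi_prod_map_id _

include hT in
theorem neron_inj (φ₁ φ₂ : (yon S).obj T ⟶ P.N)
    (h : prod.map φ₁ (𝟙 P.hU) ≫ P.e.hom = prod.map φ₂ (𝟙 P.hU) ≫ P.e.hom) : φ₁ = φ₂ := by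
  have := P.epi_τ T
  rw [← cancel_epi ((yon S).map (P.τ T))]
  obtain ⟨n₁, hn₁, hp₁⟩ := P.exists_lift_of_πN_pr ((yon S).map (P.τ T) ≫ φ₁) (P.σ T)
  obtain ⟨n₂, hn₂, hp₂⟩ := P.exists_lift_of_πN_pr ((yon S).map (P.τ T) ≫ φ₂) (P.σ T)
  have key : n₁ = n₂ := by
    refine P.uniq' (P.T' T) (P.σ T) (P.smooth_σ T hT) n₁ n₂ hp₁ hp₂ ?_
    rw [P.ρ'_eq, P.ρ'_eq, hn₁, hn₂, prod_map_comp_id, prod_map_comp_id, Category.assoc,
      Category.assoc, h]
  rw [← hn₁, ← hn₂, key]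

include hT in
theorem neron_surj (γ : (yon S).obj T ⨯ P.hU ⟶ P.hA) (hγ : γ ≫ (yon S).map P.a = prod.snd) :
    ∃ φ : (yon S).obj T ⟶ P.N, prod.map φ (𝟙 P.hU) ≫ P.e.hom = γ := by
  have hepi := P.epi_τ T
  have hepi' := P.epi_τ_prod T
  have hσ := P.smooth_σ T hT
  -- the extension over `T'`
  have hα : (prod.map ((yon S).map (P.τ T)) (𝟙 P.hU) ≫ γ) ≫ (yon S).map P.a = prod.snd := by
    rw [Category.assoc, hγ, prod.map_snd, Category.comp_id]
  obtain ⟨f, hf1, hf2⟩ := P.ex' (P.T' T) (P.σ T) hσ _ hα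
  -- the universal identity on `T'' = T' × S'`
  have hT' : Smooth (P.T' T).hom := by
    have := P.smooth_S'
    rw [← Over.w (P.σ T)]
    infer_instance
  have hsm : Smooth (prod.snd : P.T' T ⨯ P.S' ⟶ P.S').left := smooth_prod_snd _ _ hT'
  have huniv : (prod.lift ((prod.fst : P.T' T ⨯ P.S' ⟶ P.T' T) ≫ f) prod.snd :
        P.T' T ⨯ P.S' ⟶ P.R) ≫ P.t =
      (prod.lift ((prod.fst : P.T' T ⨯ P.S' ⟶ P.T' T) ≫ P.τ T) prod.snd :
        P.T' T ⨯ P.S' ⟶ P.T' T) ≫ f := by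
    refine P.uniq' _ prod.snd hsm _ _ ?_ ?_ ?_
    · rw [Category.assoc, P.t_pr, prod.lift_snd]
    · rw [Category.assoc, hf1, prod.lift_snd]
    · rw [P.ρ'_comp, P.ρ'_t, ← P.ρ'_comp, prod.lift_fst, P.ρ'_comp, hf2, P.ρ'_comp _ f, hf2,
        ← Category.assoc, ← Category.assoc, prod.map_map, prod.map_map, Category.comp_id,
        ← Functor.map_comp, ← Functor.map_comp, prod.lift_fst]
  -- descent along `T' ⟶ T`
  obtain ⟨φ, hφ⟩ := exists_desc_of_pts ((yon S).map (P.τ T)) ((yon S).map f ≫ P.πN) (by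
    intro Y y₁ y₂ h12
    obtain ⟨y₁, rfl⟩ := (yon S).map_surjective y₁
    obtain ⟨y₂, rfl⟩ := (yon S).map_surjective y₂
    rw [← Functor.map_comp, ← Functor.map_comp] at h12
    have h12' : y₁ ≫ P.τ T = y₂ ≫ P.τ T := (yon S).map_injective h12
    have key := congrArg (fun m => (prod.lift y₁ (y₂ ≫ P.σ T) : Y ⟶ P.T' T ⨯ P.S') ≫ m) huniv
    simp only [← Category.assoc] at key
    have e1 : (prod.lift y₁ (y₂ ≫ P.σ T) : Y ⟶ P.T' T ⨯ P.S') ≫
        (prod.lift ((prod.fst : P.T' T ⨯ P.S' ⟶ P.T' T) ≫ f) prod.snd : P.T' T ⨯ P.S' ⟶ P.R) =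
        prod.lift (y₁ ≫ f) (y₂ ≫ P.σ T) := by
      apply P.R_ext
      · rw [Category.assoc, prod.lift_fst, prod.lift_fst_assoc, prod.lift_fst]
      · rw [Category.assoc, prod.lift_snd, prod.lift_snd, prod.lift_snd]
    have e2 : (prod.lift y₁ (y₂ ≫ P.σ T) : Y ⟶ P.T' T ⨯ P.S') ≫
        (prod.lift ((prod.fst : P.T' T ⨯ P.S' ⟶ P.T' T) ≫ P.τ T) prod.snd :
          P.T' T ⨯ P.S' ⟶ P.T' T) = y₂ := by
      apply Limits.prod.hom_ext
      · rw [Category.assoc, prod.lift_fst, prod.lift_fst_assoc, h12']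
      · rw [Category.assoc, prod.lift_snd, prod.lift_snd]
    rw [e1, e2] at key
    have hs : (prod.lift (y₁ ≫ f) (y₂ ≫ P.σ T) : Y ⟶ P.R) ≫ P.s = y₁ ≫ f := prod.lift_fst _ _
    calc (yon S).map y₁ ≫ (yon S).map f ≫ P.πN
        = (yon S).map (prod.lift (y₁ ≫ f) (y₂ ≫ P.σ T) : Y ⟶ P.R) ≫ P.sS ≫ P.πN := by
          rw [← Category.assoc, ← Category.assoc, ← Functor.map_comp, ← Functor.map_comp, hs]
      _ = (yon S).map (prod.lift (y₁ ≫ f) (y₂ ≫ P.σ T) : Y ⟶ P.R) ≫ P.tS ≫ P.πN := by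
          rw [P.πN_condition]
      _ = (yon S).map y₂ ≫ (yon S).map f ≫ P.πN := by
          rw [← Category.assoc, ← Category.assoc, ← Functor.map_comp, ← Functor.map_comp, key])
  refine ⟨φ, ?_⟩
  rw [← cancel_epi (prod.map ((yon S).map (P.τ T)) (𝟙 P.hU)), ← Category.assoc, ← prod_map_comp_id,
    hφ, ← P.ρ'_eq, hf2]

end

end Pkg

end Groth.Agent.Lib.Helper68.NeronDesc
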