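import Groth.Agent.Lib.Helper68.NeronDescE

/-!
# Descent of Néron models along a smooth cover, part F (helper68)

The interface: building the abstract package from a Néron model `N'` over `S'` of `A ×_U U'`.
-/

set_option autoImplicit false
universe u
open CategoryTheory CategoryTheory.Limits AlgebraicGeometry AlgSp

namespace Groth.Agent.Lib.Helper68.NeronDesc

open Groth.Agent.Lib.Helper68.NeronSp

section Cmp

variable {S S' : Scheme.{u}} (g : S' ⟶ S) (U : S.Opens)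

theorem isPullback_cmp {Z : Scheme.{u}} (z : Z ⟶ S') (zS : Z ⟶ S) (hz : z ≫ g = zS) :
    IsPullback (pullback.fst z (g ⁻¹ᵁ U).ι) (pullback.snd z (g ⁻¹ᵁ U).ι ≫ (g ∣_ U)) zS U.ι := by
  subst hz
  exact ((IsPullback.of_hasPullback z (g ⁻¹ᵁ U).ι).flip.paste_horiz
    (isPullback_morphismRestrict g U)).flip

/-- `Z ×_{S'} U' ≅ Z ×_S U`. -/
noncomputable def cmp {Z : Scheme.{u}} (z : Z ⟶ S') (zS : Z ⟶ S) (hz : z ≫ g = zS) :
    pullback z (g ⁻¹ᵁ U).ι ≅ pullback zS U.ι :=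
  (isPullback_cmp g U z zS hz).isoPullback

@[reassoc (attr := simp)]
theorem cmp_hom_fst {Z : Scheme.{u}} (z : Z ⟶ S') (zS : Z ⟶ S) (hz : z ≫ g = zS) :
    (cmp g U z zS hz).hom ≫ pullback.fst zS U.ι = pullback.fst z (g ⁻¹ᵁ U).ι :=
  IsPullback.isoPullback_hom_fst _

@[reassoc (attr := simp)]
theorem cmp_hom_snd {Z : Scheme.{u}} (z : Z ⟶ S') (zS : Z ⟶ S) (hz : z ≫ g = zS) :
    (cmp g U z zS hz).hom ≫ pullback.snd zS U.ι = pullback.snd z (g ⁻¹ᵁ U).ι ≫ (g ∣_ U) :=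
  IsPullback.isoPullback_hom_snd _

@[reassoc (attr := simp)]
theorem cmp_inv_fst {Z : Scheme.{u}} (z : Z ⟶ S') (zS : Z ⟶ S) (hz : z ≫ g = zS) :
    (cmp g U z zS hz).inv ≫ pullback.fst z (g ⁻¹ᵁ U).ι = pullback.fst zS U.ι :=
  IsPullback.isoPullback_inv_fst _

theorem isPullback_cmpA {A : Scheme.{u}} (a : A ⟶ (U : Scheme.{u})) :
    IsPullback (pullback.fst a (g ∣_ U)) (pullback.snd a (g ∣_ U) ≫ (g ⁻¹ᵁ U).ι) (a ≫ U.ι) g :=
  ((IsPullback.of_hasPullback a (g ∣_ U)).flip.paste_horiz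
    (isPullback_morphismRestrict g U).flip).flip

end Cmp

section Interface

variable {S S' : Scheme.{u}} (g : S' ⟶ S) (U : S.Opens)
  (A : Scheme.{u}) (a : A ⟶ (U : Scheme.{u})) (N' : Over S')
  (e' : pullback N'.hom (g ⁻¹ᵁ U).ι ≅ pullback a (g ∣_ U))

/-- `N'` over `S`. -/
abbrev N'S : Over S := Over.mk (N'.hom ≫ g)

/-- `S'` over `S`. -/
abbrev S'S : Over S := Over.mk g

/-- `A` over `S`. -/
abbrev AS : Over S := Over.mk (a ≫ U.ι)

/-- the structure map `N' ⟶ S'` over `S`. -/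
abbrev prS : N'S g N' ⟶ S'S g := Over.homMk N'.hom rfl

/-- the structure map `A ⟶ U` over `S`. -/
abbrev aS : AS U A a ⟶ UU U :=
  Over.homMk (U := (Over.mk (a ≫ U.ι) : Over S)) (V := (Over.mk U.ι : Over S)) a rfl

/-- the map `N' ×_S U ⟶ A` of schemes. -/
noncomputable def ρ₀l : pullback (N'.hom ≫ g) U.ι ⟶ A :=
  (cmp g U N'.hom (N'.hom ≫ g) rfl).inv ≫ e'.hom ≫ pullback.fst a (g ∣_ U)

variable (he' : e'.hom ≫ pullback.snd a (g ∣_ U) = pullback.snd N'.hom (g ⁻¹ᵁ U).ι)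

include he' in
theorem ρ₀l_a : ρ₀l g U A a N' e' ≫ a = pullback.snd (N'.hom ≫ g) U.ι := by
  rw [ρ₀l, Category.assoc, Category.assoc, pullback.condition, ← Category.assoc e'.hom, he',
    ← cmp_hom_snd g U N'.hom (N'.hom ≫ g) rfl, Iso.inv_hom_id_assoc]

/-- the map `N' ×_S U ⟶ A` over `S`. -/
noncomputable def ρ₀ : YU U (N'S g N') ⟶ AS U A a :=
  Over.homMk (ρ₀l g U A a N' e') (by
    change ρ₀l g U A a N' e' ≫ a ≫ U.ι = pullback.snd (N'.hom ≫ g) U.ι ≫ U.ι
    rw [← Category.assoc, ρ₀l_a g U A a N' e' he'])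

theorem ρ₀_aS : ρ₀ g U A a N' e' he' ≫ aS U A a = dY U (N'S g N') := by
  ext
  change ρ₀l g U A a N' e' ≫ a = pullback.snd (N'.hom ≫ g) U.ι
  exact ρ₀l_a g U A a N' e' he'

/-- the map `ρ` of sheaves. -/
noncomputable def ρS : (yon S).obj (N'S g N') ⨯ (yon S).obj (UU U) ⟶ (yon S).obj (AS U A a) :=
  (eY U (N'S g N')).inv ≫ (yon S).map (ρ₀ g U A a N' e' he')

theorem ρS_a : ρS g U A a N' e' he' ≫ (yon S).map (aS U A a) = prod.snd := by
  rw [ρS, Category.assoc, ← Functor.map_comp, ρ₀_aS, ← eY_hom_snd, Iso.inv_hom_id_assoc]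

/-- the comparison `N' ×_S U ⟶ A ×_S S'` over `S`. -/
noncomputable def kS : YU U (N'S g N') ⟶ AS U A a ⨯ S'S g :=
  prod.lift (ρ₀ g U A a N' e' he') (cY U (N'S g N') ≫ prS g N')

theorem kS_left : (kS g U A a N' e' he').left ≫ (Over.prodLeftIsoPullback (AS U A a) (S'S g)).hom =
    (cmp g U N'.hom (N'.hom ≫ g) rfl).inv ≫ e'.hom ≫ (isPullback_cmpA g U a).isoPullback.hom := by
  apply pullback.hom_ext
  · rw [Category.assoc, Over.prodLeftIsoPullback_hom_fst, ← Over.comp_left, kS, prod.lift_fst]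
    change ρ₀l g U A a N' e' = ((cmp g U N'.hom (N'.hom ≫ g) rfl).inv ≫ e'.hom ≫
      (isPullback_cmpA g U a).isoPullback.hom) ≫ pullback.fst (a ≫ U.ι) g
    rw [Category.assoc, Category.assoc, IsPullback.isoPullback_hom_fst]
    rfl
  · rw [Category.assoc, Over.prodLeftIsoPullback_hom_snd, ← Over.comp_left, kS, prod.lift_snd]
    change (cY U (N'S g N') ≫ prS g N').left = ((cmp g U N'.hom (N'.hom ≫ g) rfl).inv ≫ e'.hom ≫
      (isPullback_cmpA g U a).isoPullback.hom) ≫ pullback.snd (a ≫ U.ι) g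
    rw [Category.assoc, Category.assoc, IsPullback.isoPullback_hom_snd, ← Category.assoc e'.hom, he',
      ← pullback.condition, cmp_inv_fst_assoc]
    simp

instance : IsIso (kS g U A a N' e' he') := by
  have h : IsIso ((Over.forget S).map (kS g U A a N' e' he')) := by
    change IsIso (kS g U A a N' e' he').left
    have : (kS g U A a N' e' he').left =
        ((cmp g U N'.hom (N'.hom ≫ g) rfl).inv ≫ e'.hom ≫
          (isPullback_cmpA g U a).isoPullback.hom) ≫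
          (Over.prodLeftIsoPullback (AS U A a) (S'S g)).inv := by
      rw [← kS_left, Category.assoc, Iso.hom_inv_id, Category.comp_id]
    rw [this]
    infer_instance
  exact isIso_of_reflects_iso _ (Over.forget S)

theorem κS_eq : (prod.lift (ρS g U A a N' e' he') (prod.fst ≫ (yon S).map (prS g N')) :
      (yon S).obj (N'S g N') ⨯ (yon S).obj (UU U) ⟶ (yon S).obj (AS U A a) ⨯ (yon S).obj (S'S g)) =
    (eY U (N'S g N')).inv ≫ (yon S).map (kS g U A a N' e' he') ≫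
      prodComparison (yon S) (AS U A a) (S'S g) := by
  apply Limits.prod.hom_ext
  · rw [prod.lift_fst, Category.assoc, Category.assoc, prodComparison_fst, ← Functor.map_comp, kS,
      prod.lift_fst, ρS]
  · rw [prod.lift_snd, Category.assoc, Category.assoc, prodComparison_snd, ← Functor.map_comp, kS,
      prod.lift_snd, Functor.map_comp, ← eY_hom_fst, Category.assoc, Iso.inv_hom_id_assoc]

theorem isIso_κS : IsIso (prod.lift (ρS g U A a N' e' he') (prod.fst ≫ (yon S).map (prS g N')) :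
      (yon S).obj (N'S g N') ⨯ (yon S).obj (UU U) ⟶
        (yon S).obj (AS U A a) ⨯ (yon S).obj (S'S g)) := by
  rw [κS_eq]
  infer_instance

theorem ρ'_formula {Y : Over S} (f : Y ⟶ N'S g N') :
    prod.map ((yon S).map f) (𝟙 ((yon S).obj (UU U))) ≫ ρS g U A a N' e' he' =
      (eY U Y).inv ≫ (yon S).map (fU U f ≫ ρ₀ g U A a N' e' he') := by
  rw [← cancel_epi (eY U Y).hom, Iso.hom_inv_id_assoc, ← Category.assoc, ← eY_naturality,
    Functor.map_comp, ρS, Category.assoc, Iso.hom_inv_id_assoc]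

section

variable {Y : Over S} (y : Y ⟶ S'S g)

/-- `Y` over `S'`. -/
abbrev Y' : Over S' := Over.mk y.left

theorem y_w : y.left ≫ g = Y.hom := Over.w y

/-- restriction to `U'` of a morphism over `S'`, on underlying schemes. -/
noncomputable def pm (f' : Y' g y ⟶ N') :
    pullback y.left (g ⁻¹ᵁ U).ι ⟶ pullback N'.hom (g ⁻¹ᵁ U).ι :=
  ((Over.pullback (g ⁻¹ᵁ U).ι).map f').left

theorem pm_fst (f' : Y' g y ⟶ N') :
    pm g U N' y f' ≫ pullback.fst N'.hom (g ⁻¹ᵁ U).ι =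
      pullback.fst y.left (g ⁻¹ᵁ U).ι ≫ f'.left := by
  simp only [pm, Over.pullback_map_left]
  exact pullback.lift_fst _ _ _

theorem pm_snd (f' : Y' g y ⟶ N') :
    pm g U N' y f' ≫ pullback.snd N'.hom (g ⁻¹ᵁ U).ι = pullback.snd y.left (g ⁻¹ᵁ U).ι := by
  simp only [pm, Over.pullback_map_left]
  exact pullback.lift_snd _ _ _

/-- a morphism over `S` compatible with the maps to `S'` is a morphism over `S'`. -/
def toS' (f : Y ⟶ N'S g N') (hf : f ≫ prS g N' = y) : Y' g y ⟶ N' :=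
  Over.homMk f.left (by
    have := congrArg (fun m => m.left) hf
    simpa using this)

/-- a morphism over `S'` is a morphism over `S`. -/
def ofS' (f' : Y' g y ⟶ N') : Y ⟶ N'S g N' :=
  Over.homMk f'.left (by
    have h1 : f'.left ≫ N'.hom = y.left := Over.w f'
    change f'.left ≫ N'.hom ≫ g = Y.hom
    rw [← Category.assoc, h1, y_w])

theorem ofS'_prS (f' : Y' g y ⟶ N') : ofS' g N' y f' ≫ prS g N' = y := by
  ext
  exact Over.w f'

theorem fU_ρ₀_left (f' : Y' g y ⟶ N') :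
    (cmp g U y.left Y.hom (y_w g y)).hom ≫ (fU U (ofS' g N' y f') ≫ ρ₀ g U A a N' e' he').left =
      pm g U N' y f' ≫ e'.hom ≫ pullback.fst a (g ∣_ U) := by
  have key : (cmp g U y.left Y.hom (y_w g y)).hom ≫ (fU U (ofS' g N' y f')).left =
      pm g U N' y f' ≫ (cmp g U N'.hom (N'.hom ≫ g) rfl).hom := by
    have h1 : (fU U (ofS' g N' y f')).left ≫ pullback.fst (N'.hom ≫ g) U.ι =
        pullback.fst Y.hom U.ι ≫ f'.left := by
      simp only [Over.map_map_left, Over.pullback_map_left]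
      exact pullback.lift_fst _ _ _
    have h2 : (fU U (ofS' g N' y f')).left ≫ pullback.snd (N'.hom ≫ g) U.ι =
        pullback.snd Y.hom U.ι := by
      simp only [Over.map_map_left, Over.pullback_map_left]
      exact pullback.lift_snd _ _ _
    apply pullback.hom_ext
    · calc ((cmp g U y.left Y.hom (y_w g y)).hom ≫ (fU U (ofS' g N' y f')).left) ≫
            pullback.fst (N'.hom ≫ g) U.ι
          = (cmp g U y.left Y.hom (y_w g y)).hom ≫ pullback.fst Y.hom U.ι ≫ f'.left := by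
            rw [Category.assoc, h1]
        _ = pullback.fst y.left (g ⁻¹ᵁ U).ι ≫ f'.left := by
            rw [← Category.assoc, cmp_hom_fst]
        _ = pm g U N' y f' ≫ pullback.fst N'.hom (g ⁻¹ᵁ U).ι := (pm_fst g U N' y f').symm
        _ = (pm g U N' y f' ≫ (cmp g U N'.hom (N'.hom ≫ g) rfl).hom) ≫
            pullback.fst (N'.hom ≫ g) U.ι := by
            rw [Category.assoc, cmp_hom_fst]
    · calc ((cmp g U y.left Y.hom (y_w g y)).hom ≫ (fU U (ofS' g N' y f')).left) ≫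
            pullback.snd (N'.hom ≫ g) U.ι
          = (cmp g U y.left Y.hom (y_w g y)).hom ≫ pullback.snd Y.hom U.ι := by
            rw [Category.assoc, h2]
        _ = pullback.snd y.left (g ⁻¹ᵁ U).ι ≫ (g ∣_ U) := cmp_hom_snd _ _ _ _ _
        _ = (pm g U N' y f' ≫ pullback.snd N'.hom (g ⁻¹ᵁ U).ι) ≫ (g ∣_ U) := by
            rw [pm_snd]
        _ = (pm g U N' y f' ≫ (cmp g U N'.hom (N'.hom ≫ g) rfl).hom) ≫
            pullback.snd (N'.hom ≫ g) U.ι := by
            rw [Category.assoc, Category.assoc, cmp_hom_snd]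
  rw [Over.comp_left, ← Category.assoc, key]
  change (pm g U N' y f' ≫ (cmp g U N'.hom (N'.hom ≫ g) rfl).hom) ≫ ρ₀l g U A a N' e' = _
  rw [ρ₀l, Category.assoc, Iso.hom_inv_id_assoc]

theorem ofS'_toS' (f : Y ⟶ N'S g N') (hf : f ≫ prS g N' = y) :
    ofS' g N' y (toS' g N' y f hf) = f := by
  ext
  rfl

variable (hN' : ∀ Y' : Over S', Smooth Y'.hom →
  Function.Bijective (fun f : Y' ⟶ N' => (Over.pullback (g ⁻¹ᵁ U).ι).map f))

include hN' in
theorem uniqS (hy : Smooth y.left) (f₁ f₂ : Y ⟶ N'S g N') (h1 : f₁ ≫ prS g N' = y)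
    (h2 : f₂ ≫ prS g N' = y)
    (h : prod.map ((yon S).map f₁) (𝟙 ((yon S).obj (UU U))) ≫ ρS g U A a N' e' he' =
      prod.map ((yon S).map f₂) (𝟙 ((yon S).obj (UU U))) ≫ ρS g U A a N' e' he') : f₁ = f₂ := by
  rw [ρ'_formula, ρ'_formula, cancel_epi] at h
  have h' := (yon S).map_injective h
  rw [← ofS'_toS' g N' y f₁ h1, ← ofS'_toS' g N' y f₂ h2] at h' ⊢
  set f₁' := toS' g N' y f₁ h1
  set f₂' := toS' g N' y f₂ h2
  have hl : pm g U N' y f₁' ≫ e'.hom ≫ pullback.fst a (g ∣_ U) =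
      pm g U N' y f₂' ≫ e'.hom ≫ pullback.fst a (g ∣_ U) := by
    rw [← fU_ρ₀_left g U A a N' e' he' y f₁', ← fU_ρ₀_left g U A a N' e' he' y f₂', h']
  have hpm : pm g U N' y f₁' = pm g U N' y f₂' := by
    rw [← cancel_mono e'.hom]
    apply pullback.hom_ext
    · rw [Category.assoc, Category.assoc, hl]
    · rw [Category.assoc, Category.assoc, he', pm_snd, pm_snd]
  have hmap : (Over.pullback (g ⁻¹ᵁ U).ι).map f₁' = (Over.pullback (g ⁻¹ᵁ U).ι).map f₂' :=
    Over.OverMorphism.ext hpm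
  have := (hN' (Y' g y) hy).1 hmap
  rw [this]

include hN' in
theorem exS (hy : Smooth y.left)
    (α : (yon S).obj Y ⨯ (yon S).obj (UU U) ⟶ (yon S).obj (AS U A a))
    (hα : α ≫ (yon S).map (aS U A a) = prod.snd) :
    ∃ f : Y ⟶ N'S g N', f ≫ prS g N' = y ∧
      prod.map ((yon S).map f) (𝟙 ((yon S).obj (UU U))) ≫ ρS g U A a N' e' he' = α := by
  obtain ⟨α₀, hα₀⟩ : ∃ α₀ : YU U Y ⟶ AS U A a, (yon S).map α₀ = (eY U Y).hom ≫ α :=
    ⟨(yon S).preimage ((eY U Y).hom ≫ α), (yon S).map_preimage _⟩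
  have hα₀a : α₀ ≫ aS U A a = dY U Y := by
    apply (yon S).map_injective
    rw [Functor.map_comp, hα₀, Category.assoc, hα, eY_hom_snd]
  have hα₀l : α₀.left ≫ a = pullback.snd Y.hom U.ι := by
    have := congrArg (fun m => m.left) hα₀a
    simpa [dY] using this
  have hcond : ((cmp g U y.left Y.hom (y_w g y)).hom ≫ α₀.left) ≫ a =
      pullback.snd y.left (g ⁻¹ᵁ U).ι ≫ (g ∣_ U) := by
    rw [Category.assoc, hα₀l, cmp_hom_snd]
  have he'inv : e'.inv ≫ pullback.snd N'.hom (g ⁻¹ᵁ U).ι = pullback.snd a (g ∣_ U) := by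
    rw [← he', Iso.inv_hom_id_assoc]
  let vl : pullback y.left (g ⁻¹ᵁ U).ι ⟶ pullback N'.hom (g ⁻¹ᵁ U).ι :=
    pullback.lift ((cmp g U y.left Y.hom (y_w g y)).hom ≫ α₀.left)
      (pullback.snd y.left (g ⁻¹ᵁ U).ι) hcond ≫ e'.inv
  have hvl : vl ≫ pullback.snd N'.hom (g ⁻¹ᵁ U).ι = pullback.snd y.left (g ⁻¹ᵁ U).ι := by
    rw [Category.assoc, he'inv, pullback.lift_snd]
  let v : (Over.pullback (g ⁻¹ᵁ U).ι).obj (Y' g y) ⟶ (Over.pullback (g ⁻¹ᵁ U).ι).obj N' :=
    Over.homMk vl hvl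
  obtain ⟨f', hf'⟩ := (hN' (Y' g y) hy).2 v
  have hpm : pm g U N' y f' = vl := by
    have := congrArg (fun m => m.left) hf'
    exact this
  refine ⟨ofS' g N' y f', ofS'_prS g N' y f', ?_⟩
  rw [ρ'_formula, Iso.inv_comp_eq, ← hα₀]
  congr 1
  ext
  rw [← cancel_epi (cmp g U y.left Y.hom (y_w g y)).hom, fU_ρ₀_left, hpm, Category.assoc,
    Iso.inv_hom_id_assoc, pullback.lift_fst]

end

/-- The package built from a Néron model over the cover. -/
noncomputable def mkPkg [Smooth g] [Surjective g] [Smooth N'.hom] [IsSeparated N'.hom]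
    (hN' : ∀ Y' : Over S', Smooth Y'.hom →
      Function.Bijective (fun f : Y' ⟶ N' => (Over.pullback (g ⁻¹ᵁ U).ι).map f)) : Pkg S where
  N' := N'S g N'
  S' := S'S g
  UU := UU U
  A := AS U A a
  pr := prS g N'
  a := aS U A a
  ρ := ρS g U A a N' e' he'
  smooth_S' := (inferInstance : Smooth g)
  surj_S' := (inferInstance : Surjective g)
  smooth_pr := (inferInstance : Smooth N'.hom)
  sep_pr := (inferInstance : IsSeparated N'.hom)
  ρ_a := ρS_a g U A a N' e' he'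
  isIso_κ := isIso_κS g U A a N' e' he'
  uniq := fun _ y hy f₁ f₂ h1 h2 h => uniqS g U A a N' e' he' y hN' hy f₁ f₂ h1 h2 h
  ex := fun _ y hy α hα => exS g U A a N' e' he' y hN' hy α hα

end Interface

end Groth.Agent.Lib.Helper68.NeronDesc
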