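import Mathlib
import Groth.Agent.H34.McCoy

/-!
# Norms for `L ⊗ R` over `K ⊗ R` (helper68)

`k` a field, `A` an integrally closed domain over `k` with fraction field `K`, `L/K` finite, `R` a
`k`-algebra.  `L ⊗[k] R` is finite free over `K ⊗[k] R` with basis `bL i ⊗ 1`; norms of elements
`∑ b_j ⊗ r_j` with `b_j` integral over `A` lie in the image of `A ⊗[k] R`; regularity criterion.
-/

set_option autoImplicit false
set_option linter.unusedSectionVars false
set_option linter.style.haveILetI false
set_option linter.deprecated false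
universe u

open scoped TensorProduct
open Polynomial

namespace Groth.Agent.Lib.Helper68.NormBC

/-- The determinant of a matrix over a domain that is integral over `A'` (as an element of the
matrix algebra) is integral over `A'`. -/
theorem isIntegral_det {A' S : Type*} [CommRing A'] [CommRing S] [IsDomain S] [Algebra A' S]
    {n : Type*} [Fintype n] [DecidableEq n] (M : Matrix n n S) (h : IsIntegral A' M) :
    IsIntegral A' M.det := by
  let Ω := AlgebraicClosure (FractionRing S)
  let g : S →ₐ[A'] Ω := IsScalarTower.toAlgHom A' S Ω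
  have hginj : Function.Injective g := by
    have h1 : (g : S → Ω) = (algebraMap (FractionRing S) Ω) ∘ (algebraMap S (FractionRing S)) := by
      funext s
      exact IsScalarTower.algebraMap_apply S (FractionRing S) Ω s
    rw [h1]
    exact (algebraMap (FractionRing S) Ω).injective.comp (IsFractionRing.injective S _)
  set N : Matrix n n Ω := (AlgHom.mapMatrix g) M with hN
  have hNint : IsIntegral A' N := h.map (AlgHom.mapMatrix g : Matrix n n S →ₐ[A'] Matrix n n Ω)
  obtain ⟨f, hfm, hf⟩ := hNint
  have hroot : ∀ μ ∈ N.charpoly.roots, IsIntegral A' μ := by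
    intro μ hμ
    have h1 : IsRoot N.charpoly μ := (Polynomial.mem_roots (N.charpoly_monic.ne_zero)).1 hμ
    have h2 : μ ∈ spectrum Ω N := Matrix.mem_spectrum_iff_isRoot_charpoly.2 h1
    have h3 := spectrum.subset_polynomial_aeval N (f.map (algebraMap A' Ω)) ⟨μ, h2, rfl⟩
    have h4 : aeval N (f.map (algebraMap A' Ω)) = 0 := by
      rw [Polynomial.aeval_map_algebraMap]
      exact hf
    rw [h4] at h3
    have h5 : eval μ (f.map (algebraMap A' Ω)) = 0 := by
      by_contra hne
      rw [spectrum.mem_iff] at h3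
      apply h3
      rw [sub_zero]
      exact (isUnit_iff_ne_zero.2 hne).map (algebraMap Ω (Matrix n n Ω))
    refine ⟨f, hfm, ?_⟩
    rw [← Polynomial.eval_map]
    exact h5
  have hdet : IsIntegral A' N.det := by
    rw [Matrix.det_eq_prod_roots_charpoly]
    exact IsIntegral.multiset_prod hroot
  have hdet' : N.det = g M.det := by
    rw [hN]
    exact (AlgHom.map_det g M).symm
  rw [hdet'] at hdet
  exact (isIntegral_algHom_iff g hginj).1 hdet

section Basis

variable (k K L R : Type u) [Field k] [Field K] [Algebra k K] [Field L] [Algebra K L]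
  [Algebra k L] [IsScalarTower k K L] [CommRing R] [Algebra k R]

/-- the algebra structure of `L ⊗ R` over `K ⊗ R`. -/
@[reducible] noncomputable def algKL : Algebra (K ⊗[k] R) (L ⊗[k] R) :=
  (Algebra.TensorProduct.map (IsScalarTower.toAlgHom k K L) (AlgHom.id k R)).toRingHom.toAlgebra

attribute [local instance] algKL

theorem algebraMap_tmul (c : K) (r : R) :
    algebraMap (K ⊗[k] R) (L ⊗[k] R) (c ⊗ₜ[k] r) = (algebraMap K L c) ⊗ₜ[k] r := by
  rfl

instance : IsScalarTower K (K ⊗[k] R) (L ⊗[k] R) := by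
  refine IsScalarTower.of_algebraMap_eq ?_
  intro c
  rw [Algebra.TensorProduct.algebraMap_apply, Algebra.TensorProduct.algebraMap_apply,
    algebraMap_tmul]
  simp

theorem isPushout : Algebra.IsPushout K (K ⊗[k] R) L (L ⊗[k] R) := by
  apply Algebra.IsPushout.symm
  apply Algebra.IsPushout.tensorProduct_tensorProduct k R K L
  ext r
  change algebraMap (K ⊗[k] R) (L ⊗[k] R) ((1 : K) ⊗ₜ[k] r) = (1 : L) ⊗ₜ[k] r
  rw [algebraMap_tmul, map_one]

variable {ι : Type*} [Fintype ι] [DecidableEq ι] (bL : Module.Basis ι K L)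

/-- the basis `bL i ⊗ 1` of `L ⊗ R` over `K ⊗ R`. -/
noncomputable def basisKL : Module.Basis ι (K ⊗[k] R) (L ⊗[k] R) :=
  (isPushout k K L R).out.basis bL

theorem basisKL_apply (i : ι) : basisKL k K L R bL i = (bL i) ⊗ₜ[k] (1 : R) := by
  unfold basisKL
  rw [IsBaseChange.basis_apply]
  rfl

theorem basisKL_repr_tmul_one (l : L) (i : ι) :
    (basisKL k K L R bL).repr (l ⊗ₜ[k] (1 : R)) i = (bL.repr l i) ⊗ₜ[k] (1 : R) := by
  unfold basisKL
  have := IsBaseChange.basis_repr_comp_apply bL (isPushout k K L R).out l i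
  exact this

theorem leftMulMatrix_tmul (l : L) (r : R) :
    Algebra.leftMulMatrix (basisKL k K L R bL) (l ⊗ₜ[k] r) =
      (Algebra.leftMulMatrix bL l).map (fun c => c ⊗ₜ[k] r) := by
  ext i j
  rw [Algebra.leftMulMatrix_eq_repr_mul, Matrix.map_apply, Algebra.leftMulMatrix_eq_repr_mul,
    basisKL_apply, Algebra.TensorProduct.tmul_mul_tmul, mul_one]
  have h1 : (l * bL j) ⊗ₜ[k] r = ((1 : K) ⊗ₜ[k] r : K ⊗[k] R) • ((l * bL j) ⊗ₜ[k] (1 : R)) := by
    rw [Algebra.smul_def, algebraMap_tmul, map_one, Algebra.TensorProduct.tmul_mul_tmul,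
      one_mul, mul_one]
  rw [h1, map_smul, Finsupp.smul_apply, basisKL_repr_tmul_one, smul_eq_mul,
    Algebra.TensorProduct.tmul_mul_tmul, one_mul, mul_one]

end Basis

section Integral

attribute [local instance] MvPolynomial.algebraMvPolynomial

variable (A K L : Type u) [CommRing A] [Field K] [Algebra A K] [Field L] [Algebra K L]
  [Algebra A L] [IsScalarTower A K L]
  (σ : Type u) {ι : Type*} [Fintype ι] [DecidableEq ι] (bL : Module.Basis ι K L)

/-- `l ↦ (leftMulMatrix l).map C` as a ring hom. -/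
noncomputable def rhoT : L →+* Matrix ι ι (MvPolynomial σ K) :=
  (MvPolynomial.C (σ := σ) (R := K)).mapMatrix.comp (Algebra.leftMulMatrix bL : L →+* Matrix ι ι K)

theorem rhoT_apply (l : L) :
    rhoT K L σ bL l = (Algebra.leftMulMatrix bL l).map (MvPolynomial.C (σ := σ)) := rfl

theorem rhoT_comp_algebraMap :
    (rhoT K L σ bL).comp (algebraMap A L) =
      (algebraMap (MvPolynomial σ A) (Matrix ι ι (MvPolynomial σ K))).comp
        (MvPolynomial.C (σ := σ)) := by
  refine RingHom.ext fun a => ?_
  refine Matrix.ext fun i j => ?_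
  simp only [RingHom.comp_apply, rhoT_apply]
  rw [IsScalarTower.algebraMap_apply A K L, AlgHom.commutes]
  by_cases hij : i = j
  · simp [Matrix.algebraMap_matrix_apply, hij]
  · simp [Matrix.algebraMap_matrix_apply, hij]

theorem isIntegral_rhoT (l : L) (hl : IsIntegral A l) :
    IsIntegral (MvPolynomial σ A) (rhoT K L σ bL l) := by
  obtain ⟨p, hpm, hp⟩ := hl
  refine ⟨p.map (MvPolynomial.C (σ := σ)), hpm.map _, ?_⟩
  rw [Polynomial.eval₂_map, ← rhoT_comp_algebraMap A K L σ bL, ← Polynomial.hom_eval₂, hp,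
    map_zero]

theorem isIntegral_sum_X_smul [Fintype σ] (b : σ → L) (hb : ∀ j, IsIntegral A (b j)) :
    IsIntegral (MvPolynomial σ A)
      (∑ j, (MvPolynomial.X j : MvPolynomial σ A) • rhoT K L σ bL (b j)) := by
  classical
  set s : Set (Matrix ι ι (MvPolynomial σ K)) := Set.range (fun j => rhoT K L σ bL (b j)) with hs
  have hcomm : ∀ x ∈ s, ∀ y ∈ s, x * y = y * x := by
    rintro _ ⟨i, rfl⟩ _ ⟨j, rfl⟩
    simp only
    rw [← map_mul, ← map_mul, mul_comm]
  letI : CommRing (Algebra.adjoin (MvPolynomial σ A) s) :=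
    Algebra.adjoinCommRingOfComm (MvPolynomial σ A) hcomm
  let N' : σ → Algebra.adjoin (MvPolynomial σ A) s := fun j =>
    ⟨rhoT K L σ bL (b j), Algebra.subset_adjoin ⟨j, rfl⟩⟩
  have h1 : ∀ j, IsIntegral (MvPolynomial σ A) (N' j) := by
    intro j
    refine (isIntegral_algHom_iff (Algebra.adjoin (MvPolynomial σ A) s).val
      Subtype.val_injective).1 ?_
    exact isIntegral_rhoT A K L σ bL (b j) (hb j)
  have h2 : IsIntegral (MvPolynomial σ A)
      (∑ j, (MvPolynomial.X j : MvPolynomial σ A) • N' j) :=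
    IsIntegral.sum _ fun j _ => (h1 j).smul _
  have h3 := h2.map (Algebra.adjoin (MvPolynomial σ A) s).val
  rw [map_sum] at h3
  simpa [N'] using h3

theorem det_mem_range_map [IsDomain A] [IsIntegrallyClosed A] [IsFractionRing A K]
    [Fintype σ] (b : σ → L) (hb : ∀ j, IsIntegral A (b j)) :
    (∑ j, (MvPolynomial.X j : MvPolynomial σ A) • rhoT K L σ bL (b j)).det ∈
      Set.range (MvPolynomial.map (σ := σ) (algebraMap A K)) := by
  have h1 := isIntegral_det _ (isIntegral_sum_X_smul A K L σ bL b hb)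
  rw [MvPolynomial.isIntegral_iff_isIntegral_coeff] at h1
  rw [MvPolynomial.mem_range_map_iff_coeffs_subset]
  intro c hc
  rw [Finset.mem_coe, MvPolynomial.mem_coeffs_iff] at hc
  obtain ⟨n, -, rfl⟩ := hc
  exact IsIntegrallyClosed.isIntegral_iff.1 (h1 n)

end Integral

section NormMem

attribute [local instance] MvPolynomial.algebraMvPolynomial
attribute [local instance] algKL

variable (k A K L R : Type u) [Field k]
  [CommRing A] [IsDomain A] [IsIntegrallyClosed A] [Algebra k A]
  [Field K] [Algebra A K] [IsFractionRing A K] [Algebra k K] [IsScalarTower k A K]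
  [Field L] [Algebra K L] [Algebra A L] [IsScalarTower A K L]
  [Algebra k L] [IsScalarTower k K L]
  [CommRing R] [Algebra k R]
  {ι : Type*} [Fintype ι] [DecidableEq ι] (bL : Module.Basis ι K L)
  {σ : Type u} [Fintype σ]

/-- evaluation `K[T] → K ⊗ R`, `T_j ↦ 1 ⊗ r_j`. -/
noncomputable def PhiK (r : σ → R) : MvPolynomial σ K →ₐ[K] K ⊗[k] R :=
  MvPolynomial.aeval (fun j => (1 : K) ⊗ₜ[k] r j)

/-- evaluation `A[T] → A ⊗ R`, `T_j ↦ 1 ⊗ r_j`. -/
noncomputable def PhiA (r : σ → R) : MvPolynomial σ A →ₐ[A] A ⊗[k] R :=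
  MvPolynomial.aeval (fun j => (1 : A) ⊗ₜ[k] r j)

theorem PhiK_comp_map (r : σ → R) :
    (PhiK k K R r : MvPolynomial σ K →+* K ⊗[k] R).comp (MvPolynomial.map (algebraMap A K)) =
      ((Algebra.TensorProduct.map (IsScalarTower.toAlgHom k A K) (AlgHom.id k R) :
        A ⊗[k] R →ₐ[k] K ⊗[k] R) : A ⊗[k] R →+* K ⊗[k] R).comp
        (PhiA k A R r : MvPolynomial σ A →+* A ⊗[k] R) := by
  apply MvPolynomial.ringHom_ext
  · intro a
    simp [PhiK, PhiA, Algebra.TensorProduct.algebraMap_apply]
  · intro j
    simp [PhiK, PhiA]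

theorem leftMulMatrix_sum (b : σ → L) (r : σ → R) :
    Algebra.leftMulMatrix (basisKL k K L R bL) (∑ j, (b j) ⊗ₜ[k] (r j)) =
      (PhiK k K R r : MvPolynomial σ K →+* K ⊗[k] R).mapMatrix
        (∑ j, (MvPolynomial.X j : MvPolynomial σ A) • rhoT K L σ bL (b j)) := by
  rw [map_sum, map_sum]
  refine Finset.sum_congr rfl fun j _ => ?_
  rw [leftMulMatrix_tmul]
  ext p q
  simp only [Matrix.map_apply, RingHom.mapMatrix_apply, Matrix.smul_apply, rhoT_apply]
  rw [Algebra.smul_def, MvPolynomial.algebraMap_def, MvPolynomial.map_X]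
  simp [PhiK, Algebra.TensorProduct.algebraMap_apply, Algebra.TensorProduct.tmul_mul_tmul]

include bL in
theorem norm_sum_mem_range (b : σ → L) (hb : ∀ j, IsIntegral A (b j)) (r : σ → R) :
    Algebra.norm (K ⊗[k] R) (∑ j, (b j) ⊗ₜ[k] (r j) : L ⊗[k] R) ∈
      Set.range (Algebra.TensorProduct.map (IsScalarTower.toAlgHom k A K) (AlgHom.id k R)) := by
  rw [Algebra.norm_eq_matrix_det (basisKL k K L R bL), leftMulMatrix_sum k A K L R bL b r,
    ← RingHom.map_det]
  obtain ⟨P₀, hP₀⟩ := det_mem_range_map A K L σ bL b hb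
  rw [← hP₀]
  have := RingHom.congr_fun (PhiK_comp_map k A K R r) P₀
  simp only [RingHom.comp_apply] at this
  rw [this]
  exact ⟨_, rfl⟩

end NormMem

section RegNorm

open Matrix

theorem isRegular_iff_mul_eq_zero {S : Type*} [CommRing S] (x : S) :
    IsRegular x ↔ ∀ z, x * z = 0 → z = 0 := by
  constructor
  · intro h z hz
    exact h.left (by simpa using hz)
  · intro h
    have hl : IsLeftRegular x := by
      intro a b hab
      have : x * (a - b) = 0 := by
        have hab' : x * a = x * b := hab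
        rw [mul_sub, hab', sub_self]
      exact sub_eq_zero.1 (h _ this)
    refine ⟨hl, ?_⟩
    intro a b hab
    apply hl
    simp only [mul_comm x]
    exact hab

/-- McCoy for square matrices: injective `mulVec` implies the determinant is regular. -/
theorem det_mul_eq_zero_of_mulVec_injective {S : Type*} [CommRing S] {n : ℕ}
    (M : Matrix (Fin n) (Fin n) S) (hM : ∀ v : Fin n → S, M.mulVec v = 0 → v = 0) (z : S)
    (hz : M.det * z = 0) : z = 0 := by
  apply Groth.Agent.H34.McCoy.eq_zero_of_mul_minors_eq_zero M hM z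
  intro f g
  by_cases hf : Function.Injective f
  · by_cases hg : Function.Injective g
    · let ef : Equiv.Perm (Fin n) := Equiv.ofBijective f (Finite.injective_iff_bijective.1 hf)
      let eg : Equiv.Perm (Fin n) := Equiv.ofBijective g (Finite.injective_iff_bijective.1 hg)
      have h1 : M.submatrix f g = (M.submatrix ef id).submatrix id eg := by
        ext i j
        rfl
      rw [h1, Matrix.det_permute', Matrix.det_permute]
      rw [mul_comm] at hz
      calc z * (↑↑(Equiv.Perm.sign eg) * (↑↑(Equiv.Perm.sign ef) * M.det))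
          = ↑↑(Equiv.Perm.sign eg) * ↑↑(Equiv.Perm.sign ef) * (z * M.det) := by ring
        _ = 0 := by rw [hz, mul_zero]
    · simp only [Function.Injective, not_forall] at hg
      obtain ⟨i, j, hij, hne⟩ := hg
      rw [Matrix.det_zero_of_column_eq hne (fun k => by simp [Matrix.submatrix_apply, hij]),
        mul_zero]
  · simp only [Function.Injective, not_forall] at hf
    obtain ⟨i, j, hij, hne⟩ := hf
    rw [Matrix.det_zero_of_row_eq hne (by ext k; simp [Matrix.submatrix_apply, hij]), mul_zero]

/-- In a finite free algebra an element is regular iff its norm is. -/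
theorem isRegular_iff_isRegular_norm {S M : Type*} [CommRing S] [CommRing M] [Algebra S M]
    {n : ℕ} (b : Module.Basis (Fin n) S M) (x : M) :
    IsRegular x ↔ IsRegular (Algebra.norm S x) := by
  rw [isRegular_iff_mul_eq_zero, isRegular_iff_mul_eq_zero, Algebra.norm_eq_matrix_det b]
  constructor
  · intro hx z hz
    refine det_mul_eq_zero_of_mulVec_injective _ ?_ z hz
    intro v hv
    have h1 : Algebra.leftMulMatrix b x *ᵥ (b.repr (b.equivFun.symm v)) = 0 := by
      have : (b.repr (b.equivFun.symm v) : Fin n → S) = v := by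
        rw [← Module.Basis.equivFun_apply, LinearEquiv.apply_symm_apply]
      rw [this]
      exact hv
    rw [Algebra.leftMulMatrix_mulVec_repr] at h1
    have h2 : x * b.equivFun.symm v = 0 := by
      apply b.repr.injective
      ext i
      have := congrFun h1 i
      simpa using this
    have h3 := hx _ h2
    have h4 : v = b.equivFun (b.equivFun.symm v) := (LinearEquiv.apply_symm_apply _ _).symm
    rw [h4, h3, map_zero]
  · intro hdet z hz
    have h1 : Algebra.leftMulMatrix b x *ᵥ (b.repr z) = 0 := by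
      rw [Algebra.leftMulMatrix_mulVec_repr, hz]
      simp
    have hmem : (Algebra.leftMulMatrix b x).det ∈ nonZeroDivisors S := by
      rw [mem_nonZeroDivisors_iff_right]
      intro y hy
      exact hdet y (by rw [mul_comm]; exact hy)
    have h2 := Matrix.eq_zero_of_det_mem_nonZeroDivisors_of_mulVec_eq_zero hmem h1
    apply b.repr.injective
    ext i
    have := congrFun h2 i
    simpa using this


end RegNorm

section Reg

variable (k A L R : Type u) [Field k]
  [CommRing A] [IsDomain A] [Algebra k A]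
  [Field L] [Algebra A L] [Algebra k L] [IsScalarTower k A L]
  [CommRing R] [Algebra k R]

/-- `B ⊗ R → L ⊗ R`. -/
noncomputable abbrev iotaB : (integralClosure A L) ⊗[k] R →ₐ[k] L ⊗[k] R :=
  Algebra.TensorProduct.map ((integralClosure A L).val.restrictScalars k) (AlgHom.id k R)

theorem iotaB_injective : Function.Injective (iotaB k A L R) := by
  have h1 : (iotaB k A L R : (integralClosure A L) ⊗[k] R → L ⊗[k] R) =
      LinearMap.rTensor R ((integralClosure A L).val.restrictScalars k).toLinearMap := by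
    funext x
    induction x using TensorProduct.induction_on with
    | zero => simp
    | tmul x y => simp
    | add x y hx hy => rw [map_add, map_add, hx, hy]
  rw [h1]
  apply Module.Flat.rTensor_preserves_injective_linearMap
  exact Subtype.val_injective

theorem isUnit_tmul_one (hinj : Function.Injective (algebraMap A L)) (a : A) (ha : a ≠ 0) :
    IsUnit ((algebraMap A L a) ⊗ₜ[k] (1 : R)) := by
  have h1 : IsUnit (algebraMap A L a) := by
    rw [isUnit_iff_ne_zero]
    intro h0
    exact ha (hinj (by rw [h0, map_zero]))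
  exact h1.map (Algebra.TensorProduct.includeLeft : L →ₐ[k] L ⊗[k] R)

theorem exists_mul_mem_range [Algebra.IsAlgebraic A L] (z : L ⊗[k] R) :
    ∃ a : A, a ≠ 0 ∧ ∃ w : (integralClosure A L) ⊗[k] R,
      iotaB k A L R w = ((algebraMap A L a) ⊗ₜ[k] (1 : R)) * z := by
  induction z using TensorProduct.induction_on with
  | zero => exact ⟨1, one_ne_zero, 0, by simp⟩
  | tmul l r =>
    obtain ⟨a, ha, hal⟩ := (Algebra.IsAlgebraic.isAlgebraic (R := A) l).exists_integral_multiple
    refine ⟨a, ha, (⟨a • l, hal⟩ : integralClosure A L) ⊗ₜ[k] r, ?_⟩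
    simp [Algebra.TensorProduct.tmul_mul_tmul, Algebra.smul_def]
  | add z₁ z₂ h₁ h₂ =>
    obtain ⟨a₁, ha₁, w₁, hw₁⟩ := h₁
    obtain ⟨a₂, ha₂, w₂, hw₂⟩ := h₂
    refine ⟨a₁ * a₂, mul_ne_zero ha₁ ha₂,
      ((algebraMap A (integralClosure A L) a₂) ⊗ₜ[k] (1 : R)) * w₁ +
        ((algebraMap A (integralClosure A L) a₁) ⊗ₜ[k] (1 : R)) * w₂, ?_⟩
    have h3 : ∀ a : A, iotaB k A L R ((algebraMap A (integralClosure A L) a) ⊗ₜ[k] (1 : R)) =
        (algebraMap A L a) ⊗ₜ[k] (1 : R) := by
      intro a
      simp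
    have h4 : (algebraMap A L (a₁ * a₂)) ⊗ₜ[k] (1 : R) =
        ((algebraMap A L a₁) ⊗ₜ[k] (1 : R)) * ((algebraMap A L a₂) ⊗ₜ[k] (1 : R)) := by
      rw [Algebra.TensorProduct.tmul_mul_tmul, map_mul, mul_one]
    rw [map_add, map_mul, map_mul, h3, h3, hw₁, hw₂, h4]
    ring

theorem isRegular_iotaB_iff [Algebra.IsAlgebraic A L]
    (hinj : Function.Injective (algebraMap A L)) (β : (integralClosure A L) ⊗[k] R) :
    IsRegular β ↔ IsRegular (iotaB k A L R β) := by
  rw [isRegular_iff_mul_eq_zero, isRegular_iff_mul_eq_zero]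
  constructor
  · intro hβ z hz
    obtain ⟨a, ha, w, hw⟩ := exists_mul_mem_range k A L R z
    have h1 : iotaB k A L R (β * w) = 0 := by
      rw [map_mul, hw, mul_left_comm, hz, mul_zero]
    have h2 : β * w = 0 := iotaB_injective k A L R (by rw [h1, map_zero])
    have h3 : w = 0 := hβ w h2
    rw [h3, map_zero] at hw
    exact ((isUnit_tmul_one k A L R hinj a ha).mul_right_eq_zero).1 hw.symm
  · intro hx y hy
    have h1 : iotaB k A L R β * iotaB k A L R y = 0 := by
      rw [← map_mul, hy, map_zero]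
    have h2 := hx _ h1
    exact iotaB_injective k A L R (by rw [h2, map_zero])

end Reg

end Groth.Agent.Lib.Helper68.NormBC
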