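import Mathlib.FieldTheory.SeparableClosure
import Mathlib.FieldTheory.IsAlgClosed.Basic
import Mathlib.FieldTheory.IntermediateField.Adjoin.Basic
import Mathlib.Algebra.CharP.Defs
import Mathlib.FieldTheory.Perfect
import Mathlib.Algebra.Polynomial.Lifts

/-!
# Separability over the field of `p^e`-th roots

For `L = k^{1/p^e}` inside an algebraically closed field `Ω`, an element `x` of `Ω` is separable
over `L` iff `x ^ p ^ e` is separable over `k`.
-/

namespace Groth.Agent.Lib.Helper68

open Polynomial

variable {k : Type*} [Field k] (p : ℕ) [Fact p.Prime] [CharP k p]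
  {Ω : Type*} [Field Ω] [Algebra k Ω]

/-- The field of `p^e`-th roots of elements of `k` inside `Ω`. -/
def rootField (e : ℕ) : IntermediateField k Ω :=
  IntermediateField.adjoin k {y : Ω | y ^ (p ^ e) ∈ Set.range (algebraMap k Ω)}

theorem mem_rootField_iff (e : ℕ) (y : Ω) :
    y ∈ rootField (k := k) p e ↔ y ^ (p ^ e) ∈ Set.range (algebraMap k Ω) := by
  haveI : CharP Ω p := charP_of_injective_algebraMap (algebraMap k Ω).injective p
  constructor
  · intro hy
    induction hy using IntermediateField.adjoin_induction with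
    | mem x hx => exact hx
    | algebraMap x => exact ⟨x ^ (p ^ e), by rw [map_pow]⟩
    | add x y _ _ hx hy =>
      obtain ⟨a, ha⟩ := hx
      obtain ⟨b, hb⟩ := hy
      exact ⟨a + b, by rw [map_add, ha, hb, add_pow_char_pow]⟩
    | inv x _ hx =>
      obtain ⟨a, ha⟩ := hx
      exact ⟨a⁻¹, by rw [map_inv₀, ha, inv_pow]⟩
    | mul x y _ _ hx hy =>
      obtain ⟨a, ha⟩ := hx
      obtain ⟨b, hb⟩ := hy
      exact ⟨a * b, by rw [map_mul, ha, hb, mul_pow]⟩
  · intro hy
    exact IntermediateField.subset_adjoin _ _ hy

variable [IsAlgClosed Ω]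

/-- An element is separable over `k^{1/p^e}` iff its `p^e`-th power is separable over `k`. -/
theorem isSeparable_rootField_iff (e : ℕ) (x : Ω) :
    IsSeparable (rootField (k := k) (Ω := Ω) p e) x ↔ IsSeparable k (x ^ (p ^ e)) := by
  haveI : CharP Ω p := charP_of_injective_algebraMap (algebraMap k Ω).injective p
  set L := rootField (k := k) (Ω := Ω) p e with hL
  let F : Ω ≃+* Ω := iterateFrobeniusEquiv Ω p e
  have hF : ∀ y : Ω, F y = y ^ (p ^ e) := fun y => rfl
  have heval : ∀ (q : Ω[X]) (y : Ω), eval (F y) (q.map (F : Ω →+* Ω)) = F (eval y q) := by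
    intro q y
    rw [eval_map, ← coe_eval₂RingHom]
    exact (hom_eval₂ q (RingHom.id Ω) (F : Ω →+* Ω) y).symm
  constructor
  · intro hx
    -- twist the minimal polynomial over `L`
    set h := minpoly L x with hh
    have hsep : h.Separable := hx
    let hΩ : Ω[X] := h.map (algebraMap L Ω)
    let gΩ : Ω[X] := hΩ.map (F : Ω →+* Ω)
    have hlift : gΩ ∈ lifts (algebraMap k Ω) := by
      rw [lifts_iff_coeff_lifts]
      intro n
      simp only [gΩ, hΩ, coeff_map]
      exact (mem_rootField_iff p e _).mp (h.coeff n).2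
    obtain ⟨g, hg⟩ := (mem_lifts _).mp hlift
    have hgsep : g.Separable := by
      rw [← separable_map (algebraMap k Ω), hg]
      simp only [gΩ, hΩ]
      rw [separable_map, separable_map]
      exact hsep
    have hroot : aeval (x ^ (p ^ e)) g = 0 := by
      rw [aeval_def, ← eval_map, hg, ← hF]
      simp only [gΩ]
      rw [heval]
      simp only [hΩ]
      rw [eval_map, ← aeval_def, hh, minpoly.aeval, map_zero]
    exact hgsep.of_dvd (minpoly.dvd k _ hroot)
  · intro hx
    set g := minpoly k (x ^ (p ^ e)) with hg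
    have hsep : g.Separable := hx
    let gΩ : Ω[X] := g.map (algebraMap k Ω)
    let hΩ : Ω[X] := gΩ.map (F.symm : Ω →+* Ω)
    have hback : hΩ.map (F : Ω →+* Ω) = gΩ := by
      simp only [hΩ]
      rw [map_map]
      have : (F : Ω →+* Ω).comp (F.symm : Ω →+* Ω) = RingHom.id Ω := by
        ext y
        simp
      rw [this, map_id]
    have hlift : hΩ ∈ lifts (algebraMap L Ω) := by
      rw [lifts_iff_coeff_lifts]
      intro n
      have hmem : hΩ.coeff n ∈ L := by
        rw [hL, mem_rootField_iff]
        refine ⟨g.coeff n, ?_⟩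
        simp only [hΩ, gΩ, coeff_map]
        rw [← hF]
        simp
      exact ⟨⟨_, hmem⟩, rfl⟩
    obtain ⟨h, hh⟩ := (mem_lifts _).mp hlift
    have hhsep : h.Separable := by
      rw [← separable_map (algebraMap L Ω), hh, ← separable_map (F : Ω →+* Ω), hback]
      simp only [gΩ]
      rw [separable_map]
      exact hsep
    have hroot : aeval x h = 0 := by
      rw [aeval_def, ← eval_map, hh]
      apply F.injective
      rw [← heval, hback, map_zero, hF]
      simp only [gΩ]
      rw [eval_map, ← aeval_def, hg, minpoly.aeval]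
    exact hhsep.of_dvd (minpoly.dvd L _ hroot)

end Groth.Agent.Lib.Helper68
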