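import Groth.Agent.Lib.Helper68.PiLocalization
import Mathlib.RingTheory.IntegralClosure.IntegrallyClosed
import Mathlib.RingTheory.Polynomial.ScaleRoots
import Mathlib.RingTheory.Localization.Integral

/-!
# Localizations of a product of integrally closed domains at a prime are integrally closed
-/

namespace Groth.Agent.Lib.Helper68

open Polynomial

/-- In an integrally closed domain, if `x` is a root of `scaleRoots g y` for a monic `g` and
`y ≠ 0`, then `y ∣ x`. -/
theorem dvd_of_eval_scaleRoots_eq_zero {A : Type*} [CommRing A] [IsDomain A] [IsIntegrallyClosed A]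
    (g : A[X]) (hg : g.Monic) (x y : A) (hy : y ≠ 0) (h : eval x (scaleRoots g y) = 0) : y ∣ x := by
  let K := FractionRing A
  have hyK : algebraMap A K y ≠ 0 := fun h0 =>
    hy ((injective_iff_map_eq_zero _).1 (IsFractionRing.injective A K) _ h0)
  have h1 : eval₂ (algebraMap A K) (algebraMap A K y * (algebraMap A K x / algebraMap A K y))
      (scaleRoots g y) = algebraMap A K y ^ g.natDegree *
        eval₂ (algebraMap A K) (algebraMap A K x / algebraMap A K y) g :=
    scaleRoots_eval₂_mul (algebraMap A K) _ y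
  rw [mul_div_cancel₀ _ hyK, eval₂_at_apply, h, map_zero] at h1
  have h2 : eval₂ (algebraMap A K) (algebraMap A K x / algebraMap A K y) g = 0 := by
    rcases mul_eq_zero.mp h1.symm with h3 | h3
    · exact absurd h3 (pow_ne_zero _ hyK)
    · exact h3
  have hint : IsIntegral A (algebraMap A K x / algebraMap A K y) := ⟨g, hg, h2⟩
  obtain ⟨k, hk⟩ := IsIntegrallyClosed.algebraMap_eq_of_integral hint
  refine ⟨k, IsFractionRing.injective A K ?_⟩
  rw [map_mul, hk, mul_div_cancel₀ _ hyK]

section

variable {ι : Type*} {R : ι → Type*} [∀ i, CommRing (R i)] [∀ i, IsDomain (R i)]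
  [∀ i, IsIntegrallyClosed (R i)] {P : Ideal (∀ i, R i)} [hP : P.IsPrime]
  (L : Type*) [CommRing L] [Algebra (∀ i, R i) L] [IsLocalization.AtPrime L P]

include P in
/-- The localization of a product of integrally closed domains at a prime is integrally closed. -/
theorem piLoc_isIntegrallyClosed [IsDomain L] : IsIntegrallyClosed L := by
  classical
  rw [isIntegrallyClosed_iff (FractionRing L)]
  intro z hz
  obtain ⟨m, hm⟩ := IsIntegral.exists_multiple_integral_of_isLocalization P.primeCompl z hz
  obtain ⟨g, hg, hgz⟩ := hm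
  obtain ⟨a, b, hb, hab⟩ := IsFractionRing.div_surjective (A := L) (m • z)
  obtain ⟨x, s, rfl⟩ := IsLocalization.exists_mk'_eq P.primeCompl a
  obtain ⟨y, t, rfl⟩ := IsLocalization.exists_mk'_eq P.primeCompl b
  set φ := algebraMap (∀ i, R i) L with hφ
  set f := algebraMap L (FractionRing L) with hf
  have hfinj : Function.Injective f := IsFractionRing.injective L (FractionRing L)
  -- units
  have hsu : IsUnit (φ s) := IsLocalization.map_units L s
  have htu : IsUnit (φ t) := IsLocalization.map_units L t
  have hmu : IsUnit (φ m) := IsLocalization.map_units L m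
  have hb0 : IsLocalization.mk' L y t ≠ 0 := nonZeroDivisors.ne_zero hb
  have hy0 : φ y ≠ 0 := by
    intro h0
    apply hb0
    rw [IsLocalization.mk'_eq_zero_iff]
    exact (IsLocalization.map_eq_zero_iff P.primeCompl L y).mp h0
  -- the fraction `m • z = f (φ (x * t)) / f (φ (y * s))`
  set x' : ∀ i, R i := x * t with hx'
  set y' : ∀ i, R i := y * s with hy'
  have hy'0 : φ y' ≠ 0 := by
    rw [hy', map_mul]
    exact mul_ne_zero hy0 hsu.ne_zero
  have hfy' : f (φ y') ≠ 0 := fun h0 => hy'0 ((injective_iff_map_eq_zero f).mp hfinj _ h0)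
  have hmz : m • z = f (φ x') / f (φ y') := by
    rw [← hab, div_eq_div_iff (by
      intro h0
      exact hb0 ((injective_iff_map_eq_zero f).mp hfinj _ h0)) hfy', ← map_mul, ← map_mul]
    congr 1
    rw [hx', hy', map_mul, map_mul]
    have e1 : IsLocalization.mk' L x s * φ s = φ x := IsLocalization.mk'_spec L x s
    have e2 : IsLocalization.mk' L y t * φ t = φ y := IsLocalization.mk'_spec L y t
    rw [← e1, ← e2]
    ring
  -- the polynomial over `L`
  have hgL : (g.map φ).Monic := hg.map φ
  have hroot : eval₂ f (f (φ x') / f (φ y')) (g.map φ) = 0 := by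
    rw [eval₂_map, ← hmz]
    exact hgz
  have hy'nzd : φ y' ∈ nonZeroDivisors L := mem_nonZeroDivisors_of_ne_zero hy'0
  have h1 := scaleRoots_eval₂_eq_zero_of_eval₂_div_eq_zero hfinj hroot hy'nzd
  rw [eval₂_at_apply] at h1
  have h2 : eval (φ x') (scaleRoots (g.map φ) (φ y')) = 0 :=
    (injective_iff_map_eq_zero f).mp hfinj _ h1
  have hlead : φ g.leadingCoeff ≠ 0 := by
    rw [hg.leadingCoeff, map_one]
    exact one_ne_zero
  rw [← map_scaleRoots g y' φ hlead, eval_map, eval₂_at_apply] at h2
  -- so the element `E` vanishes on a large set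
  set E : ∀ i, R i := eval x' (scaleRoots g y') with hE
  have hElarge : PiLarge P {i | E i = 0} := (piLoc_map_eq_zero_iff (P := P) L E).mp h2
  have hylarge : PiLarge P {i | y' i ≠ 0} := (piLoc_map_ne_zero_iff (P := P) L y').mp hy'0
  have hS := hElarge.inter hylarge
  -- componentwise divisibility
  have hdvd : ∀ i ∈ {i | E i = 0} ∩ {i | y' i ≠ 0}, y' i ∣ x' i := by
    rintro i ⟨hEi, hyi⟩
    have hgi : (g.map (Pi.evalRingHom R i)).Monic := hg.map _
    have hleadi : Pi.evalRingHom R i g.leadingCoeff ≠ 0 := by
      rw [hg.leadingCoeff, map_one]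
      exact one_ne_zero
    apply dvd_of_eval_scaleRoots_eq_zero (g.map (Pi.evalRingHom R i)) hgi (x' i) (y' i) hyi
    have : eval (Pi.evalRingHom R i x') ((scaleRoots g y').map (Pi.evalRingHom R i)) =
        Pi.evalRingHom R i E := by
      rw [eval_map, eval₂_at_apply]
    rw [map_scaleRoots g y' _ hleadi] at this
    rw [show x' i = Pi.evalRingHom R i x' from rfl, show y' i = Pi.evalRingHom R i y' from rfl, this]
    exact hEi
  let v : ∀ i, R i := fun i => if h : y' i ∣ x' i then h.choose else 0
  have hv : φ x' = φ (y' * v) := by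
    apply piLoc_map_eq_of_eqOn (P := P) L hS
    intro i hi
    have hdi : y' i ∣ x' i := hdvd i hi
    show x' i = y' i * v i
    simp only [v, dif_pos hdi]
    exact hdi.choose_spec
  -- conclusion
  refine ⟨IsLocalization.mk' L v m, ?_⟩
  have hfm : f (φ m) ≠ 0 := fun h0 => hmu.ne_zero ((injective_iff_map_eq_zero f).mp hfinj _ h0)
  have hmz' : m • z = f (φ m) * z := by
    rw [Submonoid.smul_def, Algebra.smul_def, IsScalarTower.algebraMap_apply (∀ i, R i) L (FractionRing L)]
  have e3 : IsLocalization.mk' L v m * φ m = φ v := IsLocalization.mk'_spec L v m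
  have hz : f (φ m) * z = f (φ v) := by
    rw [← hmz', hmz, hv, map_mul, map_mul, mul_div_cancel_left₀ _ hfy']
  apply mul_left_cancel₀ hfm
  rw [hz, ← e3, map_mul, mul_comm]

end

end Groth.Agent.Lib.Helper68
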