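import Mathlib.RingTheory.Localization.AtPrime.Basic
import Mathlib.RingTheory.Localization.FractionRing
import Mathlib.RingTheory.Ideal.Prime
import Mathlib.Algebra.Ring.Pi

/-!
# Localizations of a product of domains at a prime ideal

For a family of domains `R i` and a prime ideal `P` of the product ring, the sets `S` of indices
whose indicator idempotent is not in `P` form an ultrafilter ("large" sets).  An element of the
product maps to zero in the localization at `P` iff it vanishes on a large set.
-/

namespace Groth.Agent.Lib.Helper68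

open Classical in
/-- The indicator idempotent of a set of indices. -/
noncomputable def piInd {ι : Type*} (R : ι → Type*) [∀ i, CommRing (R i)] (S : Set ι) :
    ∀ i, R i := fun i => if i ∈ S then 1 else 0

section

variable {ι : Type*} {R : ι → Type*} [∀ i, CommRing (R i)]

theorem piInd_apply_of_mem {S : Set ι} {i : ι} (h : i ∈ S) : piInd R S i = 1 := by
  simp [piInd, h]

theorem piInd_apply_of_not_mem {S : Set ι} {i : ι} (h : i ∉ S) : piInd R S i = 0 := by
  simp [piInd, h]

theorem piInd_mul (S T : Set ι) : piInd R S * piInd R T = piInd R (S ∩ T) := by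
  funext i
  by_cases hS : i ∈ S <;> by_cases hT : i ∈ T <;> simp [piInd, hS, hT]

theorem piInd_univ : piInd R (Set.univ : Set ι) = 1 := by
  funext i
  simp [piInd]

theorem piInd_add_compl (S : Set ι) : piInd R S + piInd R Sᶜ = 1 := by
  funext i
  by_cases hS : i ∈ S <;> simp [piInd, hS]

variable (P : Ideal (∀ i, R i))

/-- A set of indices is large (with respect to the prime `P`) if its indicator is not in `P`. -/
def PiLarge (S : Set ι) : Prop := piInd R S ∉ P

variable {P}

theorem piLarge_univ [hP : P.IsPrime] : PiLarge P (Set.univ : Set ι) := by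
  unfold PiLarge
  rw [piInd_univ]
  exact fun h => hP.ne_top ((Ideal.eq_top_iff_one P).mpr h)

theorem PiLarge.inter [hP : P.IsPrime] {S T : Set ι} (hS : PiLarge P S) (hT : PiLarge P T) :
    PiLarge P (S ∩ T) := by
  unfold PiLarge at *
  rw [← piInd_mul]
  intro h
  rcases hP.mem_or_mem h with h | h
  · exact hS h
  · exact hT h

theorem PiLarge.mono {S T : Set ι} (hS : PiLarge P S) (hST : S ⊆ T) : PiLarge P T := by
  unfold PiLarge at *
  intro h
  apply hS
  have : piInd R S = piInd R S * piInd R T := by
    rw [piInd_mul, Set.inter_eq_left.mpr hST]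
  rw [this]
  exact P.mul_mem_left _ h

theorem piLarge_or_compl [hP : P.IsPrime] (S : Set ι) : PiLarge P S ∨ PiLarge P Sᶜ := by
  by_contra hcon
  push_neg at hcon
  unfold PiLarge at hcon
  simp only [not_not] at hcon
  have := P.add_mem hcon.1 hcon.2
  rw [piInd_add_compl] at this
  exact hP.ne_top ((Ideal.eq_top_iff_one P).mpr this)

theorem PiLarge.of_subset_union [hP : P.IsPrime] {W S T : Set ι} (hW : PiLarge P W)
    (h : W ⊆ S ∪ T) : PiLarge P S ∨ PiLarge P T := by
  rcases piLarge_or_compl (P := P) S with hS | hS
  · exact Or.inl hS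
  · right
    refine (hS.inter hW).mono ?_
    rintro i ⟨hiS, hiW⟩
    rcases h hiW with h1 | h1
    · exact absurd h1 hiS
    · exact h1

theorem piLarge_support_of_not_mem {x : ∀ i, R i} (hx : x ∉ P) : PiLarge P {i | x i ≠ 0} := by
  unfold PiLarge
  intro h
  apply hx
  have : x = x * piInd R {i | x i ≠ 0} := by
    funext i
    by_cases hi : x i = 0
    · simp [hi]
    · have : i ∈ {i | x i ≠ 0} := hi
      simp [piInd_apply_of_mem this]
  rw [this]
  exact P.mul_mem_left _ h

variable [∀ i, IsDomain (R i)] [hP : P.IsPrime]
  (L : Type*) [CommRing L] [Algebra (∀ i, R i) L] [IsLocalization.AtPrime L P]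

theorem piLoc_map_eq_zero_iff (x : ∀ i, R i) :
    algebraMap (∀ i, R i) L x = 0 ↔ PiLarge P {i | x i = 0} := by
  rw [IsLocalization.map_eq_zero_iff P.primeCompl L x]
  constructor
  · rintro ⟨m, hm⟩
    refine (piLarge_support_of_not_mem (P := P) m.2).mono ?_
    intro i hi
    have := congrFun hm i
    simp only [Pi.mul_apply, Pi.zero_apply, mul_eq_zero] at this
    rcases this with h | h
    · exact absurd h hi
    · exact h
  · intro h
    refine ⟨⟨piInd R {i | x i = 0}, h⟩, ?_⟩
    funext i
    by_cases hi : x i = 0
    · simp [hi]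
    · have : i ∉ {i | x i = 0} := hi
      simp [piInd_apply_of_not_mem this]

theorem piLoc_map_eq_of_eqOn {x y : ∀ i, R i} {S : Set ι} (hS : PiLarge P S)
    (h : ∀ i ∈ S, x i = y i) : algebraMap (∀ i, R i) L x = algebraMap (∀ i, R i) L y := by
  rw [← sub_eq_zero, ← map_sub, piLoc_map_eq_zero_iff (P := P)]
  refine hS.mono ?_
  intro i hi
  show (x - y) i = 0
  rw [Pi.sub_apply, h i hi, sub_self]

theorem piLoc_map_ne_zero_iff (x : ∀ i, R i) :
    algebraMap (∀ i, R i) L x ≠ 0 ↔ PiLarge P {i | x i ≠ 0} := by
  rw [Ne, piLoc_map_eq_zero_iff (P := P)]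
  constructor
  · intro h
    rcases piLarge_or_compl (P := P) {i | x i = 0} with h1 | h1
    · exact absurd h1 h
    · exact h1
  · intro h h'
    have := h.inter h'
    have hempty : PiLarge P (∅ : Set ι) := this.mono (by
      rintro i ⟨h1, h2⟩
      exact absurd h2 h1)
    unfold PiLarge at hempty
    apply hempty
    have : piInd R (∅ : Set ι) = 0 := by
      funext i
      simp [piInd]
    rw [this]
    exact P.zero_mem

include P in
/-- The localization is a domain. -/
theorem piLoc_isDomain : IsDomain L := by
  have : Nontrivial L := (IsLocalization.AtPrime.isLocalRing L P).toNontrivial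
  have : NoZeroDivisors L := by
    constructor
    intro a b hab
    obtain ⟨x, s, rfl⟩ := IsLocalization.exists_mk'_eq P.primeCompl a
    obtain ⟨y, t, rfl⟩ := IsLocalization.exists_mk'_eq P.primeCompl b
    rw [← IsLocalization.mk'_mul, IsLocalization.mk'_eq_zero_iff] at hab
    obtain ⟨m, hm⟩ := hab
    have hW : PiLarge P {i | (m : ∀ i, R i) i ≠ 0} := piLarge_support_of_not_mem m.2
    have hsub : {i | (m : ∀ i, R i) i ≠ 0} ⊆ {i | x i = 0} ∪ {i | y i = 0} := by
      intro i hi
      have := congrFun hm i
      simp only [Pi.mul_apply, Pi.zero_apply, mul_eq_zero] at this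
      rcases this with h | h | h
      · exact absurd h hi
      · exact Or.inl h
      · exact Or.inr h
    rcases hW.of_subset_union hsub with h | h
    · left
      rw [IsLocalization.mk'_eq_zero_iff]
      exact (IsLocalization.map_eq_zero_iff P.primeCompl L x).mp
        ((piLoc_map_eq_zero_iff (P := P) L x).mpr h)
    · right
      rw [IsLocalization.mk'_eq_zero_iff]
      exact (IsLocalization.map_eq_zero_iff P.primeCompl L y).mp
        ((piLoc_map_eq_zero_iff (P := P) L y).mpr h)
  exact NoZeroDivisors.to_isDomain L

end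

end Groth.Agent.Lib.Helper68
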