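import Mathlib
import Groth.Prelude.Def_W4c1imperftorsorsPerf

set_option autoImplicit false
universe u v w
open TensorProduct W4c1imperftorsors

namespace Groth.Agent.Lib.Helper68.PrePerf

section
variable (p : ℕ) [Fact p.Prime] (R : Type u) [CommRing R] [CharP R p]
  (A : Type v) [CommRing A] [Algebra R A] (i : ℕ)

/-- Ring hom out of the `i`-th Frobenius twist. -/
noncomputable def twistLift {T : Type w} [CommRing T] (φ : R →+* T) (ψ : A →+* T)
    (h : ∀ s : R, ψ (algebraMap R A s) = φ s ^ (p ^ i)) : Twist p R A i →+* T :=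
  letI : Algebra (Src p R i) T := (φ.comp (algebraMap (Src p R i) R)).toAlgebra
  let f : R →ₐ[Src p R i] T := { φ with commutes' := fun s => rfl }
  let g : ASrc p R A i →ₐ[Src p R i] T :=
    { ψ.comp (aEquiv p R A i : ASrc p R A i →+* A) with
      commutes' := fun s => by
        change ψ (aEquiv p R A i (algebraMap (Src p R i) (ASrc p R A i) s)) =
          φ (algebraMap (Src p R i) R s)
        rw [algebraMap_aSrc, RingEquiv.apply_symm_apply, h, algebraMap_src, map_pow] }
  (Algebra.TensorProduct.lift f g (fun _ _ => Commute.all _ _)).toRingHom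

theorem twistLift_tmul {T : Type w} [CommRing T] (φ : R →+* T) (ψ : A →+* T)
    (h : ∀ s : R, ψ (algebraMap R A s) = φ s ^ (p ^ i)) (r : R) (a : ASrc p R A i) :
    twistLift p R A i φ ψ h (r ⊗ₜ a) = φ r * ψ (aEquiv p R A i a) := by
  let _ : Algebra (Src p R i) T := (φ.comp (algebraMap (Src p R i) R)).toAlgebra
  simp only [twistLift]
  erw [Algebra.TensorProduct.lift_tmul]
  rfl

theorem algebraMap_twist (r : R) : algebraMap R (Twist p R A i) r = r ⊗ₜ 1 := by
  rw [Algebra.TensorProduct.algebraMap_apply, Algebra.algebraMap_self, RingHom.id_apply]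

/-- moving a scalar across the twisted tensor product -/
theorem tmul_smul_move (s r : R) (a : ASrc p R A i) :
    (r ⊗ₜ[Src p R i] ((aEquiv p R A i).symm (algebraMap R A s * aEquiv p R A i a)) : Twist p R A i) =
      (s ^ (p ^ i) * r) ⊗ₜ a := by
  have h := TensorProduct.smul_tmul (R := Src p R i) (R' := Src p R i) (M := R) (N := ASrc p R A i)
    ((srcEquiv p R i).symm s) r a
  have h1 : ((srcEquiv p R i).symm s) • r = s ^ (p ^ i) * r := by
    rw [Algebra.smul_def, algebraMap_src, RingEquiv.apply_symm_apply]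
  have h2 : ((srcEquiv p R i).symm s) • a =
      (aEquiv p R A i).symm (algebraMap R A s * aEquiv p R A i a) := by
    rw [Algebra.smul_def, algebraMap_aSrc, RingEquiv.apply_symm_apply, map_mul,
      RingEquiv.symm_apply_apply]
  rw [h1, h2] at h
  exact h.symm

/-- injectivity of `R → Twist i` from a retraction -/
theorem algebraMap_twist_injective (ρ : A →ₐ[R] R) :
    Function.Injective (algebraMap R (Twist p R A i)) := by
  have h : ∀ s : R, ((iterateFrobenius R p i).comp (ρ : A →+* R)) (algebraMap R A s) =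
      (RingHom.id R) s ^ (p ^ i) := by
    intro s
    simp [iterateFrobenius_def]
  intro a b hab
  have := congrArg (twistLift p R A i (RingHom.id R) ((iterateFrobenius R p i).comp (ρ : A →+* R)) h) hab
  rw [algebraMap_twist, algebraMap_twist, twistLift_tmul, twistLift_tmul] at this
  simpa using this

variable [CharP A p]

theorem relFrob_tmul (r : R) (a : ASrc p R A (i + 1)) :
    relFrob p R A i (r ⊗ₜ a) =
      r ⊗ₜ[Src p R i] ((aEquiv p R A i).symm ((aEquiv p R A (i + 1) a) ^ p)) := by
  change relFrobAux p R A i (r ⊗ₜ a) = _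
  rw [relFrobAux, Algebra.TensorProduct.lift_tmul]
  change algebraMap R (Twist p R A i) r * ((1 : R) ⊗ₜ[Src p R i] _) = _
  rw [algebraMap_twist, Algebra.TensorProduct.tmul_mul_tmul, mul_one, one_mul]
  rfl

end

section concrete
open Polynomial
variable (R : Type u) [CommRing R] (u v : R)

/-- the ideal `(uX, X² − v²)` -/
noncomputable abbrev J0 : Ideal R[X] := Ideal.span {(C u * X : R[X]), X ^ 2 - C (v ^ 2)}
/-- `B = R[α]/(uα, α² − v²)` -/
abbrev B0 : Type u := R[X] ⧸ J0 R u v
/-- the class of `X` -/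
noncomputable def al : B0 R u v := Ideal.Quotient.mk _ X

theorem algebraMap_B0 (s : R) : algebraMap R (B0 R u v) s = Ideal.Quotient.mk _ (C s) := rfl

theorem u_mul_al : algebraMap R (B0 R u v) u * al R u v = 0 := by
  rw [algebraMap_B0, al, ← map_mul, Ideal.Quotient.eq_zero_iff_mem]
  exact Ideal.subset_span (by simp)

theorem al_sq : al R u v ^ 2 = algebraMap R (B0 R u v) (v ^ 2) := by
  rw [algebraMap_B0, al, ← map_pow, ← sub_eq_zero, ← map_sub, Ideal.Quotient.eq_zero_iff_mem]
  exact Ideal.subset_span (by simp)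

theorem exists_repr (b : B0 R u v) :
    ∃ a c : R, b = algebraMap R (B0 R u v) a + algebraMap R (B0 R u v) c * al R u v := by
  obtain ⟨P, rfl⟩ := Ideal.Quotient.mk_surjective b
  induction P using Polynomial.induction_on' with
  | add P Q hP hQ =>
    obtain ⟨a, c, h1⟩ := hP
    obtain ⟨a', c', h2⟩ := hQ
    refine ⟨a + a', c + c', ?_⟩
    rw [map_add, h1, h2, map_add, map_add]; ring
  | monomial n a =>
    have key : ∀ n : ℕ, ∃ a c : R, al R u v ^ n =
        algebraMap R (B0 R u v) a + algebraMap R (B0 R u v) c * al R u v := by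
      intro n
      induction n with
      | zero => exact ⟨1, 0, by simp⟩
      | succ n ih =>
        obtain ⟨a, c, h⟩ := ih
        refine ⟨c * v ^ 2, a, ?_⟩
        rw [pow_succ, h, add_mul, mul_assoc, ← pow_two, al_sq, map_mul]; ring
    obtain ⟨a', c', h⟩ := key n
    refine ⟨a * a', a * c', ?_⟩
    rw [← C_mul_X_pow_eq_monomial, map_mul, map_pow, ← algebraMap_B0]
    change algebraMap R (B0 R u v) a * al R u v ^ n = _
    rw [h, map_mul, map_mul]; ring

theorem al_pow_odd (m : ℕ) :
    al R u v ^ (2 * m + 1) = algebraMap R (B0 R u v) (v ^ (2 * m)) * al R u v := by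
  rw [pow_succ, pow_mul, al_sq, ← map_pow, ← pow_mul]

/-- the retraction `α ↦ v` -/
noncomputable def retr (huv : u * v = 0) : B0 R u v →ₐ[R] R :=
  Ideal.Quotient.liftₐ (J0 R u v) (Polynomial.aeval v) (by
    have : J0 R u v ≤ RingHom.ker (Polynomial.aeval (R := R) v) := by
      rw [Ideal.span_le]
      intro x hx
      rcases hx with rfl | rfl
      · simp [huv]
      · simp
    intro a ha
    exact this ha)

end concrete

section main
open Polynomial
variable (p : ℕ) [Fact p.Prime] (R : Type u) [CommRing R] [CharP R p] (u v : R) (i : ℕ)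

/-- `α` in the copy `ASrc`. -/
noncomputable def alS : ASrc p R (B0 R u v) i := (aEquiv p R (B0 R u v) i).symm (al R u v)

theorem tw_repr (x : Twist p R (B0 R u v) i) :
    ∃ r s : R, x = r ⊗ₜ 1 + s ⊗ₜ alS p R u v i := by
  induction x using TensorProduct.induction_on with
  | zero => exact ⟨0, 0, by simp⟩
  | tmul r b =>
    obtain ⟨a, c, h⟩ := exists_repr R u v (aEquiv p R _ i b)
    refine ⟨a ^ (p ^ i) * r, c ^ (p ^ i) * r, ?_⟩
    rw [← tmul_smul_move, ← tmul_smul_move, ← TensorProduct.tmul_add]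
    congr 1
    apply (aEquiv p R (B0 R u v) i).injective
    rw [map_add, RingEquiv.apply_symm_apply, RingEquiv.apply_symm_apply, map_one, mul_one, h, alS,
      RingEquiv.apply_symm_apply]
  | add x y hx hy =>
    obtain ⟨r, s, rfl⟩ := hx
    obtain ⟨r', s', rfl⟩ := hy
    refine ⟨r + r', s + s', ?_⟩
    rw [TensorProduct.add_tmul, TensorProduct.add_tmul]
    abel

theorem tmul_alS_eq_zero (c : R) :
    ((u ^ (p ^ i) * c) ⊗ₜ[Src p R i] alS p R u v i : Twist p R (B0 R u v) i) = 0 := by
  rw [← tmul_smul_move, alS, RingEquiv.apply_symm_apply, u_mul_al, map_zero, TensorProduct.tmul_zero]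

theorem relFrob_repr (m : ℕ) (hp : p = 2 * m + 1) [CharP (B0 R u v) p] (r s : R) :
    relFrob p R (B0 R u v) i (r ⊗ₜ 1 + s ⊗ₜ alS p R u v (i + 1)) =
      r ⊗ₜ 1 + ((v ^ (2 * m)) ^ (p ^ i) * s) ⊗ₜ alS p R u v i := by
  rw [map_add, relFrob_tmul, relFrob_tmul, map_one, one_pow, map_one, ← tmul_smul_move]
  congr 3
  rw [alS, alS, RingEquiv.apply_symm_apply, RingEquiv.apply_symm_apply]
  conv_lhs => rw [hp]
  exact al_pow_odd R u v m


/-- the quotient `R/(u^{p^i})` -/
abbrev Rbar : Type u := R ⧸ Ideal.span {u ^ (p ^ i)}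
/-- the polynomial `X² − v̄^{2p^i}` over `R/(u^{p^i})` -/
noncomputable abbrev gpoly : (Rbar p R u i)[X] :=
  X ^ 2 - C ((Ideal.Quotient.mk (Ideal.span {u ^ (p ^ i)}) v) ^ (2 * p ^ i))

omit [Fact p.Prime] [CharP R p] in
theorem gpoly_monic : (gpoly p R u v i).Monic := by
  rw [gpoly]
  exact monic_X_pow_sub_C _ (by norm_num)

/-- the test ring -/
abbrev TT : Type u := AdjoinRoot (gpoly p R u v i)

/-- `R → TT` -/
noncomputable def phi : R →+* TT p R u v i :=
  (AdjoinRoot.of (gpoly p R u v i)).comp (Ideal.Quotient.mk (Ideal.span {u ^ (p ^ i)}))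

omit [Fact p.Prime] [CharP R p] in
theorem root_sq : AdjoinRoot.root (gpoly p R u v i) ^ 2 = phi p R u v i (v ^ (2 * p ^ i)) := by
  have h := AdjoinRoot.eval₂_root (gpoly p R u v i)
  rw [gpoly, eval₂_sub, eval₂_pow, eval₂_X, eval₂_C, sub_eq_zero] at h
  rw [h, phi, RingHom.comp_apply]
  simp only [map_pow]

/-- `B0 → TT`, Frobenius-semilinear -/
noncomputable def psi : B0 R u v →+* TT p R u v i :=
  Ideal.Quotient.lift (J0 R u v)
    (eval₂RingHom ((phi p R u v i).comp (iterateFrobenius R p i)) (AdjoinRoot.root (gpoly p R u v i)))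
    (by
      have : J0 R u v ≤ RingHom.ker (eval₂RingHom ((phi p R u v i).comp (iterateFrobenius R p i))
          (AdjoinRoot.root (gpoly p R u v i))) := by
        rw [Ideal.span_le]
        intro x hx
        rcases hx with rfl | rfl
        · rw [SetLike.mem_coe, RingHom.mem_ker, coe_eval₂RingHom, eval₂_mul, eval₂_C, eval₂_X,
            RingHom.comp_apply, iterateFrobenius_def, phi, RingHom.comp_apply]
          rw [Ideal.Quotient.eq_zero_iff_mem.mpr (Ideal.mem_span_singleton_self _), map_zero, zero_mul]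
        · rw [SetLike.mem_coe, RingHom.mem_ker, coe_eval₂RingHom, eval₂_sub, eval₂_pow, eval₂_X,
            eval₂_C, RingHom.comp_apply, iterateFrobenius_def, root_sq, ← pow_mul, sub_self]
      intro a ha
      exact RingHom.mem_ker.mp (this ha))

theorem psi_algebraMap (s : R) :
    psi p R u v i (algebraMap R (B0 R u v) s) = phi p R u v i s ^ (p ^ i) := by
  rw [algebraMap_B0, psi, Ideal.Quotient.lift_mk, coe_eval₂RingHom, eval₂_C, RingHom.comp_apply,
    iterateFrobenius_def, map_pow]

theorem psi_al : psi p R u v i (al R u v) = AdjoinRoot.root (gpoly p R u v i) := by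
  rw [al, psi, Ideal.Quotient.lift_mk, coe_eval₂RingHom, eval₂_X]

theorem extract (r s r' s' : R)
    (h : (r ⊗ₜ[Src p R i] (1 : ASrc p R (B0 R u v) i) + s ⊗ₜ alS p R u v i : Twist p R (B0 R u v) i) =
      r' ⊗ₜ 1 + s' ⊗ₜ alS p R u v i) : s - s' ∈ Ideal.span {u ^ (p ^ i)} := by
  have h1 := congrArg (twistLift p R (B0 R u v) i (phi p R u v i) (psi p R u v i)
    (psi_algebraMap p R u v i)) h
  simp only [map_add, twistLift_tmul, map_one, mul_one, alS, RingEquiv.apply_symm_apply, psi_al] at h1
  -- φ r + φ s * root = φ r' + φ s' * root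
  set q : (Rbar p R u i)[X] :=
    C (Ideal.Quotient.mk (Ideal.span {u ^ (p ^ i)}) (r - r')) +
      C (Ideal.Quotient.mk (Ideal.span {u ^ (p ^ i)}) (s - s')) * X with hq
  have h2 : AdjoinRoot.mk (gpoly p R u v i) q = 0 := by
    rw [hq, map_add, map_mul, AdjoinRoot.mk_C, AdjoinRoot.mk_C, AdjoinRoot.mk_X, map_sub, map_sub,
      map_sub, map_sub]
    have e : ∀ x : R, AdjoinRoot.of (gpoly p R u v i) (Ideal.Quotient.mk _ x) = phi p R u v i x :=
      fun _ => rfl
    rw [e, e, e, e]
    linear_combination h1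
  rw [AdjoinRoot.mk_eq_zero] at h2
  have h3 : q = 0 := by
    by_contra hne
    refine (gpoly_monic p R u v i).not_dvd_of_degree_lt hne ?_ h2
    have hd : (gpoly p R u v i).degree = 2 := by
      by_cases htriv : Nontrivial (Rbar p R u i)
      · rw [gpoly]
        exact degree_X_pow_sub_C (by norm_num) _
      · exfalso
        rw [not_nontrivial_iff_subsingleton] at htriv
        exact hne (Subsingleton.elim _ _)
    rw [hd]
    calc q.degree ≤ 1 := by
          rw [hq]
          exact (degree_add_le _ _).trans (max_le (degree_C_le.trans (by norm_num))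
            (degree_C_mul_X_le _))
      _ < 2 := by norm_num
  have h4 := congrArg (fun f => coeff f 1) h3
  simp only [hq, coeff_add, coeff_C_mul, coeff_X_one, mul_one, coeff_zero] at h4
  rw [coeff_C_succ, zero_add] at h4
  exact Ideal.Quotient.eq_zero_iff_mem.mp h4


theorem mem_prePerf_iff [CharP (B0 R u v) p] (x : Π j : ℕ, Twist p R (B0 R u v) j) :
    x ∈ prePerf p R (B0 R u v) ↔ ∀ j, relFrob p R (B0 R u v) j (x (j + 1)) = x j := by
  rw [prePerf, Algebra.mem_iInf]
  rfl

theorem main (hp : p ≠ 2) (huv : u * v = 0)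
    (hsep : ∀ N : ℕ, 1 ≤ N → ∀ g : R,
      (∀ n : ℕ, g ∈ Ideal.span {v ^ n} ⊔ Ideal.span {u ^ N}) → g ∈ Ideal.span {u ^ N})
    [CharP (B0 R u v) p] :
    Function.Bijective (algebraMap R ↥(prePerf p R (B0 R u v))) := by
  have hinj : ∀ j, Function.Injective (algebraMap R (Twist p R (B0 R u v) j)) :=
    fun j => algebraMap_twist_injective p R (B0 R u v) j (retr R u v huv)
  obtain ⟨m, hm⟩ : ∃ m, p = 2 * m + 1 := by
    rcases (Fact.out : p.Prime).eq_two_or_odd' with h | h
    · exact absurd h hp
    · obtain ⟨m, hm⟩ := h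
      exact ⟨m, hm⟩
  have hm1 : 1 ≤ m := by
    rcases Nat.eq_zero_or_pos m with h | h
    · exfalso
      rw [h] at hm
      exact (Fact.out : p.Prime).one_lt.ne' (by omega)
    · exact h
  constructor
  · intro a b hab
    apply hinj 0
    have := congrArg (fun x : ↥(prePerf p R (B0 R u v)) => (x : Π j : ℕ, Twist p R (B0 R u v) j) 0) hab
    exact this
  · intro x
    have hx : ∀ j, relFrob p R (B0 R u v) j (x.1 (j + 1)) = x.1 j :=
      (mem_prePerf_iff p R u v x.1).mp x.2
    -- Step A
    have stepA : ∀ n : ℕ, ∀ j : ℕ, ∃ r s : R,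
        x.1 j = r ⊗ₜ 1 + (v ^ n * s) ⊗ₜ alS p R u v j := by
      intro n
      induction n with
      | zero =>
        intro j
        obtain ⟨r, s, h⟩ := tw_repr p R u v j (x.1 j)
        exact ⟨r, s, by rw [pow_zero, one_mul]; exact h⟩
      | succ n ih =>
        intro j
        obtain ⟨r, s, h⟩ := ih (j + 1)
        refine ⟨r, v ^ (2 * m * p ^ j - 1) * s, ?_⟩
        rw [← hx j, h, relFrob_repr p R u v j m hm]
        congr 2
        have hpos : 1 ≤ 2 * m * p ^ j := by
          have : 1 ≤ p ^ j := Nat.one_le_pow _ _ (Fact.out : p.Prime).pos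
          nlinarith
        rw [← pow_mul, ← mul_assoc, ← mul_assoc, ← pow_add, ← pow_add]
        congr 2
        omega
    -- Step B
    have stepB : ∀ j : ℕ, ∃ r : R, x.1 j = algebraMap R (Twist p R (B0 R u v) j) r := by
      intro j
      obtain ⟨r0, s0, h0⟩ := tw_repr p R u v j (x.1 j)
      have hs0 : s0 ∈ Ideal.span {u ^ (p ^ j)} := by
        apply hsep (p ^ j) (Nat.one_le_pow _ _ (Fact.out : p.Prime).pos)
        intro n
        obtain ⟨r, s, h⟩ := stepA n j
        have := extract p R u v j r0 s0 r (v ^ n * s) (h0.symm.trans h)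
        have e : s0 = v ^ n * s + (s0 - v ^ n * s) := by ring
        rw [e]
        exact Submodule.add_mem_sup (Ideal.mem_span_singleton.mpr ⟨s, rfl⟩) this
      obtain ⟨c, hc⟩ := Ideal.mem_span_singleton.mp hs0
      refine ⟨r0, ?_⟩
      rw [h0, hc, tmul_alS_eq_zero, add_zero, algebraMap_twist]
    choose r hr using stepB
    have hconst : ∀ j, r j = r 0 := by
      intro j
      induction j with
      | zero => rfl
      | succ j ih =>
        rw [← ih]
        apply hinj j
        rw [← hr j, ← hx j, hr (j + 1), AlgHom.commutes]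
    refine ⟨r 0, ?_⟩
    apply Subtype.ext
    funext j
    rw [hr j, hconst j]
    rfl

end main

end Groth.Agent.Lib.Helper68.PrePerf
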