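import Mathlib

open Polynomial

namespace Groth.Agent.Lib.Helper68.PrimElt

universe u v

section StepB

variable {K : Type u} {L : Type v} [Field K] [CommRing L] [Algebra K L] [Module.Finite K L]

/-- If `finrank K L` many `K`-algebra maps to a field take pairwise distinct values on `w`,
then `w` generates `L`. -/
theorem adjoin_eq_top_of_injective {Ω : Type*} [Field Ω] [Algebra K Ω] {T : Type*} [Fintype T]
    (ev : T → (L →ₐ[K] Ω)) (hT : Module.finrank K L ≤ Fintype.card T) (w : L)
    (hinj : Function.Injective fun σ => ev σ w) : Algebra.adjoin K {w} = ⊤ := by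
  classical
  have hw : IsIntegral K w := Algebra.IsIntegral.isIntegral w
  have hμ0 : minpoly K w ≠ 0 := minpoly.ne_zero hw
  have hμ0' : (minpoly K w).map (algebraMap K Ω) ≠ 0 := (Polynomial.map_ne_zero_iff (algebraMap K Ω).injective).mpr hμ0
  have hroots : ∀ σ, (ev σ w) ∈ ((minpoly K w).map (algebraMap K Ω)).roots := by
    intro σ
    rw [mem_roots hμ0', IsRoot, eval_map, ← aeval_def, aeval_algHom_apply, minpoly.aeval, map_zero]
  have hcard : Fintype.card T ≤ (minpoly K w).natDegree := by
    have h := card_le_degree_of_subset_roots (p := (minpoly K w).map (algebraMap K Ω))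
      (Z := Finset.univ.image (fun σ => ev σ w)) (by
        intro x hx
        rw [Finset.mem_val, Finset.mem_image] at hx
        obtain ⟨σ, -, rfl⟩ := hx
        exact hroots σ)
    rw [Finset.card_image_of_injective _ hinj, natDegree_map] at h
    simpa using h
  have hfr : Module.finrank K (Algebra.adjoin K {w}) = (minpoly K w).natDegree := by
    rw [(Algebra.adjoin.powerBasis hw).finrank]
    rfl
  apply Subalgebra.toSubmodule_injective
  rw [Algebra.top_toSubmodule]
  apply Submodule.eq_top_of_finrank_eq
  show Module.finrank K (Algebra.adjoin K {w}) = Module.finrank K L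
  refine le_antisymm (Submodule.finrank_le (Subalgebra.toSubmodule (Algebra.adjoin K {w}))) ?_
  calc Module.finrank K L ≤ Fintype.card T := hT
    _ ≤ (minpoly K w).natDegree := hcard
    _ = Module.finrank K (Algebra.adjoin K {w}) := hfr.symm

end StepB

section StepA

universe w

variable (K : Type u) (L : Type v) [Field K] [CommRing L] [Algebra K L] [Module.Finite K L]
  [IsReduced L] [Algebra.IsSeparable K L] (Ω : Type w) [Field Ω] [Algebra K Ω] [IsAlgClosed Ω]

/-- A temporary field instance on the quotients by maximal ideals. -/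
@[instance_reducible, local instance] noncomputable def fieldOfSubtypeIsMaximal
    (I : MaximalSpectrum L) : Field (L ⧸ I.asIdeal) :=
  Ideal.Quotient.field I.asIdeal

theorem isSeparable_quotient (I : Ideal L) : Algebra.IsSeparable K (L ⧸ I) := by
  refine ⟨fun x => ?_⟩
  obtain ⟨y, rfl⟩ := Ideal.Quotient.mk_surjective x
  have h1 : (minpoly K y).Separable := Algebra.IsSeparable.isSeparable K y
  refine h1.of_dvd (minpoly.dvd K _ ?_)
  have : (Ideal.Quotient.mk I) y = Ideal.Quotient.mkₐ K I y := rfl
  rw [this, aeval_algHom_apply, minpoly.aeval, map_zero]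

/-- A finite reduced separable `K`-algebra has `finrank K L` many maps to an algebraically closed
field. -/
theorem exists_homs :
    ∃ (T : Type (max v w)) (_ : Fintype T) (ev : T → (L →ₐ[K] Ω)), Function.Injective ev ∧
      Fintype.card T = Module.finrank K L := by
  classical
  haveI : IsArtinianRing L := IsArtinianRing.of_finite K L
  haveI hsep : ∀ m : MaximalSpectrum L, Algebra.IsSeparable K (L ⧸ m.asIdeal) :=
    fun m => isSeparable_quotient K L m.asIdeal
  haveI : Fintype (MaximalSpectrum L) := Fintype.ofFinite _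
  haveI : ∀ m : MaximalSpectrum L, Finite ((L ⧸ m.asIdeal) →ₐ[K] Ω) := fun m => inferInstance
  haveI : Fintype (Σ m : MaximalSpectrum L, ((L ⧸ m.asIdeal) →ₐ[K] Ω)) := Fintype.ofFinite _
  refine ⟨Σ m : MaximalSpectrum L, ((L ⧸ m.asIdeal) →ₐ[K] Ω), inferInstance,
    fun σ => σ.2.comp (Ideal.Quotient.mkₐ K σ.1.asIdeal), ?_, ?_⟩
  · rintro ⟨m, τ⟩ ⟨m', τ'⟩ h
    have hker : ∀ (m : MaximalSpectrum L) (τ : (L ⧸ m.asIdeal) →ₐ[K] Ω),
        RingHom.ker (τ.comp (Ideal.Quotient.mkₐ K m.asIdeal)) = m.asIdeal := by
      intro m τ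
      ext x
      rw [RingHom.mem_ker, AlgHom.comp_apply, map_eq_zero_iff τ τ.toRingHom.injective]
      exact Ideal.Quotient.eq_zero_iff_mem
    have hm : m = m' := by
      apply MaximalSpectrum.ext
      rw [← hker m τ, ← hker m' τ']
      exact congrArg (fun f : L →ₐ[K] Ω => RingHom.ker f) h
    subst hm
    congr 1
    apply AlgHom.ext
    intro x
    obtain ⟨y, rfl⟩ := Ideal.Quotient.mk_surjective x
    exact DFunLike.congr_fun h y
  · rw [← Nat.card_eq_fintype_card, Nat.card_sigma]
    have : ∀ m : MaximalSpectrum L,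
        Nat.card ((L ⧸ m.asIdeal) →ₐ[K] Ω) = Module.finrank K (L ⧸ m.asIdeal) := by
      intro m
      rw [← Field.finSepDegree_eq_of_isAlgClosed K (L ⧸ m.asIdeal) Ω,
        Field.finSepDegree_eq_finrank_of_isSeparable]
    simp_rw [this]
    rw [← Module.finrank_pi_fintype K (M := fun m : MaximalSpectrum L => L ⧸ m.asIdeal)]
    exact (LinearEquiv.finrank_eq
      ((IsArtinianRing.equivPi L).toLinearEquiv.restrictScalars K)).symm

end StepA

end Groth.Agent.Lib.Helper68.PrimElt
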