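import Mathlib.Topology.Algebra.Category.ProfiniteGrp.Completion
import Mathlib.GroupTheory.Index

/-!
# Elementary API for Mathlib's profinite completion of a group

Components of points, neighbourhood bases, approximation by elements of the group, surjectivity of
the map induced by a surjection.
-/

namespace Groth.Agent.Lib.Helper68

open CategoryTheory ProfiniteGrp ProfiniteGrp.ProfiniteCompletion

universe u

section
variable (G : GrpCat.{u})

/-- The set of points with a prescribed component is open. -/
theorem isOpen_component_eq (H : FiniteIndexNormalSubgroup G) (c : G ⧸ H.toSubgroup) :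
    IsOpen {y : completion G | y.1 H = c} := by
  have hc : Continuous fun y : completion G => y.1 H :=
    ((limitCone (diagram G)).π.app H).hom.continuous_toFun
  exact hc.isOpen_preimage {c} (by trivial)

/-- Transition: the component at a larger subgroup is the image of the component at a smaller. -/
theorem component_map (x : completion G) {H K : FiniteIndexNormalSubgroup G} (h : H ≤ K) :
    QuotientGroup.map _ _ (MonoidHom.id _) h (x.1 H) = x.1 K :=
  x.2 (homOfLE h)

/-- Neighbourhood basis: every open neighbourhood of `x` contains all points agreeing with `x`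
at a single finite-index normal subgroup. -/
theorem exists_component_nhds (x : completion G) (U : Set (completion G)) (hU : IsOpen U)
    (hx : x ∈ U) :
    ∃ m : FiniteIndexNormalSubgroup G, ∀ y : completion G, y.1 m = x.1 m → y ∈ U := by
  obtain ⟨s, hsO, hsv⟩ := hU
  have hx' : x.1 ∈ s := by
    rw [← hsv] at hx
    exact hx
  rcases (isOpen_pi_iff.mp hsO) _ hx' with ⟨J, fJ, hJ1, hJ2⟩
  let M : Subgroup G := iInf fun (j : J) => j.val
  have hM : M.Normal := Subgroup.normal_iInf_normal fun j => inferInstance
  have hMFinite : M.FiniteIndex := by
    apply Subgroup.finiteIndex_iInf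
    infer_instance
  let m : FiniteIndexNormalSubgroup G := { toSubgroup := M }
  refine ⟨m, fun y hy => ?_⟩
  rw [← hsv]
  show y.1 ∈ s
  apply hJ2
  intro a a_in_J
  have hle : m ≤ a := iInf_le (fun (j : J) => (j.val.toSubgroup)) ⟨a, a_in_J⟩
  show y.1 a ∈ fJ a
  rw [← component_map G y hle, hy, component_map G x hle]
  exact (hJ1 a a_in_J).2

/-- Approximation: inside any open neighbourhood of `x` there is the image of a group element
with the same component as `x` at a given subgroup. -/
theorem exists_etaFn_mem (x : completion G) (V : Set (completion G)) (hV : IsOpen V)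
    (hx : x ∈ V) (m : FiniteIndexNormalSubgroup G) :
    ∃ a : G, etaFn G a ∈ V ∧ (QuotientGroup.mk a : G ⧸ m.toSubgroup) = x.1 m := by
  have hopen : IsOpen (V ∩ {y : completion G | y.1 m = x.1 m}) :=
    hV.inter (isOpen_component_eq G m _)
  obtain ⟨a, ha⟩ := (denseRange G).exists_mem_open hopen ⟨x, hx, rfl⟩
  exact ⟨a, ha.1, ha.2⟩

/-- A point all of whose components are attained by elements of a set `S ⊆ G` lies in the closure
of the image of `S`. -/
theorem mem_closure_etaFn_image (x : completion G) (S : Set G)
    (h : ∀ m : FiniteIndexNormalSubgroup G, ∃ a ∈ S,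
      (QuotientGroup.mk a : G ⧸ m.toSubgroup) = x.1 m) :
    x ∈ closure (etaFn G '' S) := by
  rw [mem_closure_iff]
  intro U hU hxU
  obtain ⟨m, hm⟩ := exists_component_nhds G x U hU hxU
  obtain ⟨a, haS, ha⟩ := h m
  exact ⟨etaFn G a, hm _ ha, a, haS, rfl⟩

end

theorem map_etaFn {G G' : GrpCat.{u}} (f : G ⟶ G') (x : G) :
    (profiniteCompletion.map f).hom (etaFn G x) = etaFn G' (f.hom x) := by
  have h := lift_eta (f ≫ eta G')
  exact ConcreteCategory.congr_hom h x

/-- The image of a morphism of profinite groups is closed. -/
theorem isClosed_range_hom {P Q : ProfiniteGrp.{u}} (φ : P ⟶ Q) :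
    IsClosed (Set.range φ.hom) :=
  (isCompact_range φ.hom.continuous_toFun).isClosed

/-- The map induced on completions by a surjection is surjective. -/
theorem surjective_map_of_surjective {G G' : GrpCat.{u}} (f : G ⟶ G')
    (hf : Function.Surjective f.hom) :
    Function.Surjective (profiniteCompletion.map f).hom := by
  have hc := isClosed_range_hom (profiniteCompletion.map f)
  have hd : Dense (Set.range (profiniteCompletion.map f).hom) := by
    refine (denseRange G').mono ?_
    rintro _ ⟨y, rfl⟩
    obtain ⟨x, rfl⟩ := hf y
    exact ⟨etaFn G x, map_etaFn f x⟩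
  rw [← Set.range_eq_univ, ← hc.closure_eq, hd.closure_eq]

/-- The image of the map induced on completions contains the closure of the image of `f`. -/
theorem closure_etaFn_range_subset {G G' : GrpCat.{u}} (f : G ⟶ G') :
    closure (etaFn G' '' Set.range f.hom) ⊆ Set.range (profiniteCompletion.map f).hom := by
  apply (isClosed_range_hom (profiniteCompletion.map f)).closure_subset_iff.mpr
  rintro _ ⟨_, ⟨x, rfl⟩, rfl⟩
  exact ⟨etaFn G x, map_etaFn f x⟩

/-- A continuous homomorphism out of a completion killing the image of the group is trivial. -/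
theorem hom_eq_one_of_etaFn {G : GrpCat.{u}} {Q : ProfiniteGrp.{u}}
    (φ : profiniteCompletion.obj G ⟶ Q) (h : ∀ a : G, φ.hom (etaFn G a) = 1)
    (x : completion G) : φ.hom x = 1 := by
  have hcl : IsClosed {y : completion G | φ.hom y = 1} :=
    isClosed_eq φ.hom.continuous_toFun continuous_const
  have : Dense {y : completion G | φ.hom y = 1} := by
    refine (denseRange G).mono ?_
    rintro _ ⟨a, rfl⟩
    exact h a
  have huniv := hcl.closure_eq ▸ this.closure_eq
  have hx : x ∈ (Set.univ : Set (completion G)) := Set.mem_univ x
  rw [← huniv] at hx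
  exact hx

end Groth.Agent.Lib.Helper68
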