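import Mathlib

/-!
# The locus where two finite clopen pieces agree (helper68)

Let `p : Y' ⟶ T` be an open morphism and `A`, `B` two open and closed subschemes of `Y'` which are
finite over `T`.  The set `W` of points `t` of `T` over which `A` and `B` have the same points is
open and closed, and a morphism `k : T' ⟶ T` lands in `W` iff `A` and `B` agree on all
`T''`-points of `Y'` lying over `k`.
-/

set_option autoImplicit false
universe u

namespace Groth.Agent.Lib.Helper68.QSplit

open CategoryTheory CategoryTheory.Limits AlgebraicGeometry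

/-- The image of the difference `A \ B` of two clopen pieces, `A` finite over `T`, is clopen. -/
theorem isClopen_image_diff {Y' T : Scheme.{u}} (p : Y' ⟶ T) (hp : IsOpenMap p)
    (A B : Y'.Opens) (hB : IsClosed (B : Set Y')) (hAf : IsFinite (A.ι ≫ p)) :
    IsClopen (p '' ((A : Set Y') \ (B : Set Y'))) := by
  constructor
  · -- closed: image of a closed subset of `A` under the finite map `A ⟶ T`
    have h1 : p '' ((A : Set Y') \ (B : Set Y')) = (A.ι ≫ p) '' (A.ι ⁻¹' (B : Set Y')ᶜ) := by
      ext t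
      constructor
      · rintro ⟨y, ⟨hyA, hyB⟩, rfl⟩
        refine ⟨⟨y, hyA⟩, hyB, ?_⟩
        rw [Scheme.Hom.comp_apply]
        rfl
      · rintro ⟨a, ha, rfl⟩
        refine ⟨A.ι a, ⟨?_, ha⟩, ?_⟩
        · have : A.ι a = a.1 := rfl
          rw [this]
          exact a.2
        · rw [Scheme.Hom.comp_apply]
    rw [h1]
    have hcl : IsClosedMap (A.ι ≫ p) := (A.ι ≫ p).isClosedMap
    exact hcl _ (B.2.isClosed_compl.preimage A.ι.continuous)
  · exact hp _ (A.2.sdiff hB)

/-- The locus over which two finite clopen pieces agree is clopen. -/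
theorem exists_agree_opens {Y' T : Scheme.{u}} (p : Y' ⟶ T) (hp : IsOpenMap p)
    (A B : Y'.Opens) (hA : IsClosed (A : Set Y')) (hB : IsClosed (B : Set Y'))
    (hAf : IsFinite (A.ι ≫ p)) (hBf : IsFinite (B.ι ≫ p)) :
    ∃ W : T.Opens, IsClosed (W : Set T) ∧
      ∀ t : T, t ∈ W ↔ ∀ y : Y', p y = t → (y ∈ A ↔ y ∈ B) := by
  have h1 := isClopen_image_diff p hp A B hB hAf
  have h2 := isClopen_image_diff p hp B A hA hBf
  have h3 : IsClopen ((p '' ((A : Set Y') \ (B : Set Y')) ∪ p '' ((B : Set Y') \ (A : Set Y')))ᶜ) :=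
    (h1.union h2).compl
  refine ⟨⟨_, h3.isOpen⟩, h3.isClosed, fun t => ?_⟩
  change t ∈ (p '' ((A : Set Y') \ (B : Set Y')) ∪ p '' ((B : Set Y') \ (A : Set Y')))ᶜ ↔ _
  rw [Set.mem_compl_iff, Set.mem_union, not_or]
  constructor
  · rintro ⟨n1, n2⟩ y rfl
    constructor
    · intro hyA
      by_contra hyB
      exact n1 ⟨y, ⟨hyA, hyB⟩, rfl⟩
    · intro hyB
      by_contra hyA
      exact n2 ⟨y, ⟨hyB, hyA⟩, rfl⟩
  · intro h
    constructor
    · rintro ⟨y, ⟨hyA, hyB⟩, rfl⟩
      exact hyB ((h y rfl).1 hyA)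
    · rintro ⟨y, ⟨hyB, hyA⟩, rfl⟩
      exact hyA ((h y rfl).2 hyB)

/-- Functorial description of the agreement locus. -/
theorem forall_mem_agree_iff {Y' T : Scheme.{u}} (p : Y' ⟶ T) (A B : Y'.Opens) (W : Set T)
    (hW : ∀ t : T, t ∈ W ↔ ∀ y : Y', p y = t → (y ∈ A ↔ y ∈ B)) {T' : Scheme.{u}} (k : T' ⟶ T) :
    (∀ z, k z ∈ W) ↔
      ∀ (T'' : Scheme.{u}) (l : T'' ⟶ T') (y : T'' ⟶ Y'), y ≫ p = l ≫ k →
        ((∀ z, y z ∈ A) ↔ (∀ z, y z ∈ B)) := by
  constructor
  · intro h T'' l y hy
    have key : ∀ z, (y z ∈ A ↔ y z ∈ B) := by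
      intro z
      refine (hW (k (l z))).1 (h (l z)) (y z) ?_
      rw [← Scheme.Hom.comp_apply, hy, Scheme.Hom.comp_apply]
    exact forall_congr' key
  · intro h z'
    rw [hW]
    intro y₀ hy₀
    obtain ⟨w, hw1, hw2⟩ := Scheme.Pullback.exists_preimage_pullback (f := k) (g := p) z' y₀ hy₀.symm
    have key := h (Spec ((pullback k p).residueField w))
      ((pullback k p).fromSpecResidueField w ≫ pullback.fst k p)
      ((pullback k p).fromSpecResidueField w ≫ pullback.snd k p)
      (by rw [Category.assoc, Category.assoc, pullback.condition])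
    have hpt : ∀ z : ↥(Spec ((pullback k p).residueField w)),
        ((pullback k p).fromSpecResidueField w ≫ pullback.snd k p) z = y₀ := by
      intro z
      rw [Scheme.Hom.comp_apply, Scheme.fromSpecResidueField_apply, hw2]
    have hne : Nonempty ↥(Spec ((pullback k p).residueField w)) := inferInstance
    constructor
    · intro hA
      obtain ⟨z⟩ := hne
      have := key.1 (fun z => by rw [hpt]; exact hA) z
      rwa [hpt] at this
    · intro hB
      obtain ⟨z⟩ := hne
      have := key.2 (fun z => by rw [hpt]; exact hB) z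
      rwa [hpt] at this

end Groth.Agent.Lib.Helper68.QSplit
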