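import Groth.Agent.Lib.Helper68.QSplitRestrict

/-!
# Étale localisation of groupoids: the locus where `P ⟶ V` is surjective (helper68)

`Cov b` says that every point of `V` over `b` lifts to `P`.  The set of such `b` is open and
`P`-invariant; over a `P`-invariant open subset of it the map `P ⟶ V` is an isomorphism, so that
`P` is finite over it.
-/

set_option autoImplicit false
set_option linter.style.haveILetI false
set_option linter.unusedSectionVars false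
universe u

namespace Groth.Agent.Lib.Helper68.QSplit

open CategoryTheory CategoryTheory.Limits AlgebraicGeometry Grpd
open Groth.Agent.Lib.Helper37 Groth.Agent.Lib.Helper37.Pull Groth.Agent.Lib.Helper7.EtaleNbhd

variable {S : Scheme.{u}} (G : GroupoidScheme S) {U₁ : Scheme.{u}} (g : U₁ ⟶ G.U)
  (V : (pullback G.s g).Opens)
  [Flat G.s] [LocallyOfFinitePresentation G.s]
  (hVc : IsClosed (V : Set ↥(pullback G.s g))) (hVf : IsFinite (V.ι ≫ pullback.snd G.s g))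
  (he : ∀ x : U₁, e₁ G g x ∈ V)

/-- Every point of `V` over `b` lifts to `P`. -/
def Cov (b : U₁) : Prop :=
  ∀ w : ↥(pullback G.s g), w ∈ V → pullback.snd G.s g w = b →
    ∃ p : ↥(R' G g), p ∈ P G g V hVc hVf ∧ ξ G g p = w

include he in
lemma isOpen_cov [Etale g] (hinj : Inj G g V) : IsOpen {b : U₁ | Cov G g V hVc hVf b} := by
  haveI := hinj.isOpenImmersion_ξP hVc hVf he
  have hcl : IsClosedMap (V.ι ≫ pullback.snd G.s g) := (V.ι ≫ pullback.snd G.s g).isClosedMap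
  have hC : IsClosed (Set.range (ξP G g V hVc hVf he))ᶜ :=
    (ξP G g V hVc hVf he).isOpenEmbedding.isOpen_range.isClosed_compl
  have : {b : U₁ | Cov G g V hVc hVf b} =
      ((V.ι ≫ pullback.snd G.s g) '' (Set.range (ξP G g V hVc hVf he))ᶜ)ᶜ := by
    ext b
    simp only [Set.mem_ofPred_eq, Set.mem_compl_iff, Set.mem_image, not_exists, not_and]
    constructor
    · intro hb v hv hvb
      obtain ⟨p, hp, hpw⟩ := hb (V.ι v) (ι_mem V v) (by rw [← Scheme.Hom.comp_apply]; exact hvb)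
      apply hv
      refine ⟨⟨p, hp⟩, ?_⟩
      apply V.ι.isOpenEmbedding.injective
      rw [← Scheme.Hom.comp_apply, ξP_ι, Scheme.Hom.comp_apply]
      exact hpw
    · intro hb w hwV hwb
      by_contra hcon
      refine hb ⟨w, hwV⟩ ?_ (by rw [Scheme.Hom.comp_apply]; exact hwb)
      rintro ⟨p, hp⟩
      apply hcon
      refine ⟨(P G g V hVc hVf).ι p, ι_mem _ p, ?_⟩
      have := congrArg V.ι hp
      rw [← Scheme.Hom.comp_apply, ξP_ι, Scheme.Hom.comp_apply] at this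
      exact this
  rw [this]
  exact (hcl _ hC).isOpen_compl

/-- The covered locus is `P`-invariant. -/
lemma cov_of_mem_P (p : ↥(R' G g)) (hp : p ∈ P G g V hVc hVf)
    (hb : Cov G g V hVc hVf (b' G g p)) : Cov G g V hVc hVf (a' G g p) := by
  intro w hwV hwa
  -- a common field for `p` and `w`
  obtain ⟨m, hm1, hm2⟩ := Scheme.Pullback.exists_preimage_pullback (f := a' G g)
    (g := pullback.snd G.s g) p w hwa.symm
  obtain ⟨κ, hκ⟩ : ∃ κ : Spec ((pullback (a' G g) (pullback.snd G.s g)).residueField m) ⟶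
      pullback (a' G g) (pullback.snd G.s g), ∀ z, κ z = m :=
    ⟨_, fun z => Scheme.fromSpecResidueField_apply _ _⟩
  obtain ⟨kp, hkpdef⟩ : ∃ kp, kp = κ ≫ pullback.fst (a' G g) (pullback.snd G.s g) := ⟨_, rfl⟩
  obtain ⟨kw, hkwdef⟩ : ∃ kw, kw = κ ≫ pullback.snd (a' G g) (pullback.snd G.s g) := ⟨_, rfl⟩
  have hkp : ∀ z, kp z = p := fun z => by rw [hkpdef, Scheme.Hom.comp_apply, hκ, hm1]
  have hkw : ∀ z, kw z = w := fun z => by rw [hkwdef, Scheme.Hom.comp_apply, hκ, hm2]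
  have hcond : kp ≫ a' G g = kw ≫ pullback.snd G.s g := by
    rw [hkpdef, hkwdef, Category.assoc, Category.assoc, pullback.condition]
  have hst := (forall_mem_P_iff G g V hVc hVf kp).1 (fun z => by rw [hkp]; exact hp)
  obtain ⟨x, hxdef⟩ : ∃ x, x = kw ≫ pullback.fst G.s g := ⟨_, rfl⟩
  have hxs : x ≫ G.s = (kp ≫ a' G g) ≫ g := by
    rw [hxdef, hcond, Category.assoc, pullback.condition, Category.assoc]
  have h0 : x ≫ G.s = (kp ≫ ρ G g) ≫ G.t := by
    rw [hxs, Category.assoc, Category.assoc, ρ_t]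
  have hin : InV G g V x (kp ≫ a' G g) hxs := by
    have h1 := (inV_iff_comp (V := V) kw).2 (fun z => by rw [hkw]; exact hwV)
    exact (inV_congr hxdef.symm hcond.symm _ _).1 h1
  have h1 : gcomp G x (kp ≫ ρ G g) h0 ≫ G.s = (kp ≫ b' G g) ≫ g := by
    rw [gcomp_s, Category.assoc, ρ_s, Category.assoc]
  have h2 : gcomp G x (kp ≫ ρ G g) h0 ≫ G.s = ((kp ≫ ρ G g) ≫ G.i) ≫ G.t := by
    rw [gcomp_s, Category.assoc _ G.i, G.i_t]
  have e1 : gcomp G (gcomp G x (kp ≫ ρ G g) h0) ((kp ≫ ρ G g) ≫ G.i) h2 = x :=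
    gcomp_gcomp_i G x (kp ≫ ρ G g) h0 h2
  have h3 : gcomp G (gcomp G x (kp ≫ ρ G g) h0) ((kp ≫ ρ G g) ≫ G.i) h2 ≫ G.s =
      (kp ≫ a' G g) ≫ g := by rw [e1, hxs]
  have key := hst.iff (𝟙 _) (gcomp G x (kp ≫ ρ G g) h0) (kp ≫ b' G g) (kp ≫ a' G g)
    (Category.id_comp _).symm (Category.id_comp _).symm ((kp ≫ ρ G g) ≫ G.i)
    (by rw [Category.id_comp]) h1 h2 h3
  have hin' : InV G g V (gcomp G x (kp ≫ ρ G g) h0) (kp ≫ b' G g) h1 :=
    key.2 ((inV_congr e1 rfl _ hxs).2 hin)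
  obtain ⟨pt⟩ : Nonempty ↥(Spec ((pullback (a' G g) (pullback.snd G.s g)).residueField m)) :=
    inferInstance
  obtain ⟨yw, hywdef⟩ : ∃ yw, yw = pullback.lift (gcomp G x (kp ≫ ρ G g) h0) (kp ≫ b' G g) h1 :=
    ⟨_, rfl⟩
  have hyw1 : yw ≫ pullback.fst G.s g = gcomp G x (kp ≫ ρ G g) h0 := by
    rw [hywdef, pullback.lift_fst]
  have hyw2 : yw ≫ pullback.snd G.s g = kp ≫ b' G g := by rw [hywdef, pullback.lift_snd]
  have hw'V : yw pt ∈ V := by rw [hywdef]; exact hin' pt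
  have hw'b : pullback.snd G.s g (yw pt) = b' G g p := by
    rw [← Scheme.Hom.comp_apply, hyw2, Scheme.Hom.comp_apply, hkp]
  obtain ⟨p₁, hp₁, hξp₁⟩ := hb _ hw'V hw'b
  -- a common field for `p₁` and `yw`
  obtain ⟨m', hm'1, hm'2⟩ := Scheme.Pullback.exists_preimage_pullback (f := ξ G g) (g := yw) p₁ pt
    hξp₁
  obtain ⟨κ', hκ'⟩ : ∃ κ' : Spec ((pullback (ξ G g) yw).residueField m') ⟶ pullback (ξ G g) yw,
      ∀ z, κ' z = m' := ⟨_, fun z => Scheme.fromSpecResidueField_apply _ _⟩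
  obtain ⟨k₁, hk₁def⟩ : ∃ k₁, k₁ = κ' ≫ pullback.fst (ξ G g) yw := ⟨_, rfl⟩
  obtain ⟨f, hfdef⟩ : ∃ f, f = κ' ≫ pullback.snd (ξ G g) yw := ⟨_, rfl⟩
  have hk₁ : ∀ z, k₁ z = p₁ := fun z => by rw [hk₁def, Scheme.Hom.comp_apply, hκ', hm'1]
  have hk₁ξ : k₁ ≫ ξ G g = f ≫ yw := by
    rw [hk₁def, hfdef, Category.assoc, Category.assoc, pullback.condition]
  have hst₁ := (forall_mem_P_iff G g V hVc hVf k₁).1 (fun z => by rw [hk₁]; exact hp₁)
  have e2 : k₁ ≫ ρ G g = f ≫ gcomp G x (kp ≫ ρ G g) h0 := by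
    have := hk₁ξ =≫ pullback.fst G.s g
    simpa only [Category.assoc, ξ_fst, hyw1] using this
  have e3 : k₁ ≫ b' G g = f ≫ kp ≫ b' G g := by
    have := hk₁ξ =≫ pullback.snd G.s g
    simpa only [Category.assoc, ξ_snd, hyw2] using this
  -- `Stab (k₁ a') (f kp b') (f x')`
  have hA := hst₁.congr (a₀ := k₁ ≫ a' G g) (b₀ := f ≫ kp ≫ b' G g)
    (r₀ := f ≫ gcomp G x (kp ≫ ρ G g) h0) rfl e3 e2
    (by rw [Category.assoc, h1]; simp only [Category.assoc])
    (by rw [← e2, Category.assoc, ρ_t, Category.assoc])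
  -- `Stab (f kp b') (f kp a') ((f kp ρ) i)`
  have hB0 := hst.precomp f (f ≫ kp ≫ a' G g) (f ≫ kp ≫ b' G g) (f ≫ kp ≫ ρ G g) rfl rfl rfl
    (by simp only [Category.assoc, ρ_s]) (by simp only [Category.assoc, ρ_t])
  have hB := hB0.symm ((f ≫ kp ≫ ρ G g) ≫ G.i) rfl
    (by simp only [Category.assoc, i_s', ρ_t]) (by simp only [Category.assoc, i_t', ρ_s])
  have hrr : (f ≫ gcomp G x (kp ≫ ρ G g) h0) ≫ G.s = ((f ≫ kp ≫ ρ G g) ≫ G.i) ≫ G.t := by
    rw [Category.assoc, gcomp_s]; simp only [Category.assoc, i_t']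
  have e4 : f ≫ x = gcomp G (f ≫ gcomp G x (kp ≫ ρ G g) h0) ((f ≫ kp ≫ ρ G g) ≫ G.i) hrr := by
    have : f ≫ gcomp G (gcomp G x (kp ≫ ρ G g) h0) ((kp ≫ ρ G g) ≫ G.i) h2 = f ≫ x := by rw [e1]
    rw [← this, precomp_gcomp]
    exact gcomp_congr G rfl (by simp only [Category.assoc]) _ _
  have hC := hA.trans hB (f ≫ x) hrr e4
    (by rw [Category.assoc, hxs]; simp only [Category.assoc])
    (by rw [e4, gcomp_t, ← e2, Category.assoc, ρ_t, Category.assoc])
  -- the new point of `P`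
  obtain ⟨p₂, hp₂def⟩ : ∃ p₂ : Spec ((pullback (ξ G g) yw).residueField m') ⟶ R' G g,
      p₂ = mk (f ≫ x) (k₁ ≫ a' G g) (f ≫ kp ≫ a' G g)
        (by rw [e4, gcomp_t, ← e2, Category.assoc, ρ_t, Category.assoc])
        (by rw [Category.assoc, hxs]; simp only [Category.assoc]) := ⟨_, rfl⟩
  have hp₂P : ∀ z, p₂ z ∈ P G g V hVc hVf := by
    refine (forall_mem_P_iff G g V hVc hVf p₂).2 (hC.congr ?_ ?_ ?_ _ _)
    · rw [hp₂def, mk_a']
    · rw [hp₂def, mk_b']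
    · rw [hp₂def, mk_ρ]
  obtain ⟨pt'⟩ : Nonempty ↥(Spec ((pullback (ξ G g) yw).residueField m')) := inferInstance
  refine ⟨p₂ pt', hp₂P pt', ?_⟩
  have e5 : p₂ ≫ ξ G g = f ≫ kw := by
    apply pullback.hom_ext
    · rw [Category.assoc, ξ_fst, hp₂def, mk_ρ, Category.assoc, hxdef]
    · rw [Category.assoc, ξ_snd, hp₂def, mk_b', Category.assoc, ← hcond]
  rw [← Scheme.Hom.comp_apply, e5, Scheme.Hom.comp_apply, hkw]

end Groth.Agent.Lib.Helper68.QSplit
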