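import Groth.Agent.Lib.Helper68.QSplitCov
import Groth.Agent.S1881

/-!
# Étale localisation of groupoids: an invariant affine neighbourhood where `P` is finite (helper68)
-/

set_option autoImplicit false
set_option linter.style.haveILetI false
set_option linter.unusedSectionVars false
universe u

namespace Groth.Agent.Lib.Helper68.QSplit

open CategoryTheory CategoryTheory.Limits AlgebraicGeometry Grpd
open Groth.Agent.Lib.Helper37 Groth.Agent.Lib.Helper37.Pull Groth.Agent.Lib.Helper7.EtaleNbhd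

variable {S : Scheme.{u}} (G : GroupoidScheme S) {U₁ : Scheme.{u}} (g : U₁ ⟶ G.U)
  (V : (pullback G.s g).Opens)
  [Flat G.s] [LocallyOfFinitePresentation G.s]
  (hVc : IsClosed (V : Set ↥(pullback G.s g))) (hVf : IsFinite (V.ι ≫ pullback.snd G.s g))
  (he : ∀ x : U₁, e₁ G g x ∈ V)

/-- An open subset of `U₁` which is `P`-invariant and over which `P ⟶ V` is surjective. -/
structure Adm (Ω : U₁.Opens) : Prop where
  cov : ∀ b ∈ Ω, Cov G g V hVc hVf b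
  inv : ∀ p : ↥(R' G g), p ∈ P G g V hVc hVf → b' G g p ∈ Ω → a' G g p ∈ Ω

section Adm

variable {G g V hVc hVf} {Ω : U₁.Opens} (hΩ : Adm G g V hVc hVf Ω)

instance : IsOpenImmersion (q G.s g Ω.ι) :=
  MorphismProperty.of_isPullback (P := @IsOpenImmersion) (isPullback_q G.s g Ω.ι).flip inferInstance

include hΩ in
lemma Adm.surjective_ξP :
    Function.Surjective (ξP G (Ω.ι ≫ g) (resV G g V Ω.ι) (isClosed_resV G g V Ω.ι hVc)
      (isFinite_resV G g V Ω.ι hVf) (e₁_mem_resV G g V Ω.ι he)) := by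
  intro w₂
  obtain ⟨w₂', hw₂'⟩ : ∃ w₂', w₂' = (resV G g V Ω.ι).ι w₂ := ⟨_, rfl⟩
  have hw₂V : w₂' ∈ resV G g V Ω.ι := by rw [hw₂']; exact ι_mem _ _
  have hwV : q G.s g Ω.ι w₂' ∈ V := hw₂V
  have hsnd : pullback.snd G.s g (q G.s g Ω.ι w₂') = Ω.ι (pullback.snd G.s (Ω.ι ≫ g) w₂') := by
    rw [← Scheme.Hom.comp_apply, q_snd, Scheme.Hom.comp_apply]
  obtain ⟨p, hp, hpw⟩ := hΩ.cov _ (ι_mem Ω (pullback.snd G.s (Ω.ι ≫ g) w₂')) _ hwV hsnd
  have hbp : b' G g p = Ω.ι (pullback.snd G.s (Ω.ι ≫ g) w₂') := by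
    rw [← hsnd, ← hpw, ← Scheme.Hom.comp_apply, ξ_snd]
  have hb : b' G g p ∈ Ω := by rw [hbp]; exact ι_mem Ω _
  obtain ⟨z, hz⟩ := exists_ψ_eq G g Ω p (hΩ.inv p hp hb) hb
  have hzP : z ∈ resP G g V Ω.ι hVc hVf := by
    rw [mem_resP_iff, hz]; exact hp
  refine ⟨⟨z, hzP⟩, ?_⟩
  apply (resV G g V Ω.ι).ι.isOpenEmbedding.injective
  rw [← hw₂', ← Scheme.Hom.comp_apply, ξP_ι, Scheme.Hom.comp_apply]
  apply (q G.s g Ω.ι).isOpenEmbedding.injective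
  have : (P G (Ω.ι ≫ g) (resV G g V Ω.ι) (isClosed_resV G g V Ω.ι hVc)
      (isFinite_resV G g V Ω.ι hVf)).ι ⟨z, hzP⟩ = z := rfl
  rw [this, ← Scheme.Hom.comp_apply, ← ψ_ξ, Scheme.Hom.comp_apply, hz, hpw]

include hΩ in
lemma Adm.isIso_ξP [Etale g] (hinj : Inj G g V) :
    IsIso (ξP G (Ω.ι ≫ g) (resV G g V Ω.ι) (isClosed_resV G g V Ω.ι hVc)
      (isFinite_resV G g V Ω.ι hVf) (e₁_mem_resV G g V Ω.ι he)) := by
  haveI := (hinj.resV Ω.ι).isOpenImmersion_ξP (isClosed_resV G g V Ω.ι hVc)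
    (isFinite_resV G g V Ω.ι hVf) (e₁_mem_resV G g V Ω.ι he)
  apply isIso_of_isOpenImmersion_of_opensRange_eq_top
  apply TopologicalSpace.Opens.ext
  rw [Scheme.Hom.coe_opensRange, TopologicalSpace.Opens.coe_top]
  exact (hΩ.surjective_ξP he).range_eq

lemma resP_ι_b' :
    (resP G g V Ω.ι hVc hVf).ι ≫ b' G (Ω.ι ≫ g) =
      ξP G (Ω.ι ≫ g) (resV G g V Ω.ι) (isClosed_resV G g V Ω.ι hVc)
        (isFinite_resV G g V Ω.ι hVf) (e₁_mem_resV G g V Ω.ι he) ≫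
        (resV G g V Ω.ι).ι ≫ pullback.snd G.s (Ω.ι ≫ g) := by
  rw [ξP_ι_assoc, ξ_snd]

include hΩ he in
lemma Adm.isFinite_s [Etale g] (hinj : Inj G g V) :
    IsFinite ((resP G g V Ω.ι hVc hVf).ι ≫ b' G (Ω.ι ≫ g)) := by
  haveI := hΩ.isIso_ξP he hinj
  haveI := isFinite_resV G g V Ω.ι hVf
  rw [resP_ι_b' he]
  infer_instance

include hΩ he in
lemma Adm.flat_s [Etale g] (hinj : Inj G g V) :
    Flat ((resP G g V Ω.ι hVc hVf).ι ≫ b' G (Ω.ι ≫ g)) := by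
  haveI := hΩ.isIso_ξP he hinj
  rw [resP_ι_b' he]
  infer_instance

include hΩ he in
lemma Adm.lfp_s [Etale g] (hinj : Inj G g V) :
    LocallyOfFinitePresentation ((resP G g V Ω.ι hVc hVf).ι ≫ b' G (Ω.ι ≫ g)) := by
  haveI := hΩ.isIso_ξP he hinj
  rw [resP_ι_b' he]
  infer_instance

end Adm

end Groth.Agent.Lib.Helper68.QSplit
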