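import Groth.Agent.Lib.Helper68.QSplitRestrict

/-!
# Étale localisation of groupoids: membership in `P` over a point with exact fibre (helper68)
-/

set_option autoImplicit false
set_option linter.style.haveILetI false
set_option linter.unusedSectionVars false
universe u

namespace Groth.Agent.Lib.Helper68.QSplit

open CategoryTheory CategoryTheory.Limits AlgebraicGeometry Grpd
open Groth.Agent.Lib.Helper37 Groth.Agent.Lib.Helper37.Pull Groth.Agent.Lib.Helper7.EtaleNbhd

variable {S : Scheme.{u}} (G : GroupoidScheme S)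

/-- The set `F` of points of `R` is stable under right translation by inverses of its own
(field-valued) points. -/
def TranslStable (F : Set G.R) : Prop :=
  ∀ (K : Type u) [Field K] (x r : Spec (.of K) ⟶ G.R) (h : x ≫ G.s = r ≫ G.s),
    r (IsLocalRing.closedPoint K) ∈ F →
    (x (IsLocalRing.closedPoint K) ∈ F ↔
      gcomp G x (r ≫ G.i) (by rw [Category.assoc, G.i_t, h]) (IsLocalRing.closedPoint K) ∈ F)

variable {U₁ : Scheme.{u}} (g : U₁ ⟶ G.U) (V : (pullback G.s g).Opens)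
  [Flat G.s] [LocallyOfFinitePresentation G.s]
  (hVc : IsClosed (V : Set ↥(pullback G.s g))) (hVf : IsFinite (V.ι ≫ pullback.snd G.s g))

theorem mem_P_of_exact (u₁ : U₁) (F : Set G.R) (hF2 : TranslStable G F)
    (hex : ∀ w : ↥(pullback G.s g), pullback.snd G.s g w = u₁ →
      (w ∈ V ↔ pullback.fst G.s g w ∈ F))
    (p : ↥(R' G g)) (ha : a' G g p = u₁) (hb : b' G g p = u₁) (hρ : ρ G g p ∈ F) :
    p ∈ P G g V hVc hVf := by
  obtain ⟨k, hk⟩ : ∃ k : Spec ((R' G g).residueField p) ⟶ R' G g, ∀ z, k z = p :=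
    ⟨_, fun z => Scheme.fromSpecResidueField_apply _ _⟩
  obtain ⟨pt⟩ : Nonempty ↥(Spec ((R' G g).residueField p)) := inferInstance
  have key := (forall_mem_P_iff G g V hVc hVf k).2 ?_ pt
  · rwa [hk] at key
  intro T' f x hx
  refine forall_congr' fun z => ?_
  have hs1 : pullback.snd G.s g (pullback.lift x (f ≫ k ≫ b' G g) hx z) = u₁ := by
    rw [← Scheme.Hom.comp_apply, pullback.lift_snd, Scheme.Hom.comp_apply, Scheme.Hom.comp_apply,
      hk, hb]
  rw [hex _ hs1, ← Scheme.Hom.comp_apply, pullback.lift_fst]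
  have hs2 : ∀ (y : T' ⟶ G.R) (hy : y ≫ G.s = (f ≫ k ≫ a' G g) ≫ g),
      pullback.snd G.s g (pullback.lift y (f ≫ k ≫ a' G g) hy z) = u₁ := by
    intro y hy
    rw [← Scheme.Hom.comp_apply, pullback.lift_snd, Scheme.Hom.comp_apply, Scheme.Hom.comp_apply,
      hk, ha]
  rw [hex _ (hs2 _ _), ← Scheme.Hom.comp_apply, pullback.lift_fst]
  obtain ⟨ιz, hιz⟩ : ∃ ιz : Spec (.of (T'.residueField z)) ⟶ T', ∀ w, ιz w = z :=
    ⟨T'.fromSpecResidueField z, fun w => Scheme.fromSpecResidueField_apply _ _⟩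
  have hxr : (ιz ≫ x) ≫ G.s = (ιz ≫ f ≫ k ≫ ρ G g) ≫ G.s := by
    simp only [Category.assoc, ρ_s]
    rw [hx]
    simp only [Category.assoc]
  have h3 := hF2 (T'.residueField z) (ιz ≫ x) (ιz ≫ f ≫ k ≫ ρ G g) hxr (by
    rw [Scheme.Hom.comp_apply, Scheme.Hom.comp_apply, Scheme.Hom.comp_apply, hk]
    exact hρ)
  rw [Scheme.Hom.comp_apply, hιz] at h3
  rw [h3]
  have e : gcomp G (ιz ≫ x) ((ιz ≫ f ≫ k ≫ ρ G g) ≫ G.i)
      (by rw [Category.assoc _ G.i, G.i_t, hxr]) =
      ιz ≫ gcomp G x ((f ≫ k ≫ ρ G g) ≫ G.i)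
        (by rw [Category.assoc _ G.i, G.i_t, hx]; simp only [Category.assoc, ρ_s]) := by
    rw [precomp_gcomp]
    exact gcomp_congr G rfl (by simp only [Category.assoc]) _ _
  rw [e, Scheme.Hom.comp_apply, hιz]

end Groth.Agent.Lib.Helper68.QSplit
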