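import Groth.Agent.Lib.Helper68.QSplitStab
import Groth.Agent.Lib.Helper68.QSplitClopen
import Groth.Agent.Lib.Helper37.SubGrpd
import Groth.Agent.Lib.Helper7.EtaleNbhd

/-!
# Étale localisation of groupoids: the stabiliser subgroupoid of a clopen piece (helper68)

For a groupoid `G` on `U`, a morphism `g : U₁ ⟶ U` and an open and closed `V ⊆ R ×_{s,U,g} U₁`
finite over `U₁`, the locus `P` of the restricted groupoid `R₁ = R|_{U₁}` where translation
preserves `V` is an open and closed subgroupoid.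
-/

set_option autoImplicit false
set_option linter.style.haveILetI false
set_option linter.unusedSectionVars false
universe u

namespace Groth.Agent.Lib.Helper68.QSplit

open CategoryTheory CategoryTheory.Limits AlgebraicGeometry Grpd
open Groth.Agent.Lib.Helper37 Groth.Agent.Lib.Helper37.Pull Groth.Agent.Lib.Helper7.EtaleNbhd

variable {S : Scheme.{u}}

/-! ### Open subgroupoids -/

/-- `P` is the set of arrows of an open subgroupoid of `G`. -/
structure IsOpenSubgroupoid (G : GroupoidScheme S) (P : G.R.Opens) : Prop where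
  e_mem : ∀ x : G.U, G.e x ∈ P
  i_mem : ∀ r : G.R, r ∈ P → G.i r ∈ P
  c_mem : ∀ {T : Scheme.{u}} (α β : T ⟶ G.R) (h : α ≫ G.s = β ≫ G.t),
    (∀ z, α z ∈ P) → (∀ z, β z ∈ P) → ∀ z, gcomp G α β h z ∈ P

/-- lifting a morphism through an open subscheme -/
noncomputable def liftO {X T : Scheme.{u}} (W : X.Opens) (f : T ⟶ X) (h : ∀ z, f z ∈ W) :
    T ⟶ W :=
  IsOpenImmersion.lift W.ι f (by
    rintro _ ⟨z, rfl⟩
    rw [Scheme.Opens.range_ι]
    exact h z)

@[reassoc (attr := simp)]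
lemma liftO_ι {X T : Scheme.{u}} (W : X.Opens) (f : T ⟶ X) (h : ∀ z, f z ∈ W) :
    liftO W f h ≫ W.ι = f :=
  IsOpenImmersion.lift_fac _ _ _

lemma ι_mem {X : Scheme.{u}} (W : X.Opens) (z : W) : W.ι z ∈ W := z.2

theorem IsOpenSubgroupoid.exists_maps {G : GroupoidScheme S} {P : G.R.Opens}
    (h : IsOpenSubgroupoid G P) :
    (∃ eP : G.U ⟶ P, eP ≫ P.ι = G.e) ∧ (∃ iP : (P : Scheme.{u}) ⟶ P, iP ≫ P.ι = P.ι ≫ G.i) ∧
    (∃ cP : pullback (P.ι ≫ G.s) (P.ι ≫ G.t) ⟶ P,
      cP ≫ P.ι = pullback.map (P.ι ≫ G.s) (P.ι ≫ G.t) G.s G.t P.ι P.ι (𝟙 G.U)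
        (Category.comp_id _) (Category.comp_id _) ≫ G.c) := by
  refine ⟨⟨liftO P G.e h.e_mem, liftO_ι _ _ _⟩, ⟨liftO P (P.ι ≫ G.i) (fun z => ?_), liftO_ι _ _ _⟩,
    ⟨liftO P _ (fun z => ?_), liftO_ι _ _ _⟩⟩
  · rw [Scheme.Hom.comp_apply]
    exact h.i_mem _ (ι_mem P z)
  · rw [comp_c]
    refine h.c_mem _ _ _ (fun z => ?_) (fun z => ?_) z
    · rw [pullback.lift_fst, Scheme.Hom.comp_apply]
      exact ι_mem P _
    · rw [pullback.lift_snd, Scheme.Hom.comp_apply]
      exact ι_mem P _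

theorem IsOpenSubgroupoid.preimage {G' G : GroupoidScheme S} (φ : GroupoidScheme.Hom G' G)
    {P : G.R.Opens} (h : IsOpenSubgroupoid G P) : IsOpenSubgroupoid G' (φ.fR ⁻¹ᵁ P) where
  e_mem x := by
    change φ.fR (G'.e x) ∈ P
    rw [← Scheme.Hom.comp_apply, SubG.hom_e, Scheme.Hom.comp_apply]
    exact h.e_mem _
  i_mem r hr := by
    change φ.fR (G'.i r) ∈ P
    rw [← Scheme.Hom.comp_apply, SubG.hom_i, Scheme.Hom.comp_apply]
    exact h.i_mem _ hr
  c_mem {T} α β hαβ hα hβ z := by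
    change φ.fR (gcomp G' α β hαβ z) ∈ P
    rw [← Scheme.Hom.comp_apply, SubG.hom_gcomp φ α β hαβ
      (by rw [Category.assoc, Category.assoc, φ.comm_s, φ.comm_t, ← Category.assoc,
        ← Category.assoc, hαβ])]
    refine h.c_mem _ _ _ (fun z => ?_) (fun z => ?_) z
    · rw [Scheme.Hom.comp_apply]; exact hα z
    · rw [Scheme.Hom.comp_apply]; exact hβ z

/-! ### The agreement locus of a translation -/

variable (G : GroupoidScheme S) {U₁ : Scheme.{u}} (g : U₁ ⟶ G.U) (V : (pullback G.s g).Opens)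

section StabOpens

variable {T : Scheme.{u}} (a b : T ⟶ U₁) (r : T ⟶ G.R) (hs : r ≫ G.s = b ≫ g)
  (ht : r ≫ G.t = a ≫ g)

/-- `(x, t) ↦ (x ∘ r(t)⁻¹, a t)` -/
noncomputable def qa : pullback G.s (b ≫ g) ⟶ pullback G.s g :=
  pullback.lift
    (gcomp G (pullback.fst _ _) ((pullback.snd _ _ ≫ r) ≫ G.i)
      (by simp only [Category.assoc, i_t', hs, pullback.condition]))
    (pullback.snd _ _ ≫ a)
    (by simp only [gcomp_s, Category.assoc, i_s', ht])

lemma isPullback_qa :
    IsPullback (qa G g a b r hs ht) (pullback.snd G.s (b ≫ g)) (pullback.snd G.s g) a := by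
  obtain ⟨φ, hφ1, h, hφ2⟩ := exists_iso_pullback_s G (b ≫ g) (a ≫ g) r ht hs
  have e : qa G g a b r hs ht = φ.hom ≫ q G.s g a := by
    apply pullback.hom_ext
    · rw [qa, pullback.lift_fst, Category.assoc φ.hom, q_fst]
      exact hφ2.symm
    · rw [qa, pullback.lift_snd, Category.assoc φ.hom, q_snd, ← Category.assoc, hφ1]
  refine IsPullback.of_iso (isPullback_q G.s g a) φ.symm (Iso.refl _) (Iso.refl _) (Iso.refl _)
    ?_ ?_ ?_ ?_
  · simp only [Iso.refl_hom, Category.comp_id, Iso.symm_hom, e, Iso.inv_hom_id_assoc]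
  · simp only [Iso.refl_hom, Category.comp_id, Iso.symm_hom, ← hφ1, Iso.inv_hom_id_assoc]
  · simp only [Iso.refl_hom, Category.comp_id, Category.id_comp]
  · simp only [Iso.refl_hom, Category.comp_id, Category.id_comp]

variable {G g V}

lemma isFinite_preimage_ι_comp {Y' T : Scheme.{u}} (qq : Y' ⟶ pullback G.s g) (p : Y' ⟶ T)
    (c : T ⟶ U₁) (sq : IsPullback qq p (pullback.snd G.s g) c)
    (hVf : IsFinite (V.ι ≫ pullback.snd G.s g)) : IsFinite ((qq ⁻¹ᵁ V).ι ≫ p) := by
  have h1 := (isPullback_morphismRestrict qq V).paste_vert sq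
  exact MorphismProperty.of_isPullback (P := @IsFinite) h1 hVf

lemma forall_mem_preimage_iff {Y' T'' : Scheme.{u}} (qq : Y' ⟶ pullback G.s g) (y : T'' ⟶ Y')
    (x : T'' ⟶ G.R) (c : T'' ⟶ U₁) (h : x ≫ G.s = c ≫ g) (e : y ≫ qq = pullback.lift x c h) :
    (∀ z, y z ∈ qq ⁻¹ᵁ V) ↔ InV G g V x c h := by
  refine forall_congr' fun z => ?_
  change qq (y z) ∈ V ↔ _
  rw [← Scheme.Hom.comp_apply, e]

variable (G g V)

theorem exists_stabOpens [Flat G.s] [LocallyOfFinitePresentation G.s]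
    (hVc : IsClosed (V : Set ↥(pullback G.s g))) (hVf : IsFinite (V.ι ≫ pullback.snd G.s g)) :
    ∃ W : T.Opens, IsClosed (W : Set T) ∧ ∀ {T' : Scheme.{u}} (k : T' ⟶ T),
      (∀ z, k z ∈ W) ↔ Stab G g V (k ≫ a) (k ≫ b) (k ≫ r)
        (by rw [Category.assoc, hs, Category.assoc]) (by rw [Category.assoc, ht, Category.assoc]) := by
  obtain ⟨W, hWc, hW⟩ := exists_agree_opens (pullback.snd G.s (b ≫ g)) (Scheme.Hom.isOpenMap _)
    (q G.s g b ⁻¹ᵁ V) (qa G g a b r hs ht ⁻¹ᵁ V) (hVc.preimage (q G.s g b).continuous)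
    (hVc.preimage (qa G g a b r hs ht).continuous)
    (isFinite_preimage_ι_comp _ _ _ (isPullback_q G.s g b) hVf)
    (isFinite_preimage_ι_comp _ _ _ (isPullback_qa G g a b r hs ht) hVf)
  refine ⟨W, hWc, fun {T'} k => ?_⟩
  refine (forall_mem_agree_iff _ _ _ (W : Set T) hW k).trans ?_
  constructor
  · intro h T'' f x hx
    have hy : x ≫ G.s = (f ≫ k) ≫ b ≫ g := by rw [hx]; simp only [Category.assoc]
    have key := h T'' f (pullback.lift x (f ≫ k) hy) (pullback.lift_snd _ _ _)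
    have hA : pullback.lift x (f ≫ k) hy ≫ q G.s g b = pullback.lift x (f ≫ k ≫ b) hx := by
      apply pullback.hom_ext
      · rw [Category.assoc, q_fst, pullback.lift_fst, pullback.lift_fst]
      · rw [Category.assoc, q_snd, pullback.lift_snd, pullback.lift_snd_assoc, Category.assoc]
    have h1 : x ≫ G.s = ((f ≫ k ≫ r) ≫ G.i) ≫ G.t := by
      rw [hx]; simp only [Category.assoc, i_t', hs]
    have h2 : gcomp G x ((f ≫ k ≫ r) ≫ G.i) h1 ≫ G.s = (f ≫ k ≫ a) ≫ g := by
      simp only [gcomp_s, Category.assoc, i_s', ht]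
    have hB : pullback.lift x (f ≫ k) hy ≫ qa G g a b r hs ht =
        pullback.lift (gcomp G x ((f ≫ k ≫ r) ≫ G.i) h1) (f ≫ k ≫ a) h2 := by
      apply pullback.hom_ext
      · rw [Category.assoc, qa, pullback.lift_fst, pullback.lift_fst, precomp_gcomp]
        refine gcomp_congr G (pullback.lift_fst _ _ _) ?_ _ _
        rw [← Category.assoc, ← Category.assoc, pullback.lift_snd, Category.assoc f k r]
      · rw [Category.assoc, qa, pullback.lift_snd, pullback.lift_snd, pullback.lift_snd_assoc,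
          Category.assoc]
    rw [forall_mem_preimage_iff (V := V) _ _ _ _ hx hA,
      forall_mem_preimage_iff (V := V) _ _ _ _ h2 hB] at key
    exact key
  · intro h T'' l y hy
    have hx : (y ≫ pullback.fst _ _) ≫ G.s = (l ≫ k ≫ b) ≫ g := by
      rw [Category.assoc, pullback.condition, ← Category.assoc, hy]
      simp only [Category.assoc]
    have key := h l (y ≫ pullback.fst _ _) hx
    have hA : y ≫ q G.s g b = pullback.lift (y ≫ pullback.fst _ _) (l ≫ k ≫ b) hx := by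
      apply pullback.hom_ext
      · rw [Category.assoc, q_fst, pullback.lift_fst]
      · rw [Category.assoc, q_snd, pullback.lift_snd, ← Category.assoc, hy, Category.assoc]
    have h1 : (y ≫ pullback.fst _ _) ≫ G.s = ((l ≫ k ≫ r) ≫ G.i) ≫ G.t := by
      rw [hx]; simp only [Category.assoc, i_t', hs]
    have h2 : gcomp G (y ≫ pullback.fst _ _) ((l ≫ k ≫ r) ≫ G.i) h1 ≫ G.s = (l ≫ k ≫ a) ≫ g := by
      simp only [gcomp_s, Category.assoc, i_s', ht]
    have hB : y ≫ qa G g a b r hs ht =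
        pullback.lift (gcomp G (y ≫ pullback.fst _ _) ((l ≫ k ≫ r) ≫ G.i) h1) (l ≫ k ≫ a) h2 := by
      apply pullback.hom_ext
      · rw [Category.assoc, qa, pullback.lift_fst, pullback.lift_fst, precomp_gcomp]
        refine gcomp_congr G rfl ?_ _ _
        rw [← Category.assoc, ← Category.assoc, hy, Category.assoc l k r]
      · rw [Category.assoc, qa, pullback.lift_snd, pullback.lift_snd, ← Category.assoc, hy,
          Category.assoc]
    rw [forall_mem_preimage_iff (V := V) _ _ _ _ hx hA,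
      forall_mem_preimage_iff (V := V) _ _ _ _ h2 hB]
    exact key

end StabOpens

/-! ### The stabiliser subgroupoid `P` -/

section P

variable [Flat G.s] [LocallyOfFinitePresentation G.s]
  (hVc : IsClosed (V : Set ↥(pullback G.s g))) (hVf : IsFinite (V.ι ≫ pullback.snd G.s g))

/-- The locus of the restricted groupoid where translation preserves `V`. -/
noncomputable def P : (R' G g).Opens :=
  Classical.choose (exists_stabOpens G g V (a' G g) (b' G g) (ρ G g) (ρ_s G g) (ρ_t G g) hVc hVf)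

lemma isClosed_P : IsClosed (P G g V hVc hVf : Set ↥(R' G g)) :=
  (Classical.choose_spec
    (exists_stabOpens G g V (a' G g) (b' G g) (ρ G g) (ρ_s G g) (ρ_t G g) hVc hVf)).1

lemma forall_mem_P_iff {T : Scheme.{u}} (k : T ⟶ R' G g) :
    (∀ z, k z ∈ P G g V hVc hVf) ↔ Stab G g V (k ≫ a' G g) (k ≫ b' G g) (k ≫ ρ G g)
      (by rw [Category.assoc, ρ_s, Category.assoc]) (by rw [Category.assoc, ρ_t, Category.assoc]) :=
  (Classical.choose_spec
    (exists_stabOpens G g V (a' G g) (b' G g) (ρ G g) (ρ_s G g) (ρ_t G g) hVc hVf)).2 k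

end P

end Groth.Agent.Lib.Helper68.QSplit
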