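import Groth.Agent.Lib.Helper68.QSplitP

/-!
# Étale localisation of groupoids: `P` is a subgroupoid mapping to `V` (helper68)
-/

set_option autoImplicit false
set_option linter.style.haveILetI false
set_option linter.unusedSectionVars false
universe u

namespace Groth.Agent.Lib.Helper68.QSplit

open CategoryTheory CategoryTheory.Limits AlgebraicGeometry Grpd
open Groth.Agent.Lib.Helper37 Groth.Agent.Lib.Helper37.Pull Groth.Agent.Lib.Helper7.EtaleNbhd

variable {S : Scheme.{u}} (G : GroupoidScheme S) {U₁ : Scheme.{u}} (g : U₁ ⟶ G.U)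
  (V : (pullback G.s g).Opens)

variable {G g V} in
lemma Stab.congr {T : Scheme.{u}} {a b a₀ b₀ : T ⟶ U₁} {r r₀ : T ⟶ G.R} {hs : r ≫ G.s = b ≫ g}
    {ht : r ≫ G.t = a ≫ g} (hst : Stab G g V a b r hs ht) (ha : a = a₀) (hb : b = b₀)
    (hr : r = r₀) (hs₀ : r₀ ≫ G.s = b₀ ≫ g) (ht₀ : r₀ ≫ G.t = a₀ ≫ g) :
    Stab G g V a₀ b₀ r₀ hs₀ ht₀ := by
  subst ha hb hr
  exact hst

lemma e'_a' : e' G g ≫ a' G g = 𝟙 _ := by rw [e', mk_a']
lemma e'_b' : e' G g ≫ b' G g = 𝟙 _ := by rw [e', mk_b']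
lemma e'_ρ : e' G g ≫ ρ G g = g ≫ G.e := by rw [e', mk_ρ]
lemma i'_a' : i' G g ≫ a' G g = b' G g := by rw [i', mk_a']
lemma i'_b' : i' G g ≫ b' G g = a' G g := by rw [i', mk_b']
lemma i'_ρ : i' G g ≫ ρ G g = ρ G g ≫ G.i := by rw [i', mk_ρ]

section P

variable [Flat G.s] [LocallyOfFinitePresentation G.s]
  (hVc : IsClosed (V : Set ↥(pullback G.s g))) (hVf : IsFinite (V.ι ≫ pullback.snd G.s g))

lemma c_mem_P {T : Scheme.{u}} (α β : T ⟶ R' G g) (h' : α ≫ b' G g = β ≫ a' G g)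
    (hα : ∀ z, α z ∈ P G g V hVc hVf) (hβ : ∀ z, β z ∈ P G g V hVc hVf) (z : T) :
    (pullback.lift α β h' ≫ c' G g) z ∈ P G g V hVc hVf := by
  have h1 := (forall_mem_P_iff G g V hVc hVf α).1 hα
  have h2 := (forall_mem_P_iff G g V hVc hVf β).1 hβ
  have h2' := h2.congr (a₀ := α ≫ b' G g) h'.symm rfl rfl
    (by rw [Category.assoc, ρ_s, Category.assoc])
    (by rw [Category.assoc, ρ_t, ← Category.assoc, ← h'])
  have h3 := h1.trans h2' (gcomp G (α ≫ ρ G g) (β ≫ ρ G g) (comp_cond G g α β h'))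
    (comp_cond G g α β h') rfl
    (by rw [gcomp_s, Category.assoc, ρ_s, Category.assoc])
    (by rw [gcomp_t, Category.assoc, ρ_t, Category.assoc])
  refine (forall_mem_P_iff G g V hVc hVf (pullback.lift α β h' ≫ c' G g)).2
    (h3.congr ?_ ?_ ?_ _ _) z
  · exact (lift_c'_a' G g α β h').symm
  · exact (lift_c'_b' G g α β h').symm
  · exact (lift_c'_ρ G g α β h').symm

theorem isOpenSubgroupoid_P : IsOpenSubgroupoid (pullGrpd G g) (P G g V hVc hVf) where
  e_mem x := by
    refine (forall_mem_P_iff G g V hVc hVf (e' G g)).2 ?_ x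
    refine (stab_refl (G := G) (g := g) (V := V) (𝟙 U₁) (g ≫ G.e) (by rw [Category.id_comp])
      (by rw [Category.assoc, G.e_s, Category.comp_id, Category.id_comp])
      (by rw [Category.assoc, G.e_t, Category.comp_id, Category.id_comp])).congr
      (e'_a' G g).symm (e'_b' G g).symm (e'_ρ G g).symm _ _
  i_mem r hr := by
    have h1 := (forall_mem_P_iff G g V hVc hVf (P G g V hVc hVf).ι).1 (fun z => ι_mem _ z)
    have h2 := (forall_mem_P_iff G g V hVc hVf ((P G g V hVc hVf).ι ≫ i' G g)).2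
      ((h1.symm (((P G g V hVc hVf).ι ≫ ρ G g) ≫ G.i) rfl
        (by simp only [Category.assoc, i_s', ρ_t])
        (by simp only [Category.assoc, i_t', ρ_s])).congr
        (by rw [Category.assoc, i'_a']) (by rw [Category.assoc, i'_b'])
        (by rw [Category.assoc, Category.assoc, i'_ρ]) _ _)
    have := h2 ⟨r, hr⟩
    rwa [Scheme.Hom.comp_apply] at this
  c_mem {T} α β h hα hβ z := c_mem_P G g V hVc hVf α β h hα hβ z

end P

/-! ### The map `ξ : R₁ ⟶ X₁` -/

/-- `(a, r, b) ↦ (r, b)` -/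
noncomputable def ξ : R' G g ⟶ pullback G.s g := pullback.lift (ρ G g) (b' G g) (ρ_s G g)

@[reassoc (attr := simp)]
lemma ξ_fst : ξ G g ≫ pullback.fst G.s g = ρ G g := pullback.lift_fst _ _ _

@[reassoc (attr := simp)]
lemma ξ_snd : ξ G g ≫ pullback.snd G.s g = b' G g := pullback.lift_snd _ _ _

lemma isPullback_ξ : IsPullback (ξ G g) (a' G g) (pullback.fst G.s g ≫ G.t) g := by
  refine ⟨⟨by rw [ξ_fst_assoc, ρ_t]⟩, ⟨PullbackCone.IsLimit.mk _
    (fun c => mk (c.fst ≫ pullback.fst G.s g) c.snd (c.fst ≫ pullback.snd G.s g)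
      (by rw [Category.assoc, c.condition])
      (by rw [Category.assoc, pullback.condition, Category.assoc]))
    (fun c => ?_) (fun c => ?_) (fun c m h1 h2 => ?_)⟩⟩
  · apply pullback.hom_ext
    · rw [Category.assoc, ξ_fst, mk_ρ]
    · rw [Category.assoc, ξ_snd, mk_b']
  · exact mk_a' _ _ _ _ _
  · apply Pull.ext
    · rw [mk_ρ, ← h1, Category.assoc, ξ_fst]
    · rw [mk_a', ← h2]
    · rw [mk_b', ← h1, Category.assoc, ξ_snd]

instance [Etale g] : Etale (ξ G g) :=
  MorphismProperty.of_isPullback (P := @Etale) (isPullback_ξ G g).flip inferInstance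

/-- the identity section of `X₁ ⟶ U₁` -/
noncomputable def e₁ : U₁ ⟶ pullback G.s g :=
  pullback.lift (g ≫ G.e) (𝟙 U₁) (by rw [Category.assoc, G.e_s, Category.comp_id, Category.id_comp])

@[reassoc (attr := simp)]
lemma e₁_fst : e₁ G g ≫ pullback.fst G.s g = g ≫ G.e := pullback.lift_fst _ _ _

@[reassoc (attr := simp)]
lemma e₁_snd : e₁ G g ≫ pullback.snd G.s g = 𝟙 _ := pullback.lift_snd _ _ _

lemma e'_ξ : e' G g ≫ ξ G g = e₁ G g := by
  apply pullback.hom_ext
  · rw [Category.assoc, ξ_fst, e'_ρ, e₁_fst]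
  · rw [Category.assoc, ξ_snd, e'_b', e₁_snd]

section P

variable [Flat G.s] [LocallyOfFinitePresentation G.s]
  (hVc : IsClosed (V : Set ↥(pullback G.s g))) (hVf : IsFinite (V.ι ≫ pullback.snd G.s g))
  (he : ∀ x : U₁, e₁ G g x ∈ V)

include he in
/-- `ξ` maps `P` into `V`. -/
lemma ξ_mem_of_mem_P (r : R' G g) (hr : r ∈ P G g V hVc hVf) : ξ G g r ∈ V := by
  have h1 := (forall_mem_P_iff G g V hVc hVf (P G g V hVc hVf).ι).1 (fun z => ι_mem _ z)
  have hx : ((P G g V hVc hVf).ι ≫ ρ G g) ≫ G.s = (𝟙 _ ≫ (P G g V hVc hVf).ι ≫ b' G g) ≫ g := by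
    rw [Category.id_comp, Category.assoc, ρ_s, Category.assoc]
  have h2 := h1 (𝟙 _) ((P G g V hVc hVf).ι ≫ ρ G g) hx
  have h3 : InV G g V ((P G g V hVc hVf).ι ≫ ρ G g) (𝟙 _ ≫ (P G g V hVc hVf).ι ≫ b' G g) hx := by
    rw [h2]
    -- the translate is the identity section
    have e1 : gcomp G ((P G g V hVc hVf).ι ≫ ρ G g)
        ((𝟙 _ ≫ (P G g V hVc hVf).ι ≫ ρ G g) ≫ G.i)
        (by rw [Category.id_comp, Category.assoc _ G.i, G.i_t]) =
        ((P G g V hVc hVf).ι ≫ a' G g) ≫ g ≫ G.e := by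
      rw [gcomp_i G _ _ (by rw [Category.id_comp])]
      simp only [Category.assoc, ρ_t_assoc]
    rw [inV_congr (V := V) e1 (Category.id_comp _) _
      (by simp only [Category.assoc, G.e_s, Category.comp_id])]
    have h0 : InV G g V (g ≫ G.e) (𝟙 U₁)
        (by rw [Category.assoc, G.e_s, Category.comp_id, Category.id_comp]) := he
    have := h0.precomp ((P G g V hVc hVf).ι ≫ a' G g)
      (by simp only [Category.assoc, G.e_s, Category.comp_id])
    exact (inV_congr rfl (Category.comp_id _) _ _).1 this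
  have h4 := h3 ⟨r, hr⟩
  have e2 : pullback.lift ((P G g V hVc hVf).ι ≫ ρ G g) (𝟙 _ ≫ (P G g V hVc hVf).ι ≫ b' G g) hx =
      (P G g V hVc hVf).ι ≫ ξ G g := by
    apply pullback.hom_ext
    · rw [pullback.lift_fst, Category.assoc, ξ_fst]
    · rw [pullback.lift_snd, Category.assoc, ξ_snd, Category.id_comp]
  rw [e2, Scheme.Hom.comp_apply] at h4
  exact h4

/-- The restriction of `ξ` to `P ⟶ V`. -/
noncomputable def ξP : (P G g V hVc hVf : Scheme.{u}) ⟶ V :=
  liftO V ((P G g V hVc hVf).ι ≫ ξ G g) (fun z => by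
    rw [Scheme.Hom.comp_apply]
    exact ξ_mem_of_mem_P G g V hVc hVf he _ (ι_mem _ z))

@[reassoc]
lemma ξP_ι : ξP G g V hVc hVf he ≫ V.ι = (P G g V hVc hVf).ι ≫ ξ G g := liftO_ι _ _ _

instance [Etale g] : Etale (ξP G g V hVc hVf he) := by
  have : Etale (ξP G g V hVc hVf he ≫ V.ι) := by
    rw [ξP_ι]
    infer_instance
  exact Etale.of_comp _ V.ι

/-- The injectivity condition: two points of `U₁` over the same point of `U` with the same fibre of
`V` are equal. -/
def Inj : Prop :=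
  ∀ ⦃T : Scheme.{u}⦄ (a₁ a₂ : T ⟶ U₁) (h : a₁ ≫ g = a₂ ≫ g),
    Stab G g V a₁ a₂ (a₂ ≫ g ≫ G.e)
      (by simp only [Category.assoc, G.e_s, Category.comp_id])
      (by simp only [Category.assoc, G.e_t, Category.comp_id, h]) → a₁ = a₂

variable {G g V} in
include hVc hVf in
lemma Inj.eq_of_ξ_eq (hinj : Inj G g V) {T : Scheme.{u}} (α β : T ⟶ R' G g)
    (hα : ∀ z, α z ∈ P G g V hVc hVf) (hβ : ∀ z, β z ∈ P G g V hVc hVf)
    (h0 : α ≫ ξ G g = β ≫ ξ G g) : α = β := by
  have hρ : α ≫ ρ G g = β ≫ ρ G g := by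
    have := h0 =≫ pullback.fst _ _
    simpa only [Category.assoc, ξ_fst] using this
  have hb : α ≫ b' G g = β ≫ b' G g := by
    have := h0 =≫ pullback.snd _ _
    simpa only [Category.assoc, ξ_snd] using this
  have h1 := (forall_mem_P_iff G g V hVc hVf α).1 hα
  have h2 := (forall_mem_P_iff G g V hVc hVf β).1 hβ
  have hag' : α ≫ a' G g ≫ g = β ≫ a' G g ≫ g := by
    rw [← ρ_t, reassoc_of% hρ]
  have hag : (α ≫ a' G g) ≫ g = (β ≫ a' G g) ≫ g := by
    simpa only [Category.assoc] using hag'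
  -- `Stab a₂ b r` with the data of `α`
  have h2' := h2.congr rfl hb.symm hρ.symm
    (by rw [Category.assoc, ρ_s, Category.assoc])
    (by rw [Category.assoc, ρ_t, ← Category.assoc, hag])
  have h2s := h2'.symm ((α ≫ ρ G g) ≫ G.i) rfl
    (by simp only [Category.assoc, i_s', ρ_t]; exact hag')
    (by simp only [Category.assoc, i_t', ρ_s])
  have h3 := h1.trans h2s ((β ≫ a' G g) ≫ g ≫ G.e)
    (by simp only [Category.assoc, i_t'])
    (by
      rw [gcomp_i G _ _ rfl]
      simp only [Category.assoc, ρ_t_assoc]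
      rw [reassoc_of% hag'])
    (by simp only [Category.assoc, G.e_s, Category.comp_id])
    (by simp only [Category.assoc, G.e_t, Category.comp_id]; exact hag'.symm)
  have ha := hinj _ _ hag h3
  exact Pull.ext hρ ha hb

variable {G g V} in
include hVc hVf he in
lemma Inj.mono_ξP (hinj : Inj G g V) : Mono (ξP G g V hVc hVf he) := by
  refine ⟨fun {T} α β hαβ => ?_⟩
  rw [← cancel_mono (P G g V hVc hVf).ι]
  refine hinj.eq_of_ξ_eq hVc hVf _ _ (fun z => ?_) (fun z => ?_) ?_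
  · rw [Scheme.Hom.comp_apply]; exact ι_mem _ _
  · rw [Scheme.Hom.comp_apply]; exact ι_mem _ _
  · rw [Category.assoc, Category.assoc, ← ξP_ι G g V hVc hVf he, ← Category.assoc, hαβ,
      Category.assoc]

variable {G g V} in
include hVc hVf he in
lemma Inj.isOpenImmersion_ξP [Etale g] (hinj : Inj G g V) :
    IsOpenImmersion (ξP G g V hVc hVf he) := by
  haveI := hinj.mono_ξP hVc hVf he
  exact IsOpenImmersion.of_flat_of_mono _

end P

end Groth.Agent.Lib.Helper68.QSplit
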