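import Groth.Agent.Lib.Helper68.QSplitP2

/-!
# Étale localisation of groupoids: base change of the datum `(g, V)` (helper68)

For `k : U₂ ⟶ U₁` the datum `(g, V)` on `U₁` induces `(k ≫ g, q⁻¹ V)` on `U₂`.  The stabiliser
relation, the subgroupoid `P` and the injectivity condition are compatible with this operation.
-/

set_option autoImplicit false
set_option linter.style.haveILetI false
set_option linter.unusedSectionVars false
universe u

namespace Groth.Agent.Lib.Helper68.QSplit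

open CategoryTheory CategoryTheory.Limits AlgebraicGeometry Grpd
open Groth.Agent.Lib.Helper37 Groth.Agent.Lib.Helper37.Pull Groth.Agent.Lib.Helper7.EtaleNbhd

variable {S : Scheme.{u}} (G : GroupoidScheme S) {U₁ : Scheme.{u}} (g : U₁ ⟶ G.U)
  (V : (pullback G.s g).Opens) {U₂ : Scheme.{u}} (k : U₂ ⟶ U₁)

/-- The base change of `V` along `k`. -/
noncomputable def resV : (pullback G.s (k ≫ g)).Opens := q G.s g k ⁻¹ᵁ V

variable {G g V} in
lemma inV_resV_iff {T : Scheme.{u}} (x : T ⟶ G.R) (c : T ⟶ U₂) (h : x ≫ G.s = c ≫ k ≫ g)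
    (h' : x ≫ G.s = (c ≫ k) ≫ g) :
    InV G (k ≫ g) (resV G g V k) x c h ↔ InV G g V x (c ≫ k) h' := by
  refine forall_congr' fun z => ?_
  change q G.s g k (pullback.lift x c h z) ∈ V ↔ _
  rw [← Scheme.Hom.comp_apply]
  have : pullback.lift x c h ≫ q G.s g k = pullback.lift x (c ≫ k) h' := by
    apply pullback.hom_ext
    · rw [Category.assoc, q_fst, pullback.lift_fst, pullback.lift_fst]
    · rw [Category.assoc, q_snd, pullback.lift_snd, pullback.lift_snd_assoc]
  rw [this]

variable {G g V} in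
lemma stab_resV_iff {T : Scheme.{u}} (a b : T ⟶ U₂) (r : T ⟶ G.R) (hs : r ≫ G.s = b ≫ k ≫ g)
    (ht : r ≫ G.t = a ≫ k ≫ g) (hs' : r ≫ G.s = (b ≫ k) ≫ g) (ht' : r ≫ G.t = (a ≫ k) ≫ g) :
    Stab G (k ≫ g) (resV G g V k) a b r hs ht ↔ Stab G g V (a ≫ k) (b ≫ k) r hs' ht' := by
  constructor
  · intro h T' f x hx
    have hx' : x ≫ G.s = (f ≫ b) ≫ k ≫ g := by rw [hx]; simp only [Category.assoc]
    have := h f x hx'
    rw [inV_resV_iff k x (f ≫ b) hx' (by rw [hx]; simp only [Category.assoc]),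
      inV_resV_iff k _ (f ≫ a) _ (by simp only [gcomp_s, Category.assoc, i_s', ht])] at this
    rw [inV_congr (V := V) rfl (Category.assoc f b k).symm hx
      (by rw [hx]; simp only [Category.assoc]), this]
    exact inV_congr rfl (Category.assoc f a k) _ _
  · intro h T' f x hx
    have hx' : x ≫ G.s = (f ≫ b ≫ k) ≫ g := by rw [hx]; simp only [Category.assoc]
    have := h f x hx'
    rw [inV_resV_iff k x (f ≫ b) hx (by rw [hx]; simp only [Category.assoc]),
      inV_resV_iff k _ (f ≫ a) _ (by simp only [gcomp_s, Category.assoc, i_s', ht])]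
    rw [inV_congr (V := V) rfl (Category.assoc f b k) _ hx', this]
    exact inV_congr rfl (Category.assoc f a k).symm _ _

lemma isClosed_resV (hVc : IsClosed (V : Set ↥(pullback G.s g))) :
    IsClosed (resV G g V k : Set ↥(pullback G.s (k ≫ g))) :=
  hVc.preimage (q G.s g k).continuous

lemma isFinite_resV (hVf : IsFinite (V.ι ≫ pullback.snd G.s g)) :
    IsFinite ((resV G g V k).ι ≫ pullback.snd G.s (k ≫ g)) :=
  isFinite_preimage_ι_comp _ _ _ (isPullback_q G.s g k) hVf

lemma e₁_q : e₁ G (k ≫ g) ≫ q G.s g k = k ≫ e₁ G g := by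
  apply pullback.hom_ext
  · simp only [Category.assoc, q_fst, e₁_fst]
  · simp only [Category.assoc, q_snd, e₁_snd_assoc, e₁_snd, Category.comp_id]

lemma e₁_mem_resV (he : ∀ x : U₁, e₁ G g x ∈ V) (x : U₂) : e₁ G (k ≫ g) x ∈ resV G g V k := by
  change q G.s g k (e₁ G (k ≫ g) x) ∈ V
  rw [← Scheme.Hom.comp_apply, e₁_q, Scheme.Hom.comp_apply]
  exact he _

variable {G g V} in
lemma Inj.resV [Mono k] (hinj : Inj G g V) : Inj G (k ≫ g) (resV G g V k) := by
  intro T a₁ a₂ h hst
  rw [← cancel_mono k]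
  refine hinj (a₁ ≫ k) (a₂ ≫ k) (by simpa only [Category.assoc] using h) ?_
  rw [stab_resV_iff k a₁ a₂ _ _ _ (by simp only [Category.assoc, G.e_s, Category.comp_id])
    (by simp only [Category.assoc, G.e_t, Category.comp_id]; simpa only [Category.assoc] using h.symm)] at hst
  exact hst.congr rfl rfl (by simp only [Category.assoc]) _ _

/-- The comparison map of the restricted groupoids. -/
noncomputable def ψ : R' G (k ≫ g) ⟶ R' G g :=
  mk (ρ G (k ≫ g)) (a' G (k ≫ g) ≫ k) (b' G (k ≫ g) ≫ k)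
    (by rw [ρ_t, Category.assoc]) (by rw [ρ_s, Category.assoc])

@[reassoc (attr := simp)]
lemma ψ_ρ : ψ G g k ≫ ρ G g = ρ G (k ≫ g) := mk_ρ _ _ _ _ _

@[reassoc (attr := simp)]
lemma ψ_a' : ψ G g k ≫ a' G g = a' G (k ≫ g) ≫ k := mk_a' _ _ _ _ _

@[reassoc (attr := simp)]
lemma ψ_b' : ψ G g k ≫ b' G g = b' G (k ≫ g) ≫ k := mk_b' _ _ _ _ _

lemma ψ_ξ : ψ G g k ≫ ξ G g = ξ G (k ≫ g) ≫ q G.s g k := by
  apply pullback.hom_ext
  · rw [Category.assoc, ξ_fst, ψ_ρ, Category.assoc, q_fst, ξ_fst]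
  · rw [Category.assoc, ξ_snd, ψ_b', Category.assoc, q_snd, ξ_snd_assoc]

section P

variable [Flat G.s] [LocallyOfFinitePresentation G.s]
  (hVc : IsClosed (V : Set ↥(pullback G.s g))) (hVf : IsFinite (V.ι ≫ pullback.snd G.s g))

/-- The subgroupoid `P` of the restricted datum. -/
noncomputable abbrev resP : (R' G (k ≫ g)).Opens :=
  P G (k ≫ g) (resV G g V k) (isClosed_resV G g V k hVc) (isFinite_resV G g V k hVf)

lemma forall_mem_resP_iff {T : Scheme.{u}} (m : T ⟶ R' G (k ≫ g)) :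
    (∀ z, m z ∈ resP G g V k hVc hVf) ↔ ∀ z, (m ≫ ψ G g k) z ∈ P G g V hVc hVf := by
  rw [forall_mem_P_iff, forall_mem_P_iff,
    stab_resV_iff k _ _ _ _ _
      (by rw [Category.assoc, ρ_s]; simp only [Category.assoc])
      (by rw [Category.assoc, ρ_t]; simp only [Category.assoc])]
  constructor
  · intro h
    exact h.congr (by simp only [Category.assoc, ψ_a']) (by simp only [Category.assoc, ψ_b'])
      (by simp only [Category.assoc, ψ_ρ]) _ _
  · intro h
    exact h.congr (by simp only [Category.assoc, ψ_a']) (by simp only [Category.assoc, ψ_b'])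
      (by simp only [Category.assoc, ψ_ρ]) _ _

lemma mem_resP_iff (z : R' G (k ≫ g)) :
    z ∈ resP G g V k hVc hVf ↔ ψ G g k z ∈ P G g V hVc hVf := by
  have h := forall_mem_resP_iff G g V k hVc hVf ((R' G (k ≫ g)).fromSpecResidueField z)
  have hne : Nonempty ↥(Spec ((R' G (k ≫ g)).residueField z)) := inferInstance
  constructor
  · intro hz
    obtain ⟨pt⟩ := hne
    have := h.1 (fun w => by rw [Scheme.fromSpecResidueField_apply]; exact hz) pt
    rwa [Scheme.Hom.comp_apply, Scheme.fromSpecResidueField_apply] at this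
  · intro hz
    obtain ⟨pt⟩ := hne
    have := h.2 (fun w => by
      rw [Scheme.Hom.comp_apply, Scheme.fromSpecResidueField_apply]; exact hz) pt
    rwa [Scheme.fromSpecResidueField_apply] at this

end P

/-- Points of `R₁` with source and target in an open `Ω` come from the restricted groupoid. -/
lemma exists_ψ_eq (Ω : U₁.Opens) (p : R' G g) (ha : a' G g p ∈ Ω) (hb : b' G g p ∈ Ω) :
    ∃ z : R' G (Ω.ι ≫ g), ψ G g Ω.ι z = p := by
  let κ := (R' G g).fromSpecResidueField p
  have hκ : ∀ w, κ w = p := fun w => Scheme.fromSpecResidueField_apply _ _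
  let a₀ := liftO Ω (κ ≫ a' G g) (fun w => by rw [Scheme.Hom.comp_apply, hκ]; exact ha)
  let b₀ := liftO Ω (κ ≫ b' G g) (fun w => by rw [Scheme.Hom.comp_apply, hκ]; exact hb)
  let m : Spec ((R' G g).residueField p) ⟶ R' G (Ω.ι ≫ g) :=
    mk (κ ≫ ρ G g) a₀ b₀
      (by rw [Category.assoc, ρ_t, ← Category.assoc a₀, liftO_ι, Category.assoc])
      (by rw [Category.assoc, ρ_s, ← Category.assoc b₀, liftO_ι, Category.assoc])
  have hm : m ≫ ψ G g Ω.ι = κ := by
    apply Pull.ext
    · rw [Category.assoc, ψ_ρ, mk_ρ]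
    · rw [Category.assoc, ψ_a', mk_a'_assoc, liftO_ι]
    · rw [Category.assoc, ψ_b', mk_b'_assoc, liftO_ι]
  obtain ⟨pt⟩ : Nonempty ↥(Spec ((R' G g).residueField p)) := inferInstance
  refine ⟨m pt, ?_⟩
  rw [← Scheme.Hom.comp_apply, hm, hκ]

end Groth.Agent.Lib.Helper68.QSplit
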