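import Groth.Agent.Lib.Helper68.QSplitRestrict

/-!
# Étale localisation of groupoids: points with the same fibre of `V` (helper68)

Two `T`-points `a₁ a₂` of `U₁` over the same point of `U` are related when the fibres of `V` over
them agree (universally).  This is an equivalence relation on `U₁` over `U`, represented by an open
and closed subscheme of `U₁ ×_U U₁`.
-/

set_option autoImplicit false
set_option linter.style.haveILetI false
set_option linter.unusedSectionVars false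
universe u

namespace Groth.Agent.Lib.Helper68.QSplit

open CategoryTheory CategoryTheory.Limits AlgebraicGeometry Grpd
open Groth.Agent.Lib.Helper37 Groth.Agent.Lib.Helper37.Pull Groth.Agent.Lib.Helper7.EtaleNbhd

variable {S : Scheme.{u}} (G : GroupoidScheme S) {U₁ : Scheme.{u}} (g : U₁ ⟶ G.U)
  (V : (pullback G.s g).Opens)

/-- `a₁` and `a₂` lie over the same point of `U` and have the same fibre of `V`. -/
def Same {T : Scheme.{u}} (a₁ a₂ : T ⟶ U₁) (h : a₁ ≫ g = a₂ ≫ g) : Prop :=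
  Stab G g V a₁ a₂ (a₂ ≫ g ≫ G.e)
    (by simp only [Category.assoc, G.e_s, Category.comp_id])
    (by simp only [Category.assoc, G.e_t, Category.comp_id, h])

variable {G g V}

lemma inj_iff : Inj G g V ↔ ∀ ⦃T : Scheme.{u}⦄ (a₁ a₂ : T ⟶ U₁) (h : a₁ ≫ g = a₂ ≫ g),
    Same G g V a₁ a₂ h → a₁ = a₂ := Iff.rfl

lemma same_refl {T : Scheme.{u}} (a : T ⟶ U₁) : Same G g V a a rfl :=
  stab_refl a _ rfl _ _

lemma Same.symm {T : Scheme.{u}} {a₁ a₂ : T ⟶ U₁} {h : a₁ ≫ g = a₂ ≫ g}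
    (hs : Same G g V a₁ a₂ h) : Same G g V a₂ a₁ h.symm := by
  refine Stab.symm hs _ ?_ _ _
  rw [Category.assoc, Category.assoc, e_i, reassoc_of% h]

lemma Same.trans {T : Scheme.{u}} {a₁ a₂ a₃ : T ⟶ U₁} {h : a₁ ≫ g = a₂ ≫ g}
    {h' : a₂ ≫ g = a₃ ≫ g} (hs : Same G g V a₁ a₂ h) (hs' : Same G g V a₂ a₃ h') :
    Same G g V a₁ a₃ (h.trans h') := by
  refine Stab.trans hs hs' _ ?_ ?_ _ _
  · simp only [Category.assoc, G.e_s, G.e_t, Category.comp_id, h']
  · refine (e_gcomp G _ _ ?_ _).symm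
    simp only [Category.assoc, e_t'_assoc]
    rw [reassoc_of% h']

lemma Same.precomp {T T₀ : Scheme.{u}} {a₁ a₂ : T ⟶ U₁} {h : a₁ ≫ g = a₂ ≫ g}
    (hs : Same G g V a₁ a₂ h) (k : T₀ ⟶ T) :
    Same G g V (k ≫ a₁) (k ≫ a₂) (by rw [Category.assoc, h, Category.assoc]) :=
  Stab.precomp hs k _ _ _ rfl rfl (by simp only [Category.assoc]) _ _

lemma Same.congr {T : Scheme.{u}} {a₁ a₂ b₁ b₂ : T ⟶ U₁} {h : a₁ ≫ g = a₂ ≫ g}
    (hs : Same G g V a₁ a₂ h) (h₁ : a₁ = b₁) (h₂ : a₂ = b₂) :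
    Same G g V b₁ b₂ (by rw [← h₁, ← h₂, h]) := by
  subst h₁ h₂
  exact hs

/-- Points with the same fibre have the same members of `V`. -/
lemma Same.inV_iff {T : Scheme.{u}} {a₁ a₂ : T ⟶ U₁} {h : a₁ ≫ g = a₂ ≫ g}
    (hs : Same G g V a₁ a₂ h) (x : T ⟶ G.R) (hx : x ≫ G.s = a₂ ≫ g) :
    InV G g V x a₂ hx ↔ InV G g V x a₁ (by rw [hx, h]) := by
  have h1 : x ≫ G.s = ((𝟙 T ≫ a₂ ≫ g ≫ G.e) ≫ G.i) ≫ G.t := by
    simp only [Category.id_comp, Category.assoc, i_t', G.e_s, Category.comp_id, hx]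
  have e1 : gcomp G x ((𝟙 T ≫ a₂ ≫ g ≫ G.e) ≫ G.i) h1 = x := by
    refine gcomp_e G x _ ?_ _
    simp only [Category.id_comp, Category.assoc, e_i]
    rw [← Category.assoc x, hx, Category.assoc]
  have key := Stab.iff hs (𝟙 T) x a₂ a₁ (Category.id_comp _).symm (Category.id_comp _).symm
    ((𝟙 T ≫ a₂ ≫ g ≫ G.e) ≫ G.i) rfl hx h1 (by rw [e1, hx, h])
  rw [key]
  exact inV_congr e1 rfl _ _

section Opens

variable (G g V) [Flat G.s] [LocallyOfFinitePresentation G.s]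

theorem exists_sameOpens (hVc : IsClosed (V : Set ↥(pullback G.s g)))
    (hVf : IsFinite (V.ι ≫ pullback.snd G.s g)) :
    ∃ D : (pullback g g).Opens, IsClosed (D : Set ↥(pullback g g)) ∧
      ∀ {T : Scheme.{u}} (a₁ a₂ : T ⟶ U₁) (h : a₁ ≫ g = a₂ ≫ g),
        (∀ z, pullback.lift a₁ a₂ h z ∈ D) ↔ Same G g V a₁ a₂ h := by
  obtain ⟨D, hDc, hD⟩ := exists_stabOpens G g V (pullback.fst g g) (pullback.snd g g)
    (pullback.snd g g ≫ g ≫ G.e)
    (by simp only [Category.assoc, G.e_s, Category.comp_id])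
    (by simp only [Category.assoc, G.e_t, Category.comp_id, pullback.condition]) hVc hVf
  refine ⟨D, hDc, fun {T} a₁ a₂ h => ?_⟩
  rw [hD (pullback.lift a₁ a₂ h)]
  constructor
  · intro hs
    exact Stab.congr hs (pullback.lift_fst _ _ _) (pullback.lift_snd _ _ _)
      (by rw [pullback.lift_snd_assoc]) _ _
  · intro hs
    exact Stab.congr hs (pullback.lift_fst _ _ _).symm (pullback.lift_snd _ _ _).symm
      (by rw [pullback.lift_snd_assoc]) _ _

end Opens

end Groth.Agent.Lib.Helper68.QSplit
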