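import Mathlib
import Groth.Agent.Lib.Helper37.GrpdPull
import Groth.Agent.Lib.Helper37.GroupoidRank
import Groth.Agent.Lib.Helper37.GroupoidTranslate

/-!
# Étale localisation of groupoids: the stabiliser relation of a clopen piece (helper68)

Let `G` be a groupoid scheme on `U`, `g : U₁ ⟶ U` a morphism and `V` an open subset of
`X₁ = R ×_{s,U,g} U₁`.  For `T`-points `a b : T ⟶ U₁` and an arrow `r : g b ⟶ g a` (a `T`-point of `R`),
`Stab a b r` says that right translation by `r⁻¹` carries the fibre of `V` over `b` onto the fibre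
of `V` over `a`, universally.  It is a "subgroupoid relation": reflexive, symmetric, transitive and
stable under base change.
-/

set_option autoImplicit false
set_option linter.style.haveILetI false
set_option linter.unusedSectionVars false
universe u

namespace Groth.Agent.Lib.Helper68.QSplit

open CategoryTheory CategoryTheory.Limits AlgebraicGeometry Grpd
open Groth.Agent.Lib.Helper37

variable {S : Scheme.{u}} (G : GroupoidScheme S)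

/-! ### More `T`-point calculus -/

section Calc

variable {T : Scheme.{u}}

@[reassoc] lemma i_s' : G.i ≫ G.s = G.t := G.i_s
@[reassoc] lemma i_t' : G.i ≫ G.t = G.s := G.i_t
@[reassoc] lemma e_s' : G.e ≫ G.s = 𝟙 _ := G.e_s
@[reassoc] lemma e_t' : G.e ≫ G.t = 𝟙 _ := G.e_t
@[reassoc] lemma gcomp_s' (α β : T ⟶ G.R) (h : α ≫ G.s = β ≫ G.t) :
    gcomp G α β h ≫ G.s = β ≫ G.s := gcomp_s G α β h
@[reassoc] lemma gcomp_t' (α β : T ⟶ G.R) (h : α ≫ G.s = β ≫ G.t) :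
    gcomp G α β h ≫ G.t = α ≫ G.t := gcomp_t G α β h

lemma e_i : G.e ≫ G.i = G.e := by
  have h₁ : (G.e ≫ G.i) ≫ G.s = G.e ≫ G.t := by
    rw [Category.assoc, G.i_s]
  have h2 : gcomp G (G.e ≫ G.i) G.e h₁ = G.e ≫ G.s ≫ G.e :=
    i_gcomp G G.e (G.e ≫ G.i) rfl h₁
  rw [← Category.assoc, G.e_s, Category.id_comp] at h2
  have h3 : gcomp G (G.e ≫ G.i) G.e h₁ = G.e ≫ G.i := by
    refine gcomp_e G _ _ ?_ _
    simp only [Category.assoc, i_s'_assoc, e_t'_assoc]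
  rw [← h3, h2]

/-- `(α ∘ β)⁻¹ = β⁻¹ ∘ α⁻¹`. -/
lemma gcomp_comp_i (α β : T ⟶ G.R) (h : α ≫ G.s = β ≫ G.t)
    (h' : (β ≫ G.i) ≫ G.s = (α ≫ G.i) ≫ G.t) :
    gcomp G α β h ≫ G.i = gcomp G (β ≫ G.i) (α ≫ G.i) h' := by
  obtain ⟨γ, hγ⟩ : ∃ γ, γ = gcomp G α β h := ⟨_, rfl⟩
  have hγs : γ ≫ G.s = β ≫ G.s := by rw [hγ, gcomp_s]
  have hγt : γ ≫ G.t = α ≫ G.t := by rw [hγ, gcomp_t]
  obtain ⟨X, hX⟩ : ∃ X, X = gcomp G (β ≫ G.i) (α ≫ G.i) h' := ⟨_, rfl⟩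
  rw [← hγ, ← hX]
  have hXγ : X ≫ G.s = γ ≫ G.t := by
    rw [hX, hγt, gcomp_s, Category.assoc, G.i_s]
  -- `X ∘ γ = e (s β)`
  have h1 : (α ≫ G.i) ≫ G.s = γ ≫ G.t := by rw [hγt, Category.assoc, G.i_s]
  have e1 : gcomp G X γ hXγ = gcomp G (β ≫ G.i) (gcomp G (α ≫ G.i) γ h1)
      (by rw [gcomp_t]; exact h') := by
    subst hX
    exact gcomp_assoc G (β ≫ G.i) (α ≫ G.i) γ h' h1 _ _
  have e2 : gcomp G (α ≫ G.i) γ h1 = β := by
    subst hγ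
    exact i_gcomp_gcomp G α β h h1
  have e3 : gcomp G X γ hXγ = β ≫ G.s ≫ G.e := by
    rw [e1, gcomp_congr G rfl e2 _ (by rw [Category.assoc, G.i_s])]
    exact i_gcomp G β _ rfl _
  -- `(X ∘ γ) ∘ γ⁻¹ = X`
  have h2 : gcomp G X γ hXγ ≫ G.s = (γ ≫ G.i) ≫ G.t := by
    rw [gcomp_s, Category.assoc, G.i_t]
  have e4 : gcomp G (gcomp G X γ hXγ) (γ ≫ G.i) h2 = X := gcomp_gcomp_i G X γ hXγ h2
  rw [← e4, gcomp_congr G e3 rfl h2
    (by simp only [Category.assoc, e_s', Category.comp_id, i_t', hγs])]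
  refine (e_gcomp G _ _ ?_ _).symm
  simp only [Category.assoc, i_t'_assoc, reassoc_of% hγs]

lemma comp_i_i (α : T ⟶ G.R) : (α ≫ G.i) ≫ G.i = α := by
  rw [Category.assoc, i_i, Category.comp_id]

end Calc

/-! ### Points of `X₁` lying in `V` -/

variable {U₁ : Scheme.{u}} (g : U₁ ⟶ G.U) (V : (pullback G.s g).Opens)

/-- The `T`-point `(x, c)` of `X₁ = R ×_{s,U,g} U₁` lies in `V`. -/
def InV {T : Scheme.{u}} (x : T ⟶ G.R) (c : T ⟶ U₁) (h : x ≫ G.s = c ≫ g) : Prop :=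
  ∀ z : T, pullback.lift x c h z ∈ V

variable {G g V}

lemma inV_congr {T : Scheme.{u}} {x x' : T ⟶ G.R} {c c' : T ⟶ U₁} (hx : x = x') (hc : c = c')
    (h : x ≫ G.s = c ≫ g) (h' : x' ≫ G.s = c' ≫ g) : InV G g V x c h ↔ InV G g V x' c' h' := by
  subst hx hc
  rfl

lemma InV.precomp {T T' : Scheme.{u}} {x : T ⟶ G.R} {c : T ⟶ U₁} {h : x ≫ G.s = c ≫ g}
    (hV : InV G g V x c h) (f : T' ⟶ T) (h' : (f ≫ x) ≫ G.s = (f ≫ c) ≫ g) :
    InV G g V (f ≫ x) (f ≫ c) h' := by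
  intro z
  have : pullback.lift (f ≫ x) (f ≫ c) h' = f ≫ pullback.lift x c h := by
    apply pullback.hom_ext
    · rw [pullback.lift_fst, Category.assoc, pullback.lift_fst]
    · rw [pullback.lift_snd, Category.assoc, pullback.lift_snd]
  rw [this, Scheme.Hom.comp_apply]
  exact hV (f z)

lemma inV_of_surjective {T T' : Scheme.{u}} {x : T ⟶ G.R} {c : T ⟶ U₁} {h : x ≫ G.s = c ≫ g}
    (f : T' ⟶ T) (hf : Function.Surjective f) (h' : (f ≫ x) ≫ G.s = (f ≫ c) ≫ g)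
    (hV : InV G g V (f ≫ x) (f ≫ c) h') : InV G g V x c h := by
  intro z
  obtain ⟨z', rfl⟩ := hf z
  have : pullback.lift (f ≫ x) (f ≫ c) h' = f ≫ pullback.lift x c h := by
    apply pullback.hom_ext
    · rw [pullback.lift_fst, Category.assoc, pullback.lift_fst]
    · rw [pullback.lift_snd, Category.assoc, pullback.lift_snd]
  have h2 := hV z'
  rwa [this, Scheme.Hom.comp_apply] at h2

lemma inV_iff_comp {T : Scheme.{u}} (m : T ⟶ pullback G.s g) :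
    InV G g V (m ≫ pullback.fst _ _) (m ≫ pullback.snd _ _)
      (by rw [Category.assoc, Category.assoc, pullback.condition]) ↔ ∀ z, m z ∈ V := by
  have : pullback.lift (m ≫ pullback.fst G.s g) (m ≫ pullback.snd G.s g)
      (by rw [Category.assoc, Category.assoc, pullback.condition]) = m := by
    apply pullback.hom_ext
    · rw [pullback.lift_fst]
    · rw [pullback.lift_snd]
  unfold InV
  rw [this]

/-! ### The stabiliser relation -/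

variable (G g V)

/-- Right translation by `r⁻¹` (where `r : g b ⟶ g a`) carries `V_b` onto `V_a`, universally. -/
def Stab {T : Scheme.{u}} (a b : T ⟶ U₁) (r : T ⟶ G.R) (hs : r ≫ G.s = b ≫ g)
    (ht : r ≫ G.t = a ≫ g) : Prop :=
  ∀ ⦃T' : Scheme.{u}⦄ (f : T' ⟶ T) (x : T' ⟶ G.R) (hx : x ≫ G.s = (f ≫ b) ≫ g),
    InV G g V x (f ≫ b) hx ↔
      InV G g V (gcomp G x ((f ≫ r) ≫ G.i)
        (by rw [Category.assoc _ G.i, G.i_t, Category.assoc, hs, hx, Category.assoc]))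
        (f ≫ a)
        (by rw [gcomp_s, Category.assoc _ G.i, G.i_s, Category.assoc, ht, Category.assoc])

variable {G g V}

/-- Version of the defining property of `Stab` with free proofs and a free inverse. -/
lemma Stab.iff {T : Scheme.{u}} {a b : T ⟶ U₁} {r : T ⟶ G.R} {hs : r ≫ G.s = b ≫ g}
    {ht : r ≫ G.t = a ≫ g} (hst : Stab G g V a b r hs ht) {T' : Scheme.{u}} (f : T' ⟶ T)
    (x : T' ⟶ G.R) (b' a' : T' ⟶ U₁) (hb' : b' = f ≫ b) (ha' : a' = f ≫ a) (ri : T' ⟶ G.R)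
    (hri : ri = (f ≫ r) ≫ G.i) (hx : x ≫ G.s = b' ≫ g) (h1 : x ≫ G.s = ri ≫ G.t)
    (h2 : gcomp G x ri h1 ≫ G.s = a' ≫ g) :
    InV G g V x b' hx ↔ InV G g V (gcomp G x ri h1) a' h2 := by
  subst hb' ha' hri
  exact hst f x hx

lemma stab_refl {T : Scheme.{u}} (a : T ⟶ U₁) (r : T ⟶ G.R) (hr : r = a ≫ g ≫ G.e)
    (hs : r ≫ G.s = a ≫ g) (ht : r ≫ G.t = a ≫ g) : Stab G g V a a r hs ht := by
  subst hr
  intro T' f x hx
  refine inV_congr ?_ rfl _ _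
  refine (gcomp_e G x _ ?_ _).symm
  simp only [Category.assoc, e_i]
  rw [← Category.assoc x, hx]
  simp only [Category.assoc]

lemma Stab.symm {T : Scheme.{u}} {a b : T ⟶ U₁} {r : T ⟶ G.R} {hs : r ≫ G.s = b ≫ g}
    {ht : r ≫ G.t = a ≫ g} (hst : Stab G g V a b r hs ht) (r' : T ⟶ G.R) (hr' : r' = r ≫ G.i)
    (hs' : r' ≫ G.s = a ≫ g) (ht' : r' ≫ G.t = b ≫ g) : Stab G g V b a r' hs' ht' := by
  subst hr'
  intro T' f x hx
  -- `x' = x ∘ r`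
  have h0 : x ≫ G.s = (f ≫ r) ≫ G.t := by rw [hx, Category.assoc, Category.assoc, ht]
  have h1 : gcomp G x (f ≫ r) h0 ≫ G.s = (f ≫ b) ≫ g := by
    rw [gcomp_s, Category.assoc, hs, Category.assoc]
  have h2 : gcomp G x (f ≫ r) h0 ≫ G.s = ((f ≫ r) ≫ G.i) ≫ G.t := by
    rw [gcomp_s, Category.assoc _ G.i, G.i_t]
  have key := hst.iff f (gcomp G x (f ≫ r) h0) (f ≫ b) (f ≫ a) rfl rfl ((f ≫ r) ≫ G.i) rfl h1 h2
    (by rw [gcomp_s, Category.assoc _ G.i, G.i_s, Category.assoc, ht, Category.assoc])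
  have e1 : gcomp G (gcomp G x (f ≫ r) h0) ((f ≫ r) ≫ G.i) h2 = x := gcomp_gcomp_i G x (f ≫ r) h0 h2
  have e2 : (f ≫ r ≫ G.i) ≫ G.i = f ≫ r := by
    rw [Category.assoc, Category.assoc, i_i, Category.comp_id]
  rw [inV_congr (V := V) e1 rfl _ hx] at key
  rw [← key]
  exact inV_congr (gcomp_congr G rfl e2.symm _ _) rfl _ _

lemma Stab.trans {T : Scheme.{u}} {a b c : T ⟶ U₁} {r r' : T ⟶ G.R} {hs : r ≫ G.s = b ≫ g}
    {ht : r ≫ G.t = a ≫ g} {hs' : r' ≫ G.s = c ≫ g} {ht' : r' ≫ G.t = b ≫ g}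
    (h₁ : Stab G g V a b r hs ht) (h₂ : Stab G g V b c r' hs' ht') (r'' : T ⟶ G.R)
    (hrr : r ≫ G.s = r' ≫ G.t) (hr'' : r'' = gcomp G r r' hrr)
    (hs'' : r'' ≫ G.s = c ≫ g) (ht'' : r'' ≫ G.t = a ≫ g) : Stab G g V a c r'' hs'' ht'' := by
  subst hr''
  intro T' f x hx
  have k1 : x ≫ G.s = ((f ≫ r') ≫ G.i) ≫ G.t := by
    rw [Category.assoc _ G.i, G.i_t, Category.assoc, hs', hx, Category.assoc]
  have k2 : gcomp G x ((f ≫ r') ≫ G.i) k1 ≫ G.s = (f ≫ b) ≫ g := by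
    rw [gcomp_s, Category.assoc _ G.i, G.i_s, Category.assoc, ht', Category.assoc]
  have step1 := h₂.iff f x (f ≫ c) (f ≫ b) rfl rfl ((f ≫ r') ≫ G.i) rfl hx k1 k2
  have k3 : gcomp G x ((f ≫ r') ≫ G.i) k1 ≫ G.s = ((f ≫ r) ≫ G.i) ≫ G.t := by
    rw [k2]
    simp only [Category.assoc, i_t', hs]
  have k4 : gcomp G (gcomp G x ((f ≫ r') ≫ G.i) k1) ((f ≫ r) ≫ G.i) k3 ≫ G.s = (f ≫ a) ≫ g := by
    rw [gcomp_s, Category.assoc _ G.i, G.i_s, Category.assoc, ht, Category.assoc]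
  have step2 := h₁.iff f (gcomp G x ((f ≫ r') ≫ G.i) k1) (f ≫ b) (f ≫ a) rfl rfl
    ((f ≫ r) ≫ G.i) rfl k2 k3 k4
  rw [step1, step2]
  refine inV_congr ?_ rfl _ _
  -- `(x ∘ r'⁻¹) ∘ r⁻¹ = x ∘ (r ∘ r')⁻¹`
  have k5 : ((f ≫ r') ≫ G.i) ≫ G.s = ((f ≫ r) ≫ G.i) ≫ G.t := by
    rw [Category.assoc _ G.i, G.i_s, Category.assoc _ G.i, G.i_t, Category.assoc, Category.assoc,
      hrr]
  rw [gcomp_assoc G x ((f ≫ r') ≫ G.i) ((f ≫ r) ≫ G.i) k1 k5 k3 (by rw [gcomp_t]; exact k1)]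
  refine gcomp_congr G rfl ?_ _ _
  rw [precomp_gcomp, gcomp_comp_i G (f ≫ r) (f ≫ r') _ k5]

lemma Stab.precomp {T T₀ : Scheme.{u}} {a b : T ⟶ U₁} {r : T ⟶ G.R} {hs : r ≫ G.s = b ≫ g}
    {ht : r ≫ G.t = a ≫ g} (hst : Stab G g V a b r hs ht) (k : T₀ ⟶ T) (a₀ b₀ : T₀ ⟶ U₁)
    (r₀ : T₀ ⟶ G.R) (ha₀ : a₀ = k ≫ a) (hb₀ : b₀ = k ≫ b) (hr₀ : r₀ = k ≫ r)
    (hs₀ : r₀ ≫ G.s = b₀ ≫ g) (ht₀ : r₀ ≫ G.t = a₀ ≫ g) : Stab G g V a₀ b₀ r₀ hs₀ ht₀ := by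
  subst ha₀ hb₀ hr₀
  intro T' f x hx
  have hx' : x ≫ G.s = ((f ≫ k) ≫ b) ≫ g := by rw [hx]; simp only [Category.assoc]
  have := hst (f ≫ k) x hx'
  rw [inV_congr (V := V) rfl (Category.assoc f k b).symm hx hx', this]
  refine inV_congr (gcomp_congr G rfl ?_ _ _) (Category.assoc f k a) _ _
  rw [Category.assoc f k r]

end Groth.Agent.Lib.Helper68.QSplit
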