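import Mathlib

/-!
# Lifting an isomorphism of quotients to a finite extension (helper68)

`A' ⊆ A` finite, `f ∈ A'` a nonzerodivisor on `A` with `f ^ c • A ⊆ A'`.  Given `B'`, a
nonzerodivisor `g` and an isomorphism `A'/fⁿ ≃ B'/gⁿ` (`n ≥ 2c+1`) sending `f` to `g`, the ring
`B = g⁻ᶜ J ⊆ B'_g` (with `J` the preimage of the image of `fᶜ A`) is a finite extension of `B'`
with `A/fA ≃ B/gB` compatibly.
-/

set_option autoImplicit false
universe u

namespace Groth.Agent.Lib.Helper68.QuotIsoLift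

/-- If `A` is finite over `A'` and `A'_f → A_f` is surjective, some power of `f` carries `A` into
the image of `A'`. -/
theorem exists_pow_mul_mem_range (A' A : Type u) [CommRing A'] [CommRing A] [Algebra A' A]
    [Module.Finite A' A] (f : A')
    (hloc : Function.Surjective (IsLocalization.Away.map (Localization.Away f)
      (Localization.Away (algebraMap A' A f)) (algebraMap A' A) f)) :
    ∃ c : ℕ, ∀ a : A, ∃ a' : A', algebraMap A' A a' = algebraMap A' A f ^ c * a := by
  classical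
  -- for each `a` separately
  have h1 : ∀ a : A, ∃ (k : ℕ) (a' : A'), algebraMap A' A a' = algebraMap A' A f ^ k * a := by
    intro a
    obtain ⟨z, hz⟩ := hloc (algebraMap A (Localization.Away (algebraMap A' A f)) a)
    obtain ⟨⟨x, ⟨_, m, rfl⟩⟩, hx⟩ := IsLocalization.surj (Submonoid.powers f) z
    simp only at hx
    have h2 := congrArg (IsLocalization.Away.map (Localization.Away f)
      (Localization.Away (algebraMap A' A f)) (algebraMap A' A) f) hx
    rw [map_mul, hz, IsLocalization.Away.map, IsLocalization.map_eq, IsLocalization.map_eq,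
      ← map_mul] at h2
    obtain ⟨⟨_, l, rfl⟩, hl⟩ := (IsLocalization.eq_iff_exists
      (Submonoid.powers (algebraMap A' A f)) _).mp h2
    simp only at hl
    refine ⟨l + m, f ^ l * x, ?_⟩
    rw [map_mul, map_pow, ← hl, map_pow, pow_add]
    ring
  obtain ⟨s, hs⟩ := (Module.Finite.fg_top : (⊤ : Submodule A' A).FG)
  choose k a' hk using h1
  refine ⟨s.sup k, fun a => ?_⟩
  have ha : a ∈ Submodule.span A' (s : Set A) := by rw [hs]; trivial
  induction ha using Submodule.span_induction with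
  | mem x hx =>
    refine ⟨f ^ (s.sup k - k x) * a' x, ?_⟩
    rw [map_mul, hk, map_pow, ← mul_assoc, ← pow_add, Nat.sub_add_cancel (Finset.le_sup hx)]
  | zero => exact ⟨0, by simp⟩
  | add x y _ _ hx hy =>
    obtain ⟨x', hx'⟩ := hx
    obtain ⟨y', hy'⟩ := hy
    exact ⟨x' + y', by rw [map_add, hx', hy', mul_add]⟩
  | smul r x _ hx =>
    obtain ⟨x', hx'⟩ := hx
    exact ⟨r * x', by rw [map_mul, hx', Algebra.smul_def]; ring⟩

set_option maxHeartbeats 2000000 in
set_option synthInstance.maxHeartbeats 400000 in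
theorem main {A' A : Type u} [CommRing A'] [CommRing A] [Algebra A' A]
    (hinj : Function.Injective (algebraMap A' A)) (f : A')
    (hf : algebraMap A' A f ∈ nonZeroDivisors A) (c : ℕ)
    (hc : ∀ a : A, ∃ a' : A', algebraMap A' A a' = algebraMap A' A f ^ c * a)
    [Module.Finite A' A]
    (n : ℕ) (hn : 2 * c + 1 ≤ n)
    (B' : Type u) [CommRing B'] (g : B') (hg : g ∈ nonZeroDivisors B')
    (φ' : (A' ⧸ Ideal.span {f ^ n}) ≃+* (B' ⧸ Ideal.span {g ^ n}))
    (hφ' : φ' (Ideal.Quotient.mk _ f) = Ideal.Quotient.mk _ g) :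
    ∃ (B : Type u) (_ : CommRing B) (_ : Algebra B' B),
      Function.Injective (algebraMap B' B) ∧ Module.Finite B' B ∧
      ∃ φ : (A ⧸ Ideal.span {algebraMap A' A f}) ≃+* (B ⧸ Ideal.span {algebraMap B' B g}),
        ∀ (a' : A') (b' : B'),
          φ' (Ideal.Quotient.mk _ a') = Ideal.Quotient.mk _ b' →
          φ (Ideal.Quotient.mk _ (algebraMap A' A a')) = Ideal.Quotient.mk _ (algebraMap B' B b') := by
  classical
  set fA := algebraMap A' A f with hfA
  set mkA := Ideal.Quotient.mk (Ideal.span {f ^ n}) with hmkA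
  set mkB := Ideal.Quotient.mk (Ideal.span {g ^ n}) with hmkB
  have hfAcancel : ∀ (k : ℕ) (x y : A), fA ^ k * x = fA ^ k * y → x = y := by
    intro k x y h
    have := pow_mem hf k
    exact (mul_cancel_left_mem_nonZeroDivisors this).mp h
  have hgcancel : ∀ (k : ℕ) (x y : B'), g ^ k * x = g ^ k * y → x = y := by
    intro k x y h
    exact (mul_cancel_left_mem_nonZeroDivisors (pow_mem hg k)).mp h
  have hmkBeq : ∀ b₁ b₂ : B', mkB b₁ = mkB b₂ ↔ ∃ t, b₁ - b₂ = g ^ n * t := by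
    intro b₁ b₂
    rw [hmkB, Ideal.Quotient.eq, Ideal.mem_span_singleton']
    constructor
    · rintro ⟨t, ht⟩; exact ⟨t, by rw [← ht, mul_comm]⟩
    · rintro ⟨t, ht⟩; exact ⟨t, by rw [ht, mul_comm]⟩
  have hmkAeq : ∀ a₁ a₂ : A', mkA a₁ = mkA a₂ ↔ ∃ t, a₁ - a₂ = f ^ n * t := by
    intro a₁ a₂
    rw [hmkA, Ideal.Quotient.eq, Ideal.mem_span_singleton']
    constructor
    · rintro ⟨t, ht⟩; exact ⟨t, by rw [← ht, mul_comm]⟩
    · rintro ⟨t, ht⟩; exact ⟨t, by rw [ht, mul_comm]⟩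
  have hφpow : ∀ k : ℕ, φ' (mkA (f ^ k)) = mkB (g ^ k) := by
    intro k
    rw [map_pow, map_pow, hφ', map_pow]
  have hφsurj : ∀ b : B', ∃ x : A', φ' (mkA x) = mkB b := by
    intro b
    obtain ⟨y, hy⟩ := φ'.surjective (mkB b)
    obtain ⟨x, rfl⟩ := Ideal.Quotient.mk_surjective y
    exact ⟨x, hy⟩
  -- the relation
  let Rel : A → B' → Prop := fun a b =>
    ∃ a' : A', algebraMap A' A a' = fA ^ c * a ∧ φ' (mkA a') = mkB b
  have R0 : ∀ a, ∃ b, Rel a b := by
    intro a
    obtain ⟨a', ha'⟩ := hc a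
    obtain ⟨b, hb⟩ := Ideal.Quotient.mk_surjective (φ' (mkA a'))
    exact ⟨b, a', ha', hb.symm⟩
  have R1 : ∀ a₁ a₂ b₁ b₂, Rel a₁ b₁ → Rel a₂ b₂ → Rel (a₁ + a₂) (b₁ + b₂) := by
    rintro a₁ a₂ b₁ b₂ ⟨x₁, h₁, k₁⟩ ⟨x₂, h₂, k₂⟩
    exact ⟨x₁ + x₂, by rw [map_add, h₁, h₂, mul_add], by rw [map_add, map_add, k₁, k₂, map_add]⟩
  have R4 : ∀ a b (x : A') (y : B'), Rel a b → φ' (mkA x) = mkB y →
      Rel (algebraMap A' A x * a) (y * b) := by
    rintro a b x y ⟨a', h, k⟩ hxy
    exact ⟨x * a', by rw [map_mul, h]; ring, by rw [map_mul, map_mul, k, hxy, map_mul]⟩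
  have Ralg : ∀ (x : A') (y : B'), φ' (mkA x) = mkB y → Rel (algebraMap A' A x) (g ^ c * y) := by
    intro x y hxy
    exact ⟨f ^ c * x, by rw [map_mul, map_pow], by rw [map_mul, map_mul, hφpow, hxy, map_mul]⟩
  have R5 : ∀ a b₁ b₂, Rel a b₁ → Rel a b₂ → ∃ t, b₁ - b₂ = g ^ n * t := by
    rintro a b₁ b₂ ⟨x₁, h₁, k₁⟩ ⟨x₂, h₂, k₂⟩
    have : x₁ = x₂ := hinj (by rw [h₁, h₂])
    subst this
    exact (hmkBeq b₁ b₂).mp (by rw [← k₁, ← k₂])
  have R5' : ∀ a b t, Rel a b → Rel a (b + g ^ n * t) := by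
    rintro a b t ⟨x, h, k⟩
    refine ⟨x, h, ?_⟩
    rw [k]
    exact (hmkBeq _ _).mpr ⟨-t, by ring⟩
  have R2 : ∀ a₁ a₂ b₁ b₂ b₁₂, Rel a₁ b₁ → Rel a₂ b₂ → Rel (a₁ * a₂) b₁₂ →
      ∃ t, b₁ * b₂ = g ^ c * b₁₂ + g ^ n * t := by
    rintro a₁ a₂ b₁ b₂ b₁₂ ⟨x₁, h₁, k₁⟩ ⟨x₂, h₂, k₂⟩ ⟨x₁₂, h₁₂, k₁₂⟩
    have hx : x₁ * x₂ = f ^ c * x₁₂ := hinj (by
      rw [map_mul, map_mul, h₁, h₂, h₁₂, map_pow]; ring)
    have : mkB (b₁ * b₂) = mkB (g ^ c * b₁₂) := by
      rw [map_mul, ← k₁, ← k₂, ← map_mul, ← map_mul, hx, map_mul, map_mul, hφpow, k₁₂, map_mul]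
    obtain ⟨t, ht⟩ := (hmkBeq _ _).mp this
    exact ⟨t, by rw [← ht]; ring⟩
  have R3 : ∀ b, Rel 1 b → ∃ t, b = g ^ c + g ^ n * t := by
    rintro b ⟨x, h, k⟩
    have hx : x = f ^ c := hinj (by rw [h, map_pow, mul_one])
    subst hx
    rw [hφpow] at k
    obtain ⟨t, ht⟩ := (hmkBeq _ _).mp k.symm
    exact ⟨t, by rw [← ht]; ring⟩
  -- same `b`, compare `a`
  have R7 : ∀ a₁ a₂ b, Rel a₁ b → Rel a₂ b → ∃ z : A', a₁ - a₂ = fA ^ (n - c) * algebraMap A' A z := by
    rintro a₁ a₂ b ⟨x₁, h₁, k₁⟩ ⟨x₂, h₂, k₂⟩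
    have : mkA x₁ = mkA x₂ := φ'.injective (by rw [k₁, k₂])
    obtain ⟨z, hz⟩ := (hmkAeq _ _).mp this
    refine ⟨z, hfAcancel c _ _ ?_⟩
    have h3 : algebraMap A' A (x₁ - x₂) = fA ^ n * algebraMap A' A z := by
      rw [hz, map_mul, map_pow]
    rw [map_sub, h₁, h₂] at h3
    rw [← mul_assoc, ← pow_add, Nat.add_sub_cancel' (by omega : c ≤ n), ← h3]
    ring
  -- the localization
  let Bg := Localization.Away g
  let ι : B' →+* Bg := algebraMap B' Bg
  have hιinj : Function.Injective ι :=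
    IsLocalization.injective Bg (Submonoid.powers_le.mpr hg)
  obtain ⟨γ, hγ⟩ : ∃ γ : Bgˣ, (γ : Bg) = ι g := (IsLocalization.Away.algebraMap_isUnit g)
  have hγcancel : ∀ (k : ℕ) (x y : Bg), x * (γ : Bg) ^ k = y * (γ : Bg) ^ k → x = y := by
    intro k x y h
    have hu : IsUnit ((γ : Bg) ^ k) := (γ.isUnit).pow k
    exact hu.mul_left_injective h
  let Bset : Set Bg := {x | ∃ a b, Rel a b ∧ x * (γ : Bg) ^ c = ι b}
  have hBalg : ∀ b₀ : B', ι b₀ ∈ Bset := by
    intro b₀
    obtain ⟨x, hx⟩ := hφsurj b₀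
    exact ⟨algebraMap A' A x, g ^ c * b₀, Ralg x b₀ hx, by
      rw [map_mul, map_pow, hγ, mul_comm]⟩
  have hBadd : ∀ x y, x ∈ Bset → y ∈ Bset → x + y ∈ Bset := by
    rintro x y ⟨a₁, b₁, r₁, e₁⟩ ⟨a₂, b₂, r₂, e₂⟩
    exact ⟨a₁ + a₂, b₁ + b₂, R1 _ _ _ _ r₁ r₂, by rw [add_mul, e₁, e₂, map_add]⟩
  have hBmul : ∀ x y, x ∈ Bset → y ∈ Bset → x * y ∈ Bset := by
    rintro x y ⟨a₁, b₁, r₁, e₁⟩ ⟨a₂, b₂, r₂, e₂⟩
    obtain ⟨b₁₂, r₁₂⟩ := R0 (a₁ * a₂)
    obtain ⟨t, ht⟩ := R2 _ _ _ _ _ r₁ r₂ r₁₂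
    obtain ⟨x₀, hx₀⟩ := hφsurj (g ^ (n - 2 * c) * t)
    refine ⟨a₁ * a₂ + algebraMap A' A x₀, b₁₂ + g ^ c * (g ^ (n - 2 * c) * t),
      R1 _ _ _ _ r₁₂ (Ralg x₀ _ hx₀), ?_⟩
    apply hγcancel c
    have h1 : x * y * (γ : Bg) ^ c * (γ : Bg) ^ c = ι (b₁ * b₂) := by
      rw [map_mul, ← e₁, ← e₂]; ring
    have h2 : g ^ n = g ^ c * g ^ c * g ^ (n - 2 * c) := by
      rw [← pow_add, ← pow_add]; congr 1; omega
    have h3 : (γ : Bg) ^ c = ι (g ^ c) := by rw [map_pow, hγ]
    rw [h1, ht, h2, h3]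
    simp only [map_add, map_mul]
    ring
  let B : Subalgebra B' Bg :=
    { carrier := Bset
      mul_mem' := fun {x y} hx hy => hBmul x y hx hy
      add_mem' := fun {x y} hx hy => hBadd x y hx hy
      algebraMap_mem' := hBalg }
  -- the map `w`
  let w : B' → Bg := fun b => ι b * ((γ⁻¹ : Bgˣ) : Bg) ^ c
  have hwγ : ∀ b, w b * (γ : Bg) ^ c = ι b := by
    intro b
    simp only [w]
    rw [mul_assoc, ← mul_pow, Units.inv_mul, one_pow, mul_one]
  have hw_of : ∀ (x : Bg) (b : B'), x * (γ : Bg) ^ c = ι b → x = w b := by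
    intro x b h
    apply hγcancel c
    rw [h, hwγ]
  have hwadd : ∀ b₁ b₂, w (b₁ + b₂) = w b₁ + w b₂ := by
    intro b₁ b₂; simp only [w]; rw [map_add, add_mul]
  have hwmul : ∀ y b, w (y * b) = ι y * w b := by
    intro y b; simp only [w]; rw [map_mul, mul_assoc]
  have hwpow : ∀ t, w (g ^ c * t) = ι t := by
    intro t
    apply hγcancel c
    rw [hwγ, map_mul, map_pow, hγ, mul_comm]
  have hwmem : ∀ a b, Rel a b → w b ∈ B := fun a b r => ⟨a, b, r, hwγ b⟩
  have hnc : n = c + (n - c) := by omega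
  have hwerr : ∀ b t, w (b + g ^ n * t) = w b + ι (g ^ (n - c) * t) := by
    intro b t
    rw [hwadd]
    congr 1
    have : g ^ n * t = g ^ c * (g ^ (n - c) * t) := by
      rw [← mul_assoc, ← pow_add, ← hnc]
    rw [this, hwpow]
  refine ⟨B, inferInstance, inferInstance, ?_, ?_, ?_⟩
  · -- injective
    intro x y hxy
    apply hιinj
    exact congrArg Subtype.val hxy
  · -- finite
    choose β hβ using R0
    obtain ⟨s, hs⟩ := (Module.Finite.fg_top : (⊤ : Submodule A' A).FG)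
    change Module.Finite B' ↥(Subalgebra.toSubmodule B)
    rw [Module.Finite.iff_fg]
    refine ⟨insert 1 (s.image (fun a => w (β a))), ?_⟩
    apply le_antisymm
    · rw [Submodule.span_le]
      intro x hx
      rw [Finset.coe_insert, Finset.coe_image] at hx
      rcases hx with rfl | ⟨a, _, rfl⟩
      · exact B.one_mem
      · exact hwmem a _ (hβ a)
    · set N : Submodule B' Bg := Submodule.span B' ((insert 1 (s.image (fun a => w (β a))) :
        Finset Bg) : Set Bg) with hN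
      have hι : ∀ y : B', ι y ∈ N := by
        intro y
        have h1 : (1 : Bg) ∈ N := Submodule.subset_span (by simp)
        have h2 : ι y = y • (1 : Bg) := by rw [Algebra.smul_def, mul_one]
        rw [h2]; exact N.smul_mem y h1
      have key : ∀ a : A, ∀ b, Rel a b → w b ∈ N := by
        intro a
        have ha : a ∈ Submodule.span A' (s : Set A) := by rw [hs]; trivial
        induction ha using Submodule.span_induction with
        | mem a has =>
          intro b r
          obtain ⟨t, ht⟩ := R5 a b (β a) r (hβ a)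
          have hb : b = β a + g ^ n * t := by rw [← ht]; ring
          rw [hb, hwerr]
          refine N.add_mem (Submodule.subset_span ?_) (hι _)
          rw [Finset.coe_insert, Finset.coe_image]
          exact Or.inr ⟨a, has, rfl⟩
        | zero =>
          intro b r
          have r0 : Rel 0 0 := ⟨0, by simp, by simp⟩
          obtain ⟨t, ht⟩ := R5 0 b 0 r r0
          have hb : b = 0 + g ^ n * t := by rw [← ht]; ring
          rw [hb, hwerr]
          have : w 0 = 0 := by simp [w]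
          rw [this, zero_add]
          exact hι _
        | add a₁ a₂ _ _ h₁ h₂ =>
          intro b r
          obtain ⟨t, ht⟩ := R5 _ b (β a₁ + β a₂) r (R1 _ _ _ _ (hβ a₁) (hβ a₂))
          have hb : b = (β a₁ + β a₂) + g ^ n * t := by rw [← ht]; ring
          rw [hb, hwerr, hwadd]
          exact N.add_mem (N.add_mem (h₁ _ (hβ a₁)) (h₂ _ (hβ a₂))) (hι _)
        | smul x a _ h =>
          intro b r
          obtain ⟨y, hy⟩ := Ideal.Quotient.mk_surjective (φ' (mkA x))
          have r' : Rel (x • a) (y * β a) := by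
            rw [Algebra.smul_def]; exact R4 _ _ _ _ (hβ a) hy.symm
          obtain ⟨t, ht⟩ := R5 _ b _ r r'
          have hb : b = y * β a + g ^ n * t := by rw [← ht]; ring
          rw [hb, hwerr, hwmul]
          refine N.add_mem ?_ (hι _)
          have : ι y * w (β a) = y • w (β a) := by rw [Algebra.smul_def]
          rw [this]
          exact N.smul_mem y (h _ (hβ a))
      rintro x ⟨a, b, r, e⟩
      rw [hw_of x b e]
      exact key a b r
  · -- the isomorphism
    choose β hβ using R0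
    set gB : B := algebraMap B' B g with hgB
    have hgBval : (gB : Bg) = ι g := rfl
    let mkQ := Ideal.Quotient.mk (Ideal.span {gB})
    -- error terms vanish in the quotient
    have herr : ∀ (x y : B) (t : B'), (x : Bg) = (y : Bg) + ι (g * t) → mkQ x = mkQ y := by
      intro x y t h
      rw [Ideal.Quotient.eq, Ideal.mem_span_singleton']
      refine ⟨algebraMap B' B t, Subtype.ext ?_⟩
      show ι t * ι g = (x : Bg) - (y : Bg)
      rw [h, map_mul]; ring
    let ψfun : A → B ⧸ Ideal.span {gB} := fun a => mkQ ⟨w (β a), hwmem a _ (hβ a)⟩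
    have K : ∀ a b (r : Rel a b), ψfun a = mkQ ⟨w b, hwmem a b r⟩ := by
      intro a b r
      obtain ⟨t, ht⟩ := R5 a (β a) b (hβ a) r
      have hb : β a = b + g ^ n * t := by rw [← ht]; ring
      apply herr _ _ (g ^ (n - c - 1) * t)
      show w (β a) = w b + _
      rw [hb, hwerr]
      congr 2
      rw [← mul_assoc, ← pow_succ']
      congr 2
      omega
    have r00 : Rel 0 0 := ⟨0, by simp, by simp⟩
    have hw0 : w 0 = 0 := by simp [w]
    let ψ : A →+* B ⧸ Ideal.span {gB} :=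
      { toFun := ψfun
        map_one' := by
          obtain ⟨t, ht⟩ := R3 _ (hβ 1)
          show mkQ _ = 1
          rw [← RingHom.map_one mkQ]
          apply herr _ _ (g ^ (n - c - 1) * t)
          show w (β 1) = 1 + _
          have h1 : g ^ c = g ^ c * 1 := (mul_one _).symm
          rw [ht, hwerr, h1, hwpow, map_one]
          congr 2
          rw [← mul_assoc, ← pow_succ']
          congr 2
          omega
        map_mul' := by
          intro a₁ a₂
          obtain ⟨t, ht⟩ := R2 _ _ _ _ _ (hβ a₁) (hβ a₂) (hβ (a₁ * a₂))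
          show mkQ _ = mkQ _ * mkQ _
          rw [← RingHom.map_mul mkQ]
          symm
          apply herr _ _ (g ^ (n - 2 * c - 1) * t)
          show w (β a₁) * w (β a₂) = w (β (a₁ * a₂)) + _
          apply hγcancel c
          apply hγcancel c
          have h1 : w (β a₁) * w (β a₂) * (γ : Bg) ^ c * (γ : Bg) ^ c = ι (β a₁ * β a₂) := by
            rw [map_mul, ← hwγ (β a₁), ← hwγ (β a₂)]; ring
          have h3 : (γ : Bg) ^ c = ι (g ^ c) := by rw [map_pow, hγ]
          have h2 : g ^ n = g ^ c * g ^ c * (g * g ^ (n - 2 * c - 1)) := by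
            rw [← pow_succ', ← pow_add, ← pow_add]; congr 1; omega
          rw [h1, ht, add_mul, add_mul, hwγ, h2, h3]
          simp only [map_add, map_mul]
          ring
        map_zero' := by
          show ψfun 0 = 0
          rw [K 0 0 r00, ← RingHom.map_zero mkQ]
          congr 1
          exact Subtype.ext hw0
        map_add' := by
          intro a₁ a₂
          show ψfun (a₁ + a₂) = ψfun a₁ + ψfun a₂
          rw [K _ _ (R1 _ _ _ _ (hβ a₁) (hβ a₂))]
          show _ = mkQ _ + mkQ _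
          rw [← RingHom.map_add mkQ]
          congr 1
          exact Subtype.ext (hwadd _ _) }
    have hψ : ∀ a, ψ a = ψfun a := fun a => rfl
    have hψfA : ψ fA = 0 := by
      rw [hψ, K fA (g ^ c * g) (Ralg f g hφ'), ← RingHom.map_zero mkQ, Ideal.Quotient.eq,
        sub_zero, Ideal.mem_span_singleton']
      exact ⟨1, Subtype.ext (by
        show (1 : Bg) * ι g = w (g ^ c * g)
        rw [hwpow, one_mul])⟩
    have hvan : ∀ a ∈ Ideal.span {fA}, ψ a = 0 := by
      intro a ha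
      obtain ⟨z, rfl⟩ := Ideal.mem_span_singleton'.mp ha
      rw [RingHom.map_mul, hψfA, mul_zero]
    have hker : RingHom.ker ψ ≤ Ideal.span {fA} := by
      intro a ha
      rw [RingHom.mem_ker, hψ] at ha
      have ha' : (⟨w (β a), hwmem a _ (hβ a)⟩ : B) ∈ Ideal.span {gB} :=
        Ideal.Quotient.eq_zero_iff_mem.mp ha
      obtain ⟨z, hz⟩ := Ideal.mem_span_singleton'.mp ha'
      obtain ⟨az, bz, rz, ez⟩ := z.2
      have hz' : (z : Bg) * ι g = w (β a) := congrArg Subtype.val hz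
      have hβa : β a = g * bz := by
        apply hιinj
        rw [← hwγ (β a), ← hz', map_mul, ← ez]; ring
      have r1 : Rel a (g * bz) := hβa ▸ hβ a
      have r2 : Rel (fA * az) (g * bz) := R4 _ _ f g rz hφ'
      obtain ⟨z', hz''⟩ := R7 _ _ _ r1 r2
      rw [Ideal.mem_span_singleton']
      refine ⟨az + fA ^ (n - c - 1) * algebraMap A' A z', ?_⟩
      have h1 : fA ^ (n - c) = fA * fA ^ (n - c - 1) := by
        rw [← pow_succ']; congr 1; omega
      have : a = fA * az + fA ^ (n - c) * algebraMap A' A z' := by rw [← hz'']; ring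
      rw [this, h1]; ring
    have hsurj : Function.Surjective ψ := by
      intro y
      obtain ⟨z, rfl⟩ := Ideal.Quotient.mk_surjective y
      obtain ⟨az, bz, rz, ez⟩ := z.2
      refine ⟨az, ?_⟩
      rw [hψ, K az bz rz]
      congr 1
      exact Subtype.ext (hw_of _ _ ez).symm
    let φ : (A ⧸ Ideal.span {fA}) ≃+* (B ⧸ Ideal.span {gB}) :=
      RingEquiv.ofBijective (Ideal.Quotient.lift (Ideal.span {fA}) ψ hvan)
        ⟨RingHom.lift_injective_of_ker_le_ideal _ hvan hker,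
          Ideal.Quotient.lift_surjective_of_surjective _ hvan hsurj⟩
    refine ⟨φ, fun a' b' hab => ?_⟩
    show (Ideal.Quotient.lift (Ideal.span {fA}) ψ hvan) (Ideal.Quotient.mk _ (algebraMap A' A a')) = _
    rw [Ideal.Quotient.lift_mk, hψ, K _ _ (Ralg a' b' hab)]
    congr 1
    exact Subtype.ext (hwpow b')

end Groth.Agent.Lib.Helper68.QuotIsoLift
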