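import Mathlib

/-! # Block unipotent matrices are commutators (helper68), towards `SL_n ⊆ [GL_n, GL_n]` étale
locally. -/

open Matrix
open scoped commutatorElement

namespace Groth.Agent.Lib.Helper68.SLComm

variable {α : Type*} [Fintype α] [DecidableEq α] {R : Type*} [CommRing R]

/-- upper block unipotent -/
def Xu (w : Matrix Unit α R) : GL (Unit ⊕ α) R :=
  ⟨fromBlocks 1 w 0 1, fromBlocks 1 (-w) 0 1,
    by simp [fromBlocks_multiply, fromBlocks_one],
    by simp [fromBlocks_multiply, fromBlocks_one]⟩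

/-- lower block unipotent -/
def Xl (v : Matrix α Unit R) : GL (Unit ⊕ α) R :=
  ⟨fromBlocks 1 0 v 1, fromBlocks 1 0 (-v) 1,
    by simp [fromBlocks_multiply, fromBlocks_one],
    by simp [fromBlocks_multiply, fromBlocks_one]⟩

/-- block diagonal -/
def blockDiag (g : Rˣ) (S : GL α R) : GL (Unit ⊕ α) R :=
  ⟨fromBlocks (diagonal fun _ => (g : R)) 0 0 S.val,
    fromBlocks (diagonal fun _ => ((g⁻¹ : Rˣ) : R)) 0 0 (S⁻¹ : GL α R).val,
    by simp [fromBlocks_multiply, fromBlocks_one, diagonal_mul_diagonal],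
    by simp [fromBlocks_multiply, fromBlocks_one, diagonal_mul_diagonal]⟩

@[simp] lemma Xu_val (w : Matrix Unit α R) : (Xu w).val = fromBlocks 1 w 0 1 := rfl
@[simp] lemma Xl_val (v : Matrix α Unit R) : (Xl v).val = fromBlocks 1 0 v 1 := rfl
@[simp] lemma blockDiag_val (g : Rˣ) (S : GL α R) :
    (blockDiag g S).val = fromBlocks (diagonal fun _ => (g : R)) 0 0 S.val := rfl

lemma Xu_inv (w : Matrix Unit α R) : (Xu w)⁻¹ = Xu (-w) := by
  apply Units.ext
  show fromBlocks 1 (-w) 0 1 = _
  rfl

lemma Xl_inv (v : Matrix α Unit R) : (Xl v)⁻¹ = Xl (-v) := by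
  apply Units.ext
  show fromBlocks 1 0 (-v) 1 = _
  rfl

lemma blockDiag_inv (g : Rˣ) (S : GL α R) : (blockDiag g S)⁻¹ = blockDiag g⁻¹ S⁻¹ := by
  apply Units.ext
  rfl

lemma diag_unit_mul (a : R) (w : Matrix Unit α R) :
    (diagonal fun _ : Unit => a) * w = a • w := by
  ext i j
  simp [diagonal_mul]

lemma mul_diag_unit (a : R) (v : Matrix α Unit R) :
    v * (diagonal fun _ : Unit => a) = a • v := by
  ext i j
  simp [mul_diagonal, mul_comm]

/-- `Xu w` is a commutator when `a = 1 + b` for units `a, b`. -/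
theorem Xu_mem_commutator (a b : Rˣ) (hab : (a : R) = 1 + b) (w : Matrix Unit α R) :
    Xu w ∈ commutator (GL (Unit ⊕ α) R) := by
  have h : Xu w = ⁅blockDiag a (1 : GL α R), Xu (((b⁻¹ : Rˣ) : R) • w)⁆ := by
    rw [commutatorElement_def, blockDiag_inv, Xu_inv]
    apply Units.ext
    simp only [Units.val_mul, Xu_val, blockDiag_val, inv_one, Units.val_one, fromBlocks_multiply,
      diag_unit_mul, diagonal_mul_diagonal, Matrix.mul_one, Matrix.one_mul, Matrix.mul_zero,
      Matrix.zero_mul, add_zero, zero_add, Units.mul_inv]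
    congr 1
    ext i j
    simp
    have : (b : R) * ((b⁻¹ : Rˣ) : R) = 1 := Units.mul_inv b
    rw [hab]
    linear_combination (-(w i j)) * this
  rw [h, commutator_def]
  exact Subgroup.commutator_mem_commutator (Subgroup.mem_top _) (Subgroup.mem_top _)

/-- `Xl v` is a commutator when `a = 1 + b` for units `a, b`. -/
theorem Xl_mem_commutator (a b : Rˣ) (hab : (a : R) = 1 + b) (v : Matrix α Unit R) :
    Xl v ∈ commutator (GL (Unit ⊕ α) R) := by
  have h : Xl v = ⁅blockDiag a⁻¹ (1 : GL α R), Xl (((b⁻¹ : Rˣ) : R) • v)⁆ := by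
    rw [commutatorElement_def, blockDiag_inv, Xl_inv, inv_inv]
    apply Units.ext
    simp only [Units.val_mul, Xl_val, blockDiag_val, inv_one, Units.val_one, fromBlocks_multiply,
      mul_diag_unit, diagonal_mul_diagonal, Matrix.mul_one, Matrix.one_mul, Matrix.mul_zero,
      Matrix.zero_mul, add_zero, zero_add, Units.inv_mul]
    congr 1
    ext i j
    simp
    have : (b : R) * ((b⁻¹ : Rˣ) : R) = 1 := Units.mul_inv b
    rw [hab]
    linear_combination (-(v i j)) * this
  rw [h, commutator_def]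
  exact Subgroup.commutator_mem_commutator (Subgroup.mem_top _) (Subgroup.mem_top _)

end Groth.Agent.Lib.Helper68.SLComm
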