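import Mathlib
import Groth.Agent.Lib.Helper68.SLComm1

/-! # Good matrices: commutator times diagonal (helper68) -/

open Matrix
open scoped commutatorElement

namespace Groth.Agent.Lib.Helper68.SLComm

/-- group homomorphisms preserve commutator subgroups -/
theorem map_mem_commutator {G G' : Type*} [Group G] [Group G'] (f : G →* G') {x : G}
    (hx : x ∈ commutator G) : f x ∈ commutator G' := by
  rw [commutator_def] at hx ⊢
  have h1 : f x ∈ Subgroup.map f ⁅(⊤ : Subgroup G), ⊤⁆ := Subgroup.mem_map_of_mem f hx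
  rw [Subgroup.map_commutator] at h1
  exact Subgroup.commutator_mono le_top le_top h1

variable {ι : Type*} [Fintype ι] [DecidableEq ι] {α : Type*} [Fintype α] [DecidableEq α]
  {R : Type*} [CommRing R] {S : Type*} [CommRing S]

/-- diagonal embedding -/
def Δ (ι : Type*) [Fintype ι] [DecidableEq ι] (R : Type*) [CommRing R] : (ι → Rˣ) →* GL ι R where
  toFun d := ⟨diagonal fun i => (d i : R), diagonal fun i => ((d i)⁻¹ : Rˣ),
    by simp [diagonal_mul_diagonal], by simp [diagonal_mul_diagonal]⟩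
  map_one' := Units.ext (by simp)
  map_mul' d e := Units.ext (by simp [diagonal_mul_diagonal])

@[simp] lemma Δ_val (d : ι → Rˣ) : (Δ ι R d).val = diagonal fun i => (d i : R) := rfl

/-- A matrix is good if it is a commutator times a diagonal matrix. -/
def Good (N : GL ι R) : Prop := ∃ c ∈ commutator (GL ι R), ∃ d : ι → Rˣ, N = c * Δ ι R d

theorem Good.mul_left {N x : GL ι R} (hx : x ∈ commutator (GL ι R)) (h : Good N) :
    Good (x * N) := by
  obtain ⟨c, hc, d, rfl⟩ := h
  exact ⟨x * c, mul_mem hx hc, d, by rw [mul_assoc]⟩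

theorem Good.mul_right {N y : GL ι R} (h : Good N) (hy : y ∈ commutator (GL ι R)) :
    Good (N * y) := by
  obtain ⟨c, hc, d, rfl⟩ := h
  refine ⟨c * (Δ ι R d * y * (Δ ι R d)⁻¹), mul_mem hc ?_, d, by group⟩
  exact (inferInstance : (commutator (GL ι R)).Normal).conj_mem y hy _

theorem Good.map (f : R →+* S) {N : GL ι R} (h : Good N) :
    Good (Matrix.GeneralLinearGroup.map f N) := by
  obtain ⟨c, hc, d, rfl⟩ := h
  refine ⟨Matrix.GeneralLinearGroup.map f c, map_mem_commutator _ hc,
    fun i => Units.map f.toMonoidHom (d i), ?_⟩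
  rw [map_mul]
  congr 1
  apply Units.ext
  ext i j
  simp [Matrix.GeneralLinearGroup.map, diagonal_apply]
  split_ifs <;> simp

/-- the block embedding `GL α → GL (Unit ⊕ α)` -/
def emb : GL α R →* GL (Unit ⊕ α) R where
  toFun S := blockDiag 1 S
  map_one' := Units.ext (by simp [fromBlocks_one])
  map_mul' S T := Units.ext (by simp [fromBlocks_multiply])

theorem good_blockDiag (g : Rˣ) {S : GL α R} (h : Good S) : Good (blockDiag g S) := by
  obtain ⟨c, hc, d, rfl⟩ := h
  refine ⟨emb c, map_mem_commutator emb hc, Sum.elim (fun _ => g) d, ?_⟩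
  apply Units.ext
  simp only [blockDiag_val, Units.val_mul, Δ_val, emb, MonoidHom.coe_mk, OneHom.coe_mk,
    Units.val_one]
  have : (diagonal fun i : Unit ⊕ α => ((Sum.elim (fun _ => g) d i : Rˣ) : R)) =
      fromBlocks (diagonal fun _ : Unit => (g : R)) 0 0 (diagonal fun i => (d i : R)) := by
    rw [fromBlocks_diagonal]
    congr 1
    ext i
    cases i <;> rfl
  rw [this, fromBlocks_multiply]
  simp

/-- Schur complement decomposition when the `(0,0)` entry is a unit. -/
theorem exists_schur (N : GL (Unit ⊕ α) R) (g : Rˣ)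
    (hg : N.val (Sum.inl ()) (Sum.inl ()) = g) :
    ∃ (v : Matrix α Unit R) (w : Matrix Unit α R) (S : GL α R),
      N = Xl v * blockDiag g S * Xu w := by
  have h11 : N.val.toBlocks₁₁ = diagonal fun _ : Unit => (g : R) := by
    ext i j
    simp [toBlocks₁₁, hg]
  have hN : N.val = fromBlocks 1 0 (((g⁻¹ : Rˣ) : R) • N.val.toBlocks₂₁) 1 *
      fromBlocks (diagonal fun _ : Unit => (g : R)) 0 0
        (N.val.toBlocks₂₂ - ((g⁻¹ : Rˣ) : R) • (N.val.toBlocks₂₁ * N.val.toBlocks₁₂)) *
      fromBlocks 1 (((g⁻¹ : Rˣ) : R) • N.val.toBlocks₁₂) 0 1 := by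
    conv_lhs => rw [← fromBlocks_toBlocks N.val, h11]
    simp only [fromBlocks_multiply, Matrix.one_mul, Matrix.mul_one, Matrix.mul_zero,
      Matrix.zero_mul, add_zero, zero_add, diag_unit_mul, mul_diag_unit, smul_smul,
      Matrix.smul_mul, Matrix.mul_smul]
    have hgg : ((g⁻¹ : Rˣ) : R) * g = 1 := Units.inv_mul g
    rw [hgg, mul_one, one_smul, one_smul]
    congr 1
    abel
  have hdet : IsUnit (N.val.toBlocks₂₂ -
      ((g⁻¹ : Rˣ) : R) • (N.val.toBlocks₂₁ * N.val.toBlocks₁₂)).det := by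
    have h1 : IsUnit N.val.det := (Matrix.isUnit_iff_isUnit_det _).mp N.isUnit
    rw [hN, det_mul, det_mul, det_fromBlocks_zero₁₂, det_fromBlocks_zero₂₁,
      det_fromBlocks_zero₂₁] at h1
    simp only [det_one, one_mul, mul_one] at h1
    exact isUnit_of_mul_isUnit_right h1
  refine ⟨((g⁻¹ : Rˣ) : R) • N.val.toBlocks₂₁, ((g⁻¹ : Rˣ) : R) • N.val.toBlocks₁₂,
    Matrix.GeneralLinearGroup.mk'' _ hdet, ?_⟩
  apply Units.ext
  exact hN

/-- After multiplying by a commutator the `(0,0)` entry avoids a given prime. -/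
theorem exists_pivot (a b : Rˣ) (hab : (a : R) = 1 + b) (M : GL (Unit ⊕ α) R) (q : Ideal R)
    [q.IsPrime] :
    ∃ X₀ ∈ commutator (GL (Unit ⊕ α) R), (X₀ * M).val (Sum.inl ()) (Sum.inl ()) ∉ q := by
  by_cases h0 : M.val (Sum.inl ()) (Sum.inl ()) ∉ q
  · exact ⟨1, one_mem _, by simpa using h0⟩
  rw [not_not] at h0
  have hex : ∃ i : α, M.val (Sum.inr i) (Sum.inl ()) ∉ q := by
    by_contra hall
    push Not at hall
    have h1 : ((M⁻¹ * M : GL (Unit ⊕ α) R).val) (Sum.inl ()) (Sum.inl ()) ∈ q := by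
      rw [Units.val_mul, Matrix.mul_apply]
      refine q.sum_mem fun k _ => q.mul_mem_left _ ?_
      rcases k with ⟨⟩ | i
      · exact h0
      · exact hall i
    rw [inv_mul_cancel] at h1
    simp at h1
    exact (Ideal.IsPrime.ne_top ‹_›) ((Ideal.eq_top_iff_one q).mpr h1)
  obtain ⟨i, hi⟩ := hex
  refine ⟨Xu (Matrix.of fun _ j => if j = i then 1 else 0), Xu_mem_commutator a b hab _, ?_⟩
  have : (Xu (Matrix.of fun _ j => if j = i then (1 : R) else 0) * M).val (Sum.inl ())
      (Sum.inl ()) = M.val (Sum.inl ()) (Sum.inl ()) + M.val (Sum.inr i) (Sum.inl ()) := by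
    rw [Units.val_mul, Matrix.mul_apply, Fintype.sum_sum_type]
    simp [Xu_val, fromBlocks_apply₁₁, fromBlocks_apply₁₂]
  rw [this]
  intro hsum
  exact hi ((q.add_mem_iff_right h0).mp hsum)

end Groth.Agent.Lib.Helper68.SLComm
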