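import Mathlib
import Groth.Agent.Lib.Helper68.SLComm2
import Groth.Agent.Lib.Helper3.FiniteEtaleLift

/-! # `SL_n ⊆ [GL_n, GL_n]` étale-locally (helper68) -/

open Matrix Polynomial
open scoped commutatorElement

namespace Groth.Agent.Lib.Helper68.SLComm

universe u


variable {ι : Type*} [Fintype ι] [DecidableEq ι] {R : Type*} [CommRing R]

theorem swap_conj_Δ (i j : ι) (d : ι → Rˣ) :
    GeneralLinearGroup.swap R i j * Δ ι R d * (GeneralLinearGroup.swap R i j)⁻¹ =
      Δ ι R (fun k => d (Equiv.swap i j k)) := by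
  apply Units.ext
  have hinv : ((GeneralLinearGroup.swap R i j)⁻¹ : GL ι R) = GeneralLinearGroup.swap R i j := by
    rw [inv_eq_iff_mul_eq_one]
    apply Units.ext
    simp [Matrix.swap_mul_self]
  rw [hinv]
  simp only [Units.val_mul, GeneralLinearGroup.val_swap, Δ_val, Matrix.swap, Equiv.Perm.permMatrix]
  rw [PEquiv.toMatrix_toPEquiv_mul, PEquiv.mul_toMatrix_toPEquiv]
  ext k l
  simp [diagonal_apply]

theorem Δ_mem_commutator (d : ι → Rˣ) (hd : ∏ i, d i = 1) :
    Δ ι R d ∈ commutator (GL ι R) := by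
  rw [← Abelianization.ker_of, MonoidHom.mem_ker]
  cases isEmpty_or_nonempty ι
  · have : Δ ι R d = 1 := Subsingleton.elim _ _
    rw [this, map_one]
  obtain ⟨i₀⟩ := ‹Nonempty ι›
  set f : (ι → Rˣ) →* Abelianization (GL ι R) := (Abelianization.of).comp (Δ ι R) with hf
  have hinv : ∀ i x, f (Pi.mulSingle i x) = f (Pi.mulSingle i₀ x) := by
    intro i x
    have h1 : (Pi.mulSingle i x : ι → Rˣ) =
        fun k => (Pi.mulSingle i₀ x : ι → Rˣ) (Equiv.swap i₀ i k) := by
      ext k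
      simp [Pi.mulSingle_apply, Equiv.swap_apply_eq_iff]
    rw [h1, hf, MonoidHom.comp_apply, MonoidHom.comp_apply, ← swap_conj_Δ, map_mul, map_mul,
      mul_comm, ← mul_assoc, ← map_mul, inv_mul_cancel, map_one, one_mul]
  have h2 : f d = f (Pi.mulSingle i₀ (∏ i, d i)) := by
    conv_lhs => rw [← Finset.univ_prod_mulSingle d, map_prod]
    simp_rw [hinv]
    rw [← MonoidHom.mulSingle_apply, ← MonoidHom.comp_apply, map_prod]
    rfl
  change f d = 1
  rw [h2, hd, Pi.mulSingle_one, map_one]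




theorem etale_comp {R S T : Type*} [CommRing R] [CommRing S] [CommRing T] (f : R →+* S)
    (g : S →+* T) (hf : f.Etale) (hg : g.Etale) : (g.comp f).Etale := by
  algebraize [f, g, g.comp f]
  exact Algebra.Etale.comp R S T

theorem etale_id (R : Type*) [CommRing R] : (RingHom.id R).Etale :=
  (RingHom.etale_algebraMap (R := R) (S := R)).mpr inferInstance

theorem away_step (B : Type u) [CommRing B] (g₀ : B) (q : Ideal B) [q.IsPrime] (h : g₀ ∉ q) :
    (algebraMap B (Localization.Away g₀)).Etale ∧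
      (∃ q' : Ideal (Localization.Away g₀), q'.IsPrime ∧
        q'.comap (algebraMap B (Localization.Away g₀)) = q) ∧
      IsUnit (algebraMap B (Localization.Away g₀) g₀) := by
  have hdisj : Disjoint (Submonoid.powers g₀ : Set B) q :=
    (Ideal.disjoint_powers_iff_notMem_of_isPrime g₀).mpr h
  refine ⟨RingHom.etale_algebraMap.mpr (Algebra.Etale.of_isLocalizationAway g₀),
    ⟨q.map (algebraMap B (Localization.Away g₀)),
      IsLocalization.isPrime_of_isPrime_disjoint (Submonoid.powers g₀) _ q ‹_› hdisj,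
      IsLocalization.under_map_of_isPrime_disjoint (Submonoid.powers g₀) _ ‹_› hdisj⟩,
    IsLocalization.Away.algebraMap_isUnit g₀⟩

variable {ι : Type*} [Fintype ι] [DecidableEq ι] {κ : Type*} [Fintype κ] [DecidableEq κ]
  {α : Type*} [Fintype α] [DecidableEq α]
  {R : Type*} [CommRing R] {S : Type*} [CommRing S]

/-- reindexing `GL` -/
def reidx (e : ι ≃ κ) : GL ι R →* GL κ R :=
  Units.map (Matrix.reindexAlgEquiv R R e).toAlgHom.toRingHom.toMonoidHom

lemma reidx_val (e : ι ≃ κ) (M : GL ι R) : (reidx e M).val = M.val.submatrix e.symm e.symm := rfl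

lemma reidx_Δ (e : ι ≃ κ) (d : ι → Rˣ) : reidx e (Δ ι R d) = Δ κ R (fun k => d (e.symm k)) := by
  apply Units.ext
  rw [reidx_val, Δ_val, Δ_val, submatrix_diagonal_equiv]
  rfl

theorem good_reidx (e : ι ≃ κ) {N : GL ι R} (h : Good N) : Good (reidx e N) := by
  obtain ⟨c, hc, d, rfl⟩ := h
  exact ⟨reidx e c, map_mem_commutator _ hc, fun k => d (e.symm k), by rw [map_mul, reidx_Δ]⟩

lemma reidx_map (e : ι ≃ κ) (f : R →+* S) (M : GL κ R) :
    reidx e (GeneralLinearGroup.map f (reidx e.symm M)) = GeneralLinearGroup.map f M := by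
  apply Units.ext
  ext i j
  simp [reidx_val]

lemma map_blockDiag (f : R →+* S) (g : Rˣ) (T : GL α R) :
    GeneralLinearGroup.map f (blockDiag g T) =
      blockDiag (Units.map f.toMonoidHom g) (GeneralLinearGroup.map f T) := by
  apply Units.ext
  ext i j
  rcases i with ⟨⟩ | i <;> rcases j with ⟨⟩ | j <;> simp [blockDiag_val]

/-- étale-local goodness -/
def P (ι : Type) [Fintype ι] [DecidableEq ι] : Prop :=
  ∀ (B : Type u) [CommRing B] (a b : Bˣ), (a : B) = 1 + b → ∀ (M : GL ι B) (q : Ideal B)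
    [q.IsPrime], ∃ (B' : Type u) (_ : CommRing B') (φ : B →+* B'), φ.Etale ∧
      (∃ q' : Ideal B', q'.IsPrime ∧ q'.comap φ = q) ∧ Good (GeneralLinearGroup.map φ M)

theorem P_of_isEmpty (ι : Type) [Fintype ι] [DecidableEq ι] [IsEmpty ι] : P.{u} ι := by
  intro B _ a b hab M q _
  refine ⟨B, inferInstance, RingHom.id B, etale_id B, ⟨q, ‹_›, Ideal.comap_id q⟩, 1, one_mem _, 1,
    Subsingleton.elim _ _⟩

theorem P_equiv {ι κ : Type} [Fintype ι] [DecidableEq ι] [Fintype κ] [DecidableEq κ] (e : ι ≃ κ)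
    (h : P.{u} ι) : P.{u} κ := by
  intro B _ a b hab M q _
  obtain ⟨B', _, φ, het, hq, hgood⟩ := h B a b hab (reidx e.symm M) q
  refine ⟨B', inferInstance, φ, het, hq, ?_⟩
  rw [← reidx_map e]
  exact good_reidx e hgood

theorem P_sum_aux {α : Type} [Fintype α] [DecidableEq α] (h : P.{u} α) (B₁ : Type u)
    [CommRing B₁] (a b : B₁ˣ) (hab : (a : B₁) = 1 + b) (N : GL (Unit ⊕ α) B₁) (q₁ : Ideal B₁)
    [q₁.IsPrime] (hunit : IsUnit (N.val (Sum.inl ()) (Sum.inl ()))) :
    ∃ (B' : Type u) (_ : CommRing B') (φ : B₁ →+* B'), φ.Etale ∧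
      (∃ q' : Ideal B', q'.IsPrime ∧ q'.comap φ = q₁) ∧ Good (GeneralLinearGroup.map φ N) := by
  obtain ⟨v, w, T, hN⟩ := exists_schur N hunit.unit (by rw [IsUnit.unit_spec])
  obtain ⟨B₂, _, φ₂, het₂, hq₂, hgood⟩ := h B₁ a b hab T q₁
  refine ⟨B₂, inferInstance, φ₂, het₂, hq₂, ?_⟩
  rw [hN, map_mul, map_mul, map_blockDiag]
  refine ((good_blockDiag _ hgood).mul_left ?_).mul_right ?_
  · exact map_mem_commutator _ (Xl_mem_commutator a b hab v)
  · exact map_mem_commutator _ (Xu_mem_commutator a b hab w)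

theorem P_sum {α : Type} [Fintype α] [DecidableEq α] (h : P.{u} α) : P.{u} (Unit ⊕ α) := by
  intro B _ a b hab M q _
  obtain ⟨X₀, hX₀, hpiv⟩ := exists_pivot a b hab M q
  obtain ⟨het₁, ⟨q₁, hq₁, hcomap₁⟩, hunit⟩ := away_step B _ q hpiv
  obtain ⟨B₂, _, φ₂, het₂, ⟨q₂, hq₂, hcomap₂⟩, hgood⟩ := P_sum_aux h _
    (Units.map (algebraMap B (Localization.Away
      ((X₀ * M).val (Sum.inl ()) (Sum.inl ())))).toMonoidHom a)
    (Units.map (algebraMap B (Localization.Away
      ((X₀ * M).val (Sum.inl ()) (Sum.inl ())))).toMonoidHom b) (by simp [hab])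
    (GeneralLinearGroup.map (algebraMap B (Localization.Away
      ((X₀ * M).val (Sum.inl ()) (Sum.inl ())))) (X₀ * M)) q₁ hunit
  refine ⟨B₂, inferInstance, φ₂.comp (algebraMap B _), etale_comp _ _ het₁ het₂,
    ⟨q₂, hq₂, by rw [← Ideal.comap_comap, hcomap₂, hcomap₁]⟩, ?_⟩
  have h2 : GeneralLinearGroup.map (φ₂.comp (algebraMap B (Localization.Away
      ((X₀ * M).val (Sum.inl ()) (Sum.inl ()))))) M =
      (GeneralLinearGroup.map φ₂ (GeneralLinearGroup.map (algebraMap B _) X₀))⁻¹ *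
        GeneralLinearGroup.map φ₂ (GeneralLinearGroup.map (algebraMap B _) (X₀ * M)) := by
    rw [GeneralLinearGroup.map_comp, MonoidHom.comp_apply, map_mul, map_mul, inv_mul_cancel_left]
  rw [h2]
  exact hgood.mul_left (inv_mem (map_mem_commutator _ (map_mem_commutator _ hX₀)))

theorem P_fin (n : ℕ) : P.{u} (Fin n) := by
  induction n with
  | zero => exact P_of_isEmpty _
  | succ n ih =>
    exact P_equiv (Fintype.equivFinOfCardEq (by simp [add_comm])) (P_sum ih)




theorem adjoin_step (B : Type u) [CommRing B] (h5 : IsUnit (5 : B)) (q : Ideal B) [q.IsPrime] :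
    ∃ (B' : Type u) (_ : CommRing B') (φ : B →+* B'), φ.Etale ∧
      (∃ q' : Ideal B', q'.IsPrime ∧ q'.comap φ = q) ∧ ∃ a b : B'ˣ, (a : B') = 1 + b := by
  have hnt : Nontrivial B := by
    refine nontrivial_of_ne (0 : B) 1 fun h => (Ideal.IsPrime.ne_top ‹q.IsPrime›) ?_
    rw [Ideal.eq_top_iff_one, ← h]
    exact zero_mem _
  have hdeg1 : degree (X + 1 : B[X]) = 1 := by
    compute_degree!
  have hg : (X ^ 2 - (X + 1) : B[X]).Monic := by
    apply monic_X_pow_sub
    rw [hdeg1]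
    norm_num
  have hdeg : degree (X ^ 2 - (X + 1) : B[X]) = 2 := by
    rw [degree_sub_eq_left_of_degree_lt, degree_X_pow]
    · rfl
    · rw [hdeg1, degree_X_pow]
      norm_num
  have hroot : (AdjoinRoot.root (X ^ 2 - (X + 1) : B[X])) ^ 2 =
      AdjoinRoot.root (X ^ 2 - (X + 1) : B[X]) + 1 := by
    have := AdjoinRoot.mk_self (f := (X ^ 2 - (X + 1) : B[X]))
    rw [map_sub, map_pow, map_add, map_one, AdjoinRoot.mk_X] at this
    exact sub_eq_zero.mp this
  have hder : derivative (X ^ 2 - (X + 1) : B[X]) = 2 * X - 1 := by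
    simp
    rw [one_add_one_eq_two]
  have hunit : IsUnit (AdjoinRoot.mk (X ^ 2 - (X + 1) : B[X])
      (derivative (X ^ 2 - (X + 1) : B[X]))) := by
    rw [hder, map_sub, map_mul, map_one, AdjoinRoot.mk_X]
    have h1 : (AdjoinRoot.mk (X ^ 2 - (X + 1) : B[X]) 2 * AdjoinRoot.root _ - 1) ^ 2 =
        algebraMap B _ 5 := by
      have : AdjoinRoot.mk (X ^ 2 - (X + 1) : B[X]) 2 = 2 := map_ofNat _ 2
      rw [this, map_ofNat]
      linear_combination 4 * hroot
    have h2 : IsUnit ((AdjoinRoot.mk (X ^ 2 - (X + 1) : B[X]) 2 * AdjoinRoot.root _ - 1) ^ 2) := by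
      rw [h1]
      exact h5.map _
    exact (isUnit_pow_iff two_ne_zero).mp h2
  have hinj : Function.Injective (algebraMap B (AdjoinRoot (X ^ 2 - (X + 1) : B[X]))) := by
    rw [injective_iff_map_eq_zero]
    intro x hx
    by_contra hne
    refine AdjoinRoot.mk_ne_zero_of_degree_lt hg (g := C x) (by simpa using hne) ?_ ?_
    · rw [hdeg]
      exact lt_of_le_of_lt degree_C_le (by norm_num)
    · rw [AdjoinRoot.mk_C]
      exact hx
  have : Module.Finite B (AdjoinRoot (X ^ 2 - (X + 1) : B[X])) := hg.finite_adjoinRoot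
  obtain ⟨q', -, hq', hcomap⟩ := Ideal.exists_ideal_over_prime_of_isIntegral q
    (⊥ : Ideal (AdjoinRoot (X ^ 2 - (X + 1) : B[X]))) (by
      rw [← RingHom.ker_eq_comap_bot, (RingHom.injective_iff_ker_eq_bot _).mp hinj]
      exact bot_le)
  refine ⟨AdjoinRoot (X ^ 2 - (X + 1) : B[X]), inferInstance, algebraMap B _,
    RingHom.etale_algebraMap.mpr (Groth.Agent.Lib.Helper3.etale_adjoinRoot_of_isUnit _ hg hunit),
    ⟨q', hq', hcomap⟩, ?_⟩
  refine ⟨⟨AdjoinRoot.root _, AdjoinRoot.root _ - 1, ?_, ?_⟩,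
    ⟨AdjoinRoot.root _ - 1, AdjoinRoot.root _, ?_, ?_⟩, ?_⟩
  · linear_combination hroot
  · linear_combination hroot
  · linear_combination hroot
  · linear_combination hroot
  · simp

theorem step0 (A : Type u) [CommRing A] (p : Ideal A) [p.IsPrime] :
    ∃ (A₁ : Type u) (_ : CommRing A₁) (φ : A →+* A₁), φ.Etale ∧
      (∃ q : Ideal A₁, q.IsPrime ∧ q.comap φ = p) ∧ ∃ a b : A₁ˣ, (a : A₁) = 1 + b := by
  by_cases h2 : (2 : A) ∈ p
  · have h5 : (5 : A) ∉ p := by
      intro h5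
      apply Ideal.IsPrime.ne_top ‹p.IsPrime›
      rw [Ideal.eq_top_iff_one]
      have : (1 : A) = 5 - 2 * 2 := by norm_num
      rw [this]
      exact p.sub_mem h5 (p.mul_mem_left _ h2)
    obtain ⟨het₁, ⟨q₁, hq₁, hcomap₁⟩, hunit⟩ := away_step A 5 p h5
    have hunit' : IsUnit (5 : Localization.Away (5 : A)) := by
      rw [map_ofNat] at hunit
      exact hunit
    obtain ⟨B', _, φ, het, ⟨q', hq', hcomap⟩, hab⟩ :=
      adjoin_step (Localization.Away (5 : A)) hunit' q₁
    exact ⟨B', inferInstance, φ.comp (algebraMap A _), etale_comp _ _ het₁ het,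
      ⟨q', hq', by rw [← Ideal.comap_comap, hcomap, hcomap₁]⟩, hab⟩
  · obtain ⟨het₁, hq, hunit⟩ := away_step A 2 p h2
    refine ⟨Localization.Away (2 : A), inferInstance, algebraMap A _, het₁, hq, hunit.unit, 1, ?_⟩
    rw [IsUnit.unit_spec, Units.val_one, map_ofNat]
    norm_num


theorem mem_commutator_of_good_of_det {ι : Type*} [Fintype ι] [DecidableEq ι] {R : Type*}
    [CommRing R] {N : GL ι R} (h : Good N) (hdet : N.val.det = 1) : N ∈ commutator (GL ι R) := by
  obtain ⟨c, hc, d, rfl⟩ := h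
  refine mul_mem hc (Δ_mem_commutator d ?_)
  have h1 : GeneralLinearGroup.det c = 1 :=
    MonoidHom.mem_ker.mp (Abelianization.commutator_subset_ker _ hc)
  have h2 : GeneralLinearGroup.det (c * Δ ι R d) = 1 := Units.ext hdet
  rw [map_mul, h1, one_mul] at h2
  rw [← h2]
  apply Units.ext
  simp [det_diagonal]

/-- main theorem in ring-hom form -/
theorem main (A : Type u) [CommRing A] (n : ℕ) (s : Matrix.SpecialLinearGroup (Fin n) A)
    (p : Ideal A) [p.IsPrime] :
    ∃ (A' : Type u) (_ : CommRing A') (φ : A →+* A'), φ.Etale ∧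
      (∃ q : Ideal A', q.IsPrime ∧ q.comap φ = p) ∧
      GeneralLinearGroup.map φ (Matrix.SpecialLinearGroup.toGL s) ∈
        commutator (GL (Fin n) A') := by
  obtain ⟨A₁, _, φ₁, het₁, ⟨q₁, hq₁, hcomap₁⟩, a, b, hab⟩ := step0 A p
  obtain ⟨A₂, _, φ₂, het₂, ⟨q₂, hq₂, hcomap₂⟩, hgood⟩ :=
    P_fin n A₁ a b hab (GeneralLinearGroup.map φ₁ (Matrix.SpecialLinearGroup.toGL s)) q₁
  refine ⟨A₂, inferInstance, φ₂.comp φ₁, etale_comp _ _ het₁ het₂,
    ⟨q₂, hq₂, by rw [← Ideal.comap_comap, hcomap₂, hcomap₁]⟩, ?_⟩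
  rw [GeneralLinearGroup.map_comp, MonoidHom.comp_apply]
  refine mem_commutator_of_good_of_det hgood ?_
  have : (GeneralLinearGroup.map φ₂ (GeneralLinearGroup.map φ₁
      (Matrix.SpecialLinearGroup.toGL s))).val = (s.val.map φ₁).map φ₂ := rfl
  rw [this, ← RingHom.mapMatrix_apply, ← RingHom.mapMatrix_apply, ← RingHom.map_det,
    ← RingHom.map_det, s.det_coe, map_one, map_one]

end Groth.Agent.Lib.Helper68.SLComm
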