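import Mathlib

/-! # Powers `t^(q i)` form a basis of `A[X]/(g)` for `g` monic separable, `A` local of residue
characteristic `p`, `q = p^s` (helper68) -/

open Polynomial

namespace Groth.Agent.Lib.Helper68.SepPowBasis

/-- Over a field of characteristic `p`: if the separable polynomial `g` divides `h(X^q)` and
`deg h < deg g`, then `h = 0`. -/
theorem eq_zero_of_dvd_expand {κ : Type*} [Field κ] (p : ℕ) [hp : Fact p.Prime] [CharP κ p]
    (g : κ[X]) (hsep : g.Separable) (s : ℕ) (h : κ[X]) (hdeg : h.natDegree < g.natDegree)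
    (hdvd : g ∣ expand κ (p ^ s) h) : h = 0 := by
  classical
  have hsplit : (g.map (algebraMap κ (AlgebraicClosure κ))).Splits := IsAlgClosed.splits _
  have hcard : Fintype.card (g.rootSet (AlgebraicClosure κ)) = g.natDegree :=
    Polynomial.card_rootSet_eq_natDegree hsep hsplit
  haveI : CharP (AlgebraicClosure κ) p :=
    charP_of_injective_algebraMap (algebraMap κ (AlgebraicClosure κ)).injective p
  have hinj : Function.Injective
      (fun a : g.rootSet (AlgebraicClosure κ) => (a : AlgebraicClosure κ) ^ (p ^ s)) := by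
    intro a b hab
    exact Subtype.ext (iterateFrobenius_inj (AlgebraicClosure κ) p s hab)
  have hmap : h.map (algebraMap κ (AlgebraicClosure κ)) = 0 := by
    apply Polynomial.eq_zero_of_natDegree_lt_card_of_eval_eq_zero _ hinj
    · intro a
      have ha : aeval (a : AlgebraicClosure κ) g = 0 := (mem_rootSet.mp a.2).2
      obtain ⟨u, hu⟩ := hdvd
      have h0 : aeval (a : AlgebraicClosure κ) (expand κ (p ^ s) h) = 0 := by
        rw [hu, map_mul, ha, zero_mul]
      rw [expand_aeval] at h0
      rwa [eval_map_algebraMap]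
    · rw [hcard]
      exact natDegree_map_le.trans_lt hdeg
  exact (Polynomial.map_eq_zero_iff (algebraMap κ (AlgebraicClosure κ)).injective).mp hmap

/-- The matrix of `X^(q i) mod g` over a field has nonzero determinant. -/
theorem det_ne_zero {κ : Type*} [Field κ] (p : ℕ) [hp : Fact p.Prime] [CharP κ p]
    (g : κ[X]) (hg : g.Monic) (hsep : g.Separable) (s : ℕ) (n : ℕ) (hn : g.natDegree = n) :
    (Matrix.of fun (i j : Fin n) => ((X : κ[X]) ^ (p ^ s * (i : ℕ)) %ₘ g).coeff (j : ℕ)).det ≠ 0 := by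
  classical
  have hrows : LinearIndependent κ
      (Matrix.of fun (i j : Fin n) => ((X : κ[X]) ^ (p ^ s * (i : ℕ)) %ₘ g).coeff (j : ℕ)).row := by
    rw [Fintype.linearIndependent_iff]
    intro c hc
    -- the polynomial `h = Σ c i X^i`
    have hhdeg : (∑ i : Fin n, C (c i) * (X : κ[X]) ^ (i : ℕ)).natDegree < g.natDegree ∨ n = 0 := by
      rcases Nat.eq_zero_or_pos n with h0 | hpos
      · exact Or.inr h0
      left
      rw [hn]
      refine lt_of_le_of_lt (natDegree_sum_le_of_forall_le (n := n - 1) _ _ ?_) (by omega)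
      intro i _
      exact (natDegree_C_mul_X_pow_le _ _).trans (by have := i.2; omega)
    rcases hhdeg with hhdeg | h0
    swap
    · subst h0; intro i; exact i.elim0
    have hexp : expand κ (p ^ s) (∑ i : Fin n, C (c i) * (X : κ[X]) ^ (i : ℕ)) =
        ∑ i : Fin n, C (c i) * (X : κ[X]) ^ (p ^ s * (i : ℕ)) := by
      rw [map_sum]
      refine Finset.sum_congr rfl fun i _ => ?_
      rw [map_mul, expand_C, map_pow, expand_X, ← pow_mul]
    have hmod : (expand κ (p ^ s) (∑ i : Fin n, C (c i) * (X : κ[X]) ^ (i : ℕ))) %ₘ g = 0 := by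
      rw [hexp]
      have h1 : (∑ i : Fin n, C (c i) * (X : κ[X]) ^ (p ^ s * (i : ℕ))) %ₘ g =
          ∑ i : Fin n, c i • ((X : κ[X]) ^ (p ^ s * (i : ℕ)) %ₘ g) := by
        have := map_sum (modByMonicHom g) (fun i : Fin n => C (c i) * (X : κ[X]) ^ (p ^ s * (i : ℕ)))
          Finset.univ
        simp only [modByMonicHom_apply] at this
        rw [this]
        refine Finset.sum_congr rfl fun i _ => ?_
        rw [← smul_eq_C_mul, smul_modByMonic]
      rw [h1]
      ext j
      rw [coeff_zero, finset_sum_coeff]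
      by_cases hj : j < n
      · have := congrFun hc ⟨j, hj⟩
        simp only [Finset.sum_apply, Pi.smul_apply, Matrix.row_apply, Matrix.of_apply,
          smul_eq_mul, Pi.zero_apply] at this
        simpa [coeff_smul] using this
      · push_neg at hj
        refine Finset.sum_eq_zero fun i _ => ?_
        rw [coeff_smul, coeff_eq_zero_of_degree_lt, smul_zero]
        refine lt_of_lt_of_le (degree_modByMonic_lt _ hg) ?_
        rw [degree_eq_natDegree hg.ne_zero, hn]
        exact_mod_cast hj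
    have hzero := eq_zero_of_dvd_expand p g hsep s _ hhdeg
      ((modByMonic_eq_zero_iff_dvd hg).mp hmod)
    intro i
    have := congrArg (fun P : κ[X] => P.coeff (i : ℕ)) hzero
    simp only [finset_sum_coeff, coeff_C_mul, coeff_X_pow, coeff_zero] at this
    rw [Finset.sum_eq_single i] at this
    · simpa using this
    · intro j _ hji
      rw [if_neg (fun h => hji (Fin.ext h.symm)), mul_zero]
    · intro h; exact absurd (Finset.mem_univ i) h
  have hunit := Matrix.linearIndependent_rows_iff_isUnit.mp hrows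
  exact ((Matrix.isUnit_iff_isUnit_det _).mp hunit).ne_zero

/-- The basis `1, t^q, …, t^((n-1)q)` of `A[X]/(g)`. -/
theorem exists_basis {A : Type*} [CommRing A] [IsLocalRing A] (p : ℕ) [Fact p.Prime]
    [CharP (IsLocalRing.ResidueField A) p] (g : A[X]) (hg : g.Monic) (hsep : g.Separable)
    (s : ℕ) :
    ∃ b : Module.Basis (Fin g.natDegree) A (AdjoinRoot g),
      ∀ i : Fin g.natDegree, b i = AdjoinRoot.root g ^ (p ^ s * (i : ℕ)) := by
  classical
  have hdetunit : IsUnit (Matrix.of fun (i j : Fin g.natDegree) =>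
      ((X : A[X]) ^ (p ^ s * (i : ℕ)) %ₘ g).coeff (j : ℕ)).det := by
    rw [← IsLocalRing.residue_ne_zero_iff_isUnit, RingHom.map_det]
    have hne := det_ne_zero p (g.map (IsLocalRing.residue A)) (hg.map _) hsep.map s g.natDegree
      (hg.natDegree_map _)
    have hM : (IsLocalRing.residue A).mapMatrix (Matrix.of fun (i j : Fin g.natDegree) =>
        ((X : A[X]) ^ (p ^ s * (i : ℕ)) %ₘ g).coeff (j : ℕ)) =
        Matrix.of fun (i j : Fin g.natDegree) =>
          ((X : (IsLocalRing.ResidueField A)[X]) ^ (p ^ s * (i : ℕ)) %ₘ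
            g.map (IsLocalRing.residue A)).coeff (j : ℕ) := by
      ext i j
      rw [RingHom.mapMatrix_apply, Matrix.map_apply, Matrix.of_apply, Matrix.of_apply,
        ← coeff_map, map_modByMonic _ hg, Polynomial.map_pow, map_X]
    rw [hM]
    exact hne
  have hdetunit' : IsUnit (Matrix.of fun (i j : Fin g.natDegree) =>
      ((X : A[X]) ^ (p ^ s * (i : ℕ)) %ₘ g).coeff (j : ℕ)).transpose.det := by
    rw [Matrix.det_transpose]; exact hdetunit
  have hpb : ∀ j : Fin g.natDegree,
      AdjoinRoot.powerBasisAux' hg j = AdjoinRoot.root g ^ (j : ℕ) :=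
    fun j => (AdjoinRoot.powerBasis' hg).basis_eq_pow j
  refine ⟨(AdjoinRoot.powerBasisAux' hg).map
    (Matrix.toLinearEquiv (AdjoinRoot.powerBasisAux' hg) _ hdetunit'), fun i => ?_⟩
  rw [Module.Basis.map_apply]
  show Matrix.toLin (AdjoinRoot.powerBasisAux' hg) (AdjoinRoot.powerBasisAux' hg) _
    (AdjoinRoot.powerBasisAux' hg i) = _
  rw [Matrix.toLin_self]
  simp only [Matrix.transpose_apply, Matrix.of_apply, hpb]
  have hg1 : g ≠ 1 := by
    rintro rfl
    have := i.2
    simp at this
  have hdeg : ((X : A[X]) ^ (p ^ s * (i : ℕ)) %ₘ g).natDegree < g.natDegree :=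
    natDegree_modByMonic_lt _ hg hg1
  have h1 : AdjoinRoot.mk g ((X : A[X]) ^ (p ^ s * (i : ℕ)) %ₘ g) =
      ∑ j : Fin g.natDegree, ((X : A[X]) ^ (p ^ s * (i : ℕ)) %ₘ g).coeff (j : ℕ) •
        AdjoinRoot.root g ^ (j : ℕ) := by
    rw [← AdjoinRoot.aeval_eq, aeval_eq_sum_range' hdeg,
      Fin.sum_univ_eq_sum_range (fun j => ((X : A[X]) ^ (p ^ s * (i : ℕ)) %ₘ g).coeff j •
        AdjoinRoot.root g ^ j)]
  rw [← h1]
  have h2 : AdjoinRoot.mk g ((X : A[X]) ^ (p ^ s * (i : ℕ)) %ₘ g) =
      AdjoinRoot.mk g ((X : A[X]) ^ (p ^ s * (i : ℕ))) := by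
    rw [AdjoinRoot.mk_eq_mk]
    refine ⟨-((X : A[X]) ^ (p ^ s * (i : ℕ)) /ₘ g), ?_⟩
    have := modByMonic_add_div ((X : A[X]) ^ (p ^ s * (i : ℕ))) g
    linear_combination this
  rw [h2, map_pow, AdjoinRoot.mk_X]

end Groth.Agent.Lib.Helper68.SepPowBasis
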