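import Groth.Agent.Lib.Helper68.NeronExt
import Mathlib.AlgebraicGeometry.Limits
import Mathlib.AlgebraicGeometry.Gluing

/-!
# Morphisms into a coproduct of schemes lying over a coproduct
-/

universe u

namespace Groth.Agent.Lib.Helper68

open CategoryTheory AlgebraicGeometry Limits

variable {I : Type u} (B N : I → Scheme.{u}) (f : ∀ i, N i ⟶ B i)

/-- A morphism to `∐ N` whose image in `∐ B` lies in the component `B i` factors through `N i`. -/
theorem sigma_map_factor {T : Scheme.{u}} (i : I) (x : T ⟶ ∐ N) (y : T ⟶ B i)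
    (h : x ≫ Limits.Sigma.map f = y ≫ Limits.Sigma.ι B i) :
    ∃ x' : T ⟶ N i, x' ≫ Limits.Sigma.ι N i = x ∧ x' ≫ f i = y := by
  have hr : Set.range x ⊆ Set.range (Limits.Sigma.ι N i) := by
    rintro _ ⟨t, rfl⟩
    obtain ⟨j, n, hn⟩ := (sigmaOpenCover N).exists_eq (x t)
    have hn' : Limits.Sigma.ι N j n = x t := hn
    have h1 : (Limits.Sigma.ι B j) (f j n) = (Limits.Sigma.ι B i) (y t) := by
      have e1 : (Limits.Sigma.ι N j ≫ Limits.Sigma.map f) n = (x ≫ Limits.Sigma.map f) t := by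
        rw [Scheme.Hom.comp_apply, Scheme.Hom.comp_apply, hn']
      rw [Limits.Sigma.ι_map, h] at e1
      exact e1
    obtain ⟨rfl⟩ : j = i := by
      have := (sigmaι_eq_iff B j i _ _).mp h1
      exact congrArg Sigma.fst this
    exact ⟨n, hn'⟩
  refine ⟨IsOpenImmersion.lift (Limits.Sigma.ι N i) x hr, IsOpenImmersion.lift_fac _ _ _, ?_⟩
  rw [← cancel_mono (Limits.Sigma.ι B i), Category.assoc, ← Limits.Sigma.ι_map,
    IsOpenImmersion.lift_fac_assoc, h]

end Groth.Agent.Lib.Helper68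

namespace Groth.Agent.Lib.Helper68

open CategoryTheory AlgebraicGeometry Limits

variable {I : Type u} (B N : I → Scheme.{u}) (f : ∀ i, N i ⟶ B i)

/-- The extension property for a component follows from the one for the coproduct. -/
theorem extProp_component_of_sigma (i : I) (Y : Over (B i)) {W : Scheme.{u}} (a : W ⟶ Y.left)
    (h : ExtProp (Over.mk (Y.hom ≫ Limits.Sigma.ι B i)) (Over.mk (Limits.Sigma.map f))
      (show W ⟶ (Over.mk (Y.hom ≫ Limits.Sigma.ι B i)).left from a)) :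
    ExtProp Y (Over.mk (f i)) a := by
  intro φ hφ
  have hφ' : φ ≫ f i = a ≫ Y.hom := hφ
  obtain ⟨g, ⟨hg1, hg2⟩, hg3⟩ := h (φ ≫ Limits.Sigma.ι N i) (by
    show (φ ≫ Limits.Sigma.ι N i) ≫ Limits.Sigma.map f = a ≫ Y.hom ≫ Limits.Sigma.ι B i
    rw [Category.assoc, Limits.Sigma.ι_map, ← Category.assoc, hφ', Category.assoc])
  have hg1' : g ≫ Limits.Sigma.map f = Y.hom ≫ Limits.Sigma.ι B i := hg1
  have hg2' : a ≫ g = φ ≫ Limits.Sigma.ι N i := hg2
  obtain ⟨g', hg'1, hg'2⟩ := sigma_map_factor B N f i g Y.hom hg1'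
  refine ⟨g', ⟨hg'2, ?_⟩, ?_⟩
  · rw [← cancel_mono (Limits.Sigma.ι N i), Category.assoc, hg'1, hg2']
  · rintro g'' ⟨h1, h2⟩
    have h1' : g'' ≫ f i = Y.hom := h1
    rw [← cancel_mono (Limits.Sigma.ι N i), hg'1]
    apply hg3
    refine ⟨?_, ?_⟩
    · show (g'' ≫ Limits.Sigma.ι N i) ≫ Limits.Sigma.map f = Y.hom ≫ Limits.Sigma.ι B i
      rw [Category.assoc, Limits.Sigma.ι_map, ← Category.assoc, h1']
    · show a ≫ g'' ≫ Limits.Sigma.ι N i = φ ≫ Limits.Sigma.ι N i
      rw [← Category.assoc, h2]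

/-- The extension property for the coproduct follows from the ones for the components. -/
theorem extProp_sigma_of_components (Y : Over (∐ B)) {W : Scheme.{u}} (a : W ⟶ Y.left)
    (h : ∀ i, ExtProp (Over.mk (pullback.snd Y.hom (Limits.Sigma.ι B i))) (Over.mk (f i))
      (show pullback a (pullback.fst Y.hom (Limits.Sigma.ι B i)) ⟶
          (Over.mk (pullback.snd Y.hom (Limits.Sigma.ι B i))).left from
        pullback.snd a (pullback.fst Y.hom (Limits.Sigma.ι B i)))) :
    ExtProp Y (Over.mk (Limits.Sigma.map f)) a := by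
  intro φ hφ
  have hφ' : φ ≫ Limits.Sigma.map f = a ≫ Y.hom := hφ
  let 𝒱 : Y.left.OpenCover := (sigmaOpenCover B).pullback₁ Y.hom
  let 𝒲 : W.OpenCover := 𝒱.pullback₁ a
  -- abbreviations
  let p : ∀ i, pullback Y.hom (Limits.Sigma.ι B i) ⟶ Y.left := fun i =>
    pullback.fst Y.hom (Limits.Sigma.ι B i)
  let s : ∀ i, pullback Y.hom (Limits.Sigma.ι B i) ⟶ B i := fun i =>
    pullback.snd Y.hom (Limits.Sigma.ι B i)
  let r : ∀ i, pullback a (p i) ⟶ W := fun i => pullback.fst a (p i)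
  let q : ∀ i, pullback a (p i) ⟶ pullback Y.hom (Limits.Sigma.ι B i) := fun i =>
    pullback.snd a (p i)
  have hps : ∀ i, p i ≫ Y.hom = s i ≫ Limits.Sigma.ι B i := fun i => pullback.condition
  have hrq : ∀ i, r i ≫ a = q i ≫ p i := fun i => pullback.condition
  -- the components of `φ`
  have hφi : ∀ i, ∃ φi : pullback a (p i) ⟶ N i,
      φi ≫ Limits.Sigma.ι N i = r i ≫ φ ∧ φi ≫ f i = q i ≫ s i := fun i =>
    sigma_map_factor B N f i (r i ≫ φ) (q i ≫ s i) (by
      rw [Category.assoc, hφ', ← Category.assoc, hrq, Category.assoc, hps, Category.assoc])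
  choose φi hφi1 hφi2 using hφi
  have hhi : ∀ i, ∃! hi : pullback Y.hom (Limits.Sigma.ι B i) ⟶ N i,
      hi ≫ f i = s i ∧ q i ≫ hi = φi i := fun i => h i (φi i) (hφi2 i)
  choose hi hhi1' hhi2 using fun i => (hhi i).exists
  -- glue
  have hcompat : ∀ i j : I, pullback.fst (p i) (p j) ≫ (hi i ≫ Limits.Sigma.ι N i) =
      pullback.snd (p i) (p j) ≫ (hi j ≫ Limits.Sigma.ι N j) := by
    intro i j
    by_cases hij : i = j
    · subst hij
      rw [fst_eq_snd_of_mono_eq]
    · have hempty : IsEmpty ↑(pullback (p i) (p j)) := by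
        refine isEmpty_of_commSq_sigmaι_of_ne (g := B)
          (a := pullback.fst (p i) (p j) ≫ s i) (b := pullback.snd (p i) (p j) ≫ s j)
          ⟨?_⟩ hij
        have hc : pullback.fst (p i) (p j) ≫ p i = pullback.snd (p i) (p j) ≫ p j :=
          pullback.condition
        rw [Category.assoc, ← hps, ← Category.assoc, hc, Category.assoc, hps, Category.assoc]
      exact (isInitialOfIsEmpty).hom_ext _ _
  let g : Y.left ⟶ ∐ N := 𝒱.glueMorphisms (fun i => hi i ≫ Limits.Sigma.ι N i) hcompat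
  have hg : ∀ i, p i ≫ g = hi i ≫ Limits.Sigma.ι N i := fun i =>
    𝒱.ι_glueMorphisms _ hcompat i
  refine ⟨g, ⟨?_, ?_⟩, ?_⟩
  · show g ≫ Limits.Sigma.map f = Y.hom
    apply 𝒱.hom_ext
    intro i
    show p i ≫ g ≫ Limits.Sigma.map f = p i ≫ Y.hom
    rw [← Category.assoc, hg, Category.assoc, Limits.Sigma.ι_map, ← Category.assoc, hhi1', hps]
  · apply 𝒲.hom_ext
    intro i
    show r i ≫ a ≫ g = r i ≫ φ
    rw [← Category.assoc, hrq, Category.assoc, hg, ← Category.assoc, hhi2, hφi1]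
  · rintro g' ⟨hg'1, hg'2⟩
    have hg'1' : g' ≫ Limits.Sigma.map f = Y.hom := hg'1
    apply 𝒱.hom_ext
    intro i
    show p i ≫ g' = p i ≫ g
    obtain ⟨g'i, hg'i1, hg'i2⟩ := sigma_map_factor B N f i (p i ≫ g') (s i) (by
      rw [Category.assoc, hg'1', hps])
    have : g'i = hi i := by
      apply (hhi i).unique ⟨hg'i2, ?_⟩ ⟨hhi1' i, hhi2 i⟩
      rw [← cancel_mono (Limits.Sigma.ι N i), Category.assoc, hg'i1, ← Category.assoc, ← hrq,
        Category.assoc, hg'2, hφi1]
    rw [hg, ← this, hg'i1]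

end Groth.Agent.Lib.Helper68
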