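import Mathlib
import Groth.Prelude.Def_CAlg
import Groth.Agent.Lib.Helper68.SliceAlg
import Groth.Agent.Lib.Helper29.QuasiUnmixed

/-!
# Regular sequences inside the image of an ideal, Cohen–Macaulay case (helper68)

`B` a Cohen–Macaulay local ring, `τ : A →+* B`, `m` an ideal of `A` with `τ(m) ⊆ 𝔪_B`.  Then there are
`f₁, …, f_r ∈ m` whose images form a regular sequence of `B` with
`dim B/(τ f₁, …, τ f_r) = dim B/τ(m)B`.
-/

set_option autoImplicit false
set_option linter.style.haveILetI false

namespace Groth.Agent.Lib.Helper68.SliceAlg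

universe u

open RingTheory.Sequence IsLocalRing

variable {A B : Type u} [CommRing A] [CommRing B] [hCM : LocCoh.IsCohenMacaulayLocalRing B]

/-- In a CM local ring of dimension `n`, a minimal prime `q` of an ideal generated by `k` elements
has `dim B/q ≥ n - k`. -/
theorem le_ringKrullDim_quotient_of_mem_minimalPrimes (xs : List B) (n : ℕ)
    (hn : ringKrullDim B = n) (q : Ideal B) (hq : q ∈ (Ideal.ofList xs).minimalPrimes) :
    (n : WithBot ℕ∞) ≤ ringKrullDim (B ⧸ q) + (xs.length : WithBot ℕ∞) := by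
  haveI : q.IsPrime := hq.1.1
  have h1 := Groth.Agent.Lib.Helper29.ringKrullDim_quotient_add_height_of_isCohenMacaulayLocalRing B q
  have h2 : q.height ≤ xs.length := by
    classical
    have hfin : {x | x ∈ xs}.Finite := List.finite_toSet xs
    have h3 := Ideal.height_le_card_of_mem_minimalPrimes_span hfin hq
    refine h3.trans ?_
    have : {x | x ∈ xs}.ncard ≤ xs.length := by
      have : {x | x ∈ xs} = (xs.toFinset : Set B) := by ext; simp
      rw [this, Set.ncard_coe_finset]
      exact List.toFinset_card_le xs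
    exact_mod_cast this
  rw [← hn, ← h1]
  gcongr
  exact_mod_cast h2

theorem exists_list_dim_cm (τ : A →+* B) (m : Ideal A) (hm : m.map τ ≤ maximalIdeal B)
    (n δ : ℕ) (hn : ringKrullDim B = n) (hδ : ringKrullDim (B ⧸ m.map τ) = δ) :
    ∀ k, k + δ ≤ n → ∃ fs : List A, fs.length = k ∧ (∀ f ∈ fs, f ∈ m) ∧
      ringKrullDim (B ⧸ Ideal.ofList (fs.map τ)) + (k : WithBot ℕ∞) = n := by
  classical
  intro k
  induction k with
  | zero =>
    intro _
    refine ⟨[], rfl, by simp, ?_⟩
    have h0 : Ideal.ofList (([] : List A).map τ) = ⊥ := by simp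
    rw [h0]
    simp only [Nat.cast_zero, add_zero]
    rw [← hn]
    exact ringKrullDim_eq_of_ringEquiv (RingEquiv.quotientBot B)
  | succ k ih =>
    intro hk
    obtain ⟨fs, hlen, hmem, hdim⟩ := ih (by omega)
    set I : Ideal B := Ideal.ofList (fs.map τ) with hI
    have hfin : I.minimalPrimes.Finite := Ideal.finite_minimalPrimes_of_isNoetherianRing B I
    -- no minimal prime of `I` contains `τ(m)`
    have hno : ∀ q ∈ I.minimalPrimes, ¬ m ≤ q.comap τ := by
      intro q hq hmq
      haveI : q.IsPrime := hq.1.1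
      have hle : m.map τ ≤ q := Ideal.map_le_iff_le_comap.mpr hmq
      have h1 := le_ringKrullDim_quotient_of_mem_minimalPrimes (fs.map τ) n hn q hq
      rw [List.length_map, hlen] at h1
      have h2 : ringKrullDim (B ⧸ q) ≤ ringKrullDim (B ⧸ m.map τ) :=
        ringKrullDim_le_of_surjective (Ideal.Quotient.factor hle)
          (Ideal.Quotient.factor_surjective hle)
      rw [hδ] at h2
      have h3 : (n : WithBot ℕ∞) ≤ (δ : WithBot ℕ∞) + (k : WithBot ℕ∞) :=
        h1.trans (add_le_add_left h2 _)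
      have h4 : n ≤ δ + k := by exact_mod_cast h3
      omega
    have havoid : ¬ ((m : Set A) ⊆ ⋃ q ∈ (hfin.toFinset : Set (Ideal B)), (q.comap τ : Set A)) := by
      intro hsub
      have := (Ideal.subset_union_prime (s := hfin.toFinset) (f := fun q : Ideal B => q.comap τ)
        (maximalIdeal B) (maximalIdeal B) (fun q hq _ _ => by
          have hq' : q ∈ I.minimalPrimes := (Set.Finite.mem_toFinset hfin).mp hq
          haveI : q.IsPrime := hq'.1.1
          exact Ideal.comap_isPrime τ q) (I := m)).mp hsub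
      obtain ⟨q, hq, hle⟩ := this
      exact hno q ((Set.Finite.mem_toFinset hfin).mp hq) hle
    rw [Set.not_subset] at havoid
    obtain ⟨f, hfm, hf⟩ := havoid
    have hf' : ∀ q ∈ I.minimalPrimes, τ f ∉ q := by
      intro q hq hfq
      apply hf
      simp only [Set.mem_iUnion]
      exact ⟨q, (Set.Finite.mem_toFinset hfin).mpr hq, hfq⟩
    refine ⟨fs ++ [f], by simp [hlen], ?_, ?_⟩
    · intro g hg
      rcases List.mem_append.mp hg with h | h
      · exact hmem g h
      · rw [List.mem_singleton] at h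
        rw [h]
        exact hfm
    · have hI' : Ideal.ofList ((fs ++ [f]).map τ) = I ⊔ Ideal.span {τ f} := by
        rw [List.map_append, Ideal.ofList_append, List.map_singleton, Ideal.ofList_singleton]
      have hx : τ f ∈ maximalIdeal B := hm (Ideal.mem_map_of_mem τ hfm)
      have key := Groth.Agent.Lib.Helper79.LiftSop.ringKrullDim_quotient_sup_span_add_one I
        (Ideal.ofList ((fs ++ [f]).map τ)) (τ f) hI' hx hf'
      rw [Nat.cast_succ, add_comm (k : WithBot ℕ∞) 1, ← add_assoc, key, hdim]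

/-- A sequence in the maximal ideal of a CM local ring cutting the dimension down by its length is
regular. -/
theorem isRegular_of_dim (xs : List B) (hxs : ∀ x ∈ xs, x ∈ maximalIdeal B)
    (hdim : ringKrullDim (B ⧸ Ideal.ofList xs) + (xs.length : WithBot ℕ∞) = ringKrullDim B) :
    IsRegular B xs := by
  have hCM' : LocCoh.IsCohenMacaulayModule B B :=
    LocCoh.IsCohenMacaulayLocalRing.supportDim_eq_depth
  have hw : IsWeaklyRegular B xs := by
    rw [Groth.Agent.Lib.Helper29.isWeaklyRegular_iff_supportDim_of_isCohenMacaulayModule B B hCM'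
      xs hxs]
    have hofL : (Ideal.ofList xs • (⊤ : Submodule B B)) = Ideal.ofList xs := by
      rw [smul_eq_mul, Ideal.mul_top]
    rw [Module.supportDim_eq_of_equiv (Submodule.quotEquivOfEq _ _ hofL),
      Module.supportDim_quotient_eq_ringKrullDim, Module.supportDim_self_eq_ringKrullDim]
    exact hdim
  refine ⟨hw, ?_⟩
  intro htop
  have hle : Ideal.ofList xs ≤ maximalIdeal B := by
    rw [Ideal.ofList, Ideal.span_le]
    intro r hr
    exact hxs r hr
  have h2 : (⊤ : Submodule B B) ≤ maximalIdeal B • (⊤ : Submodule B B) :=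
    htop.le.trans (Submodule.smul_mono_left hle)
  rw [smul_eq_mul, Ideal.mul_top] at h2
  exact (maximalIdeal.isMaximal B).ne_top (eq_top_iff.mpr h2)

theorem exists_nat_ringKrullDim_eq (R : Type u) [CommRing R] [IsNoetherianRing R] [IsLocalRing R] :
    ∃ n : ℕ, ringKrullDim R = n := by
  have hlt : ringKrullDim R < ⊤ := ringKrullDim_lt_top
  have hge : (0 : WithBot ℕ∞) ≤ ringKrullDim R := ringKrullDim_nonneg_of_nontrivial
  induction hd : ringKrullDim R with
  | bot => rw [hd] at hge; exact absurd hge (by simp)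
  | coe a =>
    induction a with
    | top => rw [hd] at hlt; exact absurd hlt (lt_irrefl _)
    | coe a => exact ⟨a, rfl⟩

/-- Elements of `m` whose images form a regular sequence of the Cohen–Macaulay local ring `B`
cutting the dimension down to that of `B / τ(m) B`. -/
theorem exists_regular_in_image (τ : A →+* B) (m : Ideal A) (hm : m.map τ ≤ maximalIdeal B) :
    ∃ fs : List A, (∀ f ∈ fs, f ∈ m) ∧ IsRegular B (fs.map τ) ∧
      ringKrullDim (B ⧸ Ideal.ofList (fs.map τ)) = ringKrullDim (B ⧸ m.map τ) := by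
  obtain ⟨n, hn⟩ := exists_nat_ringKrullDim_eq B
  have hne : m.map τ ≠ ⊤ := fun h => (maximalIdeal.isMaximal B).ne_top (top_le_iff.mp (h ▸ hm))
  haveI : Nontrivial (B ⧸ m.map τ) := Ideal.Quotient.nontrivial_iff.mpr hne
  haveI : IsLocalRing (B ⧸ m.map τ) :=
    IsLocalRing.of_surjective' (Ideal.Quotient.mk _) Ideal.Quotient.mk_surjective
  obtain ⟨δ, hδ⟩ := exists_nat_ringKrullDim_eq (B ⧸ m.map τ)
  have hδn : δ ≤ n := by
    have : ringKrullDim (B ⧸ m.map τ) ≤ ringKrullDim B :=
      ringKrullDim_le_of_surjective (Ideal.Quotient.mk _) Ideal.Quotient.mk_surjective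
    rw [hδ, hn] at this
    exact_mod_cast this
  obtain ⟨fs, hlen, hmem, hdim⟩ := exists_list_dim_cm τ m hm n δ hn hδ (n - δ) (by omega)
  have hmem' : ∀ x ∈ fs.map τ, x ∈ maximalIdeal B := by
    intro x hx
    obtain ⟨f, hf, rfl⟩ := List.mem_map.mp hx
    exact hm (Ideal.mem_map_of_mem τ (hmem f hf))
  refine ⟨fs, hmem, isRegular_of_dim (fs.map τ) hmem' ?_, ?_⟩
  · rw [List.length_map, hlen, hn]
    exact hdim
  · rw [hδ]
    have hle : Ideal.ofList (fs.map τ) ≤ maximalIdeal B := by
      rw [Ideal.ofList, Ideal.span_le]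
      intro r hr
      exact hmem' r hr
    have hne' : Ideal.ofList (fs.map τ) ≠ ⊤ :=
      fun h => (maximalIdeal.isMaximal B).ne_top (top_le_iff.mp (h ▸ hle))
    haveI : Nontrivial (B ⧸ Ideal.ofList (fs.map τ)) := Ideal.Quotient.nontrivial_iff.mpr hne'
    haveI : IsLocalRing (B ⧸ Ideal.ofList (fs.map τ)) :=
      IsLocalRing.of_surjective' (Ideal.Quotient.mk _) Ideal.Quotient.mk_surjective
    obtain ⟨d, hd⟩ := exists_nat_ringKrullDim_eq (B ⧸ Ideal.ofList (fs.map τ))
    rw [hd] at hdim ⊢
    have : d + (n - δ) = n := by exact_mod_cast hdim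
    have : d = δ := by omega
    rw [this]

/-- If `dim B/τ(m)B < dim B` there is an element of `m` whose image is `B`-regular, and it cuts
the dimension down by one. -/
theorem exists_regular_elt_in_image (τ : A →+* B) (m : Ideal A) (hm : m.map τ ≤ maximalIdeal B)
    (hlt : ringKrullDim (B ⧸ m.map τ) < ringKrullDim B) :
    ∃ f ∈ m, IsRegular B ([f].map τ) ∧
      ringKrullDim (B ⧸ Ideal.ofList ([f].map τ)) + 1 = ringKrullDim B := by
  obtain ⟨n, hn⟩ := exists_nat_ringKrullDim_eq B
  have hne : m.map τ ≠ ⊤ := fun h => (maximalIdeal.isMaximal B).ne_top (top_le_iff.mp (h ▸ hm))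
  haveI : Nontrivial (B ⧸ m.map τ) := Ideal.Quotient.nontrivial_iff.mpr hne
  haveI : IsLocalRing (B ⧸ m.map τ) :=
    IsLocalRing.of_surjective' (Ideal.Quotient.mk _) Ideal.Quotient.mk_surjective
  obtain ⟨δ, hδ⟩ := exists_nat_ringKrullDim_eq (B ⧸ m.map τ)
  have hδn : δ < n := by
    rw [hδ, hn] at hlt
    exact_mod_cast hlt
  obtain ⟨fs, hlen, hmem, hdim⟩ := exists_list_dim_cm τ m hm n δ hn hδ 1 (by omega)
  obtain ⟨f, rfl⟩ := List.length_eq_one_iff.mp hlen
  have hfm : f ∈ m := hmem f (by simp)
  have hmem' : ∀ x ∈ [f].map τ, x ∈ maximalIdeal B := by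
    intro x hx
    obtain ⟨f', hf', rfl⟩ := List.mem_map.mp hx
    exact hm (Ideal.mem_map_of_mem τ (hmem f' hf'))
  refine ⟨f, hfm, isRegular_of_dim ([f].map τ) hmem' ?_, ?_⟩
  · rw [List.length_map, hn]
    exact hdim
  · rw [hn]
    exact_mod_cast hdim

end Groth.Agent.Lib.Helper68.SliceAlg
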