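import Mathlib
import Groth.Agent.Lib.Helper68.SliceLocal2
import Groth.Agent.Lib.Helper22.FibSliceReg

/-!
# Slicing with prescribed equations, flat version (helper68)

As `slice_prescribed`, but without the Artinian hypothesis: only flatness and finite presentation
of the slice are obtained.
-/

set_option autoImplicit false
set_option linter.style.haveILetI false

open AlgebraicGeometry CategoryTheory Limits

namespace Groth.Agent.Lib.Helper68.SliceLocal

universe u

open RingTheory.Sequence Groth.Agent.Lib.Helper22.FibSliceMod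
open Groth.Agent.Lib.Helper22.FibSliceCM Groth.Agent.Lib.Helper22.FibSliceQF
open Groth.Agent.Lib.Helper22.FibSliceMain Groth.Agent.Lib.Helper22.FibSliceReg

set_option backward.isDefEq.respectTransparency false in
theorem local_data_prescribed_flat {X S T : Scheme.{u}} (f : X ⟶ S) [LocallyOfFinitePresentation f]
    (t : X ⟶ T) (x : X) (hflat : (f.stalkMap x).hom.Flat)
    (VT : T.Opens) (hxT : t x ∈ VT) (fs : List Γ(T, VT))
    (hreg : IsRegular (X.presheaf.stalk x ⧸
      Ideal.map (f.stalkMap x).hom (IsLocalRing.maximalIdeal (S.presheaf.stalk (f x))))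
      (fs.map (tauHom f t x VT hxT)))
    (V : S.Opens) (hV : IsAffineOpen V) (U₀ : X.Opens) (hU₀ : IsAffineOpen U₀)
    (e : U₀ ≤ f ⁻¹ᵁ V) (eT : U₀ ≤ t ⁻¹ᵁ VT) (hx : x ∈ U₀) :
    letI : Algebra Γ(S, V) Γ(X, U₀) := (f.appLE V U₀ e).hom.toAlgebra
    (∀ b ∈ fs.map (t.appLE VT U₀ eT).hom, b ∈ (hU₀.primeIdealOf ⟨x, hx⟩).asIdeal) ∧
    Good Γ(S, V) (hU₀.primeIdealOf ⟨x, hx⟩).asIdeal (fs.map (t.appLE VT U₀ eT).hom) Γ(X, U₀) := by
  set hs₀ : List Γ(X, U₀) := fs.map (t.appLE VT U₀ eT).hom with hhs₀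
  obtain ⟨hfl, hJ⟩ :=
    Groth.Agent.Lib.Helper22.FibSliceScheme.local_algebra f x hflat V hV U₀ hU₀ e hx
  letI algAB : Algebra Γ(S, V) Γ(X, U₀) := (f.appLE V U₀ e).hom.toAlgebra
  letI algBL : Algebra Γ(X, U₀) (X.presheaf.stalk x) := (X.presheaf.germ U₀ x hx).hom.toAlgebra
  letI algAL : Algebra Γ(S, V) (X.presheaf.stalk x) :=
    ((X.presheaf.germ U₀ x hx).hom.comp (f.appLE V U₀ e).hom).toAlgebra
  haveI : IsScalarTower Γ(S, V) Γ(X, U₀) (X.presheaf.stalk x) :=
    IsScalarTower.of_algebraMap_eq (fun _ => rfl)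
  haveI : Algebra.FinitePresentation Γ(S, V) Γ(X, U₀) :=
    RingHom.finitePresentation_algebraMap.mp (f.finitePresentation_appLE hV hU₀ e)
  haveI hloc : IsLocalization.AtPrime (X.presheaf.stalk x) (hU₀.primeIdealOf ⟨x, hx⟩).asIdeal :=
    hU₀.isLocalization_stalk ⟨x, hx⟩
  haveI : Module.Flat Γ(S, V) (X.presheaf.stalk x) := hfl
  set J := Ideal.map (f.stalkMap x).hom (IsLocalRing.maximalIdeal (S.presheaf.stalk (f x))) with hJdef
  have hlist : (hs₀.map (algebraMap Γ(X, U₀) (X.presheaf.stalk x))).map (Ideal.Quotient.mk J) =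
      fs.map (tauHom f t x VT hxT) := by
    rw [hhs₀, List.map_map, List.map_map]
    apply List.map_congr_left
    intro a _
    simp only [Function.comp_apply, tauHom, RingHom.comp_apply]
    congr 1
    show (X.presheaf.germ U₀ x hx).hom ((t.appLE VT U₀ eT).hom a) = _
    rw [Scheme.Hom.appLE, CommRingCat.hom_comp, RingHom.comp_apply]
    exact TopCat.Presheaf.germ_res_apply X.presheaf (homOfLE eT) x hx _
  have h1 := algebra_data_reg ((hU₀.primeIdealOf ⟨x, hx⟩).asIdeal.comap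
      (algebraMap Γ(S, V) Γ(X, U₀))) J hJ hs₀
    (by rw [hlist]; exact hreg.toIsWeaklyRegular)
  refine ⟨?_, ?_⟩
  · intro b hb
    have hb2 : Ideal.Quotient.mk J (algebraMap Γ(X, U₀) (X.presheaf.stalk x) b) ∈
        fs.map (tauHom f t x VT hxT) := by
      rw [← hlist]
      exact List.mem_map_of_mem (List.mem_map_of_mem hb)
    -- elements of a regular sequence are non-units
    have hb3 : ¬ IsUnit (Ideal.Quotient.mk J (algebraMap Γ(X, U₀) (X.presheaf.stalk x) b)) := by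
      intro hu
      apply hreg.top_ne_smul
      symm
      rw [smul_eq_mul, Ideal.mul_top]
      exact Ideal.eq_top_of_isUnit_mem _ (Ideal.subset_span hb2) hu
    have hb4 : algebraMap Γ(X, U₀) (X.presheaf.stalk x) b ∈
        IsLocalRing.maximalIdeal (X.presheaf.stalk x) := by
      rw [IsLocalRing.mem_maximalIdeal, mem_nonunits_iff]
      exact fun hu => hb3 (hu.map _)
    exact (IsLocalization.AtPrime.to_map_mem_maximal_iff (X.presheaf.stalk x)
      (hU₀.primeIdealOf ⟨x, hx⟩).asIdeal b).mp hb4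
  · exact good_of_fibre (hU₀.primeIdealOf ⟨x, hx⟩).asIdeal hs₀ Γ(X, U₀) (X.presheaf.stalk x)
      (Algebra.linearMap Γ(X, U₀) (X.presheaf.stalk x)) h1

set_option backward.isDefEq.respectTransparency false in
/-- Slicing by prescribed equations, flat version: if `f` is flat at `x` and the images of `fs`
(sections over an affine open `VT` of `T`, pulled back along `t`) in the local ring of the fibre
form a regular sequence, then on an affine open neighbourhood `D` of `x` the closed subscheme cut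
out by the pullbacks of `fs` is flat and lfp over `S`. -/
theorem slice_prescribed_flat {X S T : Scheme.{u}} (f : X ⟶ S) [LocallyOfFinitePresentation f]
    (t : X ⟶ T) (x : X) (hflat : (f.stalkMap x).hom.Flat)
    (VT : T.Opens) (hxT : t x ∈ VT) (fs : List Γ(T, VT))
    (hreg : IsRegular (X.presheaf.stalk x ⧸
      Ideal.map (f.stalkMap x).hom (IsLocalRing.maximalIdeal (S.presheaf.stalk (f x))))
      (fs.map (tauHom f t x VT hxT))) :
    ∃ (D : X.Opens) (hD : IsAffineOpen D) (hxD : x ∈ D) (hDT : D ≤ t ⁻¹ᵁ VT),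
      Ideal.ofList (fs.map (t.appLE VT D hDT).hom) ≤ (hD.primeIdealOf ⟨x, hxD⟩).asIdeal ∧
      Flat (Spec.map (CommRingCat.ofHom (Ideal.Quotient.mk
        (Ideal.ofList (fs.map (t.appLE VT D hDT).hom)))) ≫ hD.fromSpec ≫ f) ∧
      LocallyOfFinitePresentation (Spec.map (CommRingCat.ofHom (Ideal.Quotient.mk
        (Ideal.ofList (fs.map (t.appLE VT D hDT).hom)))) ≫ hD.fromSpec ≫ f) := by
  -- affine charts
  obtain ⟨_, ⟨VS, hVS, rfl⟩, hfxV, -⟩ := S.isBasis_affineOpens.exists_subset_of_mem_open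
    (Set.mem_univ (f x)) isOpen_univ
  obtain ⟨_, ⟨U₀, hU₀, rfl⟩, hx, hUW⟩ := X.isBasis_affineOpens.exists_subset_of_mem_open
    (show x ∈ ((f ⁻¹ᵁ VS) ⊓ (t ⁻¹ᵁ VT) : X.Opens) from ⟨hfxV, hxT⟩) ((f ⁻¹ᵁ VS) ⊓ (t ⁻¹ᵁ VT)).2
  have e : U₀ ≤ f ⁻¹ᵁ VS := fun y hy => (hUW hy).1
  have eT : U₀ ≤ t ⁻¹ᵁ VT := fun y hy => (hUW hy).2
  obtain ⟨hmem, hgood⟩ :=
    local_data_prescribed_flat f t x hflat VT hxT fs hreg VS hVS U₀ hU₀ e eT hx
  set hs₀ : List Γ(X, U₀) := fs.map (t.appLE VT U₀ eT).hom with hhs₀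
  letI algAB : Algebra Γ(S, VS) Γ(X, U₀) := (f.appLE VS U₀ e).hom.toAlgebra
  haveI : Algebra.FinitePresentation Γ(S, VS) Γ(X, U₀) :=
    RingHom.finitePresentation_algebraMap.mp (f.finitePresentation_appLE hVS hU₀ e)
  obtain ⟨g, hgq, hgoodU⟩ := good_open hs₀ Γ(X, U₀) (hU₀.primeIdealOf ⟨x, hx⟩).asIdeal hgood
  have hUg : IsAffineOpen (X.basicOpen g) := hU₀.basicOpen g
  have hxg : x ∈ X.basicOpen g := by
    have h1 : hU₀.primeIdealOf ⟨x, hx⟩ ∈ (PrimeSpectrum.basicOpen g : Set _) := hgq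
    have h2 : hU₀.primeIdealOf ⟨x, hx⟩ ∈ hU₀.fromSpec ⁻¹ᵁ X.basicOpen g := by
      rw [hU₀.fromSpec_preimage_basicOpen]
      exact h1
    have h3 : hU₀.fromSpec (hU₀.primeIdealOf ⟨x, hx⟩) ∈ X.basicOpen g := h2
    rwa [hU₀.fromSpec_primeIdealOf ⟨x, hx⟩] at h3
  have e' : X.basicOpen g ≤ f ⁻¹ᵁ VS := (X.basicOpen_le g).trans e
  have eT' : X.basicOpen g ≤ t ⁻¹ᵁ VT := (X.basicOpen_le g).trans eT
  letI algAC : Algebra Γ(S, VS) Γ(X, X.basicOpen g) :=
    (f.appLE VS (X.basicOpen g) e').hom.toAlgebra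
  haveI : IsScalarTower Γ(S, VS) Γ(X, U₀) Γ(X, X.basicOpen g) :=
    IsScalarTower.of_algebraMap_eq (fun a => by
      show (f.appLE VS (X.basicOpen g) e').hom a =
        (X.presheaf.map (homOfLE (X.basicOpen_le g)).op).hom ((f.appLE VS U₀ e).hom a)
      rw [← Scheme.Hom.appLE_map f e (homOfLE (X.basicOpen_le g)).op]
      rfl)
  haveI := hU₀.isLocalization_basicOpen g
  obtain ⟨hwr, hflatC⟩ := ring_exit (A := Γ(S, VS)) g hs₀
    (fun r _ hgr => hgoodU r hgr) Γ(X, X.basicOpen g)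
  -- notation
  set hs' : List Γ(X, X.basicOpen g) := hs₀.map (algebraMap Γ(X, U₀) Γ(X, X.basicOpen g)) with hhs'
  have hhs'eq : hs' = fs.map (t.appLE VT (X.basicOpen g) eT').hom := by
    rw [hhs', hhs₀, List.map_map]
    apply List.map_congr_left
    intro a _
    simp only [Function.comp_apply]
    show (X.presheaf.map (homOfLE (X.basicOpen_le g)).op).hom ((t.appLE VT U₀ eT).hom a) = _
    rw [← Scheme.Hom.appLE_map t eT (homOfLE (X.basicOpen_le g)).op]
    rfl
  set IC : Ideal Γ(X, X.basicOpen g) := Ideal.ofList hs' with hIC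
  -- membership of the generators in the prime of `x`
  have hICle : IC ≤ (hUg.primeIdealOf ⟨x, hxg⟩).asIdeal := by
    rw [hIC, Ideal.span_le]
    intro c hc
    obtain ⟨b, hb, rfl⟩ := List.mem_map.mp hc
    rw [SetLike.mem_coe, mem_primeIdealOf_iff]
    have h1 : X.presheaf.germ (X.basicOpen g) x hxg (algebraMap Γ(X, U₀) Γ(X, X.basicOpen g) b) =
        X.presheaf.germ U₀ x hx b :=
      TopCat.Presheaf.germ_res_apply X.presheaf (homOfLE (X.basicOpen_le g)) x hxg b
    rw [h1, ← mem_primeIdealOf_iff hU₀]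
    exact hmem b hb
  have hLFP : LocallyOfFinitePresentation
      (Spec.map (CommRingCat.ofHom (Ideal.Quotient.mk IC)) ≫ hUg.fromSpec ≫ f) := by
    haveI : LocallyOfFinitePresentation
        (Spec.map (CommRingCat.ofHom (Ideal.Quotient.mk IC))) := by
      rw [HasRingHomProperty.Spec_iff (P := @LocallyOfFinitePresentation)]
      refine RingHom.FinitePresentation.of_surjective _ Ideal.Quotient.mk_surjective ?_
      rw [CommRingCat.hom_ofHom, Ideal.mk_ker]
      exact Submodule.fg_span (List.finite_toSet hs')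
    infer_instance
  refine ⟨X.basicOpen g, hUg, hxg, eT', ?_⟩
  rw [← hhs'eq]
  refine ⟨hICle, ?_, hLFP⟩
  have hfac2 : Spec.map (CommRingCat.ofHom (Ideal.Quotient.mk IC)) ≫ hUg.fromSpec ≫ f =
      Spec.map (f.appLE VS (X.basicOpen g) e' ≫ CommRingCat.ofHom (Ideal.Quotient.mk IC)) ≫
        hVS.fromSpec := by
    rw [Spec.map_comp, Category.assoc, IsAffineOpen.SpecMap_appLE_fromSpec f hVS hUg e']
  rw [hfac2]
  haveI : Flat (Spec.map (f.appLE VS (X.basicOpen g) e' ≫
      CommRingCat.ofHom (Ideal.Quotient.mk IC))) := by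
    rw [HasRingHomProperty.Spec_iff (P := @Flat)]
    exact RingHom.flat_algebraMap_iff.mpr hflatC
  infer_instance

end Groth.Agent.Lib.Helper68.SliceLocal
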