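import Mathlib

/-!
# The local ring of a slice (helper68)

For an affine open `D` of `X` and an ideal `J` of `Γ(X, D)`, the local rings of the closed
subscheme `Spec (Γ(X, D)/J)` of `D`, and of its fibres over a base `S`.
-/

set_option autoImplicit false
set_option linter.style.haveILetI false

open AlgebraicGeometry CategoryTheory Limits

namespace Groth.Agent.Lib.Helper68.SliceStalk

universe u

/-- The kernel of the stalk map of `j` at `z` is generated by the germs of the kernel of `j` on
sections over an affine open `U ∋ j z` with affine preimage, provided `j` is surjective on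
sections there (adapted from helper42's `ker_stalkMap_of_isClosedImmersion`). -/
theorem ker_stalkMap_of_app_surjective {Z X : Scheme.{u}} (j : Z ⟶ X) (z : Z) (U : X.Opens)
    (hU : IsAffineOpen U) (hz : j z ∈ U) (hV : IsAffineOpen (j ⁻¹ᵁ U))
    (hsurj : Function.Surjective (j.app U).hom) :
    RingHom.ker (j.stalkMap z).hom =
      (RingHom.ker (j.app U).hom).map (X.presheaf.germ U (j z) hz).hom := by
  set v := j z with hvdef
  apply le_antisymm
  · intro b' hb'
    rw [RingHom.mem_ker] at hb'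
    letI : Algebra Γ(X, U) (X.presheaf.stalk v) :=
      TopCat.Presheaf.algebra_section_stalk X.presheaf ⟨v, hz⟩
    have hloc : IsLocalization.AtPrime (X.presheaf.stalk v)
        (hU.primeIdealOf ⟨v, hz⟩).asIdeal := hU.isLocalization_stalk ⟨v, hz⟩
    letI : Algebra Γ(Z, j ⁻¹ᵁ U) (Z.presheaf.stalk z) :=
      TopCat.Presheaf.algebra_section_stalk Z.presheaf ⟨z, hz⟩
    have hlocD : IsLocalization.AtPrime (Z.presheaf.stalk z)
        (hV.primeIdealOf ⟨z, hz⟩).asIdeal := hV.isLocalization_stalk ⟨z, hz⟩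
    obtain ⟨⟨b, s⟩, hbs⟩ := IsLocalization.surj (hU.primeIdealOf ⟨v, hz⟩).asIdeal.primeCompl b'
    have hbs' : b' * (X.presheaf.germ U v hz).hom s.1 = (X.presheaf.germ U v hz).hom b := hbs
    have hsunit : IsUnit ((X.presheaf.germ U v hz).hom s.1) :=
      IsLocalization.map_units (X.presheaf.stalk v) s
    have h1 : (Z.presheaf.germ (j ⁻¹ᵁ U) z hz).hom ((j.app U).hom b) = 0 := by
      have := Scheme.Hom.germ_stalkMap_apply j U z hz b
      change (j.stalkMap z).hom ((X.presheaf.germ U v hz).hom b) = _ at this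
      rw [← this, ← hbs', map_mul, hb', zero_mul]
    obtain ⟨m, hm⟩ := (IsLocalization.map_eq_zero_iff
      (hV.primeIdealOf ⟨z, hz⟩).asIdeal.primeCompl (Z.presheaf.stalk z) _).mp h1
    obtain ⟨s', hs'⟩ := hsurj m.1
    have hmunit : IsUnit ((Z.presheaf.germ (j ⁻¹ᵁ U) z hz).hom m.1) :=
      IsLocalization.map_units (Z.presheaf.stalk z) m
    have hs'unit : IsUnit ((X.presheaf.germ U v hz).hom s') := by
      have h2 := Scheme.Hom.germ_stalkMap_apply j U z hz s'
      change (j.stalkMap z).hom ((X.presheaf.germ U v hz).hom s') = _ at h2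
      rw [hs'] at h2
      rw [← h2] at hmunit
      exact (isUnit_map_iff (j.stalkMap z).hom _).mp hmunit
    have h3 : s' * b ∈ RingHom.ker (j.app U).hom := by
      rw [RingHom.mem_ker, map_mul, hs']
      exact hm
    have h4 : (X.presheaf.germ U v hz).hom (s' * b) ∈
        (RingHom.ker (j.app U).hom).map (X.presheaf.germ U v hz).hom := Ideal.mem_map_of_mem _ h3
    rw [map_mul, ← hbs'] at h4
    have h5 : b' * ((X.presheaf.germ U v hz).hom s' * (X.presheaf.germ U v hz).hom s.1) ∈
        (RingHom.ker (j.app U).hom).map (X.presheaf.germ U v hz).hom := by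
      have : b' * ((X.presheaf.germ U v hz).hom s' * (X.presheaf.germ U v hz).hom s.1) =
          (X.presheaf.germ U v hz).hom s' * (b' * (X.presheaf.germ U v hz).hom s.1) := by ring
      rw [this]
      exact h4
    exact (Ideal.mul_unit_mem_iff_mem _ (hs'unit.mul hsunit)).mp h5
  · rw [Ideal.map_le_iff_le_comap]
    intro a ha
    rw [Ideal.mem_comap, RingHom.mem_ker]
    have := Scheme.Hom.germ_stalkMap_apply j U z hz a
    change (j.stalkMap z).hom ((X.presheaf.germ U v hz).hom a) = _ at this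
    rw [this]
    have h0 : (j.app U).hom a = 0 := ha
    change (Z.presheaf.germ (j ⁻¹ᵁ U) z hz).hom ((j.app U).hom a) = 0
    rw [h0, map_zero]

variable {X : Scheme.{u}} {D : X.Opens} (hD : IsAffineOpen D) (J : Ideal Γ(X, D))

/-- The closed subscheme of `D` cut out by `J`, as a scheme over `X`. -/
noncomputable abbrev sl : Spec (CommRingCat.of (Γ(X, D) ⧸ J)) ⟶ X :=
  Spec.map (CommRingCat.ofHom (Ideal.Quotient.mk J)) ≫ hD.fromSpec

theorem sl_preimage : sl hD J ⁻¹ᵁ D = ⊤ := by
  show Spec.map (CommRingCat.ofHom (Ideal.Quotient.mk J)) ⁻¹ᵁ (hD.fromSpec ⁻¹ᵁ D) = ⊤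
  rw [hD.fromSpec_preimage_self]
  rfl

set_option backward.isDefEq.respectTransparency false in
theorem sl_app : (sl hD J).app D =
    CommRingCat.ofHom (Ideal.Quotient.mk J) ≫
      (Scheme.ΓSpecIso (CommRingCat.of (Γ(X, D) ⧸ J))).inv ≫
      (Spec (CommRingCat.of (Γ(X, D) ⧸ J))).presheaf.map (eqToHom (sl_preimage hD J)).op := by
  have key : (sl hD J).app D =
      X.presheaf.map (homOfLE (le_refl D)).op ≫ CommRingCat.ofHom (Ideal.Quotient.mk J) ≫
        (Scheme.ΓSpecIso (CommRingCat.of (Γ(X, D) ⧸ J))).inv ≫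
        (Spec (CommRingCat.of (Γ(X, D) ⧸ J))).presheaf.map (homOfLE le_top).op := by
    rw [Scheme.Hom.comp_app, hD.fromSpec_app_of_le D (le_refl D)]
    simp only [Category.assoc]
    rw [Scheme.Hom.naturality, ← Category.assoc (Scheme.ΓSpecIso _).inv,
      ← Scheme.ΓSpecIso_inv_naturality]
    simp only [Category.assoc]
    rfl
  rw [key]
  have h1 : X.presheaf.map (homOfLE (le_refl D)).op = 𝟙 _ := by
    rw [show homOfLE (le_refl D) = 𝟙 D from rfl, op_id, X.presheaf.map_id]
  rw [h1, Category.id_comp]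
  rfl

theorem sl_app_surjective : Function.Surjective ((sl hD J).app D).hom := by
  rw [sl_app]
  have h2 := (ConcreteCategory.bijective_of_isIso
    ((Scheme.ΓSpecIso (CommRingCat.of (Γ(X, D) ⧸ J))).inv ≫
      (Spec (CommRingCat.of (Γ(X, D) ⧸ J))).presheaf.map (eqToHom (sl_preimage hD J)).op)).2
  intro c
  obtain ⟨b, hb⟩ := h2 c
  obtain ⟨a, rfl⟩ := Ideal.Quotient.mk_surjective b
  exact ⟨a, hb⟩

theorem sl_app_ker : RingHom.ker ((sl hD J).app D).hom = J := by
  rw [sl_app]
  have hinj : Function.Injective ((Scheme.ΓSpecIso (CommRingCat.of (Γ(X, D) ⧸ J))).inv ≫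
      (Spec (CommRingCat.of (Γ(X, D) ⧸ J))).presheaf.map (eqToHom (sl_preimage hD J)).op).hom :=
    (ConcreteCategory.bijective_of_isIso
    ((Scheme.ΓSpecIso (CommRingCat.of (Γ(X, D) ⧸ J))).inv ≫
      (Spec (CommRingCat.of (Γ(X, D) ⧸ J))).presheaf.map (eqToHom (sl_preimage hD J)).op)).1
  ext a
  rw [RingHom.mem_ker]
  simp only [CommRingCat.hom_comp, CommRingCat.hom_ofHom, RingHom.comp_apply]
  constructor
  · intro h
    have h2 := hinj (h.trans (map_zero _).symm)
    exact Ideal.Quotient.eq_zero_iff_mem.mp h2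
  · intro h
    rw [Ideal.Quotient.eq_zero_iff_mem.mpr h, map_zero, map_zero]

/-- The kernel of the stalk map of the slice. -/
theorem ker_stalkMap_sl (w : Spec (CommRingCat.of (Γ(X, D) ⧸ J))) (hw : sl hD J w ∈ D) :
    RingHom.ker ((sl hD J).stalkMap w).hom = J.map (X.presheaf.germ D (sl hD J w) hw).hom := by
  have hV : IsAffineOpen (sl hD J ⁻¹ᵁ D) := by
    rw [sl_preimage]
    exact isAffineOpen_top _
  rw [ker_stalkMap_of_app_surjective (sl hD J) w D hD hw hV (sl_app_surjective hD J),
    sl_app_ker]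

theorem stalkMap_sl_surjective (w : Spec (CommRingCat.of (Γ(X, D) ⧸ J))) :
    Function.Surjective ((sl hD J).stalkMap w).hom := by
  haveI : IsClosedImmersion (Spec.map (CommRingCat.ofHom (Ideal.Quotient.mk J))) :=
    IsClosedImmersion.spec_of_surjective _ Ideal.Quotient.mk_surjective
  exact (sl hD J).stalkMap_surjective w

section ring

/-- For a surjection `σ : L → L'` and an ideal `I` of `L`:
`(L/I) / (ker σ)(L/I) ≃ L' / σ(I)L'`. -/
noncomputable def quotQuotKerEquiv {L L' : Type u} [CommRing L] [CommRing L'] (σ : L →+* L')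
    (hσ : Function.Surjective σ) (I : Ideal L) :
    ((L ⧸ I) ⧸ (RingHom.ker σ).map (Ideal.Quotient.mk I)) ≃+* (L' ⧸ I.map σ) :=
  have hψ : Function.Surjective ((Ideal.Quotient.mk (I.map σ)).comp σ) :=
    Ideal.Quotient.mk_surjective.comp hσ
  have hker : RingHom.ker ((Ideal.Quotient.mk (I.map σ)).comp σ) = I ⊔ RingHom.ker σ := by
    rw [← RingHom.comap_ker, Ideal.mk_ker, Ideal.comap_map_of_surjective σ hσ,
      ← RingHom.ker_eq_comap_bot]
  (DoubleQuot.quotQuotEquivQuotSup I (RingHom.ker σ)).trans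
    ((Ideal.quotEquivOfEq hker.symm).trans (RingHom.quotientKerEquivOfSurjective hψ))

end ring

/-- The local ring of the fibre of the slice over `S`: it is the quotient of the local ring of the
fibre of `X` by the images of the equations. -/
theorem nonempty_fibreRing_sl_equiv {S : Scheme.{u}} (f : X ⟶ S)
    (w : Spec (CommRingCat.of (Γ(X, D) ⧸ J))) (x : X) (hx : sl hD J w = x) (hxD : x ∈ D) :
    Nonempty (((X.presheaf.stalk x ⧸ Ideal.map (f.stalkMap x).hom
        (IsLocalRing.maximalIdeal (S.presheaf.stalk (f x)))) ⧸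
        J.map ((Ideal.Quotient.mk (Ideal.map (f.stalkMap x).hom
          (IsLocalRing.maximalIdeal (S.presheaf.stalk (f x))))).comp
            (X.presheaf.germ D x hxD).hom)) ≃+*
      ((Spec (CommRingCat.of (Γ(X, D) ⧸ J))).presheaf.stalk w ⧸
        Ideal.map ((sl hD J ≫ f).stalkMap w).hom
          (IsLocalRing.maximalIdeal (S.presheaf.stalk ((sl hD J ≫ f) w))))) := by
  subst hx
  set I := Ideal.map (f.stalkMap (sl hD J w)).hom
    (IsLocalRing.maximalIdeal (S.presheaf.stalk (f (sl hD J w)))) with hI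
  have hT : Ideal.map ((sl hD J ≫ f).stalkMap w).hom
      (IsLocalRing.maximalIdeal (S.presheaf.stalk ((sl hD J ≫ f) w))) =
      I.map ((sl hD J).stalkMap w).hom := by
    rw [hI, Ideal.map_map, Scheme.Hom.stalkMap_comp]
    rfl
  have hK : J.map ((Ideal.Quotient.mk I).comp (X.presheaf.germ D (sl hD J w) hxD).hom) =
      (RingHom.ker ((sl hD J).stalkMap w).hom).map (Ideal.Quotient.mk I) := by
    rw [ker_stalkMap_sl hD J w hxD, Ideal.map_map]
  exact ⟨(Ideal.quotEquivOfEq hK).trans
    ((quotQuotKerEquiv ((sl hD J).stalkMap w).hom (stalkMap_sl_surjective hD J w) I).trans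
      (Ideal.quotEquivOfEq hT.symm))⟩

end Groth.Agent.Lib.Helper68.SliceStalk
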