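import Mathlib
import Groth.Agent.Lib.Helper68.SliceFlat
import Groth.Agent.Lib.Helper68.SliceChart
import Groth.Agent.Lib.Helper68.SliceStalk

/-!
# The slice chart, flat version with its fibre ring (helper68)
-/

set_option autoImplicit false
set_option linter.style.haveILetI false

open AlgebraicGeometry CategoryTheory Limits

namespace Groth.Agent.Lib.Helper68.SliceLocal

universe u

open RingTheory.Sequence Groth.Agent.Lib.Helper68.SliceStalk

set_option backward.isDefEq.respectTransparency false in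
/-- The slice chart, flat version: an open subscheme `Ω` of `X ×_T Z`, `Z = V(fs) ⊆ VT`, through a
point `w` over `x`, which is flat and lfp over `S`, and whose fibre ring at `w` is the quotient of
the fibre ring of `X` at `x` by the equations. -/
theorem exists_chart_flat {X S T : Scheme.{u}} (f : X ⟶ S) [LocallyOfFinitePresentation f]
    (t : X ⟶ T) (x : X) (hflat : (f.stalkMap x).hom.Flat)
    (VT : T.Opens) (hVT : IsAffineOpen VT) (hxT : t x ∈ VT) (fs : List Γ(T, VT))
    (hreg : IsRegular (X.presheaf.stalk x ⧸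
      Ideal.map (f.stalkMap x).hom (IsLocalRing.maximalIdeal (S.presheaf.stalk (f x))))
      (fs.map (tauHom f t x VT hxT))) :
    ∃ (Ω : Scheme.{u}) (ω : Ω ⟶ pullback t (sliceHom hVT fs)) (w : Ω), IsOpenImmersion ω ∧
      pullback.fst t (sliceHom hVT fs) (ω w) = x ∧
      Flat (ω ≫ pullback.fst t (sliceHom hVT fs) ≫ f) ∧
      LocallyOfFinitePresentation (ω ≫ pullback.fst t (sliceHom hVT fs) ≫ f) ∧
      Nonempty (((X.presheaf.stalk x ⧸
          Ideal.map (f.stalkMap x).hom (IsLocalRing.maximalIdeal (S.presheaf.stalk (f x)))) ⧸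
          Ideal.ofList (fs.map (tauHom f t x VT hxT))) ≃+*
        (Ω.presheaf.stalk w ⧸
          Ideal.map ((ω ≫ pullback.fst t (sliceHom hVT fs) ≫ f).stalkMap w).hom
            (IsLocalRing.maximalIdeal
              (S.presheaf.stalk ((ω ≫ pullback.fst t (sliceHom hVT fs) ≫ f) w))))) := by
  obtain ⟨D, hD, hxD, hDT, hle, h1, h2⟩ :=
    slice_prescribed_flat f t x hflat VT hxT fs hreg
  set φ := t.appLE VT D hDT with hφ
  set IC := Ideal.ofList (fs.map φ.hom) with hIC
  have hJ : IC = (Ideal.ofList fs).map φ.hom := by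
    rw [hIC, Ideal.map_ofList]
  have hpb := isPullback_Spec_quotient φ (Ideal.ofList fs) IC hJ
  have e₁ : Spec.map φ ≫ hVT.fromSpec = hD.fromSpec ≫ t :=
    IsAffineOpen.SpecMap_appLE_fromSpec t hVT hD hDT
  have e₂ : Spec.map (CommRingCat.ofHom (Ideal.Quotient.mk (Ideal.ofList fs))) ≫ hVT.fromSpec =
      𝟙 _ ≫ sliceHom hVT fs := by
    rw [Category.id_comp]
  let pm := pullback.map (Spec.map φ)
    (Spec.map (CommRingCat.ofHom (Ideal.Quotient.mk (Ideal.ofList fs)))) t (sliceHom hVT fs)
    hD.fromSpec (𝟙 _) hVT.fromSpec e₁ e₂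
  haveI : IsOpenImmersion pm := by
    dsimp only [pm]
    infer_instance
  let ω := hpb.isoPullback.hom ≫ pm
  have hω1 : ω ≫ pullback.fst t (sliceHom hVT fs) = sl hD IC := by
    dsimp only [ω, pm]
    rw [Category.assoc, pullback.lift_fst, ← Category.assoc, IsPullback.isoPullback_hom_fst]
  -- the point
  have hker : RingHom.ker (Ideal.Quotient.mk IC) = IC := Ideal.mk_ker
  haveI hP : ((hD.primeIdealOf ⟨x, hxD⟩).asIdeal.map (Ideal.Quotient.mk IC)).IsPrime :=
    Ideal.map_isPrime_of_surjective Ideal.Quotient.mk_surjective (by rw [hker]; exact hle)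
  let w : Spec (CommRingCat.of (Γ(X, D) ⧸ IC)) := ⟨_, hP⟩
  have hw1 : Spec.map (CommRingCat.ofHom (Ideal.Quotient.mk IC)) w =
      hD.primeIdealOf ⟨x, hxD⟩ := by
    apply PrimeSpectrum.ext
    show Ideal.comap (Ideal.Quotient.mk IC) (Ideal.map (Ideal.Quotient.mk IC) _) = _
    rw [Ideal.comap_map_of_surjective _ Ideal.Quotient.mk_surjective,
      ← RingHom.ker_eq_comap_bot, hker]
    exact sup_eq_left.mpr hle
  have hslw : sl hD IC w = x := by
    show hD.fromSpec (Spec.map (CommRingCat.ofHom (Ideal.Quotient.mk IC)) w) = x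
    rw [hw1, hD.fromSpec_primeIdealOf ⟨x, hxD⟩]
  have hmor : ω ≫ pullback.fst t (sliceHom hVT fs) ≫ f = sl hD IC ≫ f := by
    rw [← Category.assoc, hω1]
  refine ⟨_, ω, w, inferInstance, ?_, ?_, ?_, ?_⟩
  · have : pullback.fst t (sliceHom hVT fs) (ω w) = sl hD IC w := by
      rw [← hω1]
      rfl
    rw [this, hslw]
  · rw [hmor]
    exact h1
  · rw [hmor]
    exact h2
  · rw [hmor]
    obtain ⟨e⟩ := nonempty_fibreRing_sl_equiv hD IC f w x hslw hxD
    refine ⟨(Ideal.quotEquivOfEq ?_).trans e⟩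
    rw [hIC, Ideal.map_ofList, List.map_map]
    congr 1
    apply List.map_congr_left
    intro a _
    simp only [Function.comp_apply, tauHom, RingHom.comp_apply]
    congr 1
    show _ = (X.presheaf.germ D x hxD).hom ((t.appLE VT D hDT).hom a)
    rw [Scheme.Hom.appLE, CommRingCat.hom_comp, RingHom.comp_apply]
    exact (TopCat.Presheaf.germ_res_apply X.presheaf (homOfLE hDT) x hxD _).symm

end Groth.Agent.Lib.Helper68.SliceLocal
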