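import Mathlib
import Groth.Agent.Lib.Helper55.FiberCompDim
import Groth.Agent.Lib.Helper82.GCICM
import Groth.Agent.H46.CMAt
import Groth.Prelude.Def_Grpd
import Groth.Agent.Lib.Helper29.FlatAscent2

/-!
# Pointwise consequences of a description of the fibre ring (helper68)
-/

set_option autoImplicit false
set_option linter.style.haveILetI false

open AlgebraicGeometry CategoryTheory Limits

namespace Groth.Agent.Lib.Helper68.SlicePointwise

universe u

open RingTheory.Sequence IsLocalRing

/-- The local fibre dimension at a point with trivial residue field extension is the dimension of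
the fibre ring. -/
theorem fibreDimAt_eq_ringKrullDim_of_bijective {X T : Scheme.{u}} (h : X ⟶ T)
    [LocallyOfFiniteType h] (x : X) (hb : Function.Bijective (h.residueFieldMap x).hom) :
    FlatMor.fibreDimAt h x = ringKrullDim (X.presheaf.stalk x ⧸ Ideal.map (h.stalkMap x).hom
      (maximalIdeal (T.presheaf.stalk (h x)))) := by
  obtain ⟨n, hn, hdim⟩ := Groth.Agent.Lib.Helper55.fibreDimAt_eq_stalk_add_trdeg h x
  letI : Algebra (T.residueField (h x)) (X.residueField x) := (h.residueFieldMap x).hom.toAlgebra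
  haveI : Algebra.IsIntegral (T.residueField (h x)) (X.residueField x) :=
    Algebra.isIntegral_of_surjective hb.2
  haveI : Algebra.IsAlgebraic (T.residueField (h x)) (X.residueField x) :=
    Algebra.IsIntegral.isAlgebraic
  have h0 : Algebra.trdeg (T.residueField (h x)) (X.residueField x) = 0 := trdeg_eq_zero
  have hn0 : n = 0 := by
    have : (n : Cardinal) = 0 := hn.symm.trans h0
    exact_mod_cast this
  rw [hdim, hn0]
  simp

/-- Elements of a regular sequence of a local ring lie in the maximal ideal. -/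
theorem mem_maximalIdeal_of_isRegular {C : Type u} [CommRing C] [IsLocalRing C] (xs : List C)
    (hreg : IsRegular C xs) : ∀ x ∈ xs, x ∈ maximalIdeal C := by
  intro x hx
  rw [IsLocalRing.mem_maximalIdeal, mem_nonunits_iff]
  intro hu
  apply hreg.top_ne_smul
  symm
  rw [smul_eq_mul, Ideal.mul_top]
  exact Ideal.eq_top_of_isUnit_mem _ (Ideal.subset_span hx) hu

/-- The quotient of a CM local ring by a regular sequence is CM. -/
theorem isCohenMacaulayLocalRing_quotient_of_isRegular {C : Type u} [CommRing C]
    [hC : LocCoh.IsCohenMacaulayLocalRing C] (xs : List C) (hreg : IsRegular C xs) :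
    LocCoh.IsCohenMacaulayLocalRing (C ⧸ Ideal.ofList xs) := by
  have hxs := mem_maximalIdeal_of_isRegular xs hreg
  have hle : Ideal.ofList xs ≤ maximalIdeal C := by
    rw [Ideal.ofList, Ideal.span_le]
    exact fun r hr => hxs r hr
  have hne : Ideal.ofList xs ≠ ⊤ :=
    fun h => (maximalIdeal.isMaximal C).ne_top (top_le_iff.mp (h ▸ hle))
  haveI : Nontrivial (C ⧸ Ideal.ofList xs) := Ideal.Quotient.nontrivial_iff.mpr hne
  haveI : IsLocalRing (C ⧸ Ideal.ofList xs) :=
    IsLocalRing.of_surjective' (Ideal.Quotient.mk _) Ideal.Quotient.mk_surjective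
  exact Groth.Agent.Lib.Helper82.GCICM.isCohenMacaulayLocalRing_quotient
    (LocCoh.IsCohenMacaulayLocalRing.supportDim_eq_depth) xs hxs hreg.toIsWeaklyRegular _ rfl

/-- `Grpd.IsCMAt` and `MoreMor.IsCMAt` agree. -/
theorem grpd_isCMAt_iff {X Y : Scheme.{u}} (f : X ⟶ Y) (x : X) :
    _root_.Grpd.IsCMAt f x ↔ MoreMor.IsCMAt f x :=
  (Groth.Agent.H46.CMAt.isCMAt_iff f x).symm

/-- A morphism flat at `z` whose fibre ring at `z` is the quotient of a CM local ring by a regular
sequence is Cohen–Macaulay at `z`. -/
theorem isCMAt_of_ringEquiv {Z S : Scheme.{u}} (h : Z ⟶ S) (z : Z) (hflat : (h.stalkMap z).hom.Flat)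
    {C : Type u} [CommRing C] [hC : LocCoh.IsCohenMacaulayLocalRing C] (xs : List C)
    (hreg : IsRegular C xs)
    (e : (C ⧸ Ideal.ofList xs) ≃+* (Z.presheaf.stalk z ⧸ Ideal.map (h.stalkMap z).hom
      (maximalIdeal (S.presheaf.stalk (h z))))) :
    MoreMor.IsCMAt h z := by
  rw [Groth.Agent.H46.CMAt.isCMAt_iff]
  refine ⟨hflat, ?_⟩
  haveI := isCohenMacaulayLocalRing_quotient_of_isRegular xs hreg
  exact Groth.Agent.Lib.Helper29.isCohenMacaulayLocalRing_of_ringEquiv e inferInstance

end Groth.Agent.Lib.Helper68.SlicePointwise
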