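import Mathlib
import Groth.Agent.Lib.Helper68.SliceH0G
import Groth.Agent.Lib.Helper68.SliceStalk
import Groth.Agent.Lib.Helper68.SlicePointwise
import Groth.Agent.Lib.Helper37.GrpdDimC
import Groth.Agent.Lib.Helper78.AbVarFibre
import Groth.Agent.Lib.Helper55.FiberBaseChange
import Groth.Agent.Lib.Helper69.Quot3
import Groth.Agent.Lib.Helper22.BirationalBC

/-!
# The dimension of the stabilizer fibre as the dimension of a local ring (helper68)

For a groupoid scheme with `s, t` locally of finite type and a point `r` of `R` with `s r = t r`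
(a finite type point of `U`) at which `s` induces an isomorphism of residue fields:
`dim G_{t r} = dim O_{R,r} / (s^* 𝔪 + t^* 𝔪)`.
-/

set_option autoImplicit false
set_option linter.style.haveILetI false

open AlgebraicGeometry CategoryTheory Limits Grpd

namespace Groth.Agent.Lib.Helper68.SliceDimG

universe u

open IsLocalRing Groth.Agent.Lib.Helper37 Groth.Agent.Lib.Helper37.Pull
open Groth.Agent.Lib.Helper68.SliceH0 Groth.Agent.Lib.Helper68.SliceStalk

set_option backward.isDefEq.respectTransparency false in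
/-- The fibre ring of the restriction of `g` to a fibre of `f`. -/
theorem nonempty_doubleFibreRing_equiv {X Y Z : Scheme.{u}} (f : X ⟶ Y) (g : X ⟶ Z) (y : Y)
    (z : ↥(f.fiber y)) :
    Nonempty ((X.presheaf.stalk (f.fiberι y z) ⧸
      ((maximalIdeal (Z.presheaf.stalk (g (f.fiberι y z)))).map (g.stalkMap (f.fiberι y z)).hom ⊔
       (maximalIdeal (Y.presheaf.stalk (f (f.fiberι y z)))).map
        (f.stalkMap (f.fiberι y z)).hom)) ≃+*
      ((f.fiber y).presheaf.stalk z ⧸ Ideal.map ((f.fiberι y ≫ g).stalkMap z).hom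
        (maximalIdeal (Z.presheaf.stalk ((f.fiberι y ≫ g) z))))) := by
  set σ := ((f.fiberι y).stalkMap z).hom with hσ
  have hsurj : Function.Surjective σ := (f.fiberι y).stalkMap_surjective z
  have hker : RingHom.ker σ =
      (maximalIdeal ↑(Y.presheaf.stalk (f (f.fiberι y z)))).map (f.stalkMap (f.fiberι y z)).hom :=
    le_antisymm (Groth.Agent.Lib.Helper49.ker_le_map f y z)
      (Groth.Agent.Lib.Helper49.map_le_ker f y z)
  set I := (maximalIdeal (Z.presheaf.stalk (g (f.fiberι y z)))).map
    (g.stalkMap (f.fiberι y z)).hom with hI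
  have hT : Ideal.map ((f.fiberι y ≫ g).stalkMap z).hom
      (maximalIdeal (Z.presheaf.stalk ((f.fiberι y ≫ g) z))) = I.map σ := by
    rw [hI, Ideal.map_map, Scheme.Hom.stalkMap_comp]
    rfl
  refine ⟨(DoubleQuot.quotQuotEquivQuotSup I _).symm.trans ?_⟩
  rw [← hker]
  exact (quotQuotKerEquiv σ hsurj I).trans (Ideal.quotEquivOfEq hT.symm)

theorem ringKrullDim_sup_of_eq {X Y Z : Scheme.{u}} (f : X ⟶ Y) (g : X ⟶ Z) {x₀ x : X}
    (h : x₀ = x) :
    ringKrullDim (X.presheaf.stalk x₀ ⧸
      ((maximalIdeal (Y.presheaf.stalk (f x₀))).map (f.stalkMap x₀).hom ⊔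
       (maximalIdeal (Z.presheaf.stalk (g x₀))).map (g.stalkMap x₀).hom)) =
    ringKrullDim (X.presheaf.stalk x ⧸
      ((maximalIdeal (Y.presheaf.stalk (f x))).map (f.stalkMap x).hom ⊔
       (maximalIdeal (Z.presheaf.stalk (g x))).map (g.stalkMap x).hom)) := by
  subst h
  rfl

variable {S : Scheme.{u}} (G : GroupoidScheme S)

theorem topologicalKrullDim_fiber_congr {X Y : Scheme.{u}} (f : X ⟶ Y) {y₁ y₂ : Y} (h : y₁ = y₂) :
    topologicalKrullDim ↥(f.fiber y₁) = topologicalKrullDim ↥(f.fiber y₂) := by
  subst h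
  rfl

set_option backward.isDefEq.respectTransparency false in
/-- The dimension of the fibre of the stabilizer as the dimension of a local ring. -/
theorem topologicalKrullDim_stabilizer_fiber [LocallyOfFiniteType G.s] [LocallyOfFiniteType G.t]
    (r : G.R) (hst : G.s r = G.t r)
    (hr : LocallyOfFiniteType (G.U.fromSpecResidueField (G.t r)))
    (hbs : Function.Bijective (G.s.residueFieldMap r).hom) :
    topologicalKrullDim ↥(G.stabilizerToU.fiber (G.t r)) =
      ringKrullDim (G.R.presheaf.stalk r ⧸
        ((maximalIdeal (G.U.presheaf.stalk (G.s r))).map (G.s.stalkMap r).hom ⊔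
         (maximalIdeal (G.U.presheaf.stalk (G.t r))).map (G.t.stalkMap r).hom)) := by
  set ι := G.U.fromSpecResidueField (G.t r) with hι
  haveI := hr
  haveI h1 : LocallyOfFiniteType (pullGrpd G ι).s := by
    show LocallyOfFiniteType (b' G ι)
    unfold b'
    infer_instance
  haveI h2 : LocallyOfFiniteType (pullGrpd G ι).t := by
    show LocallyOfFiniteType (a' G ι)
    unfold a'
    infer_instance
  -- (i) the fibre of the stabilizer is the stabilizer of the restricted groupoid
  have hiso : topologicalKrullDim ↥(G.stabilizerToU.fiber (G.t r)) =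
      topologicalKrullDim ↥(pullGrpd G ι).stabilizer := by
    let e := (isPullback_stabMap G ι).isoPullback
    exact (IsHomeomorph.topologicalKrullDim_eq _
      (Scheme.homeoOfIso e).isHomeomorph).symm
  -- (ii) S1883
  have hdim : topologicalKrullDim ↥(pullGrpd G ι).R = topologicalKrullDim ↥(pullGrpd G ι).stabilizer :=
    Groth.Agent.Lib.Helper37.GD.topologicalKrullDim_eq_stabilizer (pullGrpd G ι)
      (k := G.U.residueField (G.t r)) (Iso.refl _)
  -- the point
  have hπ : (π G ι) (G.t.asFiber r) = ι (IsLocalRing.closedPoint (G.U.residueField (G.t r))) := by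
    have : (π G ι) (G.t.asFiber r) = G.s (G.t.fiberι (G.t r) (G.t.asFiber r)) := rfl
    rw [this, Scheme.Hom.fiberι_asFiber, hst]
    exact (Scheme.fromSpecResidueField_apply _ _).symm
  obtain ⟨x', hx'1, hx'2⟩ := Groth.Agent.Lib.Helper54.exists_preimage_of_isPullback
    (IsPullback.of_hasPullback (π G ι) ι) (G.t.asFiber r)
    (IsLocalRing.closedPoint (G.U.residueField (G.t r))) hπ
  -- (iii) the dimension of `R''` is its local dimension at `x'`
  have hloc : topologicalKrullDim ↥(pullGrpd G ι).R = FlatMor.localDim ↥(R' G ι) x' := by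
    rw [Groth.Agent.Lib.Helper55.topologicalKrullDim_eq_iSup_localDim]
    have hconst : ∀ y : ↥(pullGrpd G ι).R, FlatMor.localDim ↥(pullGrpd G ι).R y =
        FlatMor.localDim ↥(R' G ι) x' := by
      intro y
      have e1 := Groth.Agent.Lib.Helper37.GD.localDim_eq (pullGrpd G ι)
        (k := G.U.residueField (G.t r)) (Iso.refl _) y
        (IsLocalRing.closedPoint (G.U.residueField (G.t r)))
      have e2 := Groth.Agent.Lib.Helper37.GD.localDim_eq (pullGrpd G ι)
        (k := G.U.residueField (G.t r)) (Iso.refl _) x'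
        (IsLocalRing.closedPoint (G.U.residueField (G.t r)))
      exact e1.trans e2.symm
    simp_rw [hconst]
    haveI : Nonempty ↥(pullGrpd G ι).R := ⟨x'⟩
    exact ciSup_const
  -- (iv) local dimension as a fibre dimension
  haveI : LocallyOfFiniteType (π G ι) := by
    unfold π
    infer_instance
  have hfd1 : FlatMor.fibreDimAt (b' G ι) x' = FlatMor.localDim ↥(R' G ι) x' := by
    apply Groth.Agent.Lib.Helper78.AbVarFibre.fibreDimAt_eq_localDim_of_const
    intro t₁ t₂
    exact Subsingleton.elim (α := PrimeSpectrum _) _ _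
  have hfd2 : FlatMor.fibreDimAt (b' G ι) x' = FlatMor.fibreDimAt (π G ι) (G.t.asFiber r) := by
    have := Groth.Agent.Lib.Helper55.fibreDimAt_eq_of_isPullback (π G ι) ι
      (pullback.fst (π G ι) ι) (pullback.snd (π G ι) ι) (IsPullback.of_hasPullback (π G ι) ι) x'
    rw [hx'1] at this
    exact this
  -- (v) residue fields
  have hbπ : Function.Bijective ((π G ι).residueFieldMap (G.t.asFiber r)).hom := by
    have hcomp : (π G ι).residueFieldMap (G.t.asFiber r) =
        G.s.residueFieldMap (G.t.fiberι (G.t r) (G.t.asFiber r)) ≫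
          (G.t.fiberι (G.t r)).residueFieldMap (G.t.asFiber r) :=
      Scheme.residueFieldMap_comp _ _ _
    rw [hcomp, CommRingCat.hom_comp]
    have hb1 : Function.Bijective
        (G.s.residueFieldMap (G.t.fiberι (G.t r) (G.t.asFiber r))).hom :=
      Groth.Agent.Lib.Helper22.Birational.bijective_residueFieldMap_congr_point G.s
        (G.t.fiberι_asFiber r).symm hbs
    haveI : IsIso ((G.t.fiberι (G.t r)).residueFieldMap (G.t.asFiber r)) :=
      Groth.Agent.Lib.Helper69.isIso_residueFieldMap_of_isPreimmersion _ _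
    have hb2 : Function.Bijective ((G.t.fiberι (G.t r)).residueFieldMap (G.t.asFiber r)).hom :=
      ConcreteCategory.bijective_of_isIso _
    exact hb2.comp hb1
  have hfd3 := Groth.Agent.Lib.Helper68.SlicePointwise.fibreDimAt_eq_ringKrullDim_of_bijective
    (π G ι) (G.t.asFiber r) hbπ
  -- (vi) the fibre ring
  obtain ⟨e⟩ := nonempty_doubleFibreRing_equiv G.t G.s (G.t r) (G.t.asFiber r)
  have hring : ringKrullDim ((pullback G.t ι).presheaf.stalk (G.t.asFiber r) ⧸
      Ideal.map ((π G ι).stalkMap (G.t.asFiber r)).hom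
        (maximalIdeal (G.U.presheaf.stalk ((π G ι) (G.t.asFiber r))))) =
      ringKrullDim (G.R.presheaf.stalk r ⧸
        ((maximalIdeal (G.U.presheaf.stalk (G.s r))).map (G.s.stalkMap r).hom ⊔
         (maximalIdeal (G.U.presheaf.stalk (G.t r))).map (G.t.stalkMap r).hom)) := by
    rw [← ringKrullDim_sup_of_eq G.s G.t (G.t.fiberι_asFiber r)]
    exact (ringKrullDim_eq_of_ringEquiv e).symm
  rw [hiso, ← hdim, hloc, ← hfd1, hfd2, hfd3]
  exact hring

end Groth.Agent.Lib.Helper68.SliceDimG
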