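import Mathlib
import Groth.Agent.Lib.Helper68.SlicePoint
import Groth.Agent.Lib.Helper37.GroupoidRank

/-!
# Quasi-finite slices of groupoids: the statement form of `Grpd.exists_max_slice_quasiFinite`
(helper68)
-/

set_option autoImplicit false
set_option linter.style.haveILetI false

open AlgebraicGeometry CategoryTheory Limits Grpd

namespace Groth.Agent.Lib.Helper68.SliceS7508

universe u

open Groth.Agent.Lib.Helper37 Groth.Agent.Lib.Helper37.Pull

variable {S : Scheme.{u}} (G : GroupoidScheme S) {U' : Scheme.{u}} (g : U' ⟶ G.U)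

/-- `h = s ∘ pr₂ : U' ×_{g,U,t} R ⟶ U` -/
noncomputable abbrev hh : pullback g G.t ⟶ G.U := pullback.snd g G.t ≫ G.s

lemma hh_eq : hh G g = (pullbackSymmetry g G.t).hom ≫ π G g := by
  show pullback.snd g G.t ≫ G.s = (pullbackSymmetry g G.t).hom ≫ pullback.fst G.t g ≫ G.s
  rw [← Category.assoc, pullbackSymmetry_hom_comp_fst]

/-- the three coordinates of a point of `R'' = (U' ×_U R) ×_{h,U,g} U'` -/
noncomputable def zz : pullback (hh G g) g ⟶ U' := pullback.fst (hh G g) g ≫ pullback.fst g G.t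

noncomputable def rr : pullback (hh G g) g ⟶ G.R := pullback.fst (hh G g) g ≫ pullback.snd g G.t

noncomputable def zz' : pullback (hh G g) g ⟶ U' := pullback.snd (hh G g) g

lemma zz_g : zz G g ≫ g = rr G g ≫ G.t := by
  rw [zz, rr, Category.assoc, Category.assoc, pullback.condition]

lemma rr_s : rr G g ≫ G.s = zz' G g ≫ g := by
  have := pullback.condition (f := hh G g) (g := g)
  rw [rr, zz', Category.assoc]
  exact this

/-- the inverse, `(z, r, z') ↦ (z', r⁻¹, z)` -/
noncomputable def σ : pullback (hh G g) g ⟶ pullback (hh G g) g :=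
  pullback.lift (pullback.lift (zz' G g) (rr G g ≫ G.i)
    (by rw [Category.assoc, G.i_t, rr_s])) (zz G g)
    (by
      show pullback.lift (zz' G g) (rr G g ≫ G.i) _ ≫ pullback.snd g G.t ≫ G.s = _
      rw [← Category.assoc, pullback.lift_snd, Category.assoc, G.i_s, zz_g])

lemma σ_fst : σ G g ≫ pullback.fst (hh G g) g = pullback.lift (zz' G g) (rr G g ≫ G.i)
    (by rw [Category.assoc, G.i_t, rr_s]) := pullback.lift_fst _ _ _

lemma σ_zz : σ G g ≫ zz G g = zz' G g := by
  show σ G g ≫ pullback.fst (hh G g) g ≫ pullback.fst g G.t = _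
  rw [← Category.assoc, σ_fst, pullback.lift_fst]

lemma σ_rr : σ G g ≫ rr G g = rr G g ≫ G.i := by
  show σ G g ≫ pullback.fst (hh G g) g ≫ pullback.snd g G.t = _
  rw [← Category.assoc, σ_fst, pullback.lift_snd]

lemma σ_zz' : σ G g ≫ zz' G g = zz G g := pullback.lift_snd _ _ _

lemma ext'' {T : Scheme.{u}} {α β : T ⟶ pullback (hh G g) g} (h1 : α ≫ zz G g = β ≫ zz G g)
    (h2 : α ≫ rr G g = β ≫ rr G g) (h3 : α ≫ zz' G g = β ≫ zz' G g) : α = β := by
  apply pullback.hom_ext
  · apply pullback.hom_ext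
    · simpa only [zz, Category.assoc] using h1
    · simpa only [rr, Category.assoc] using h2
  · exact h3

lemma σ_σ : σ G g ≫ σ G g = 𝟙 _ := by
  apply ext''
  · rw [Category.assoc, σ_zz, σ_zz', Category.id_comp]
  · rw [Category.assoc, σ_rr, ← Category.assoc, σ_rr, Category.assoc, i_i, Category.comp_id,
      Category.id_comp]
  · rw [Category.assoc, σ_zz', σ_zz, Category.id_comp]

instance : IsIso (σ G g) := ⟨σ G g, σ_σ G g, σ_σ G g⟩

lemma fst_fst_eq : pullback.fst (hh G g) g ≫ pullback.fst g G.t = σ G g ≫ pullback.snd (hh G g) g :=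
  (σ_zz' G g).symm

theorem flat_of_forall_isCMAt {X Y : Scheme.{u}} (f : X ⟶ Y) (h : ∀ x, Grpd.IsCMAt f x) : Flat f := by
  rw [Flat.iff_flat_stalkMap]
  exact fun x => (h x).1

set_option backward.isDefEq.respectTransparency false in
theorem main [LocallyOfFinitePresentation G.s] [LocallyOfFinitePresentation G.t]
    (hs : ∀ r : G.R, Grpd.IsCMAt G.s r) (ht : ∀ r : G.R, Grpd.IsCMAt G.t r)
    [LocallyOfFiniteType G.stabilizerToU] [LocallyQuasiFinite G.stabilizerToU] (u : G.U)
    (hu : LocallyOfFiniteType (G.U.fromSpecResidueField u)) :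
    ∃ (U' : Scheme.{u}) (_ : IsAffine U') (g : U' ⟶ G.U) (u' : U'), IsImmersion g ∧
      LocallyOfFinitePresentation g ∧ g u' = u ∧
      (Flat (pullback.snd g G.t ≫ G.s) ∧ LocallyOfFinitePresentation (pullback.snd g G.t ≫ G.s) ∧
        LocallyOfFiniteType (pullback.snd g G.t ≫ G.s) ∧
        LocallyQuasiFinite (pullback.snd g G.t ≫ G.s)) ∧
      (Flat (pullback.snd (pullback.snd g G.t ≫ G.s) g) ∧
        LocallyOfFinitePresentation (pullback.snd (pullback.snd g G.t ≫ G.s) g) ∧
        LocallyQuasiFinite (pullback.snd (pullback.snd g G.t ≫ G.s) g)) ∧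
      (Flat (pullback.fst (pullback.snd g G.t ≫ G.s) g ≫ pullback.fst g G.t) ∧
        LocallyOfFinitePresentation
          (pullback.fst (pullback.snd g G.t ≫ G.s) g ≫ pullback.fst g G.t) ∧
        LocallyQuasiFinite (pullback.fst (pullback.snd g G.t ≫ G.s) g ≫ pullback.fst g G.t)) := by
  haveI : Flat G.s := flat_of_forall_isCMAt G.s hs
  haveI : Flat G.t := flat_of_forall_isCMAt G.t ht
  obtain ⟨U', hU', g, u', hg1, hg2, hg3, h1, h2, h3⟩ :=
    Groth.Agent.Lib.Helper68.SlicePoint.exists_slice_point G u hu (hs (G.e u))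
  haveI hf : Flat (hh G g) := by rw [hh_eq]; infer_instance
  haveI hp : LocallyOfFinitePresentation (hh G g) := by rw [hh_eq]; infer_instance
  haveI hq : LocallyQuasiFinite (hh G g) := by rw [hh_eq]; infer_instance
  refine ⟨U', hU', g, u', hg1, hg2, hg3, ⟨hf, hp, inferInstance, hq⟩,
    ⟨inferInstance, inferInstance, inferInstance⟩, ?_⟩
  have e := fst_fst_eq G g
  refine ⟨?_, ?_, ?_⟩
  · show Flat (pullback.fst (hh G g) g ≫ pullback.fst g G.t)
    rw [e]; infer_instance
  · show LocallyOfFinitePresentation (pullback.fst (hh G g) g ≫ pullback.fst g G.t)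
    rw [e]; infer_instance
  · show LocallyQuasiFinite (pullback.fst (hh G g) g ≫ pullback.fst g G.t)
    rw [e]; infer_instance

end Groth.Agent.Lib.Helper68.SliceS7508
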