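import Mathlib
import Groth.Agent.Lib.Helper68.SliceAlgCM
import Groth.Agent.Lib.Helper68.SliceChartCM
import Groth.Agent.Lib.Helper68.SliceDimG
import Groth.Agent.Lib.Helper68.SlicePoint
import Groth.Agent.Lib.Helper68.SliceS7508
import Groth.Agent.Lib.Helper13.CMChart
import Groth.Agent.H52.FibreDimChart

/-!
# One step of slicing a groupoid with Cohen–Macaulay source and target (helper68)
-/

set_option autoImplicit false
set_option linter.style.haveILetI false

open AlgebraicGeometry CategoryTheory Limits Grpd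

namespace Groth.Agent.Lib.Helper68.SliceS7506

universe u

open Groth.Agent.Lib.Helper37 Groth.Agent.Lib.Helper37.Pull
open Groth.Agent.Lib.Helper68.SliceLocal Groth.Agent.Lib.Helper68.SliceH0
open Groth.Agent.Lib.Helper68.SlicePointwise Groth.Agent.Lib.Helper68.SliceS7508 IsLocalRing
open RingTheory.Sequence

/-- `dim C / τ(𝔭) C` as the dimension of the double quotient of the local ring. -/
theorem ringKrullDim_tau {X S T : Scheme.{u}} (f : X ⟶ S) (t : X ⟶ T) (x : X) (VT : T.Opens)
    (hVT : IsAffineOpen VT) (hxT : t x ∈ VT) :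
    ringKrullDim ((X.presheaf.stalk x ⧸
      Ideal.map (f.stalkMap x).hom (maximalIdeal (S.presheaf.stalk (f x)))) ⧸
        (hVT.primeIdealOf ⟨t x, hxT⟩).asIdeal.map (tauHom f t x VT hxT)) =
    ringKrullDim (X.presheaf.stalk x ⧸
      ((maximalIdeal (S.presheaf.stalk (f x))).map (f.stalkMap x).hom ⊔
       (maximalIdeal (T.presheaf.stalk (t x))).map (t.stalkMap x).hom)) := by
  rw [map_tauHom]
  exact ringKrullDim_eq_of_ringEquiv (DoubleQuot.quotQuotEquivQuotSup _ _)

variable {S : Scheme.{u}} (G : GroupoidScheme S)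

theorem bijective_residueFieldMap_s_e (u : G.U) :
    Function.Bijective (G.s.residueFieldMap (G.e u)).hom := by
  have h1 : IsIso ((G.e ≫ G.s).residueFieldMap u) := by
    haveI : IsIso (G.e ≫ G.s) := by rw [G.e_s]; infer_instance
    infer_instance
  have h2 := Groth.Agent.Lib.Helper68.QSplit.isIso_residueFieldMap_of_comp G.e G.s u h1
  exact ConcreteCategory.bijective_of_isIso (G.s.residueFieldMap (G.e u))

/-- `dim G_u` as the dimension of the local ring `C / τ(𝔭) C`. -/
theorem topologicalKrullDim_stabilizer_fiber_eq [LocallyOfFiniteType G.s] [LocallyOfFiniteType G.t]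
    (u : G.U) (hu : LocallyOfFiniteType (G.U.fromSpecResidueField u))
    (V : G.U.Opens) (hV : IsAffineOpen V) (hxT : G.t (G.e u) ∈ V) :
    topologicalKrullDim ↥(G.stabilizerToU.fiber u) =
      ringKrullDim ((G.R.presheaf.stalk (G.e u) ⧸
      Ideal.map (G.s.stalkMap (G.e u)).hom
        (maximalIdeal (G.U.presheaf.stalk (G.s (G.e u))))) ⧸
        (hV.primeIdealOf ⟨G.t (G.e u), hxT⟩).asIdeal.map (tauHom G.s G.t (G.e u) V hxT)) := by
  have hst : G.s (G.e u) = G.t (G.e u) := by rw [e_s_apply, e_t_apply]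
  have hr : LocallyOfFiniteType (G.U.fromSpecResidueField (G.t (G.e u))) := by
    rw [e_t_apply]
    exact hu
  rw [ringKrullDim_tau G.s G.t (G.e u) V hV hxT,
    ← Groth.Agent.Lib.Helper68.SliceDimG.topologicalKrullDim_stabilizer_fiber G (G.e u) hst hr
      (bijective_residueFieldMap_s_e G u)]
  exact Groth.Agent.Lib.Helper68.SliceDimG.topologicalKrullDim_fiber_congr _ (e_t_apply G u).symm

/-- `dim_{e(u)} F_u` as the dimension of the local ring `C`. -/
theorem fibreDimAt_s_e [LocallyOfFiniteType G.s] (u : G.U) :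
    FlatMor.fibreDimAt G.s (G.e u) = ringKrullDim (G.R.presheaf.stalk (G.e u) ⧸
      Ideal.map (G.s.stalkMap (G.e u)).hom
        (maximalIdeal (G.U.presheaf.stalk (G.s (G.e u))))) :=
  fibreDimAt_eq_ringKrullDim_of_bijective G.s (G.e u) (bijective_residueFieldMap_s_e G u)

instance isImmersion_sliceHom {T : Scheme.{u}} {VT : T.Opens} (hVT : IsAffineOpen VT)
    (fs : List Γ(T, VT)) : IsImmersion (sliceHom hVT fs) := by
  haveI : IsClosedImmersion
      (Spec.map (CommRingCat.ofHom (Ideal.Quotient.mk (Ideal.ofList fs)))) :=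
    IsClosedImmersion.spec_of_surjective _ Ideal.Quotient.mk_surjective
  infer_instance

instance locallyOfFinitePresentation_sliceHom {T : Scheme.{u}} {VT : T.Opens}
    (hVT : IsAffineOpen VT) (fs : List Γ(T, VT)) :
    LocallyOfFinitePresentation (sliceHom hVT fs) := by
  haveI : LocallyOfFinitePresentation
      (Spec.map (CommRingCat.ofHom (Ideal.Quotient.mk (Ideal.ofList fs)))) := by
    rw [HasRingHomProperty.Spec_iff (P := @LocallyOfFinitePresentation)]
    refine RingHom.FinitePresentation.of_surjective _ Ideal.Quotient.mk_surjective ?_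
    rw [CommRingCat.hom_ofHom, Ideal.mk_ker]
    exact Submodule.fg_span (List.finite_toSet fs)
  infer_instance

set_option backward.isDefEq.respectTransparency false in
/-- The pointwise properties of the slice chart of a groupoid at `e(u)`. -/
theorem chart_point [LocallyOfFinitePresentation G.s] [LocallyOfFinitePresentation G.t] (u : G.U)
    (hcm : _root_.Grpd.IsCMAt G.s (G.e u))
    (V : G.U.Opens) (hV : IsAffineOpen V) (hxT : G.t (G.e u) ∈ V) (fs : List Γ(G.U, V))
    (hreg : IsRegular (G.R.presheaf.stalk (G.e u) ⧸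
      Ideal.map (G.s.stalkMap (G.e u)).hom (maximalIdeal (G.U.presheaf.stalk (G.s (G.e u)))))
      (fs.map (tauHom G.s G.t (G.e u) V hxT))) :
    ∃ (Ω : Scheme.{u}) (ω : Ω ⟶ pullback G.t (sliceHom hV fs)) (w : Ω), IsOpenImmersion ω ∧
      pullback.fst G.t (sliceHom hV fs) (ω w) = G.e u ∧
      Flat (ω ≫ π G (sliceHom hV fs)) ∧
      LocallyOfFinitePresentation (ω ≫ π G (sliceHom hV fs)) ∧
      MoreMor.IsCMAt (π G (sliceHom hV fs)) (ω w) ∧
      FlatMor.fibreDimAt (π G (sliceHom hV fs)) (ω w) =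
        ringKrullDim ((G.R.presheaf.stalk (G.e u) ⧸
          Ideal.map (G.s.stalkMap (G.e u)).hom
            (maximalIdeal (G.U.presheaf.stalk (G.s (G.e u))))) ⧸
          Ideal.ofList (fs.map (tauHom G.s G.t (G.e u) V hxT))) := by
  obtain ⟨hflat, hCM⟩ := hcm
  haveI := hCM
  obtain ⟨Ω, ω, w, hω, hw, h1, h2, ⟨e⟩⟩ := exists_chart_flat G.s G.t (G.e u) hflat V hV hxT fs hreg
  haveI := hω
  haveI : Flat (ω ≫ π G (sliceHom hV fs)) := h1
  haveI : LocallyOfFinitePresentation (ω ≫ π G (sliceHom hV fs)) := h2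
  haveI : LocallyOfFinitePresentation (π G (sliceHom hV fs)) := by
    unfold π; infer_instance
  refine ⟨Ω, ω, w, hω, hw, h1, h2, ?_, ?_⟩
  · rw [← Groth.Agent.Lib.Helper13.CMChart.isCMAt_comp_openImmersion_left_iff ω]
    exact isCMAt_of_ringEquiv (ω ≫ π G (sliceHom hV fs)) w
      (Flat.stalkMap (ω ≫ π G (sliceHom hV fs)) w) _ hreg e
  · have hsq := Groth.Agent.H52.fibreDimAt_eq_of_etale_square ω (𝟙 G.U)
      (ω ≫ π G (sliceHom hV fs)) (π G (sliceHom hV fs)) (by rw [Category.comp_id]) w
    rw [← hsq]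
    -- residue fields
    have gen : ∀ (k : Ω ⟶ G.U), k = (ω ≫ pullback.fst G.t (sliceHom hV fs)) ≫ G.s →
        Function.Bijective (k.residueFieldMap w).hom := by
      rintro k rfl
      rw [Scheme.residueFieldMap_comp, CommRingCat.hom_comp]
      have hb1 : Function.Bijective
          (G.s.residueFieldMap ((ω ≫ pullback.fst G.t (sliceHom hV fs)) w)).hom :=
        Groth.Agent.Lib.Helper22.Birational.bijective_residueFieldMap_congr_point G.s
          (show G.e u = (ω ≫ pullback.fst G.t (sliceHom hV fs)) w from hw.symm)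
          (bijective_residueFieldMap_s_e G u)
      haveI : IsIso ((ω ≫ pullback.fst G.t (sliceHom hV fs)).residueFieldMap w) :=
        Groth.Agent.Lib.Helper69.isIso_residueFieldMap_of_isPreimmersion _ _
      have hb2 : Function.Bijective
          ((ω ≫ pullback.fst G.t (sliceHom hV fs)).residueFieldMap w).hom :=
        ConcreteCategory.bijective_of_isIso _
      exact hb2.comp hb1
    have hb : Function.Bijective ((ω ≫ π G (sliceHom hV fs)).residueFieldMap w).hom :=
      gen _ (Category.assoc _ _ _).symm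
    rw [fibreDimAt_eq_ringKrullDim_of_bijective (ω ≫ π G (sliceHom hV fs)) w hb]
    exact (ringKrullDim_eq_of_ringEquiv e).symm

set_option backward.isDefEq.respectTransparency false in
theorem main [LocallyOfFinitePresentation G.s] [LocallyOfFinitePresentation G.t]
    (hs : ∀ r : G.R, _root_.Grpd.IsCMAt G.s r) (u : G.U)
    (hu : LocallyOfFiniteType (G.U.fromSpecResidueField u))
    (hd : topologicalKrullDim ↥(G.stabilizerToU.fiber u) < FlatMor.fibreDimAt G.s (G.e u)) :
    ∃ (U' : Scheme.{u}) (_ : IsAffine U') (g : U' ⟶ G.U) (u' : U') (p : ↑(pullback g G.t)),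
      IsImmersion g ∧ LocallyOfFinitePresentation g ∧ g u' = u ∧ pullback.fst g G.t p = u' ∧
      pullback.snd g G.t p = G.e u ∧ _root_.Grpd.IsCMAt (pullback.snd g G.t ≫ G.s) p ∧
      FlatMor.fibreDimAt (pullback.snd g G.t ≫ G.s) p + 1 = FlatMor.fibreDimAt G.s (G.e u) := by
  obtain ⟨_, ⟨V, hV, rfl⟩, huV, -⟩ := G.U.isBasis_affineOpens.exists_subset_of_mem_open
    (Set.mem_univ u) isOpen_univ
  have hxT : G.t (G.e u) ∈ V := by rw [e_t_apply]; exact huV
  have hcm := hs (G.e u)
  obtain ⟨hflat, hCM⟩ := hcm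
  haveI := hCM
  have hm := Groth.Agent.Lib.Helper68.SlicePoint.map_tauHom_le G.s G.t (G.e u) V hV hxT
  rw [topologicalKrullDim_stabilizer_fiber_eq G u hu V hV hxT, fibreDimAt_s_e G u] at hd
  obtain ⟨f, hfm, hreg, hdim⟩ := Groth.Agent.Lib.Helper68.SliceAlg.exists_regular_elt_in_image
    (tauHom G.s G.t (G.e u) V hxT) (hV.primeIdealOf ⟨G.t (G.e u), hxT⟩).asIdeal hm hd
  obtain ⟨Ω, ω, w, hω, hw, h1, h2, h3, h4⟩ := chart_point G u (hs (G.e u)) V hV hxT [f] hreg
  let p : ↑(pullback (sliceHom hV [f]) G.t) := (pullbackSymmetry (sliceHom hV [f]) G.t).inv (ω w)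
  have hp : (pullbackSymmetry (sliceHom hV [f]) G.t).hom p = ω w := by
    show ((pullbackSymmetry (sliceHom hV [f]) G.t).inv ≫ (pullbackSymmetry (sliceHom hV [f]) G.t).hom) (ω w) = ω w
    rw [Iso.inv_hom_id]
    rfl
  have hp1 : pullback.fst (sliceHom hV [f]) G.t p = pullback.snd G.t (sliceHom hV [f]) (ω w) := by
    show ((pullbackSymmetry (sliceHom hV [f]) G.t).inv ≫ pullback.fst (sliceHom hV [f]) G.t) (ω w) = _
    rw [pullbackSymmetry_inv_comp_fst]
  have hp2 : pullback.snd (sliceHom hV [f]) G.t p = pullback.fst G.t (sliceHom hV [f]) (ω w) := by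
    show ((pullbackSymmetry (sliceHom hV [f]) G.t).inv ≫ pullback.snd (sliceHom hV [f]) G.t) (ω w) = _
    rw [pullbackSymmetry_inv_comp_snd]
  haveI : LocallyOfFinitePresentation (π G (sliceHom hV [f])) := by
    unfold π; infer_instance
  refine ⟨_, inferInstance, (sliceHom hV [f]), pullback.snd G.t (sliceHom hV [f]) (ω w), p, inferInstance, inferInstance, ?_, hp1,
    hp2.trans hw, ?_, ?_⟩
  · have e1 : (sliceHom hV [f]) (pullback.snd G.t (sliceHom hV [f]) (ω w)) = (pullback.snd G.t (sliceHom hV [f]) ≫ (sliceHom hV [f])) (ω w) := rfl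
    rw [e1, ← pullback.condition]
    show G.t (pullback.fst G.t (sliceHom hV [f]) (ω w)) = u
    rw [hw, e_t_apply]
  · rw [grpd_isCMAt_iff]
    show MoreMor.IsCMAt (hh G (sliceHom hV [f])) p
    rw [hh_eq, Groth.Agent.Lib.Helper13.CMChart.isCMAt_comp_openImmersion_left_iff, hp]
    exact h3
  · show FlatMor.fibreDimAt (hh G (sliceHom hV [f])) p + 1 = _
    have hsq := Groth.Agent.H52.fibreDimAt_eq_of_etale_square (pullbackSymmetry (sliceHom hV [f]) G.t).hom (𝟙 G.U)
      (hh G (sliceHom hV [f])) (π G (sliceHom hV [f])) (by rw [Category.comp_id, hh_eq]) p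
    rw [hsq, hp, h4, fibreDimAt_s_e G u]
    exact hdim

end Groth.Agent.Lib.Helper68.SliceS7506
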