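import Mathlib
import Groth.Agent.Lib.Helper68.SliceTrans
import Groth.Agent.Lib.Helper13.CMChart
import Groth.Agent.S1342
import Groth.Agent.S9766
import Groth.Agent.S9767

/-!
# Translation of Cohen–Macaulayness along a groupoid (helper68)
-/

set_option autoImplicit false
set_option linter.style.haveILetI false

open AlgebraicGeometry CategoryTheory Limits Grpd

namespace Groth.Agent.Lib.Helper68.SliceTrans

universe u

open Groth.Agent.Lib.Helper37 Groth.Agent.Lib.Helper37.Pull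

variable {S : Scheme.{u}} (G : GroupoidScheme S) {Z : Scheme.{u}} (g : Z ⟶ G.U)

set_option backward.isDefEq.respectTransparency false in
/-- Translation: if `h = s ∘ pr : R ×_{t,U,g} Z ⟶ U` is flat and Cohen–Macaulay on an open
`Ω`, then it is so over the open image `Z°` of `Ω` in `Z`. -/
theorem translate_cm [Flat G.s] [LocallyOfFinitePresentation G.s] [Flat G.t]
    [LocallyOfFinitePresentation G.t] (hs : ∀ r : G.R, MoreMor.IsCMAt G.s r)
    [LocallyOfFinitePresentation g] {Ω : Scheme.{u}}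
    (ω : Ω ⟶ pullback G.t g) [IsOpenImmersion ω] [Flat (ω ≫ π G g)]
    (hcm : ∀ w : Ω, MoreMor.IsCMAt (ω ≫ π G g) w) :
    ∃ Z' : Z.Opens, (∀ w : Ω, pullback.snd G.t g (ω w) ∈ Z') ∧
      ∀ {W : Scheme.{u}} (j : W ⟶ Z) [IsOpenImmersion j], Set.range j ⊆ (Z' : Set Z) →
      Flat (π G (j ≫ g)) ∧ LocallyOfFinitePresentation (π G (j ≫ g)) ∧
      ∀ x, MoreMor.IsCMAt (π G (j ≫ g)) x := by
  haveI hπfp : LocallyOfFinitePresentation (π G g) := by
    unfold π; infer_instance
  let Z' : Z.Opens := ⟨Set.range (ω ≫ pullback.snd G.t g),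
    (ω ≫ pullback.snd G.t g).isOpenMap.isOpen_range⟩
  refine ⟨Z', fun w => ⟨w, rfl⟩, ?_⟩
  -- the translated chart
  let ν := pullback.map (ω ≫ π G g) G.t (π G g) G.t ω (𝟙 _) (𝟙 _) (by simp) (by simp)
  haveI : IsOpenImmersion ν := by dsimp only [ν]; infer_instance
  have hνq : ν ≫ q G g = pullback.snd (ω ≫ π G g) G.t := by
    dsimp only [ν, q]; rw [pullback.lift_snd, Category.comp_id]
  have hνa₁ : ν ≫ a₁ G g = pullback.fst (ω ≫ π G g) G.t ≫ ω := by
    dsimp only [ν, a₁]; rw [pullback.lift_fst]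
  haveI hfa₂ : Flat (a₂ G g) :=
    MorphismProperty.of_isPullback (P := @Flat) (isPullback_a₂ G g).flip inferInstance
  haveI hpa₂ : LocallyOfFinitePresentation (a₂ G g) :=
    MorphismProperty.of_isPullback (P := @LocallyOfFinitePresentation) (isPullback_a₂ G g).flip
      inferInstance
  let X' : (pullback G.t g).Opens := pullback.snd G.t g ⁻¹ᵁ Z'
  have hrange : Set.range (ν ≫ a₂ G g) = (X' : Set ↥(pullback G.t g)) := by
    ext x
    constructor
    · rintro ⟨y', rfl⟩
      show pullback.snd G.t g ((ν ≫ a₂ G g) y') ∈ Z'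
      refine ⟨pullback.fst (ω ≫ π G g) G.t y', ?_⟩
      have e0 : ν ≫ a₂ G g ≫ pullback.snd G.t g =
          pullback.fst (ω ≫ π G g) G.t ≫ ω ≫ pullback.snd G.t g := by
        rw [a₂_snd, ← Category.assoc ν, hνa₁, Category.assoc]
      have e1 : pullback.snd G.t g ((ν ≫ a₂ G g) y') =
          (ν ≫ a₂ G g ≫ pullback.snd G.t g) y' := rfl
      rw [e1, e0]
      rfl
    · rintro ⟨w, hw⟩
      obtain ⟨y, hy1, hy2⟩ := exists_point_a₁_a₂ G g (ω w) x hw
      have hy : y ∈ Set.range ν := by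
        dsimp only [ν]
        rw [Scheme.Pullback.range_map]
        refine ⟨⟨w, hy1.symm⟩, ?_⟩
        simp
      obtain ⟨y', rfl⟩ := hy
      exact ⟨y', hy2⟩
  let a₂'' : pullback (ω ≫ π G g) G.t ⟶ (X' : Scheme.{u}) :=
    IsOpenImmersion.lift X'.ι (ν ≫ a₂ G g) (by rw [hrange]; simp)
  have ha₂'' : a₂'' ≫ X'.ι = ν ≫ a₂ G g := IsOpenImmersion.lift_fac _ _ _
  haveI : Flat a₂'' := by
    refine MorphismProperty.of_postcomp (W := @Flat) (W' := @IsOpenImmersion) a₂'' X'.ι
      inferInstance ?_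
    rw [ha₂'']
    infer_instance
  haveI : LocallyOfFiniteType a₂'' := by
    haveI : LocallyOfFiniteType (a₂'' ≫ X'.ι) := by
      rw [ha₂'']
      infer_instance
    exact locallyOfFiniteType_of_comp a₂'' X'.ι
  haveI : Surjective a₂'' := by
    refine ⟨fun x => ?_⟩
    have hx : X'.ι x ∈ Set.range (ν ≫ a₂ G g) := by rw [hrange]; exact x.2
    obtain ⟨y', hy'⟩ := hx
    refine ⟨y', ?_⟩
    apply X'.ι.isOpenEmbedding.injective
    rw [← hy', ← ha₂'']
    rfl
  have hcomp : a₂'' ≫ (X'.ι ≫ π G g) = pullback.snd (ω ≫ π G g) G.t ≫ G.s := by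
    have e0 : (a₂'' ≫ X'.ι) ≫ π G g = pullback.snd (ω ≫ π G g) G.t ≫ G.s := by
      rw [ha₂'', Category.assoc, a₂_π, ← Category.assoc ν, hνq]
    exact (Category.assoc _ _ _).symm.trans e0
  haveI : Flat (a₂'' ≫ (X'.ι ≫ π G g)) := by
    rw [hcomp]; infer_instance
  haveI hflat : Flat (X'.ι ≫ π G g) :=
    Groth.Agent.Lib.Helper7.flat_of_flat_comp_of_flat_surjective a₂'' (X'.ι ≫ π G g)
  have hcmX' : ∀ x : ↥(X' : Scheme.{u}), MoreMor.IsCMAt (X'.ι ≫ π G g) x := by
    intro x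
    obtain ⟨y', rfl⟩ := ‹Surjective a₂''›.surj x
    -- the projection to `R` is Cohen–Macaulay, as a base change
    have hset := Groth.Agent.S1342.result (ω ≫ π G g) (pullback.snd (ω ≫ π G g) G.t)
      (pullback.fst (ω ≫ π G g) G.t) G.t (IsPullback.of_hasPullback _ _)
    have h1 : MoreMor.IsCMAt (pullback.snd (ω ≫ π G g) G.t) y' := by
      have : y' ∈ {x' | MoreMor.IsCMAt (pullback.snd (ω ≫ π G g) G.t) x'} := by
        rw [hset]
        exact hcm _
      exact this
    have h2 : MoreMor.IsCMAt (pullback.snd (ω ≫ π G g) G.t ≫ G.s) y' :=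
      Groth.Agent.S9766.result _ _ y'
        (Groth.Agent.Lib.Helper13.CMChart.isLocallyNoetherian_fiber _ _) h1 (hs _)
    rw [← hcomp] at h2
    exact (Groth.Agent.S9767.result a₂'' (X'.ι ≫ π G g) y'
      (Groth.Agent.Lib.Helper13.CMChart.isLocallyNoetherian_fiber _ _)
      (Groth.Agent.Lib.Helper13.CMChart.isLocallyNoetherian_fiber _ _) h2
      (Flat.stalkMap a₂'' y')).2
  -- comparison with the restricted slice
  intro W j _ hj
  let κ := pullback.map G.t (j ≫ g) G.t g (𝟙 _) j (𝟙 _) (by simp) (by simp)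
  haveI : IsOpenImmersion κ := by dsimp only [κ]; infer_instance
  have hκ1 : κ ≫ pullback.fst G.t g = pullback.fst G.t (j ≫ g) := by
    dsimp only [κ]; rw [pullback.lift_fst, Category.comp_id]
  have hκ2 : κ ≫ pullback.snd G.t g = pullback.snd G.t (j ≫ g) ≫ j := by
    dsimp only [κ]; rw [pullback.lift_snd]
  have hκrange : Set.range κ ⊆ Set.range X'.ι := by
    rintro _ ⟨x, rfl⟩
    rw [Scheme.Opens.range_ι]
    show pullback.snd G.t g (κ x) ∈ Z'
    have : pullback.snd G.t g (κ x) = (κ ≫ pullback.snd G.t g) x := rfl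
    rw [this, hκ2]
    exact hj ⟨_, rfl⟩
  let κ' := IsOpenImmersion.lift X'.ι κ hκrange
  have hκ' : κ' ≫ X'.ι = κ := IsOpenImmersion.lift_fac _ _ _
  haveI : IsOpenImmersion κ' := by
    refine MorphismProperty.of_postcomp (W := @IsOpenImmersion) (W' := @IsOpenImmersion) κ' X'.ι
      inferInstance ?_
    rw [hκ']
    infer_instance
  have hfin : π G (j ≫ g) = κ' ≫ (X'.ι ≫ π G g) := by
    have e0 : (κ' ≫ X'.ι) ≫ π G g = π G (j ≫ g) := by
      rw [hκ']
      show κ ≫ pullback.fst G.t g ≫ G.s = _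
      rw [← Category.assoc, hκ1]
    exact e0.symm.trans (Category.assoc _ _ _)
  refine ⟨?_, ?_, ?_⟩
  · rw [hfin]; infer_instance
  · unfold π; infer_instance
  · intro x
    rw [hfin, Groth.Agent.Lib.Helper13.CMChart.isCMAt_comp_openImmersion_left_iff]
    exact hcmX' _

end Groth.Agent.Lib.Helper68.SliceTrans
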