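import Mathlib
import Groth.Agent.Lib.Helper68.SliceS7506
import Groth.Agent.Lib.Helper68.SliceTransCM
import Groth.Agent.S4961

/-!
# Maximal slicing of a groupoid with Cohen–Macaulay source and target (helper68)
-/

set_option autoImplicit false
set_option linter.style.haveILetI false

open AlgebraicGeometry CategoryTheory Limits Grpd

namespace Groth.Agent.Lib.Helper68.SliceS7507

universe u

open Groth.Agent.Lib.Helper37 Groth.Agent.Lib.Helper37.Pull
open Groth.Agent.Lib.Helper68.SliceLocal Groth.Agent.Lib.Helper68.SliceH0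
open Groth.Agent.Lib.Helper68.SlicePointwise Groth.Agent.Lib.Helper68.SliceS7508
open Groth.Agent.Lib.Helper68.SliceS7506 Groth.Agent.Lib.Helper68.SliceTrans IsLocalRing
open RingTheory.Sequence Groth.Agent.Lib.Helper13.CMChart

variable {S : Scheme.{u}} (G : GroupoidScheme S)

set_option backward.isDefEq.respectTransparency false in
theorem main [LocallyOfFinitePresentation G.s] [LocallyOfFinitePresentation G.t]
    (hs : ∀ r : G.R, _root_.Grpd.IsCMAt G.s r) (ht : ∀ r : G.R, _root_.Grpd.IsCMAt G.t r) (u : G.U)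
    (hu : LocallyOfFiniteType (G.U.fromSpecResidueField u)) :
    ∃ (U' : Scheme.{u}) (_ : IsAffine U') (g : U' ⟶ G.U) (u' : U') (p : ↑(pullback g G.t)),
      IsImmersion g ∧ LocallyOfFinitePresentation g ∧ g u' = u ∧ pullback.fst g G.t p = u' ∧
      pullback.snd g G.t p = G.e u ∧
      (∀ q, _root_.Grpd.IsCMAt (pullback.snd g G.t ≫ G.s) q) ∧
      LocallyOfFinitePresentation (pullback.snd g G.t ≫ G.s) ∧
      (∀ q, _root_.Grpd.IsCMAt (pullback.snd (pullback.snd g G.t ≫ G.s) g) q) ∧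
      LocallyOfFinitePresentation (pullback.snd (pullback.snd g G.t ≫ G.s) g) ∧
      (∀ q, _root_.Grpd.IsCMAt (pullback.fst (pullback.snd g G.t ≫ G.s) g ≫ pullback.fst g G.t) q) ∧
      LocallyOfFinitePresentation (pullback.fst (pullback.snd g G.t ≫ G.s) g ≫ pullback.fst g G.t) ∧
      FlatMor.fibreDimAt (pullback.snd g G.t ≫ G.s) p =
        topologicalKrullDim ↥(G.stabilizerToU.fiber u) := by
  haveI : Flat G.s := flat_of_forall_isCMAt G.s hs
  haveI : Flat G.t := flat_of_forall_isCMAt G.t ht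
  have hs' : ∀ r : G.R, MoreMor.IsCMAt G.s r := fun r => (grpd_isCMAt_iff G.s r).mp (hs r)
  obtain ⟨_, ⟨V, hV, rfl⟩, huV, -⟩ := G.U.isBasis_affineOpens.exists_subset_of_mem_open
    (Set.mem_univ u) isOpen_univ
  have hxT : G.t (G.e u) ∈ V := by rw [e_t_apply]; exact huV
  obtain ⟨hflat, hCM⟩ := hs (G.e u)
  haveI := hCM
  have hm := Groth.Agent.Lib.Helper68.SlicePoint.map_tauHom_le G.s G.t (G.e u) V hV hxT
  obtain ⟨fs, hmem, hreg, hdim⟩ := Groth.Agent.Lib.Helper68.SliceAlg.exists_regular_in_image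
    (tauHom G.s G.t (G.e u) V hxT) (hV.primeIdealOf ⟨G.t (G.e u), hxT⟩).asIdeal hm
  obtain ⟨Ω, ω, w, hω, hw, h1, h2, h3, h4⟩ := chart_point G u (hs (G.e u)) V hV hxT fs hreg
  haveI := hω
  haveI : Flat (ω ≫ π G (sliceHom hV fs)) := h1
  haveI : LocallyOfFinitePresentation (ω ≫ π G (sliceHom hV fs)) := h2
  -- shrink the chart to the Cohen–Macaulay locus
  let Ωc : Ω.Opens := ⟨{w' | MoreMor.IsCMAt (ω ≫ π G (sliceHom hV fs)) w'},
    Groth.Agent.S4961.result (ω ≫ π G (sliceHom hV fs))⟩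
  have hwc : w ∈ Ωc := by
    show MoreMor.IsCMAt (ω ≫ π G (sliceHom hV fs)) w
    rw [isCMAt_comp_openImmersion_left_iff]
    exact h3
  haveI : Flat ((Scheme.Opens.ι Ωc ≫ ω) ≫ π G (sliceHom hV fs)) := by
    rw [Category.assoc]; infer_instance
  have hcm' : ∀ x : ↥(Ωc : Scheme.{u}),
      MoreMor.IsCMAt ((Scheme.Opens.ι Ωc ≫ ω) ≫ π G (sliceHom hV fs)) x := by
    intro x
    rw [Category.assoc, isCMAt_comp_openImmersion_left_iff]
    exact x.2
  obtain ⟨Z', hZ'w, hZ'⟩ := translate_cm G (sliceHom hV fs) hs' (Scheme.Opens.ι Ωc ≫ ω) hcm'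
  have hz0 : pullback.snd G.t (sliceHom hV fs) (ω w) ∈ Z' := hZ'w ⟨w, hwc⟩
  obtain ⟨Zs, hZs⟩ : ∃ Zs : Scheme.{u}, Zs = Spec (CommRingCat.of (Γ(G.U, V) ⧸ Ideal.ofList fs)) :=
    ⟨_, rfl⟩
  subst hZs
  obtain ⟨W', ⟨W, hW, hWW'⟩, hzW, hWZ'⟩ :=
    (Spec (CommRingCat.of (Γ(G.U, V) ⧸ Ideal.ofList fs))).isBasis_affineOpens.exists_subset_of_mem_open
      hz0 Z'.2
  subst hWW'
  obtain ⟨hf1, hf2, hf3⟩ := hZ' (Scheme.Opens.ι W) (by rw [Scheme.Opens.range_ι]; exact hWZ')
  -- the slice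
  obtain ⟨g, hg⟩ : ∃ g : (W : Scheme.{u}) ⟶ G.U, g = Scheme.Opens.ι W ≫ sliceHom hV fs := ⟨_, rfl⟩
  rw [← hg] at hf1 hf2 hf3
  haveI : IsImmersion g := by rw [hg]; infer_instance
  haveI : LocallyOfFinitePresentation g := by rw [hg]; infer_instance
  haveI := hf1
  haveI := hf2
  -- the point
  let κ := pullback.map G.t g G.t (sliceHom hV fs) (𝟙 _) (Scheme.Opens.ι W) (𝟙 _)
    (by simp) (by rw [hg]; simp)
  haveI : IsOpenImmersion κ := by dsimp only [κ]; infer_instance
  have hκ1 : κ ≫ pullback.fst G.t (sliceHom hV fs) = pullback.fst G.t g := by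
    dsimp only [κ]; rw [pullback.lift_fst, Category.comp_id]
  have hκ2 : κ ≫ pullback.snd G.t (sliceHom hV fs) = pullback.snd G.t g ≫ Scheme.Opens.ι W := by
    dsimp only [κ]; rw [pullback.lift_snd]
  have hκπ : κ ≫ π G (sliceHom hV fs) = π G g := by
    show κ ≫ pullback.fst G.t (sliceHom hV fs) ≫ G.s = _
    rw [← Category.assoc, hκ1]
  obtain ⟨pW, hpW⟩ : ω w ∈ Set.range κ := by
    dsimp only [κ]
    rw [Scheme.Pullback.range_map]
    refine ⟨by simp, ?_⟩
    rw [Scheme.Opens.range_ι]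
    exact hzW
  let p : ↑(pullback g G.t) := (pullbackSymmetry g G.t).inv pW
  have hp : (pullbackSymmetry g G.t).hom p = pW := by
    show ((pullbackSymmetry g G.t).inv ≫ (pullbackSymmetry g G.t).hom) pW = pW
    rw [Iso.inv_hom_id]
    rfl
  have hp1 : pullback.fst g G.t p = pullback.snd G.t g pW := by
    show ((pullbackSymmetry g G.t).inv ≫ pullback.fst g G.t) pW = _
    rw [pullbackSymmetry_inv_comp_fst]
  have hp2 : pullback.snd g G.t p = pullback.fst G.t g pW := by
    show ((pullbackSymmetry g G.t).inv ≫ pullback.snd g G.t) pW = _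
    rw [pullbackSymmetry_inv_comp_snd]
  have hpWe : pullback.fst G.t g pW = G.e u := by
    rw [← hκ1]
    show pullback.fst G.t (sliceHom hV fs) (κ pW) = G.e u
    rw [hpW, hw]
  -- Cohen–Macaulayness
  haveI hhf : Flat (hh G g) := by rw [hh_eq]; infer_instance
  haveI hhp : LocallyOfFinitePresentation (hh G g) := by rw [hh_eq]; infer_instance
  have hhcm : ∀ q, MoreMor.IsCMAt (hh G g) q := by
    intro q
    rw [hh_eq, isCMAt_comp_openImmersion_left_iff]
    exact hf3 _
  have hscm : ∀ q, MoreMor.IsCMAt (pullback.snd (hh G g) g) q := by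
    intro q
    have hset := Groth.Agent.S1342.result (hh G g) (pullback.snd (hh G g) g)
      (pullback.fst (hh G g) g) g (IsPullback.of_hasPullback _ _)
    have : q ∈ {x' | MoreMor.IsCMAt (pullback.snd (hh G g) g) x'} := by
      rw [hset]
      exact hhcm _
    exact this
  have e := fst_fst_eq G g
  refine ⟨_, hW, g, pullback.snd G.t g pW, p, inferInstance, inferInstance, ?_, hp1,
    hp2.trans hpWe, fun q => (grpd_isCMAt_iff _ _).mpr (hhcm q), hhp,
    fun q => (grpd_isCMAt_iff _ _).mpr (hscm q), inferInstance, ?_, ?_, ?_⟩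
  · have e1 : g (pullback.snd G.t g pW) = (pullback.snd G.t g ≫ g) pW := rfl
    rw [e1, ← pullback.condition]
    show G.t (pullback.fst G.t g pW) = u
    rw [hpWe, e_t_apply]
  · intro q
    rw [grpd_isCMAt_iff]
    show MoreMor.IsCMAt (pullback.fst (hh G g) g ≫ pullback.fst g G.t) q
    rw [e, isCMAt_comp_openImmersion_left_iff]
    exact hscm _
  · show LocallyOfFinitePresentation (pullback.fst (hh G g) g ≫ pullback.fst g G.t)
    rw [e]; infer_instance
  · show FlatMor.fibreDimAt (hh G g) p = _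
    have hsq := Groth.Agent.H52.fibreDimAt_eq_of_etale_square (pullbackSymmetry g G.t).hom (𝟙 G.U)
      (hh G g) (π G g) (by rw [Category.comp_id, hh_eq]) p
    haveI : LocallyOfFinitePresentation (π G (sliceHom hV fs)) := by
      unfold π; infer_instance
    have hsq2 := Groth.Agent.H52.fibreDimAt_eq_of_etale_square κ (𝟙 G.U)
      (π G g) (π G (sliceHom hV fs)) (by rw [Category.comp_id, hκπ]) pW
    rw [hsq, hp, hsq2, hpW, h4, hdim,
      ← topologicalKrullDim_stabilizer_fiber_eq G u hu V hV hxT]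

end Groth.Agent.Lib.Helper68.SliceS7507
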