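import Mathlib

universe u
open AlgebraicGeometry CategoryTheory CategoryTheory.Limits

namespace Groth.Agent.Lib.Helper68.StalkSep

/-- Uniqueness part of the valuative criterion for a separated scheme. -/
theorem eq_of_comp_eq (X : Scheme.{u}) [X.IsSeparated] (R : CommRingCat.{u}) (K : Type u)
    [IsDomain R] [ValuationRing R] [Field K] [Algebra R K] [IsFractionRing R K]
    (a b : Spec R ⟶ X)
    (h : Spec.map (CommRingCat.ofHom (algebraMap R K)) ≫ a =
      Spec.map (CommRingCat.ofHom (algebraMap R K)) ≫ b) : a = b := by
  have huniq := IsSeparated.valuativeCriterion (terminal.from X)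
  let S : ValuativeCommSq (terminal.from X) :=
    { R := R, K := K,
      i₁ := Spec.map (CommRingCat.ofHom (algebraMap R K)) ≫ a
      i₂ := terminal.from _
      commSq := ⟨terminal.hom_ext _ _⟩ }
  have hsub := huniq S
  let l₁ : S.commSq.LiftStruct := ⟨a, rfl, terminal.hom_ext _ _⟩
  let l₂ : S.commSq.LiftStruct := ⟨b, h.symm, terminal.hom_ext _ _⟩
  have : l₁ = l₂ := Subsingleton.elim _ _
  exact congrArg CommSq.LiftStruct.l this

open IsLocalRing

set_option backward.isDefEq.respectTransparency false in
theorem eq_of_stalk_hom (X : Scheme.{u}) [IsIntegral X] [X.IsSeparated] (x y : X)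
    [ValuationRing (X.presheaf.stalk x)]
    (α : X.presheaf.stalk y ⟶ X.presheaf.stalk x) [IsLocalHom α.hom]
    (hα : ∀ t, algebraMap (X.presheaf.stalk x) X.functionField (α t) =
      algebraMap (X.presheaf.stalk y) X.functionField t) : x = y := by
  have hx : genericPoint X ⤳ x := (genericPoint_spec X).specializes trivial
  have hy : genericPoint X ⤳ y := (genericPoint_spec X).specializes trivial
  have hcomp : α ≫ X.presheaf.stalkSpecializes hx = X.presheaf.stalkSpecializes hy := by
    ext t
    exact hα t
  have key := eq_of_comp_eq X (X.presheaf.stalk x) X.functionField (X.fromSpecStalk x)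
    (Spec.map α ≫ X.fromSpecStalk y) (by
      have e1 : CommRingCat.ofHom (algebraMap (X.presheaf.stalk x) X.functionField) =
          X.presheaf.stalkSpecializes hx := rfl
      rw [e1, Scheme.SpecMap_stalkSpecializes_fromSpecStalk, ← Category.assoc, ← Spec.map_comp,
        hcomp, Scheme.SpecMap_stalkSpecializes_fromSpecStalk])
  have h1 : (X.fromSpecStalk x) (closedPoint (X.presheaf.stalk x)) =
      (Spec.map α ≫ X.fromSpecStalk y) (closedPoint (X.presheaf.stalk x)) := by rw [key]
  rw [Scheme.fromSpecStalk_closedPoint, Scheme.Hom.comp_apply, Spec_closedPoint,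
    Scheme.fromSpecStalk_closedPoint] at h1
  exact h1

end Groth.Agent.Lib.Helper68.StalkSep

namespace Groth.Agent.Lib.Helper68.StalkSep

section Alg

variable {K : Type*} [Field K] (A : Type*) [CommRing A] [IsDomain A] [ValuationRing A]
  [Algebra A K] [IsFractionRing A K]

/-- The valuation subring of the fraction field attached to a valuation ring. -/
noncomputable def toVS : ValuationSubring K :=
  { (algebraMap A K).range with
    mem_or_inv_mem' := fun k => by
      rcases ValuationRing.isInteger_or_isInteger A k with ⟨a, ha⟩ | ⟨a, ha⟩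
      · exact Or.inl ⟨a, ha⟩
      · exact Or.inr ⟨a, ha⟩ }

lemma mem_toVS {k : K} : k ∈ toVS (K := K) A ↔ ∃ a : A, algebraMap A K a = k := Iff.rfl

/-- The valuation ring is isomorphic to its image. -/
noncomputable def equivToVS : A ≃+* toVS (K := K) A :=
  RingEquiv.ofBijective
    ((algebraMap A K).codRestrict (toVS (K := K) A).toSubring (fun a => ⟨a, rfl⟩))
    ⟨fun a b h => IsFractionRing.injective A K (congrArg Subtype.val h),
      fun ⟨k, a, ha⟩ => ⟨a, Subtype.ext ha⟩⟩

@[simp] lemma coe_equivToVS (a : A) : ((equivToVS (K := K) A a : toVS (K := K) A) : K) =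
    algebraMap A K a := rfl

lemma algebraMap_equivToVS_symm (v : toVS (K := K) A) :
    algebraMap A K ((equivToVS (K := K) A).symm v) = (v : K) := by
  rw [← coe_equivToVS, RingEquiv.apply_symm_apply]

variable (B : Type*) [CommRing B] [IsDomain B] [ValuationRing B]
  [Algebra B K] [IsFractionRing B K]

/-- The comparison map when the images agree. -/
noncomputable def compare (h : toVS (K := K) B = toVS (K := K) A) : B →+* A :=
  (equivToVS (K := K) A).symm.toRingHom.comp
    ((ValuationSubring.inclusion _ _ h.le).comp (equivToVS (K := K) B).toRingHom)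

lemma algebraMap_compare (h : toVS (K := K) B = toVS (K := K) A) (t : B) :
    algebraMap A K (compare A B h t) = algebraMap B K t := by
  simp only [compare, RingHom.comp_apply]
  erw [algebraMap_equivToVS_symm]
  rfl

lemma compare_compare (h : toVS (K := K) B = toVS (K := K) A) (t : B) :
    compare B A h.symm (compare A B h t) = t := by
  apply IsFractionRing.injective B K
  rw [algebraMap_compare, algebraMap_compare]

lemma isLocalHom_compare (h : toVS (K := K) B = toVS (K := K) A) :
    IsLocalHom (compare A B h) := by
  constructor
  intro t ht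
  have := ht.map (compare B A h.symm)
  rwa [compare_compare] at this

end Alg

end Groth.Agent.Lib.Helper68.StalkSep
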