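import Mathlib
import Groth.Agent.Lib.Helper54.FinQuot

/-!
# Finite sets of points of a separated locally quasi-finite scheme over an affine scheme (helper68)

By Zariski's main theorem, a quasi-compact open of such a scheme is an open subscheme of an affine
scheme, hence every finite set of points lies in an affine open.
-/

set_option autoImplicit false
set_option linter.style.haveILetI false

open AlgebraicGeometry CategoryTheory Limits

namespace Groth.Agent.Lib.Helper68.SubQuot

universe u

/-- A finite set of points of a scheme lies in a quasi-compact open. -/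
theorem exists_isCompact_opens_of_finite {R : Scheme.{u}} (F : Set R) (hF : F.Finite) :
    ∃ O : R.Opens, IsCompact (O : Set R) ∧ F ⊆ O := by
  induction F, hF using Set.Finite.induction_on with
  | empty => exact ⟨⊥, by simp, Set.empty_subset _⟩
  | @insert a F _ _ ih =>
    obtain ⟨O, hO, hFO⟩ := ih
    obtain ⟨W, hW, haW, -⟩ := (R.isBasis_affineOpens).exists_subset_of_mem_open
      (Set.mem_univ a) isOpen_univ
    have hWaff : IsAffineOpen (⟨W, (R.isBasis_affineOpens).isOpen hW⟩ : R.Opens) := by
      obtain ⟨V, hV, rfl⟩ := hW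
      exact hV
    refine ⟨⟨W, (R.isBasis_affineOpens).isOpen hW⟩ ⊔ O, ?_, ?_⟩
    · rw [TopologicalSpace.Opens.coe_sup]
      exact hWaff.isCompact.union hO
    · rw [TopologicalSpace.Opens.coe_sup]
      exact Set.insert_subset (Or.inl haW) (hFO.trans Set.subset_union_right)

/-- **Finite sets lie in affine opens** for schemes separated and locally quasi-finite over an
affine scheme. -/
theorem exists_isAffineOpen_of_finite {R A : Scheme.{u}} (f : R ⟶ A) [IsAffine A] [IsSeparated f]
    [LocallyQuasiFinite f] [LocallyOfFiniteType f] (F : Set R) (hF : F.Finite) :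
    ∃ W : R.Opens, IsAffineOpen W ∧ F ⊆ W := by
  obtain ⟨O, hO, hFO⟩ := exists_isCompact_opens_of_finite F hF
  haveI : CompactSpace ↥(O : Scheme.{u}) := isCompact_iff_compactSpace.mp hO
  obtain ⟨f', hf'⟩ : ∃ f' : (O : Scheme.{u}) ⟶ A, f' = O.ι ≫ f := ⟨_, rfl⟩
  haveI : IsSeparated f' := by rw [hf']; infer_instance
  haveI : LocallyQuasiFinite f' := by rw [hf']; infer_instance
  haveI : LocallyOfFiniteType f' := by rw [hf']; infer_instance
  haveI : QuasiCompact f' := inferInstance
  haveI : IsAffine f'.normalization := isAffine_of_isAffineHom f'.fromNormalization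
  obtain ⟨W', hW', hFW'⟩ := Groth.Agent.Lib.Helper54.exists_affine_of_finite_of_openImmersion
    f'.toNormalization (O.ι ⁻¹' F) (hF.preimage O.ι.isOpenEmbedding.injective.injOn)
  refine ⟨O.ι ''ᵁ W', hW'.image_of_isOpenImmersion O.ι, fun x hx => ?_⟩
  obtain ⟨y, rfl⟩ : x ∈ Set.range O.ι := by
    rw [Scheme.Opens.range_ι]
    exact hFO hx
  exact ⟨y, hFW' hx, rfl⟩

end Groth.Agent.Lib.Helper68.SubQuot
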