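import Mathlib
import Groth.Prelude.Def_Grpd
import Groth.Agent.Lib.Helper37.Groupoid

/-!
# A calculus of `T`-valued arrows of a groupoid scheme (helper68)

`Arr G a b`: the `T`-points of `R` with source `a` and target `b`, with identities, composition
(`f.comp g` is "first `f` then `g`"), inverses and pullback along `T' ⟶ T`, and the groupoid laws as
`simp` lemmas.
-/

set_option autoImplicit false
set_option linter.style.haveILetI false

open AlgebraicGeometry CategoryTheory Limits Grpd

namespace Groth.Agent.Lib.Helper68.SubQuot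

universe u

open Groth.Agent.Lib.Helper37

variable {S : Scheme.{u}} (G : GroupoidScheme S)

/-- `T`-valued arrows of `G` from `a` to `b`. -/
@[ext]
structure Arr {T : Scheme.{u}} (a b : T ⟶ G.U) where
  /-- the underlying point of `R` -/
  r : T ⟶ G.R
  hs : r ≫ G.s = a
  ht : r ≫ G.t = b

namespace Arr

variable {G} {T : Scheme.{u}} {a b c d : T ⟶ G.U}

/-- the arrow attached to a point of `R` -/
def mk' (v : T ⟶ G.R) : Arr G (v ≫ G.s) (v ≫ G.t) := ⟨v, rfl, rfl⟩

/-- identity -/
def id (a : T ⟶ G.U) : Arr G a a :=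
  ⟨a ≫ G.e, by rw [Category.assoc, G.e_s, Category.comp_id],
    by rw [Category.assoc, G.e_t, Category.comp_id]⟩

/-- composition: first `f`, then `g` -/
noncomputable def comp (f : Arr G a b) (g : Arr G b c) : Arr G a c :=
  ⟨gcomp G g.r f.r (g.hs.trans f.ht.symm), by rw [gcomp_s, f.hs], by rw [gcomp_t, g.ht]⟩

/-- inverse -/
def inv (f : Arr G a b) : Arr G b a :=
  ⟨f.r ≫ G.i, by rw [Category.assoc, G.i_s, f.ht], by rw [Category.assoc, G.i_t, f.hs]⟩

/-- pullback along `g : T' ⟶ T` -/
def map {T' : Scheme.{u}} (g : T' ⟶ T) (f : Arr G a b) : Arr G (g ≫ a) (g ≫ b) :=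
  ⟨g ≫ f.r, by rw [Category.assoc, f.hs], by rw [Category.assoc, f.ht]⟩

/-- transport along equalities of the endpoints -/
def cast {a' b' : T ⟶ G.U} (ha : a = a') (hb : b = b') (f : Arr G a b) : Arr G a' b' :=
  ⟨f.r, f.hs.trans ha, f.ht.trans hb⟩

@[simp] lemma cast_r {a' b' : T ⟶ G.U} (ha : a = a') (hb : b = b') (f : Arr G a b) :
    (f.cast ha hb).r = f.r := rfl

@[simp] lemma cast_rfl (f : Arr G a b) : f.cast rfl rfl = f := rfl

@[simp] lemma id_r (a : T ⟶ G.U) : (Arr.id a : Arr G a a).r = a ≫ G.e := rfl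

@[simp] lemma inv_r (f : Arr G a b) : f.inv.r = f.r ≫ G.i := rfl

@[simp] lemma map_r {T' : Scheme.{u}} (g : T' ⟶ T) (f : Arr G a b) : (f.map g).r = g ≫ f.r := rfl

lemma comp_r (f : Arr G a b) (g : Arr G b c) :
    (f.comp g).r = gcomp G g.r f.r (g.hs.trans f.ht.symm) := rfl

@[simp] lemma comp_assoc (f : Arr G a b) (g : Arr G b c) (h : Arr G c d) :
    (f.comp g).comp h = f.comp (g.comp h) := by
  apply Arr.ext
  simp only [comp_r]
  exact (gcomp_assoc G h.r g.r f.r _ _ _ _).symm

@[simp] lemma id_comp (f : Arr G a b) : (Arr.id a).comp f = f := by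
  apply Arr.ext
  rw [comp_r]
  exact gcomp_e G f.r _ (by rw [id_r, ← Category.assoc, f.hs]) _

@[simp] lemma comp_id (f : Arr G a b) : f.comp (Arr.id b) = f := by
  apply Arr.ext
  rw [comp_r]
  exact e_gcomp G f.r _ (by rw [id_r, ← Category.assoc, f.ht]) _

@[simp] lemma comp_inv (f : Arr G a b) : f.comp f.inv = Arr.id a := by
  apply Arr.ext
  rw [comp_r, id_r]
  exact (i_gcomp G f.r _ rfl _).trans (by rw [← Category.assoc, f.hs])

@[simp] lemma inv_comp (f : Arr G a b) : f.inv.comp f = Arr.id b := by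
  apply Arr.ext
  rw [comp_r, id_r]
  exact (gcomp_i G f.r _ rfl _).trans (by rw [← Category.assoc, f.ht])

@[simp] lemma comp_inv_assoc (f : Arr G a b) (g : Arr G a c) : f.comp (f.inv.comp g) = g := by
  rw [← comp_assoc, comp_inv, id_comp]

@[simp] lemma inv_comp_assoc (f : Arr G a b) (g : Arr G b c) : f.inv.comp (f.comp g) = g := by
  rw [← comp_assoc, inv_comp, id_comp]

lemma comp_left_cancel (f : Arr G a b) {g g' : Arr G b c} (h : f.comp g = f.comp g') : g = g' := by
  rw [← inv_comp_assoc f g, h, inv_comp_assoc]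

lemma comp_right_cancel {f f' : Arr G a b} (g : Arr G b c) (h : f.comp g = f'.comp g) :
    f = f' := by
  have := congrArg (fun k => k.comp g.inv) h
  simpa using this

@[simp] lemma inv_inv (f : Arr G a b) : f.inv.inv = f := by
  apply comp_left_cancel f.inv
  rw [comp_inv, inv_comp]

@[simp] lemma inv_id (a : T ⟶ G.U) : (Arr.id a : Arr G a a).inv = Arr.id a := by
  apply comp_left_cancel (Arr.id a)
  rw [comp_inv, id_comp]

@[simp] lemma inv_comp_rev (f : Arr G a b) (g : Arr G b c) :
    (f.comp g).inv = g.inv.comp f.inv := by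
  apply comp_left_cancel (f.comp g)
  rw [comp_inv, comp_assoc, comp_inv_assoc, comp_inv]

variable {T' : Scheme.{u}} (k : T' ⟶ T)

@[simp] lemma map_id (a : T ⟶ G.U) : (Arr.id a : Arr G a a).map k = Arr.id (k ≫ a) := by
  apply Arr.ext
  simp only [map_r, id_r, Category.assoc]

@[simp] lemma map_comp (f : Arr G a b) (g : Arr G b c) :
    (f.comp g).map k = (f.map k).comp (g.map k) := by
  apply Arr.ext
  simp only [map_r, comp_r]
  exact precomp_gcomp G k _ _ _

@[simp] lemma map_inv (f : Arr G a b) : f.inv.map k = (f.map k).inv := by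
  apply Arr.ext
  simp only [map_r, inv_r, Category.assoc]

/-- equality of underlying points of arrows with propositionally equal endpoints -/
lemma eq_of_r_eq {a' b' : T ⟶ G.U} (f : Arr G a b) (f' : Arr G a' b') (h : f.r = f'.r) :
    ∃ (ha : a = a') (hb : b = b'), f.cast ha hb = f' := by
  have ha : a = a' := by rw [← f.hs, ← f'.hs, h]
  have hb : b = b' := by rw [← f.ht, ← f'.ht, h]
  exact ⟨ha, hb, Arr.ext h⟩

lemma comp_r_congr {a' b' c' : T ⟶ G.U} (f : Arr G a b) (g : Arr G b c) (f' : Arr G a' b')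
    (g' : Arr G b' c') (hf : f.r = f'.r) (hg : g.r = g'.r) : (f.comp g).r = (f'.comp g').r := by
  rw [comp_r, comp_r]
  exact gcomp_congr G hg hf _ _

end Arr

end Groth.Agent.Lib.Helper68.SubQuot
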