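import Mathlib
import Groth.Prelude.Def_Grpd
import Groth.Agent.Lib.Helper37.SubGrpd
import Groth.Agent.Lib.Helper68.SubQuotArr

/-!
# A sub-equivalence relation of a groupoid scheme with its quotient: `P`-arrows (helper68)

`Setup G`: a sub-groupoid `ι : P ⟶ R` of `G` which is the kernel pair of `q : U ⟶ Ū`.
For `T`-points `a, b` of `U` with `q a = q b` there is a unique arrow `parr a b` in `P`; conjugation
`conjArr V ha hb = (parr hb)⁻¹ ; V ; parr ha` moves an arrow `V : b₀ ⟶ a₀` to `b₁ ⟶ a₁`.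
-/

set_option autoImplicit false
set_option linter.style.haveILetI false

open AlgebraicGeometry CategoryTheory Limits Grpd

namespace Groth.Agent.Lib.Helper68.SubQuot

universe u

open Groth.Agent.Lib.Helper37

variable {S : Scheme.{u}}

/-- A sub-groupoid `ι : P ⟶ R` which is the kernel pair of `q : U ⟶ Ū`. -/
structure Setup (G : GroupoidScheme S) where
  P : Scheme.{u}
  ι : P ⟶ G.R
  eP : G.U ⟶ P
  he : eP ≫ ι = G.e
  iP : P ⟶ P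
  hi : iP ≫ ι = ι ≫ G.i
  cP : pullback (ι ≫ G.s) (ι ≫ G.t) ⟶ P
  hc : cP ≫ ι = pullback.map (ι ≫ G.s) (ι ≫ G.t) G.s G.t ι ι (𝟙 G.U)
    (by rw [Category.comp_id]) (by rw [Category.comp_id]) ≫ G.c
  Ub : Scheme.{u}
  q : G.U ⟶ Ub
  pUb : Ub ⟶ S
  q_over : q ≫ pUb = G.pU
  hpb : IsPullback (ι ≫ G.t) (ι ≫ G.s) q q

variable {G : GroupoidScheme S} (E : Setup G) {T : Scheme.{u}}

/-- An arrow lies in `P`. -/
def IsP {a b : T ⟶ G.U} (f : Arr G a b) : Prop := ∃ p : T ⟶ E.P, p ≫ E.ι = f.r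

variable {E} {a b c : T ⟶ G.U}

lemma isP_id (a : T ⟶ G.U) : IsP E (Arr.id a : Arr G a a) :=
  ⟨a ≫ E.eP, by rw [Category.assoc, E.he]; rfl⟩

lemma IsP.inv {f : Arr G a b} (hf : IsP E f) : IsP E f.inv := by
  obtain ⟨p, hp⟩ := hf
  exact ⟨p ≫ E.iP, by rw [Category.assoc, E.hi, ← Category.assoc, hp]; rfl⟩

lemma IsP.comp {f : Arr G a b} {g : Arr G b c} (hf : IsP E f) (hg : IsP E g) :
    IsP E (f.comp g) := by
  obtain ⟨pf, hpf⟩ := hf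
  obtain ⟨pg, hpg⟩ := hg
  have h : pg ≫ E.ι ≫ G.s = pf ≫ E.ι ≫ G.t := by
    rw [← Category.assoc, ← Category.assoc, hpf, hpg, g.hs, f.ht]
  refine ⟨pullback.lift pg pf h ≫ E.cP, ?_⟩
  rw [SubG.lift_c'_ι G E.ι E.cP E.hc pg pf h, Arr.comp_r]
  exact gcomp_congr G hpg hpf _ _

lemma IsP.map {T' : Scheme.{u}} (k : T' ⟶ T) {f : Arr G a b} (hf : IsP E f) : IsP E (f.map k) := by
  obtain ⟨p, hp⟩ := hf
  exact ⟨k ≫ p, by rw [Category.assoc, hp]; rfl⟩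

lemma IsP.cast {a' b' : T ⟶ G.U} (ha : a = a') (hb : b = b') {f : Arr G a b} (hf : IsP E f) :
    IsP E (f.cast ha hb) := hf

lemma IsP.unique {f f' : Arr G a b} (hf : IsP E f) (hf' : IsP E f') : f = f' := by
  obtain ⟨p, hp⟩ := hf
  obtain ⟨p', hp'⟩ := hf'
  have : p = p' := by
    apply E.hpb.hom_ext
    · rw [← Category.assoc, ← Category.assoc, hp, hp', f.ht, f'.ht]
    · rw [← Category.assoc, ← Category.assoc, hp, hp', f.hs, f'.hs]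
  apply Arr.ext
  rw [← hp, ← hp', this]

lemma IsP.q_eq {f : Arr G a b} (hf : IsP E f) : a ≫ E.q = b ≫ E.q := by
  obtain ⟨p, hp⟩ := hf
  have h1 : a = p ≫ E.ι ≫ G.s := by rw [← Category.assoc, hp, f.hs]
  have h2 : b = p ≫ E.ι ≫ G.t := by rw [← Category.assoc, hp, f.ht]
  have hw := E.hpb.w
  simp only [Category.assoc] at hw
  rw [h1, h2]
  simp only [Category.assoc]
  rw [hw]

lemma exists_isP (h : a ≫ E.q = b ≫ E.q) : ∃ f : Arr G a b, IsP E f := by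
  refine ⟨⟨E.hpb.lift b a h.symm ≫ E.ι, ?_, ?_⟩, ⟨E.hpb.lift b a h.symm, rfl⟩⟩
  · rw [Category.assoc, E.hpb.lift_snd]
  · rw [Category.assoc, E.hpb.lift_fst]

variable (E)

/-- The unique arrow of `P` from `a` to `b` when `q a = q b`. -/
noncomputable def parr (h : a ≫ E.q = b ≫ E.q) : Arr G a b := (exists_isP h).choose

variable {E}

lemma parr_isP (h : a ≫ E.q = b ≫ E.q) : IsP E (parr E h) := (exists_isP h).choose_spec

lemma eq_parr {f : Arr G a b} (hf : IsP E f) : f = parr E hf.q_eq := hf.unique (parr_isP _)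

@[simp] lemma parr_self (h : a ≫ E.q = a ≫ E.q) : parr E h = Arr.id a :=
  (parr_isP h).unique (isP_id a)

@[simp] lemma parr_comp (h₁ : a ≫ E.q = b ≫ E.q) (h₂ : b ≫ E.q = c ≫ E.q) :
    (parr E h₁).comp (parr E h₂) = parr E (h₁.trans h₂) :=
  ((parr_isP h₁).comp (parr_isP h₂)).unique (parr_isP _)

@[simp] lemma parr_inv (h : a ≫ E.q = b ≫ E.q) : (parr E h).inv = parr E h.symm :=
  (parr_isP h).inv.unique (parr_isP _)

lemma parr_map {T' : Scheme.{u}} (k : T' ⟶ T) (h : a ≫ E.q = b ≫ E.q)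
    (h' : (k ≫ a) ≫ E.q = (k ≫ b) ≫ E.q) : (parr E h).map k = parr E h' :=
  ((parr_isP h).map k).unique (parr_isP _)

lemma parr_r_congr {a' b' : T ⟶ G.U} (ha : a = a') (hb : b = b') (h : a ≫ E.q = b ≫ E.q)
    (h' : a' ≫ E.q = b' ≫ E.q) : (parr E h).r = (parr E h').r := by
  subst ha hb
  rfl

variable (E)

/-- Conjugation of `V : b₀ ⟶ a₀` by the `P`-arrows `b₀ ⟶ b₁`, `a₀ ⟶ a₁`. -/
noncomputable def conjArr {a₀ b₀ a₁ b₁ : T ⟶ G.U} (V : Arr G b₀ a₀) (ha : a₀ ≫ E.q = a₁ ≫ E.q)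
    (hb : b₀ ≫ E.q = b₁ ≫ E.q) : Arr G b₁ a₁ :=
  (parr E hb).inv.comp (V.comp (parr E ha))

variable {E} {a₀ b₀ a₁ b₁ a₂ b₂ : T ⟶ G.U}

@[simp] lemma conjArr_self (V : Arr G b₀ a₀) (ha : a₀ ≫ E.q = a₀ ≫ E.q)
    (hb : b₀ ≫ E.q = b₀ ≫ E.q) : conjArr E V ha hb = V := by
  unfold conjArr
  simp

lemma conjArr_conjArr (V : Arr G b₀ a₀) (ha : a₀ ≫ E.q = a₁ ≫ E.q) (hb : b₀ ≫ E.q = b₁ ≫ E.q)
    (ha' : a₁ ≫ E.q = a₂ ≫ E.q) (hb' : b₁ ≫ E.q = b₂ ≫ E.q) :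
    conjArr E (conjArr E V ha hb) ha' hb' = conjArr E V (ha.trans ha') (hb.trans hb') := by
  unfold conjArr
  rw [← parr_comp ha ha', ← parr_comp hb hb']
  simp only [Arr.inv_comp_rev, Arr.comp_assoc]

lemma conjArr_map {T' : Scheme.{u}} (k : T' ⟶ T) (V : Arr G b₀ a₀) (ha : a₀ ≫ E.q = a₁ ≫ E.q)
    (hb : b₀ ≫ E.q = b₁ ≫ E.q) (ha' : (k ≫ a₀) ≫ E.q = (k ≫ a₁) ≫ E.q)
    (hb' : (k ≫ b₀) ≫ E.q = (k ≫ b₁) ≫ E.q) :
    (conjArr E V ha hb).map k = conjArr E (V.map k) ha' hb' := by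
  unfold conjArr
  rw [Arr.map_comp, Arr.map_comp, Arr.map_inv, parr_map k ha ha', parr_map k hb hb']

lemma conjArr_r_congr {a₀' b₀' a₁' b₁' : T ⟶ G.U} (e1 : a₀ = a₀') (e2 : b₀ = b₀') (e3 : a₁ = a₁')
    (e4 : b₁ = b₁') (V : Arr G b₀ a₀) (V' : Arr G b₀' a₀') (hV : V.r = V'.r)
    (ha : a₀ ≫ E.q = a₁ ≫ E.q) (hb : b₀ ≫ E.q = b₁ ≫ E.q) (ha' : a₀' ≫ E.q = a₁' ≫ E.q)
    (hb' : b₀' ≫ E.q = b₁' ≫ E.q) : (conjArr E V ha hb).r = (conjArr E V' ha' hb').r := by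
  subst e1 e2 e3 e4
  have : V = V' := Arr.ext hV
  subst this
  rfl

/-- conjugating two composable arrows -/
lemma conjArr_comp {c₀ c₁ : T ⟶ G.U} (V : Arr G c₀ b₀) (W : Arr G b₀ a₀)
    (ha : a₀ ≫ E.q = a₁ ≫ E.q) (hb : b₀ ≫ E.q = b₁ ≫ E.q) (hc : c₀ ≫ E.q = c₁ ≫ E.q) :
    (conjArr E V hb hc).comp (conjArr E W ha hb) = conjArr E (V.comp W) ha hc := by
  unfold conjArr
  simp only [Arr.comp_assoc, Arr.comp_inv_assoc]

lemma conjArr_inv (V : Arr G b₀ a₀) (ha : a₀ ≫ E.q = a₁ ≫ E.q) (hb : b₀ ≫ E.q = b₁ ≫ E.q) :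
    (conjArr E V ha hb).inv = conjArr E V.inv hb ha := by
  unfold conjArr
  simp only [Arr.inv_comp_rev, Arr.inv_inv, Arr.comp_assoc]

lemma conjArr_id (ha : a₀ ≫ E.q = a₁ ≫ E.q) :
    conjArr E (Arr.id a₀) ha ha = Arr.id a₁ := by
  unfold conjArr
  simp

end Groth.Agent.Lib.Helper68.SubQuot
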