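import Mathlib
import Groth.Prelude.Def_Grpd
import Groth.Prelude.Def_Desc
import Groth.Agent.Lib.Helper68.SubQuotP

/-!
# The descent datum on `R` relative to `U ×_S U ⟶ Ū ×_S Ū` (helper68)
-/

set_option autoImplicit false
set_option linter.style.haveILetI false

open AlgebraicGeometry CategoryTheory Limits Grpd Desc

namespace Groth.Agent.Lib.Helper68.SubQuot

universe u

open Groth.Agent.Lib.Helper37

variable {S : Scheme.{u}} {G : GroupoidScheme S} (E : Setup G)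

lemma j_fst' : G.j ≫ pullback.fst G.pU G.pU = G.t := pullback.lift_fst _ _ _

lemma j_snd' : G.j ≫ pullback.snd G.pU G.pU = G.s := pullback.lift_snd _ _ _

/-- `U ×_S U ⟶ Ū ×_S Ū`. -/
noncomputable def Setup.pp : pullback G.pU G.pU ⟶ pullback E.pUb E.pUb :=
  pullback.map G.pU G.pU E.pUb E.pUb E.q E.q (𝟙 S) ((Category.comp_id _).trans E.q_over.symm)
    ((Category.comp_id _).trans E.q_over.symm)

@[reassoc]
lemma Setup.pp_fst : E.pp ≫ pullback.fst E.pUb E.pUb = pullback.fst G.pU G.pU ≫ E.q :=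
  pullback.lift_fst _ _ _

@[reassoc]
lemma Setup.pp_snd : E.pp ≫ pullback.snd E.pUb E.pUb = pullback.snd G.pU G.pU ≫ E.q :=
  pullback.lift_snd _ _ _

variable {E} {T : Scheme.{u}}

lemma fst_q_eq {x₀ x₁ : T ⟶ pullback G.pU G.pU} (h : x₀ ≫ E.pp = x₁ ≫ E.pp) :
    (x₀ ≫ pullback.fst G.pU G.pU) ≫ E.q = (x₁ ≫ pullback.fst G.pU G.pU) ≫ E.q := by
  rw [Category.assoc, Category.assoc, ← E.pp_fst, ← Category.assoc, h, Category.assoc]

lemma snd_q_eq {x₀ x₁ : T ⟶ pullback G.pU G.pU} (h : x₀ ≫ E.pp = x₁ ≫ E.pp) :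
    (x₀ ≫ pullback.snd G.pU G.pU) ≫ E.q = (x₁ ≫ pullback.snd G.pU G.pU) ≫ E.q := by
  rw [Category.assoc, Category.assoc, ← E.pp_snd, ← Category.assoc, h, Category.assoc]

/-- A point of `R` over `x` as an arrow. -/
def toArr {x : T ⟶ pullback G.pU G.pU} (v : Lifts (Over.mk G.j) x) :
    Arr G (x ≫ pullback.snd G.pU G.pU) (x ≫ pullback.fst G.pU G.pU) :=
  ⟨v.1, by
    have h : v.1 ≫ G.j = x := v.2
    have := congrArg (· ≫ pullback.snd G.pU G.pU) h
    simpa only [Category.assoc, j_snd'] using this, by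
    have h : v.1 ≫ G.j = x := v.2
    have := congrArg (· ≫ pullback.fst G.pU G.pU) h
    simpa only [Category.assoc, j_fst'] using this⟩

/-- An arrow as a point of `R` over `x`. -/
def ofArr {x : T ⟶ pullback G.pU G.pU}
    (f : Arr G (x ≫ pullback.snd G.pU G.pU) (x ≫ pullback.fst G.pU G.pU)) :
    Lifts (Over.mk G.j) x :=
  ⟨f.r, by
    change f.r ≫ G.j = x
    apply pullback.hom_ext
    · rw [Category.assoc, j_fst', f.ht]
    · rw [Category.assoc, j_snd', f.hs]⟩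

@[simp] lemma toArr_r {x : T ⟶ pullback G.pU G.pU} (v : Lifts (Over.mk G.j) x) :
    (toArr v).r = v.1 := rfl

@[simp] lemma ofArr_val {x : T ⟶ pullback G.pU G.pU}
    (f : Arr G (x ≫ pullback.snd G.pU G.pU) (x ≫ pullback.fst G.pU G.pU)) :
    (ofArr f).1 = f.r := rfl

@[simp] lemma toArr_ofArr {x : T ⟶ pullback G.pU G.pU}
    (f : Arr G (x ≫ pullback.snd G.pU G.pU) (x ≫ pullback.fst G.pU G.pU)) :
    toArr (ofArr f) = f := rfl

@[simp] lemma ofArr_toArr {x : T ⟶ pullback G.pU G.pU} (v : Lifts (Over.mk G.j) x) :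
    ofArr (toArr v) = v := rfl

variable (E)

/-- The gluing map. -/
noncomputable def glue (x₀ x₁ : T ⟶ pullback G.pU G.pU) (h : x₀ ≫ E.pp = x₁ ≫ E.pp)
    (v : Lifts (Over.mk G.j) x₀) : Lifts (Over.mk G.j) x₁ :=
  ofArr (conjArr E (toArr v) (fst_q_eq h) (snd_q_eq h))

lemma glue_glue (x₀ x₁ x₂ : T ⟶ pullback G.pU G.pU) (h₀₁ : x₀ ≫ E.pp = x₁ ≫ E.pp)
    (h₁₂ : x₁ ≫ E.pp = x₂ ≫ E.pp) (v : Lifts (Over.mk G.j) x₀) :
    glue E x₁ x₂ h₁₂ (glue E x₀ x₁ h₀₁ v) = glue E x₀ x₂ (h₀₁.trans h₁₂) v := by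
  unfold glue
  rw [toArr_ofArr, conjArr_conjArr]

lemma glue_self (x : T ⟶ pullback G.pU G.pU) (h : x ≫ E.pp = x ≫ E.pp)
    (v : Lifts (Over.mk G.j) x) : glue E x x h v = v := by
  unfold glue
  rw [conjArr_self, ofArr_toArr]

/-- The descent datum on `R` given by conjugation with `P × P`. -/
noncomputable def dd : SchDD E.pp where
  obj := Over.mk G.j
  φ T x₀ x₁ h :=
    { toFun := glue E x₀ x₁ h
      invFun := glue E x₁ x₀ h.symm
      left_inv := fun v => by rw [glue_glue, glue_self]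
      right_inv := fun v => by rw [glue_glue, glue_self] }
  φ_natural T T' g x₀ x₁ h h' v v' hv := by
    change (conjArr E (toArr v') _ _).r = g ≫ (conjArr E (toArr v) _ _).r
    rw [← Arr.map_r, conjArr_map g (toArr v) (fst_q_eq h) (snd_q_eq h)
      (by rw [← Category.assoc]; exact fst_q_eq h') (by rw [← Category.assoc]; exact snd_q_eq h')]
    exact conjArr_r_congr (Category.assoc _ _ _) (Category.assoc _ _ _) (Category.assoc _ _ _)
      (Category.assoc _ _ _) _ _ hv _ _ _ _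
  φ_self T x v := glue_self E x rfl v
  φ_comp T x₀ x₁ x₂ h₀₁ h₁₂ v := glue_glue E x₀ x₁ x₂ h₀₁ h₁₂ v

@[simp] lemma dd_obj : (dd E).obj = Over.mk G.j := rfl

lemma dd_φ_val (x₀ x₁ : T ⟶ pullback G.pU G.pU) (h : x₀ ≫ E.pp = x₁ ≫ E.pp)
    (v : Lifts (Over.mk G.j) x₀) :
    ((dd E).φ x₀ x₁ h v).1 = (conjArr E (toArr v) (fst_q_eq h) (snd_q_eq h)).r := rfl

end Groth.Agent.Lib.Helper68.SubQuot
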