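import Mathlib
import Groth.Prelude.Def_Grpd
import Groth.Prelude.Def_Desc
import Groth.Agent.Lib.Helper37.DDEffective
import Groth.Agent.Lib.Helper68.SubQuotDD
import Groth.Agent.Lib.Helper68.SubQuotAff

/-!
# Effectivity of the descent datum on `R` (helper68)
-/

set_option autoImplicit false
set_option linter.style.haveILetI false

open AlgebraicGeometry CategoryTheory Limits Grpd Desc

namespace Groth.Agent.Lib.Helper68.SubQuot

universe u

open Groth.Agent.Lib.Helper37

variable {S : Scheme.{u}} {G : GroupoidScheme S} (E : Setup G)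

section pp

variable [IsFinite E.q] [Flat E.q] [LocallyOfFinitePresentation E.q] [Surjective E.q]

instance : IsFinite E.pp :=
  MorphismProperty.pullbackMap (P := @IsFinite) ‹_› ‹_› E.q_over.symm E.q_over.symm

instance : Flat E.pp :=
  MorphismProperty.pullbackMap (P := @Flat) ‹_› ‹_› E.q_over.symm E.q_over.symm

instance : LocallyOfFinitePresentation E.pp :=
  MorphismProperty.pullbackMap (P := @LocallyOfFinitePresentation) ‹_› ‹_› E.q_over.symm
    E.q_over.symm

instance : Surjective E.pp :=
  MorphismProperty.pullbackMap (P := @Surjective) ‹_› ‹_› E.q_over.symm E.q_over.symm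

/-- **Effectivity**: `R` descends to a scheme over `Ū ×_S Ū`. -/
theorem exists_descent [IsAffine G.U] [IsSeparated G.j] [LocallyQuasiFinite G.j]
    [LocallyOfFiniteType G.j] :
    ∃ Wo : Over (pullback E.pUb E.pUb), Nonempty ((toDD E.pp).obj Wo ≅ dd E) := by
  refine DDG.effective (dd E) (fun v => ?_)
  have hfin : (⇑(DDG.groupoid (dd E)).t ''
      (⇑(DDG.groupoid (dd E)).s ⁻¹' {v})).Finite :=
    ((DDG.groupoid (dd E)).s.finite_preimage_singleton v).image _
  obtain ⟨W, hW, hFW⟩ := exists_isAffineOpen_of_finite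
    (G.j ≫ pullback.mapDesc G.pU G.pU (terminal.from S)) _ hfin
  exact ⟨W, hW, fun r hr => hFW ⟨r, hr, rfl⟩⟩

end pp

end Groth.Agent.Lib.Helper68.SubQuot
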