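import Mathlib
import Groth.Prelude.Def_Grpd
import Groth.Prelude.Def_Desc
import Groth.Agent.Lib.Helper68.SubQuotEff

/-!
# The descended arrow scheme `R̄` (helper68)

`QData E`: a scheme `R̄` over `Ū ×_S Ū` with `R = R̄ ×_{Ū × Ū} (U × U)` such that `R ⟶ R̄` is invariant
under conjugation by `P × P`.
-/

set_option autoImplicit false
set_option linter.style.haveILetI false

open AlgebraicGeometry CategoryTheory Limits Grpd Desc

namespace Groth.Agent.Lib.Helper68.SubQuot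

universe u

open Groth.Agent.Lib.Helper37

variable {S : Scheme.{u}} {G : GroupoidScheme S} (E : Setup G)

/-- The descended arrow scheme. -/
structure QData where
  Rb : Scheme.{u}
  jb : Rb ⟶ pullback E.pUb E.pUb
  ρ : G.R ⟶ Rb
  hsq : IsPullback ρ G.j jb E.pp
  hinv : ∀ {T : Scheme.{u}} {a₀ b₀ a₁ b₁ : T ⟶ G.U} (V : Arr G b₀ a₀) (ha : a₀ ≫ E.q = a₁ ≫ E.q)
    (hb : b₀ ≫ E.q = b₁ ≫ E.q), (conjArr E V ha hb).r ≫ ρ = V.r ≫ ρ

variable {E}

/-- From an isomorphism of the descent datum with a canonical one. -/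
theorem nonempty_qdata_of_iso (Wo : Over (pullback E.pUb E.pUb))
    (Φ : (toDD E.pp).obj Wo ≅ dd E) : Nonempty (QData E) := by
  obtain ⟨θ, hθ⟩ : ∃ θ : pullback E.pp Wo.hom ⟶ G.R, θ = Φ.hom.hom.left := ⟨_, rfl⟩
  obtain ⟨θ', hθ'⟩ : ∃ θ' : G.R ⟶ pullback E.pp Wo.hom, θ' = Φ.inv.hom.left := ⟨_, rfl⟩
  have h1 : θ ≫ θ' = 𝟙 _ := by
    rw [hθ, hθ']
    exact congrArg (fun k : (toDD E.pp).obj Wo ⟶ (toDD E.pp).obj Wo => k.hom.left) Φ.hom_inv_id
  have h2 : θ' ≫ θ = 𝟙 _ := by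
    rw [hθ, hθ']
    exact congrArg (fun k : dd E ⟶ dd E => k.hom.left) Φ.inv_hom_id
  have hθj : θ ≫ G.j = pullback.fst E.pp Wo.hom := by
    rw [hθ]
    exact Over.w Φ.hom.hom
  have hθ'fst : θ' ≫ pullback.fst E.pp Wo.hom = G.j := by
    rw [← hθj, ← Category.assoc, h2, Category.id_comp]
  refine ⟨⟨Wo.left, Wo.hom, θ' ≫ pullback.snd E.pp Wo.hom, ?_, ?_⟩⟩
  · refine (IsPullback.of_hasPullback E.pp Wo.hom).flip.of_iso ⟨θ, θ', h1, h2⟩ (Iso.refl _)
      (Iso.refl _) (Iso.refl _) ?_ ?_ ?_ ?_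
    · simp only [Iso.refl_hom, Category.comp_id]
      rw [← Category.assoc, h1, Category.id_comp]
    · simp only [Iso.refl_hom, Category.comp_id]
      exact hθj.symm
    · simp
    · simp
  · intro T a₀ b₀ a₁ b₁ V ha hb
    -- the two points of `U ×_S U`
    obtain ⟨x₀, hx₀⟩ : ∃ x₀ : T ⟶ pullback G.pU G.pU, x₀ = V.r ≫ G.j := ⟨_, rfl⟩
    obtain ⟨x₁, hx₁⟩ : ∃ x₁ : T ⟶ pullback G.pU G.pU, x₁ = (conjArr E V ha hb).r ≫ G.j :=
      ⟨_, rfl⟩
    have e0f : x₀ ≫ pullback.fst G.pU G.pU = a₀ := by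
      rw [hx₀, Category.assoc, j_fst', V.ht]
    have e0s : x₀ ≫ pullback.snd G.pU G.pU = b₀ := by
      rw [hx₀, Category.assoc, j_snd', V.hs]
    have e1f : x₁ ≫ pullback.fst G.pU G.pU = a₁ := by
      rw [hx₁, Category.assoc, j_fst', (conjArr E V ha hb).ht]
    have e1s : x₁ ≫ pullback.snd G.pU G.pU = b₁ := by
      rw [hx₁, Category.assoc, j_snd', (conjArr E V ha hb).hs]
    have h : x₀ ≫ E.pp = x₁ ≫ E.pp := by
      apply pullback.hom_ext
      · rw [Category.assoc, Category.assoc, E.pp_fst, ← Category.assoc, ← Category.assoc, e0f,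
          e1f, ha]
      · rw [Category.assoc, Category.assoc, E.pp_snd, ← Category.assoc, ← Category.assoc, e0s,
          e1s, hb]
    have hcomm := Φ.inv.comm x₀ x₁ h ⟨V.r, hx₀.symm⟩
      ⟨V.r ≫ θ', by
        change (V.r ≫ θ') ≫ pullback.fst E.pp Wo.hom = x₀
        rw [Category.assoc, hθ'fst, hx₀]⟩ (by
          change V.r ≫ θ' = V.r ≫ _
          rw [hθ'])
    have hφ : ((dd E).φ x₀ x₁ h ⟨V.r, hx₀.symm⟩).1 = (conjArr E V ha hb).r := by
      rw [dd_φ_val]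
      exact conjArr_r_congr e0f e0s e1f e1s _ _ rfl _ _ _ _
    rw [hφ] at hcomm
    rw [← hθ'] at hcomm
    have hcan := congrArg (· ≫ pullback.snd E.pp Wo.hom) hcomm
    change (canMap E.pp Wo x₀ x₁ h _).1 ≫ pullback.snd E.pp Wo.hom =
      ((conjArr E V ha hb).r ≫ θ') ≫ pullback.snd E.pp Wo.hom at hcan
    rw [canMap_val, pullback.lift_snd] at hcan
    exact ((Category.assoc _ _ _).symm.trans hcan.symm).trans (Category.assoc _ _ _)

section pp

variable (E) [IsFinite E.q] [Flat E.q] [LocallyOfFinitePresentation E.q] [Surjective E.q]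

theorem nonempty_qdata [IsAffine G.U] [IsSeparated G.j] [LocallyQuasiFinite G.j]
    [LocallyOfFiniteType G.j] : Nonempty (QData E) := by
  obtain ⟨Wo, ⟨Φ⟩⟩ := exists_descent E
  exact nonempty_qdata_of_iso Wo Φ

end pp

end Groth.Agent.Lib.Helper68.SubQuot
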