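import Mathlib
import Groth.Prelude.Def_Grpd
import Groth.Agent.Lib.Helper37.FppfDesc
import Groth.Agent.Lib.Helper68.SubQuotQ

/-!
# The structure maps of the quotient groupoid `(Ū, R̄)` (helper68)
-/

set_option autoImplicit false
set_option linter.style.haveILetI false

open AlgebraicGeometry CategoryTheory Limits Grpd

namespace Groth.Agent.Lib.Helper68.SubQuot

universe u

open Groth.Agent.Lib.Helper37

variable {S : Scheme.{u}} {G : GroupoidScheme S} {E : Setup G}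

section pcompArr

variable {T : Scheme.{u}} {a b c d a' b' c' d' : T ⟶ G.U}

variable (E) in
/-- Composition through the unique `P`-arrow `b ⟶ c`. -/
noncomputable def pcompArr (V₂ : Arr G a b) (V₁ : Arr G c d) (h : b ≫ E.q = c ≫ E.q) : Arr G a d :=
  V₂.comp ((parr E h).comp V₁)

lemma pcompArr_self (V₂ : Arr G a b) (V₁ : Arr G b d) (h : b ≫ E.q = b ≫ E.q) :
    pcompArr E V₂ V₁ h = V₂.comp V₁ := by
  unfold pcompArr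
  rw [parr_self, Arr.id_comp]

lemma pcompArr_map {T' : Scheme.{u}} (k : T' ⟶ T) (V₂ : Arr G a b) (V₁ : Arr G c d)
    (h : b ≫ E.q = c ≫ E.q) (h' : (k ≫ b) ≫ E.q = (k ≫ c) ≫ E.q) :
    (pcompArr E V₂ V₁ h).map k = pcompArr E (V₂.map k) (V₁.map k) h' := by
  unfold pcompArr
  rw [Arr.map_comp, Arr.map_comp, parr_map k h h']

lemma pcompArr_r_congr (ea : a = a') (eb : b = b') (ec : c = c') (ed : d = d')
    (V₂ : Arr G a b) (V₁ : Arr G c d) (V₂' : Arr G a' b') (V₁' : Arr G c' d')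
    (h2 : V₂.r = V₂'.r) (h1 : V₁.r = V₁'.r) (h : b ≫ E.q = c ≫ E.q) (h' : b' ≫ E.q = c' ≫ E.q) :
    (pcompArr E V₂ V₁ h).r = (pcompArr E V₂' V₁' h').r := by
  subst ea eb ec ed
  have e2 : V₂ = V₂' := Arr.ext h2
  have e1 : V₁ = V₁' := Arr.ext h1
  subst e2 e1
  rfl

lemma pcompArr_conj (V₂ : Arr G a b) (V₁ : Arr G c d) (h : b ≫ E.q = c ≫ E.q)
    (ha : a ≫ E.q = a' ≫ E.q) (hb : b ≫ E.q = b' ≫ E.q) (hc : c ≫ E.q = c' ≫ E.q)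
    (hd : d ≫ E.q = d' ≫ E.q) (h' : b' ≫ E.q = c' ≫ E.q) :
    pcompArr E (conjArr E V₂ hb ha) (conjArr E V₁ hd hc) h' =
      conjArr E (pcompArr E V₂ V₁ h) hd ha := by
  have key : parr E h = (parr E hb).comp ((parr E h').comp (parr E hc).inv) := by
    rw [parr_inv, parr_comp, parr_comp]
  unfold pcompArr conjArr
  rw [key]
  simp only [Arr.comp_assoc]

end pcompArr

variable (Q : QData E)

namespace QData

/-- source of `R̄` -/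
noncomputable def sb : Q.Rb ⟶ E.Ub := Q.jb ≫ pullback.snd E.pUb E.pUb

/-- target of `R̄` -/
noncomputable def tb : Q.Rb ⟶ E.Ub := Q.jb ≫ pullback.fst E.pUb E.pUb

@[reassoc]
lemma ρ_sb : Q.ρ ≫ Q.sb = G.s ≫ E.q := by
  unfold sb
  rw [← Category.assoc, Q.hsq.w, Category.assoc, E.pp_snd, ← Category.assoc, j_snd']

@[reassoc]
lemma ρ_tb : Q.ρ ≫ Q.tb = G.t ≫ E.q := by
  unfold tb
  rw [← Category.assoc, Q.hsq.w, Category.assoc, E.pp_fst, ← Category.assoc, j_fst']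

lemma sb_over : Q.sb ≫ E.pUb = Q.tb ≫ E.pUb := by
  unfold sb tb
  rw [Category.assoc, Category.assoc, pullback.condition]

variable {T : Scheme.{u}}

/-- Points of `R` with the same image in `R̄` are conjugate. -/
lemma exists_conj_of_ρ_eq (v v' : T ⟶ G.R) (h : v ≫ Q.ρ = v' ≫ Q.ρ) :
    ∃ (ha : (v ≫ G.t) ≫ E.q = (v' ≫ G.t) ≫ E.q) (hb : (v ≫ G.s) ≫ E.q = (v' ≫ G.s) ≫ E.q),
      (conjArr E (Arr.mk' v) ha hb).r = v' := by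
  have ha : (v ≫ G.t) ≫ E.q = (v' ≫ G.t) ≫ E.q := by
    rw [Category.assoc, Category.assoc, ← Q.ρ_tb, ← Category.assoc, h, Category.assoc]
  have hb : (v ≫ G.s) ≫ E.q = (v' ≫ G.s) ≫ E.q := by
    rw [Category.assoc, Category.assoc, ← Q.ρ_sb, ← Category.assoc, h, Category.assoc]
  refine ⟨ha, hb, ?_⟩
  apply Q.hsq.hom_ext
  · rw [Q.hinv]
    exact h
  · apply pullback.hom_ext
    · rw [Category.assoc, Category.assoc, j_fst', (conjArr E (Arr.mk' v) ha hb).ht]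
    · rw [Category.assoc, Category.assoc, j_snd', (conjArr E (Arr.mk' v) ha hb).hs]

/-- The composite of two points of `R` whose endpoints match modulo `P`, as a point of `R̄`. -/
noncomputable def pc (v₁ v₂ : T ⟶ G.R) (h : (v₂ ≫ G.t) ≫ E.q = (v₁ ≫ G.s) ≫ E.q) : T ⟶ Q.Rb :=
  (pcompArr E (Arr.mk' v₂) (Arr.mk' v₁) h).r ≫ Q.ρ

lemma pc_congr {v₁ v₂ v₁' v₂' : T ⟶ G.R} (e₁ : v₁ = v₁') (e₂ : v₂ = v₂')
    (h : (v₂ ≫ G.t) ≫ E.q = (v₁ ≫ G.s) ≫ E.q) (h' : (v₂' ≫ G.t) ≫ E.q = (v₁' ≫ G.s) ≫ E.q) :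
    Q.pc v₁ v₂ h = Q.pc v₁' v₂' h' := by
  subst e₁ e₂
  rfl

lemma precomp_pc {T' : Scheme.{u}} (k : T' ⟶ T) (v₁ v₂ : T ⟶ G.R)
    (h : (v₂ ≫ G.t) ≫ E.q = (v₁ ≫ G.s) ≫ E.q)
    (h' : ((k ≫ v₂) ≫ G.t) ≫ E.q = ((k ≫ v₁) ≫ G.s) ≫ E.q) :
    k ≫ Q.pc v₁ v₂ h = Q.pc (k ≫ v₁) (k ≫ v₂) h' := by
  unfold pc
  rw [← Category.assoc, ← Arr.map_r, pcompArr_map k _ _ h
    (by simpa only [Category.assoc] using h')]
  refine congrArg (· ≫ Q.ρ) ?_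
  exact pcompArr_r_congr (Category.assoc k v₂ G.s).symm (Category.assoc k v₂ G.t).symm
    (Category.assoc k v₁ G.s).symm (Category.assoc k v₁ G.t).symm ((Arr.mk' v₂).map k)
    ((Arr.mk' v₁).map k) (Arr.mk' (k ≫ v₂)) (Arr.mk' (k ≫ v₁)) (Arr.map_r k _) (Arr.map_r k _) _ _

lemma pc_of_arr {a b c d : T ⟶ G.U} (V₂ : Arr G a b) (V₁ : Arr G c d) (h : b ≫ E.q = c ≫ E.q)
    (h' : (V₂.r ≫ G.t) ≫ E.q = (V₁.r ≫ G.s) ≫ E.q) :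
    Q.pc V₁.r V₂.r h' = (pcompArr E V₂ V₁ h).r ≫ Q.ρ := by
  unfold pc
  congr 1
  exact pcompArr_r_congr V₂.hs V₂.ht V₁.hs V₁.ht _ _ _ _ rfl rfl _ _

lemma pc_of_comp {a b d : T ⟶ G.U} (V₂ : Arr G a b) (V₁ : Arr G b d)
    (h' : (V₂.r ≫ G.t) ≫ E.q = (V₁.r ≫ G.s) ≫ E.q) :
    Q.pc V₁.r V₂.r h' = (V₂.comp V₁).r ≫ Q.ρ := by
  rw [Q.pc_of_arr V₂ V₁ rfl, pcompArr_self]

/-- `pc` only depends on the images in `R̄`. -/
lemma pc_congr_ρ {v₁ v₂ v₁' v₂' : T ⟶ G.R} (e₁ : v₁ ≫ Q.ρ = v₁' ≫ Q.ρ)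
    (e₂ : v₂ ≫ Q.ρ = v₂' ≫ Q.ρ) (h : (v₂ ≫ G.t) ≫ E.q = (v₁ ≫ G.s) ≫ E.q)
    (h' : (v₂' ≫ G.t) ≫ E.q = (v₁' ≫ G.s) ≫ E.q) : Q.pc v₁ v₂ h = Q.pc v₁' v₂' h' := by
  obtain ⟨ha₁, hb₁, hv₁⟩ := Q.exists_conj_of_ρ_eq v₁ v₁' e₁
  obtain ⟨ha₂, hb₂, hv₂⟩ := Q.exists_conj_of_ρ_eq v₂ v₂' e₂
  have h'' : (v₂' ≫ G.t) ≫ E.q = (v₁' ≫ G.s) ≫ E.q := h'
  have step : Q.pc v₁' v₂' h' =
      (pcompArr E (conjArr E (Arr.mk' v₂) ha₂ hb₂) (conjArr E (Arr.mk' v₁) ha₁ hb₁) h'').r ≫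
        Q.ρ := by
    unfold pc
    congr 1
    exact pcompArr_r_congr rfl rfl rfl rfl _ _ _ _ hv₂.symm hv₁.symm _ _
  rw [step, pcompArr_conj (Arr.mk' v₂) (Arr.mk' v₁) h hb₂ ha₂ hb₁ ha₁ h'', Q.hinv]
  rfl

end QData

end Groth.Agent.Lib.Helper68.SubQuot
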