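import Mathlib
import Groth.Prelude.Def_Grpd
import Groth.Agent.Lib.Helper68.SubQuotH1

/-!
# Identity, inverse and composition of the quotient groupoid `(Ū, R̄)` (helper68)
-/

set_option autoImplicit false
set_option linter.style.haveILetI false
set_option linter.unusedSectionVars false

open AlgebraicGeometry CategoryTheory Limits Grpd

namespace Groth.Agent.Lib.Helper68.SubQuot

universe u

open Groth.Agent.Lib.Helper37

variable {S : Scheme.{u}} {G : GroupoidScheme S} {E : Setup G} (Q : QData E)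
  [IsFinite E.q] [Flat E.q] [LocallyOfFinitePresentation E.q] [Surjective E.q]

namespace QData

instance : Flat Q.ρ := MorphismProperty.of_isPullback (P := @Flat) Q.hsq.flip inferInstance

instance : Surjective Q.ρ :=
  MorphismProperty.of_isPullback (P := @Surjective) Q.hsq.flip inferInstance

instance : LocallyOfFinitePresentation Q.ρ :=
  MorphismProperty.of_isPullback (P := @LocallyOfFinitePresentation) Q.hsq.flip inferInstance

instance : Epi Q.ρ := Flat.epi_of_flat_of_surjective _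

instance : Epi E.q := Flat.epi_of_flat_of_surjective _

/-! ### identity -/

lemma e_cond : (E.ι ≫ G.t) ≫ (G.e ≫ Q.ρ) = (E.ι ≫ G.s) ≫ (G.e ≫ Q.ρ) := by
  have h : (E.ι ≫ G.s) ≫ E.q = (E.ι ≫ G.t) ≫ E.q := E.hpb.w.symm
  have := Q.hinv (Arr.id (E.ι ≫ G.s)) h h
  rw [conjArr_id, Arr.id_r, Arr.id_r] at this
  rw [← Category.assoc, ← Category.assoc]
  exact this

/-- identity of `R̄` -/
noncomputable def eb : E.Ub ⟶ Q.Rb := fppfDesc E.q E.hpb (G.e ≫ Q.ρ) Q.e_cond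

@[reassoc]
lemma q_eb : E.q ≫ Q.eb = G.e ≫ Q.ρ := fppfDesc_fac _ _ _ _

lemma eb_sb : Q.eb ≫ Q.sb = 𝟙 _ := by
  rw [← cancel_epi E.q, Q.q_eb_assoc, Q.ρ_sb, ← Category.assoc, G.e_s, Category.id_comp,
    Category.comp_id]

lemma eb_tb : Q.eb ≫ Q.tb = 𝟙 _ := by
  rw [← cancel_epi E.q, Q.q_eb_assoc, Q.ρ_tb, ← Category.assoc, G.e_t, Category.id_comp,
    Category.comp_id]

/-! ### inverse -/

lemma i_cond : pullback.fst Q.ρ Q.ρ ≫ (G.i ≫ Q.ρ) = pullback.snd Q.ρ Q.ρ ≫ (G.i ≫ Q.ρ) := by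
  obtain ⟨ha, hb, hv⟩ := Q.exists_conj_of_ρ_eq (pullback.fst Q.ρ Q.ρ) (pullback.snd Q.ρ Q.ρ)
    pullback.condition
  have h1 := Q.hinv (Arr.mk' (pullback.fst Q.ρ Q.ρ)).inv hb ha
  rw [← conjArr_inv, Arr.inv_r, hv, Arr.inv_r] at h1
  rw [← Category.assoc, ← Category.assoc]
  exact h1.symm

/-- inverse of `R̄` -/
noncomputable def ib : Q.Rb ⟶ Q.Rb :=
  fppfDesc Q.ρ (IsPullback.of_hasPullback Q.ρ Q.ρ) (G.i ≫ Q.ρ) Q.i_cond

@[reassoc]
lemma ρ_ib : Q.ρ ≫ Q.ib = G.i ≫ Q.ρ := fppfDesc_fac _ _ _ _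

lemma ib_sb : Q.ib ≫ Q.sb = Q.tb := by
  rw [← cancel_epi Q.ρ, Q.ρ_ib_assoc, Q.ρ_sb, ← Category.assoc, G.i_s, Q.ρ_tb]

lemma ib_tb : Q.ib ≫ Q.tb = Q.sb := by
  rw [← cancel_epi Q.ρ, Q.ρ_ib_assoc, Q.ρ_tb, ← Category.assoc, G.i_t, Q.ρ_sb]

/-! ### composition -/

/-- the cover of `R̄ ×_Ū R̄` by pairs of points of `R` composable modulo `P` -/
noncomputable def mc : pullback (G.s ≫ E.q) (G.t ≫ E.q) ⟶ pullback Q.sb Q.tb :=
  pullback.map (G.s ≫ E.q) (G.t ≫ E.q) Q.sb Q.tb Q.ρ Q.ρ (𝟙 E.Ub)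
    ((Category.comp_id _).trans Q.ρ_sb.symm) ((Category.comp_id _).trans Q.ρ_tb.symm)

@[reassoc]
lemma mc_fst : Q.mc ≫ pullback.fst Q.sb Q.tb = pullback.fst _ _ ≫ Q.ρ := pullback.lift_fst _ _ _

@[reassoc]
lemma mc_snd : Q.mc ≫ pullback.snd Q.sb Q.tb = pullback.snd _ _ ≫ Q.ρ := pullback.lift_snd _ _ _

instance : Flat Q.mc :=
  MorphismProperty.pullbackMap (P := @Flat) inferInstance inferInstance Q.ρ_sb.symm Q.ρ_tb.symm

instance : Surjective Q.mc :=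
  MorphismProperty.pullbackMap (P := @Surjective) inferInstance inferInstance Q.ρ_sb.symm
    Q.ρ_tb.symm

instance : LocallyOfFinitePresentation Q.mc :=
  MorphismProperty.pullbackMap (P := @LocallyOfFinitePresentation) inferInstance inferInstance
    Q.ρ_sb.symm Q.ρ_tb.symm

omit Q in
variable (E) in
lemma cond_C : (pullback.snd (G.s ≫ E.q) (G.t ≫ E.q) ≫ G.t) ≫ E.q =
    (pullback.fst (G.s ≫ E.q) (G.t ≫ E.q) ≫ G.s) ≫ E.q := by
  rw [Category.assoc, Category.assoc]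
  exact pullback.condition.symm

/-- the composition before descent -/
noncomputable def gc : pullback (G.s ≫ E.q) (G.t ≫ E.q) ⟶ Q.Rb :=
  Q.pc (pullback.fst _ _) (pullback.snd _ _) (cond_C E)

lemma c_cond : pullback.fst Q.mc Q.mc ≫ Q.gc = pullback.snd Q.mc Q.mc ≫ Q.gc := by
  unfold gc
  rw [Q.precomp_pc (pullback.fst Q.mc Q.mc) _ _ (cond_C E) (by
      have := (cond_C E)
      simp only [Category.assoc] at this ⊢
      rw [this]),
    Q.precomp_pc (pullback.snd Q.mc Q.mc) _ _ (cond_C E) (by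
      have := (cond_C E)
      simp only [Category.assoc] at this ⊢
      rw [this])]
  apply Q.pc_congr_ρ
  · rw [Category.assoc, Category.assoc, ← Q.mc_fst, pullback.condition_assoc]
  · rw [Category.assoc, Category.assoc, ← Q.mc_snd, pullback.condition_assoc]

/-- composition of `R̄` -/
noncomputable def cb : pullback Q.sb Q.tb ⟶ Q.Rb :=
  fppfDesc Q.mc (IsPullback.of_hasPullback Q.mc Q.mc) Q.gc Q.c_cond

@[reassoc]
lemma mc_cb : Q.mc ≫ Q.cb = Q.gc := fppfDesc_fac _ _ _ _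

variable {T : Scheme.{u}}

/-- The computation rule for `cb`. -/
lemma lift_cb (v₁ v₂ : T ⟶ G.R) (h : (v₂ ≫ G.t) ≫ E.q = (v₁ ≫ G.s) ≫ E.q)
    (h' : (v₁ ≫ Q.ρ) ≫ Q.sb = (v₂ ≫ Q.ρ) ≫ Q.tb) :
    pullback.lift (v₁ ≫ Q.ρ) (v₂ ≫ Q.ρ) h' ≫ Q.cb = Q.pc v₁ v₂ h := by
  have h0 : v₁ ≫ G.s ≫ E.q = v₂ ≫ G.t ≫ E.q := by
    simpa only [Category.assoc] using h.symm
  have e : pullback.lift (v₁ ≫ Q.ρ) (v₂ ≫ Q.ρ) h' = pullback.lift v₁ v₂ h0 ≫ Q.mc := by
    apply pullback.hom_ext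
    · rw [pullback.lift_fst, Category.assoc, Q.mc_fst, pullback.lift_fst_assoc]
    · rw [pullback.lift_snd, Category.assoc, Q.mc_snd, pullback.lift_snd_assoc]
  rw [e, Category.assoc, Q.mc_cb]
  unfold gc
  rw [Q.precomp_pc (pullback.lift v₁ v₂ h0) _ _ (cond_C E) (by
    rw [pullback.lift_fst, pullback.lift_snd]; exact h)]
  exact Q.pc_congr (pullback.lift_fst _ _ _) (pullback.lift_snd _ _ _) _ _

/-- The computation rule for `cb` on composable arrows. -/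
lemma lift_cb_arr {a b d : T ⟶ G.U} (V₂ : Arr G a b) (V₁ : Arr G b d)
    (h' : (V₁.r ≫ Q.ρ) ≫ Q.sb = (V₂.r ≫ Q.ρ) ≫ Q.tb) :
    pullback.lift (V₁.r ≫ Q.ρ) (V₂.r ≫ Q.ρ) h' ≫ Q.cb = (V₂.comp V₁).r ≫ Q.ρ := by
  have h : (V₂.r ≫ G.t) ≫ E.q = (V₁.r ≫ G.s) ≫ E.q := by rw [V₂.ht, V₁.hs]
  rw [Q.lift_cb V₁.r V₂.r h h', Q.pc_of_comp]

end QData

end Groth.Agent.Lib.Helper68.SubQuot
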