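import Mathlib
import Groth.Prelude.Def_Grpd
import Groth.Agent.Lib.Helper68.SubQuotH2

/-!
# The quotient groupoid `(Ū, R̄)` and the morphism `(U, R) ⟶ (Ū, R̄)` (helper68)
-/

set_option autoImplicit false
set_option linter.style.haveILetI false
set_option linter.unusedSectionVars false

open AlgebraicGeometry CategoryTheory Limits Grpd

namespace Groth.Agent.Lib.Helper68.SubQuot

universe u

open Groth.Agent.Lib.Helper37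

variable {S : Scheme.{u}} {G : GroupoidScheme S} {E : Setup G} (Q : QData E)
  [IsFinite E.q] [Flat E.q] [LocallyOfFinitePresentation E.q] [Surjective E.q]

variable {T : Scheme.{u}}

/-! ### lifting points of `Ū` -/

omit Q in
variable (E) in
lemma exists_lift_obj (a' : T ⟶ E.Ub) :
    ∃ (T' : Scheme.{u}) (k : T' ⟶ T) (a : T' ⟶ G.U), Epi k ∧ a ≫ E.q = k ≫ a' :=
  ⟨pullback a' E.q, pullback.fst _ _, pullback.snd _ _, Flat.epi_of_flat_of_surjective _,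
    pullback.condition.symm⟩

omit Q in
variable (E) in
lemma exists_lift_obj₂ (a' b' : T ⟶ E.Ub) :
    ∃ (T' : Scheme.{u}) (k : T' ⟶ T) (a b : T' ⟶ G.U), Epi k ∧ a ≫ E.q = k ≫ a' ∧
      b ≫ E.q = k ≫ b' := by
  obtain ⟨T₁, k₁, a, hk₁, ha⟩ := exists_lift_obj E a'
  obtain ⟨T₂, k₂, b, hk₂, hb⟩ := exists_lift_obj E (k₁ ≫ b')
  exact ⟨T₂, k₂ ≫ k₁, k₂ ≫ a, b, epi_comp _ _, by rw [Category.assoc, ha, Category.assoc],
    by rw [hb, Category.assoc]⟩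

omit Q in
variable (E) in
lemma exists_lift_obj₃ (a' b' c' : T ⟶ E.Ub) :
    ∃ (T' : Scheme.{u}) (k : T' ⟶ T) (a b c : T' ⟶ G.U), Epi k ∧ a ≫ E.q = k ≫ a' ∧
      b ≫ E.q = k ≫ b' ∧ c ≫ E.q = k ≫ c' := by
  obtain ⟨T₁, k₁, a, b, hk₁, ha, hb⟩ := exists_lift_obj₂ E a' b'
  obtain ⟨T₂, k₂, c, hk₂, hc⟩ := exists_lift_obj E (k₁ ≫ c')
  exact ⟨T₂, k₂ ≫ k₁, k₂ ≫ a, k₂ ≫ b, c, epi_comp _ _,
    by rw [Category.assoc, ha, Category.assoc], by rw [Category.assoc, hb, Category.assoc],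
    by rw [hc, Category.assoc]⟩

omit Q in
variable (E) in
lemma exists_lift_obj₄ (a' b' c' d' : T ⟶ E.Ub) :
    ∃ (T' : Scheme.{u}) (k : T' ⟶ T) (a b c d : T' ⟶ G.U), Epi k ∧ a ≫ E.q = k ≫ a' ∧
      b ≫ E.q = k ≫ b' ∧ c ≫ E.q = k ≫ c' ∧ d ≫ E.q = k ≫ d' := by
  obtain ⟨T₁, k₁, a, b, hk₁, ha, hb⟩ := exists_lift_obj₂ E a' b'
  obtain ⟨T₂, k₂, c, d, hk₂, hc, hd⟩ := exists_lift_obj₂ E (k₁ ≫ c') (k₁ ≫ d')
  exact ⟨T₂, k₂ ≫ k₁, k₂ ≫ a, k₂ ≫ b, c, d, epi_comp _ _,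
    by rw [Category.assoc, ha, Category.assoc], by rw [Category.assoc, hb, Category.assoc],
    by rw [hc, Category.assoc], by rw [hd, Category.assoc]⟩

namespace QData

/-- Lifting a point of `R̄` to an arrow with prescribed endpoints. -/
lemma exists_lift_arr (w : T ⟶ Q.Rb) (a b : T ⟶ G.U) (ha : a ≫ E.q = w ≫ Q.sb)
    (hb : b ≫ E.q = w ≫ Q.tb) : ∃ V : Arr G a b, V.r ≫ Q.ρ = w := by
  have hab : b ≫ G.pU = a ≫ G.pU := by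
    rw [← E.q_over, ← Category.assoc, ← Category.assoc, ha, hb, Category.assoc, Category.assoc,
      Q.sb_over]
  have hx : w ≫ Q.jb = pullback.lift b a hab ≫ E.pp := by
    apply pullback.hom_ext
    · rw [Category.assoc, Category.assoc, E.pp_fst, pullback.lift_fst_assoc, hb]
      rfl
    · rw [Category.assoc, Category.assoc, E.pp_snd, pullback.lift_snd_assoc, ha]
      rfl
  refine ⟨⟨Q.hsq.lift w _ hx, ?_, ?_⟩, Q.hsq.lift_fst _ _ _⟩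
  · rw [← j_snd', ← Category.assoc, Q.hsq.lift_snd, pullback.lift_snd]
  · rw [← j_fst', ← Category.assoc, Q.hsq.lift_snd, pullback.lift_fst]

lemma arr_q_s {a b : T ⟶ G.U} (V : Arr G a b) : a ≫ E.q = (V.r ≫ Q.ρ) ≫ Q.sb := by
  rw [Category.assoc, Q.ρ_sb, ← Category.assoc, V.hs]

lemma arr_q_t {a b : T ⟶ G.U} (V : Arr G a b) : b ≫ E.q = (V.r ≫ Q.ρ) ≫ Q.tb := by
  rw [Category.assoc, Q.ρ_tb, ← Category.assoc, V.ht]

lemma id_r_ρ (a : T ⟶ G.U) : (Arr.id a : Arr G a a).r ≫ Q.ρ = (a ≫ E.q) ≫ Q.eb := by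
  rw [Arr.id_r, Category.assoc, Category.assoc, Q.q_eb]

/-- Computing `cb` after a cover. -/
lemma comp_lift_cb {T' : Scheme.{u}} (k : T' ⟶ T) (α β : T ⟶ Q.Rb) (h : α ≫ Q.sb = β ≫ Q.tb)
    {a b c : T' ⟶ G.U} (V₂ : Arr G a b) (V₁ : Arr G b c) (h2 : V₂.r ≫ Q.ρ = k ≫ β)
    (h1 : V₁.r ≫ Q.ρ = k ≫ α) :
    k ≫ pullback.lift α β h ≫ Q.cb = (V₂.comp V₁).r ≫ Q.ρ := by
  have h' : (V₁.r ≫ Q.ρ) ≫ Q.sb = (V₂.r ≫ Q.ρ) ≫ Q.tb := by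
    rw [h1, h2, Category.assoc, Category.assoc, h]
  rw [← Q.lift_cb_arr V₂ V₁ h', ← Category.assoc]
  congr 1
  apply pullback.hom_ext
  · rw [Category.assoc, pullback.lift_fst, pullback.lift_fst, h1]
  · rw [Category.assoc, pullback.lift_snd, pullback.lift_snd, h2]

/-- Lifting a point of `R̄` after a cover. -/
lemma exists_lift₁ (α : T ⟶ Q.Rb) :
    ∃ (T' : Scheme.{u}) (k : T' ⟶ T) (a b : T' ⟶ G.U) (V : Arr G a b), Epi k ∧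
      V.r ≫ Q.ρ = k ≫ α := by
  obtain ⟨T', k, a, b, hk, ha, hb⟩ := exists_lift_obj₂ E (α ≫ Q.sb) (α ≫ Q.tb)
  obtain ⟨V, hV⟩ := Q.exists_lift_arr (k ≫ α) a b (by rw [ha, Category.assoc])
    (by rw [hb, Category.assoc])
  exact ⟨T', k, a, b, V, hk, hV⟩

/-- Lifting a composable pair after a cover. -/
lemma exists_lift₂ (α β : T ⟶ Q.Rb) (h : α ≫ Q.sb = β ≫ Q.tb) :
    ∃ (T' : Scheme.{u}) (k : T' ⟶ T) (a b c : T' ⟶ G.U) (V₂ : Arr G a b) (V₁ : Arr G b c),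
      Epi k ∧ V₂.r ≫ Q.ρ = k ≫ β ∧ V₁.r ≫ Q.ρ = k ≫ α := by
  obtain ⟨T', k, a, b, c, hk, ha, hb, hc⟩ :=
    exists_lift_obj₃ E (β ≫ Q.sb) (β ≫ Q.tb) (α ≫ Q.tb)
  obtain ⟨V₂, hV₂⟩ := Q.exists_lift_arr (k ≫ β) a b (by rw [ha, Category.assoc])
    (by rw [hb, Category.assoc])
  obtain ⟨V₁, hV₁⟩ := Q.exists_lift_arr (k ≫ α) b c (by rw [hb, Category.assoc, h])
    (by rw [hc, Category.assoc])
  exact ⟨T', k, a, b, c, V₂, V₁, hk, hV₂, hV₁⟩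

/-- Lifting a composable triple after a cover. -/
lemma exists_lift₃ (α β γ : T ⟶ Q.Rb) (h₁ : α ≫ Q.sb = β ≫ Q.tb) (h₂ : β ≫ Q.sb = γ ≫ Q.tb) :
    ∃ (T' : Scheme.{u}) (k : T' ⟶ T) (a b c d : T' ⟶ G.U) (V₃ : Arr G a b) (V₂ : Arr G b c)
      (V₁ : Arr G c d), Epi k ∧ V₃.r ≫ Q.ρ = k ≫ γ ∧ V₂.r ≫ Q.ρ = k ≫ β ∧
      V₁.r ≫ Q.ρ = k ≫ α := by
  obtain ⟨T', k, a, b, c, d, hk, ha, hb, hc, hd⟩ :=
    exists_lift_obj₄ E (γ ≫ Q.sb) (γ ≫ Q.tb) (β ≫ Q.tb) (α ≫ Q.tb)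
  obtain ⟨V₃, hV₃⟩ := Q.exists_lift_arr (k ≫ γ) a b (by rw [ha, Category.assoc])
    (by rw [hb, Category.assoc])
  obtain ⟨V₂, hV₂⟩ := Q.exists_lift_arr (k ≫ β) b c
    (by rw [hb, Category.assoc, h₂]) (by rw [hc, Category.assoc])
  obtain ⟨V₁, hV₁⟩ := Q.exists_lift_arr (k ≫ α) c d
    (by rw [hc, Category.assoc, h₁]) (by rw [hd, Category.assoc])
  exact ⟨T', k, a, b, c, d, V₃, V₂, V₁, hk, hV₃, hV₂, hV₁⟩

/-! ### the axioms -/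

lemma cb_sb (α β : T ⟶ Q.Rb) (h : α ≫ Q.sb = β ≫ Q.tb) :
    (pullback.lift α β h ≫ Q.cb) ≫ Q.sb = β ≫ Q.sb := by
  obtain ⟨T', k, a, b, c, V₂, V₁, hk, h2, h1⟩ := Q.exists_lift₂ α β h
  rw [← cancel_epi k, ← Category.assoc, Q.comp_lift_cb k α β h V₂ V₁ h2 h1, Category.assoc,
    Q.ρ_sb, ← Category.assoc, (V₂.comp V₁).hs, ← V₂.hs, Category.assoc, ← Q.ρ_sb,
    ← Category.assoc, h2, Category.assoc]

lemma cb_tb (α β : T ⟶ Q.Rb) (h : α ≫ Q.sb = β ≫ Q.tb) :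
    (pullback.lift α β h ≫ Q.cb) ≫ Q.tb = α ≫ Q.tb := by
  obtain ⟨T', k, a, b, c, V₂, V₁, hk, h2, h1⟩ := Q.exists_lift₂ α β h
  rw [← cancel_epi k, ← Category.assoc, Q.comp_lift_cb k α β h V₂ V₁ h2 h1, Category.assoc,
    Q.ρ_tb, ← Category.assoc, (V₂.comp V₁).ht, ← V₁.ht, Category.assoc, ← Q.ρ_tb,
    ← Category.assoc, h1, Category.assoc]

lemma cb_assoc (α β γ : T ⟶ Q.Rb) (h₁ : α ≫ Q.sb = β ≫ Q.tb) (h₂ : β ≫ Q.sb = γ ≫ Q.tb) :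
    pullback.lift (pullback.lift α β h₁ ≫ Q.cb) γ ((Q.cb_sb α β h₁).trans h₂) ≫ Q.cb =
      pullback.lift α (pullback.lift β γ h₂ ≫ Q.cb) (h₁.trans (Q.cb_tb β γ h₂).symm) ≫ Q.cb := by
  obtain ⟨T', k, a, b, c, d, V₃, V₂, V₁, hk, h3, h2, h1⟩ := Q.exists_lift₃ α β γ h₁ h₂
  rw [← cancel_epi k]
  have e1 : (V₂.comp V₁).r ≫ Q.ρ = k ≫ pullback.lift α β h₁ ≫ Q.cb :=
    (Q.comp_lift_cb k α β h₁ V₂ V₁ h2 h1).symm
  have e2 : (V₃.comp V₂).r ≫ Q.ρ = k ≫ pullback.lift β γ h₂ ≫ Q.cb :=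
    (Q.comp_lift_cb k β γ h₂ V₃ V₂ h3 h2).symm
  rw [Q.comp_lift_cb k _ γ _ V₃ (V₂.comp V₁) h3 e1, Q.comp_lift_cb k α _ _ (V₃.comp V₂) V₁ e2 h1,
    Arr.comp_assoc]

lemma cb_eb (α : T ⟶ Q.Rb) :
    pullback.lift α (α ≫ Q.sb ≫ Q.eb)
      (by rw [Category.assoc, Category.assoc, Q.eb_tb, Category.comp_id]) ≫ Q.cb = α := by
  obtain ⟨T', k, a, b, V, hk, hV⟩ := Q.exists_lift₁ α
  rw [← cancel_epi k]
  have e : (Arr.id a : Arr G a a).r ≫ Q.ρ = k ≫ α ≫ Q.sb ≫ Q.eb := by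
    rw [Q.id_r_ρ, Q.arr_q_s V, hV]
    simp only [Category.assoc]
  rw [Q.comp_lift_cb k α _ _ (Arr.id a) V e hV, Arr.id_comp, hV]

lemma eb_cb (α : T ⟶ Q.Rb) :
    pullback.lift (α ≫ Q.tb ≫ Q.eb) α
      (by rw [Category.assoc, Category.assoc, Q.eb_sb, Category.comp_id]) ≫ Q.cb = α := by
  obtain ⟨T', k, a, b, V, hk, hV⟩ := Q.exists_lift₁ α
  rw [← cancel_epi k]
  have e : (Arr.id b : Arr G b b).r ≫ Q.ρ = k ≫ α ≫ Q.tb ≫ Q.eb := by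
    rw [Q.id_r_ρ, Q.arr_q_t V, hV]
    simp only [Category.assoc]
  rw [Q.comp_lift_cb k _ α _ V (Arr.id b) hV e, Arr.comp_id, hV]

lemma cb_ib (α : T ⟶ Q.Rb) :
    pullback.lift α (α ≫ Q.ib) (by rw [Category.assoc, Q.ib_tb]) ≫ Q.cb =
      α ≫ Q.tb ≫ Q.eb := by
  obtain ⟨T', k, a, b, V, hk, hV⟩ := Q.exists_lift₁ α
  rw [← cancel_epi k]
  have e : V.inv.r ≫ Q.ρ = k ≫ α ≫ Q.ib := by
    rw [Arr.inv_r, Category.assoc, ← Q.ρ_ib, ← Category.assoc, hV, Category.assoc]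
  rw [Q.comp_lift_cb k α _ _ V.inv V e hV, Arr.inv_comp, Q.id_r_ρ, Q.arr_q_t V, hV]
  simp only [Category.assoc]

lemma ib_cb (α : T ⟶ Q.Rb) :
    pullback.lift (α ≫ Q.ib) α (by rw [Category.assoc, Q.ib_sb]) ≫ Q.cb =
      α ≫ Q.sb ≫ Q.eb := by
  obtain ⟨T', k, a, b, V, hk, hV⟩ := Q.exists_lift₁ α
  rw [← cancel_epi k]
  have e : V.inv.r ≫ Q.ρ = k ≫ α ≫ Q.ib := by
    rw [Arr.inv_r, Category.assoc, ← Q.ρ_ib, ← Category.assoc, hV, Category.assoc]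
  rw [Q.comp_lift_cb k _ α _ V V.inv hV e, Arr.comp_inv, Q.id_r_ρ, Q.arr_q_s V, hV]
  simp only [Category.assoc]

/-- **The quotient groupoid** `(Ū, R̄)`. -/
noncomputable def grpd : GroupoidScheme S where
  U := E.Ub
  R := Q.Rb
  pU := E.pUb
  pR := Q.tb ≫ E.pUb
  s := Q.sb
  t := Q.tb
  e := Q.eb
  i := Q.ib
  c := Q.cb
  s_over := Q.sb_over
  t_over := rfl
  comp_s := fun α β h => Q.cb_sb α β h
  comp_t := fun α β h => Q.cb_tb α β h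
  assoc := fun α β γ h₁ h₂ => Q.cb_assoc α β γ h₁ h₂
  e_s := Q.eb_sb
  e_t := Q.eb_tb
  comp_e := fun α => Q.cb_eb α
  e_comp := fun α => Q.eb_cb α
  i_s := Q.ib_sb
  i_t := Q.ib_tb
  comp_i := fun α => Q.cb_ib α
  i_comp := fun α => Q.ib_cb α

/-- The morphism `(U, R) ⟶ (Ū, R̄)`. -/
noncomputable def hom : GroupoidScheme.Hom G Q.grpd where
  fU := E.q
  fR := Q.ρ
  fU_over := E.q_over
  comm_s := Q.ρ_sb
  comm_t := Q.ρ_tb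
  comm_c := fun α β h => by
    have h' : (α ≫ Q.ρ) ≫ Q.sb = (β ≫ Q.ρ) ≫ Q.tb := by
      rw [Category.assoc, Category.assoc, Q.ρ_sb, Q.ρ_tb, ← Category.assoc, ← Category.assoc, h]
    exact (Q.lift_cb_arr (Arr.mk' β) ((Arr.mk' α).cast h rfl) h').symm

lemma grpd_j : Q.grpd.j = Q.jb := by
  apply pullback.hom_ext
  · exact pullback.lift_fst _ _ _
  · exact pullback.lift_snd _ _ _

end QData

end Groth.Agent.Lib.Helper68.SubQuot
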