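import Mathlib
import Groth.Prelude.Def_Grpd
import Groth.Prelude.Def_QuotSh
import Groth.Agent.Lib.Helper26.QuotRep
import Groth.Agent.Lib.Helper37.GrpdQuotFull
import Groth.Agent.Lib.Helper68.SubQuotH3

/-!
# Quotient of a groupoid scheme by a finite locally free sub-equivalence relation (helper68)
-/

set_option autoImplicit false
set_option linter.style.haveILetI false

open AlgebraicGeometry CategoryTheory Limits Grpd

namespace Groth.Agent.Lib.Helper68.SubQuot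

universe u

open Groth.Agent.Lib.Helper37

/-- The affine quotient attached to a finite locally free sub-equivalence relation on an affine
`U`. -/
theorem exists_quot (S : Scheme.{u}) (G : Grpd.GroupoidScheme S) [IsAffine G.U]
    (P : Scheme.{u}) (ιP : P ⟶ G.R) [Mono ιP]
    (eP : G.U ⟶ P) (he : eP ≫ ιP = G.e) (iP : P ⟶ P) (hi : iP ≫ ιP = ιP ≫ G.i)
    (cP : pullback (ιP ≫ G.s) (ιP ≫ G.t) ⟶ P)
    (hc : cP ≫ ιP = pullback.map (ιP ≫ G.s) (ιP ≫ G.t) G.s G.t ιP ιP (𝟙 G.U) (Category.comp_id _)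
        (Category.comp_id _) ≫ G.c)
    [IsFinite (ιP ≫ G.s)] [Flat (ιP ≫ G.s)] [LocallyOfFinitePresentation (ιP ≫ G.s)]
    [hm : Mono (ιP ≫ G.j)] :
    ∃ (Y : Scheme.{u}) (p : G.U ⟶ Y), IsAffine Y ∧ IsFinite p ∧ Flat p ∧
      LocallyOfFinitePresentation p ∧ Surjective p ∧ IsPullback (ιP ≫ G.t) (ιP ≫ G.s) p p := by
  obtain ⟨GP, hGP⟩ : ∃ GP : GroupoidScheme S, GP = SubG.subGrpd G ιP eP he iP hi cP hc :=
    ⟨_, rfl⟩
  haveI : IsFinite GP.s := by rw [hGP]; exact ‹IsFinite (ιP ≫ G.s)›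
  haveI : Flat GP.s := by rw [hGP]; exact ‹Flat (ιP ≫ G.s)›
  haveI : LocallyOfFinitePresentation GP.s := by
    rw [hGP]; exact ‹LocallyOfFinitePresentation (ιP ≫ G.s)›
  haveI : IsAffine GP.U := by rw [hGP]; exact ‹IsAffine G.U›
  haveI hmono : Mono GP.j := by
    rw [hGP]
    have h1 : (SubG.subGrpd G ιP eP he iP hi cP hc).j ≫ pullback.fst G.pU G.pU =
        (ιP ≫ G.j) ≫ pullback.fst G.pU G.pU :=
      (pullback.lift_fst _ _ _).trans (by rw [Category.assoc, j_fst']; rfl)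
    have h2 : (SubG.subGrpd G ιP eP he iP hi cP hc).j ≫ pullback.snd G.pU G.pU =
        (ιP ≫ G.j) ≫ pullback.snd G.pU G.pU :=
      (pullback.lift_snd _ _ _).trans (by rw [Category.assoc, j_snd']; rfl)
    have : (SubG.subGrpd G ιP eP he iP hi cP hc).j = ιP ≫ G.j := pullback.hom_ext h1 h2
    rw [this]
    exact hm
  obtain ⟨Y, p, w, -, -, hsurj, -, -, -, haff, hrest⟩ := NM.exists_quotient_full GP (fun u =>
    ⟨⊤, isAffineOpen_top GP.U, fun _ _ => trivial⟩)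
  obtain ⟨hfin, hflat, hlfp, hpb⟩ := hrest hmono
  subst hGP
  exact ⟨Y, p, haff inferInstance, hfin, hflat, hlfp, hsurj, hpb⟩

/-- **Quotient of a groupoid scheme by a finite locally free sub-equivalence relation.** -/
theorem main (S : Scheme.{u}) (G : Grpd.GroupoidScheme S) [IsAffine G.U]
    [IsSeparated G.j] [LocallyQuasiFinite G.j] [LocallyOfFiniteType G.j]
    (P : Scheme.{u}) (ιP : P ⟶ G.R) [Mono ιP]
    (he : ∃ eP : G.U ⟶ P, eP ≫ ιP = G.e) (hi : ∃ iP : P ⟶ P, iP ≫ ιP = ιP ≫ G.i)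
    (hc : ∃ cP : pullback (ιP ≫ G.s) (ιP ≫ G.t) ⟶ P,
      cP ≫ ιP = pullback.map (ιP ≫ G.s) (ιP ≫ G.t) G.s G.t ιP ιP (𝟙 G.U) (Category.comp_id _)
        (Category.comp_id _) ≫ G.c)
    [IsFinite (ιP ≫ G.s)] [Flat (ιP ≫ G.s)] [LocallyOfFinitePresentation (ιP ≫ G.s)]
    [Mono (ιP ≫ G.j)] :
    ∃ (H : Grpd.GroupoidScheme S) (φ : Grpd.GroupoidScheme.Hom G H),
      IsAffine H.U ∧
      QuotSh.IsQuotient Scheme.fppfPrecoverage
        (Over.homMk (ιP ≫ G.s) ((Category.assoc _ _ _).trans (congrArg (ιP ≫ ·) G.s_over)) :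
          (Over.mk (ιP ≫ G.pR) : Over S) ⟶ Over.mk G.pU)
        (Over.homMk (ιP ≫ G.t) ((Category.assoc _ _ _).trans (congrArg (ιP ≫ ·) G.t_over)) :
          (Over.mk (ιP ≫ G.pR) : Over S) ⟶ Over.mk G.pU)
        (Over.homMk φ.fU φ.fU_over : Over.mk G.pU ⟶ Over.mk H.pU) ∧
      IsFinite φ.fU ∧ Flat φ.fU ∧ LocallyOfFinitePresentation φ.fU ∧
      IsPullback (ιP ≫ G.t) (ιP ≫ G.s) φ.fU φ.fU ∧
      IsPullback φ.fR G.j H.j
        (pullback.map G.pU G.pU H.pU H.pU φ.fU φ.fU (𝟙 S)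
          ((Category.comp_id _).trans φ.fU_over.symm) ((Category.comp_id _).trans φ.fU_over.symm)) := by
  obtain ⟨eP, he⟩ := he
  obtain ⟨iP, hi⟩ := hi
  obtain ⟨cP, hc⟩ := hc
  obtain ⟨Y, p, haff, hfin, hflat, hlfp, hsurj, hpb⟩ :=
    exists_quot S G P ιP eP he iP hi cP hc
  have hcond : (ιP ≫ G.t) ≫ G.pU = (ιP ≫ G.s) ≫ G.pU := by
    rw [Category.assoc, Category.assoc, G.t_over, G.s_over]
  haveI := hfin
  haveI := hflat
  haveI := hlfp
  haveI := hsurj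
  obtain ⟨E, hE⟩ : ∃ E : Setup G, E = ⟨P, ιP, eP, he, iP, hi, cP, hc, Y, p,
    fppfDesc p hpb G.pU hcond, fppfDesc_fac p hpb G.pU hcond, hpb⟩ := ⟨_, rfl⟩
  haveI : IsFinite E.q := by rw [hE]; exact hfin
  haveI : Flat E.q := by rw [hE]; exact hflat
  haveI : LocallyOfFinitePresentation E.q := by rw [hE]; exact hlfp
  haveI : Surjective E.q := by rw [hE]; exact hsurj
  obtain ⟨Q⟩ := nonempty_qdata E
  subst hE
  refine ⟨Q.grpd, Q.hom, haff, ?_, hfin, hflat, hlfp, hpb, ?_⟩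
  · refine Groth.Agent.Lib.Helper26.QuotRep.isQuotient_of_isKernelPair Scheme.fppfPrecoverage _ _ _
      ?_ ?_
    · refine IsPullback.of_map (Over.forget S) ?_ ?_
      · ext
        exact hpb.w.symm
      · exact hpb.flip
    · exact p.singleton_mem_fppfPrecoverage
  · rw [Q.grpd_j]
    exact Q.hsq

end Groth.Agent.Lib.Helper68.SubQuot
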