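import Mathlib
import Groth.Prelude.Def_W4c1tameactTame
import Groth.Prelude.Def_ComodTens
import Groth.Prelude.Def_ComodDual
import Groth.Agent.Lib.Helper84.ComodHomDual
import Groth.Agent.Lib.Helper84.LDual
import Groth.Agent.S16688
import Groth.Agent.S16471

set_option autoImplicit false
universe u v w w'
open TensorProduct

namespace Groth.Agent.Lib.Helper68.TotalIntegralExact

open Groth.Agent.Lib.Helper84.LDual Groth.Agent.Lib.Helper84.ComodHomDual

section Dual

variable {k : Type u} [CommRing k] {A : Type v} [CommRing A] [HopfAlgebra k A]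
  {M : Type w} [AddCommGroup M] [Module k M]

/-- Existence of the contragredient over a commutative ring (finitely presented module, flat Hopf algebra). -/
theorem exists_isDual [Module.Flat k A] [Module.FinitePresentation k M] (c : HopfRep.Comod k A M) :
    ∃ d : HopfRep.Comod k A (Module.Dual k M), ComodTens.Comod.IsDual c d := by
  obtain ⟨l, hl⟩ := exists_lcomod_isLDual c
  obtain ⟨d, hd⟩ := Groth.Agent.S16688.result k A (Module.Dual k M) l
  refine ⟨d, ?_⟩
  intro f
  rw [hd, ComodSub.rcoactOfLeft_apply, Groth.Agent.S16471.H1, hl f]
  ext m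
  rw [LinearMap.comp_apply, ComodSub.ldualFun_apply, Groth.Agent.S16471.H2, ComodTens.dualCoactFun_apply]

end Dual

section Sep

variable {k : Type u} [CommRing k] {A : Type v} [CommRing A] [HopfAlgebra k A]
  {B : Type w} [AddCommGroup B] [Module k B] {M : Type w'} [AddCommGroup M] [Module k M]

local notation "D" => Module.Dual k M

theorem sep3' [Module.Finite k M] [Module.Projective k M]
    (X Y : (B ⊗[k] D) ⊗[k] A)
    (h : ∀ m : M, (evL (A := B) m).rTensor A X = (evL (A := B) m).rTensor A Y) : X = Y := by
  have key : ∀ (X : (B ⊗[k] D) ⊗[k] A) (m : M),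
      dualTensorHom k M (B ⊗[k] A) (TensorProduct.assoc k D B A
        ((LinearEquiv.rTensor A (TensorProduct.comm k B D)) X)) m =
        (evL (A := B) m).rTensor A X := by
    intro X m
    induction X using TensorProduct.induction_on with
    | zero => simp
    | tmul y a =>
      induction y using TensorProduct.induction_on with
      | zero => simp
      | tmul b φ => simp [TensorProduct.smul_tmul']
      | add x y hx hy => simp only [TensorProduct.add_tmul, map_add, hx, hy, LinearMap.add_apply]
    | add x y hx hy => simp only [map_add, hx, hy, LinearMap.add_apply]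
  apply (LinearEquiv.rTensor A (TensorProduct.comm k B D)).injective
  apply (TensorProduct.assoc k D B A).injective
  apply (dualTensorHom_bijective (R := k) (M := M) (N := B ⊗[k] A)).1
  ext m : 1
  rw [key, key, h]

/-- An element of `B ⊗ M^*` is invariant iff the corresponding map `M → B` is a comodule map
(`M` finite projective, no flatness of `B`). -/
theorem mem_fixedPts_iff' [Module.Finite k M] [Module.Projective k M]
    (cB : HopfRep.Comod k A B) (cM : HopfRep.Comod k A M)
    (d : HopfRep.Comod k A D) (hd : ComodTens.Comod.IsDual cM d) (x : B ⊗[k] D) :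
    x ∈ (@HopfRep.fixedPts k A _ _ _ (B ⊗[k] D) _ _ (ComodTens.Comod.tensor cB d)) ↔
      @Hoch.IsComodHom k _ A _ _ _ M _ _ cM B _ _ cB (Theta x) := by
  have h1 : x ∈ (@HopfRep.fixedPts k A _ _ _ (B ⊗[k] D) _ _ (ComodTens.Comod.tensor cB d)) ↔
      (ComodTens.Comod.tensor cB d).coact x = x ⊗ₜ[k] (1 : A) := Iff.rfl
  have h2 : @Hoch.IsComodHom k _ A _ _ _ M _ _ cM B _ _ cB (Theta x) ↔
      ∀ m, cB.coact (Theta x m) = ((Theta x).rTensor A) (cM.coact m) := by
    unfold Hoch.IsComodHom
    constructor
    · intro h m
      exact LinearMap.congr_fun h m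
    · intro h
      apply LinearMap.ext
      intro m
      exact h m
  rw [h1, h2]
  constructor
  · intro hx
    apply C_of_F cB cM
    intro m
    rw [← K cB cM d hd, hx, evL_rTensor_tmul_one]
  · intro hC
    apply sep3'
    intro m
    rw [K cB cM d hd, evL_rTensor_tmul_one]
    exact F_of_C cB cM _ hC m

end Sep

section HM

variable (k : Type u) [CommRing k] (A : Type v) [CommRing A] [HopfAlgebra k A]
  (B : Type w) [CommRing B] [Algebra k B] [HopfRep.Comod k A B] [GLin.IsCoactAlg k A B]

local notation "D" => Module.Dual k A

/-- `hmSMul` on `B` itself is multiplication. -/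
theorem hmSMul_self (y y' : B ⊗[k] A) : TameAct.hmSMul k A B B y y' = y * y' := by
  induction y using TensorProduct.induction_on with
  | zero => simp
  | tmul b a =>
    induction y' using TensorProduct.induction_on with
    | zero => simp
    | tmul b' a' => simp
    | add x y hx hy => rw [map_add, hx, hy, mul_add]
  | add x y hx hy => rw [map_add, LinearMap.add_apply, hx, hy, add_mul]

instance isHopfMod_self : TameAct.IsHopfMod k A B B where
  coact_smul b m := by
    rw [smul_eq_mul, GLin.IsCoactAlg.coact_mul, hmSMul_self]

theorem tensor_coact_mul (y y' : B ⊗[k] A) (w : D ⊗[k] A) :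
    TensorProduct.map LinearMap.id (LinearMap.mul' k A)
        (AlgebraTensorModule.tensorTensorTensorComm k k k k B A D A ((y * y') ⊗ₜ[k] w)) =
      TameAct.hmSMul k A B (B ⊗[k] D) y
        (TensorProduct.map LinearMap.id (LinearMap.mul' k A)
          (AlgebraTensorModule.tensorTensorTensorComm k k k k B A D A (y' ⊗ₜ[k] w))) := by
  induction y using TensorProduct.induction_on with
  | zero => simp
  | tmul b a =>
    induction y' using TensorProduct.induction_on with
    | zero => simp
    | tmul b' a' =>
      induction w using TensorProduct.induction_on with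
      | zero => simp
      | tmul φ a'' =>
        simp [TensorProduct.smul_tmul', mul_assoc]
      | add x y hx hy => simp only [TensorProduct.tmul_add, map_add, hx, hy]
    | add x y hx hy =>
      simp only [mul_add, TensorProduct.add_tmul, map_add, hx, hy]
  | add x y hx hy =>
    simp only [add_mul, TensorProduct.add_tmul, map_add, hx, hy, LinearMap.add_apply]

theorem isHopfMod_tensor (d : HopfRep.Comod k A D) :
    @TameAct.IsHopfMod k _ A _ _ B _ _ (B ⊗[k] D) _ _ _ _ _
      (ComodTens.Comod.tensor (inferInstance : HopfRep.Comod k A B) d) := by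
  letI : HopfRep.Comod k A (B ⊗[k] D) := ComodTens.Comod.tensor (inferInstance : HopfRep.Comod k A B) d
  constructor
  intro b x
  induction x using TensorProduct.induction_on with
  | zero => simp
  | tmul b' φ =>
    rw [TensorProduct.smul_tmul', smul_eq_mul]
    change (ComodTens.Comod.tensor (inferInstance : HopfRep.Comod k A B) d).coact _ =
      TameAct.hmSMul k A B (B ⊗[k] D) _
        ((ComodTens.Comod.tensor (inferInstance : HopfRep.Comod k A B) d).coact _)
    rw [ComodTens.tensor_coact_tmul, ComodTens.tensor_coact_tmul, GLin.IsCoactAlg.coact_mul,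
      tensor_coact_mul]
  | add x y hx hy =>
    rw [smul_add, map_add, hx, hy, map_add, map_add]

end HM

section EV

variable (k : Type u) [CommRing k] (A : Type v) [CommRing A] [HopfAlgebra k A]
  (B : Type w) [CommRing B] [Algebra k B]

local notation "D" => Module.Dual k A

/-- evaluation at `1`, as a `B`-linear map `B ⊗ A^* → B`. -/
noncomputable def evOne : B ⊗[k] D →ₗ[B] B where
  toFun := evL (A := B) (1 : A)
  map_add' := map_add _
  map_smul' b x := by
    induction x using TensorProduct.induction_on with
    | zero => simp
    | tmul b' φ =>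
      rw [TensorProduct.smul_tmul', evL_tmul, evL_tmul, RingHom.id_apply, smul_eq_mul, smul_eq_mul,
        mul_smul_comm]
    | add x y hx hy =>
      rw [smul_add, map_add, hx, hy, map_add, smul_add]

theorem evOne_apply (x : B ⊗[k] D) : evOne k A B x = evL (A := B) (1 : A) x := rfl

theorem evOne_surjective : Function.Surjective (evOne k A B) := by
  intro b
  refine ⟨b ⊗ₜ[k] (Coalgebra.counit (R := k) (A := A)), ?_⟩
  rw [evOne_apply, evL_tmul, Bialgebra.counit_one, one_smul]

variable [HopfRep.Comod k A B]

theorem evOne_isComodHom (d : HopfRep.Comod k A D)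
    (hd : ComodTens.Comod.IsDual (HopfRep.Comod.regular k A) d) :
    @Hoch.IsComodHom k _ A _ _ _ (B ⊗[k] D) _ _
      (ComodTens.Comod.tensor (inferInstance : HopfRep.Comod k A B) d) B _ _ inferInstance
      ((evOne k A B).restrictScalars k) := by
  unfold Hoch.IsComodHom
  apply LinearMap.ext
  intro x
  rw [LinearMap.comp_apply, LinearMap.comp_apply]
  change HopfRep.Comod.coact (k := k) (A := A) (evL (A := B) (1 : A) x) =
    (evL (A := B) (1 : A)).rTensor A
      ((ComodTens.Comod.tensor (inferInstance : HopfRep.Comod k A B) d).coact x)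
  rw [K (inferInstance : HopfRep.Comod k A B) (HopfRep.Comod.regular k A) d hd x 1]
  change _ = GG _ (Theta x) (Coalgebra.comul (R := k) (1 : A))
  rw [Bialgebra.comul_one, Algebra.TensorProduct.one_def, GG_tmul, HopfAlgebra.antipode_one, Rm_one,
    Theta_apply]

end EV

end Groth.Agent.Lib.Helper68.TotalIntegralExact
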