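import Mathlib
import Groth.Prelude.Def_HopfRep
import Groth.Prelude.Def_ComodSub
import Groth.Prelude.Def_CoactBr2
import Groth.Agent.Lib.Helper84.ComodBC
import Groth.Agent.Lib.Helper84.TrigFilt
import Groth.Agent.Lib.Helper84.SmallestSubcomod

set_option autoImplicit false
universe u
open TensorProduct HopfRep
open Groth.Agent.Lib.Helper84 Groth.Agent.Lib.Helper84.ComodBC

namespace Groth.Agent.Lib.Helper68.TrigDVR

section General

variable (R : Type*) (S : Type*) [CommRing R] [CommRing S] [Algebra R S]
variable (H : Type*) [AddCommGroup H] [Module R H] [Coalgebra R H]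
variable {M : Type*} [AddCommGroup M] [Module R M] [c : HopfRep.Comod R H M]
variable {M' : Type*} [AddCommGroup M'] [Module R M'] [d : HopfRep.Comod R H M']

/-- naturality of `theta`. -/
theorem theta_natural (f : M →ₗ[R] M') (y : S ⊗[R] (M ⊗[R] H)) :
    theta R S H M' ((f.rTensor H).baseChange S y) =
      (f.baseChange S).rTensor (S ⊗[R] H) (theta R S H M y) := by
  induction y using TensorProduct.induction_on with
  | zero => simp
  | tmul s t =>
    induction t using TensorProduct.induction_on with
    | zero => simp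
    | tmul v a =>
      rw [LinearMap.baseChange_tmul, LinearMap.rTensor_tmul, theta_tmul_tmul, theta_tmul_tmul,
        LinearMap.rTensor_tmul, LinearMap.baseChange_tmul]
    | add a b ha hb =>
      rw [TensorProduct.tmul_add, map_add, map_add, ha, hb, map_add, map_add]
  | add a b ha hb =>
    rw [map_add, map_add, ha, hb, map_add, map_add]

/-- base change of a comodule map is a comodule map. -/
theorem baseChange_isComodHom (f : M →ₗ[R] M')
    (hf : ∀ v, d.coact (f v) = f.rTensor H (c.coact v)) (x : S ⊗[R] M) :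
    (CoactBr.Comod.baseChange R S H M').coact (f.baseChange S x) =
      (f.baseChange S).rTensor (S ⊗[R] H)
        ((CoactBr.Comod.baseChange R S H M).coact x) := by
  rw [baseChange_coact_eq, baseChange_coact_eq, ← theta_natural R S H f]
  congr 1
  induction x using TensorProduct.induction_on with
  | zero => simp
  | tmul s v => simp only [LinearMap.baseChange_tmul, hf]
  | add a b ha hb => simp only [map_add, ha, hb]

/-- base change of an eigenvector. -/
theorem baseChange_coact_eigen (e : M) (g : H) (he : c.coact e = e ⊗ₜ[R] g) (s : S) :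
    (CoactBr.Comod.baseChange R S H M).coact (s ⊗ₜ[R] e) =
      (s ⊗ₜ[R] e) ⊗ₜ[S] ((1 : S) ⊗ₜ[R] g) := by
  rw [baseChange_coact_eq, LinearMap.baseChange_tmul, he, theta_tmul_tmul]
  have h1 : s ⊗ₜ[R] e = s • ((1 : S) ⊗ₜ[R] e) := by rw [TensorProduct.smul_tmul', smul_eq_mul, mul_one]
  have h2 : s ⊗ₜ[R] g = s • ((1 : S) ⊗ₜ[R] g) := by rw [TensorProduct.smul_tmul', smul_eq_mul, mul_one]
  rw [h1, h2, TensorProduct.tmul_smul, TensorProduct.smul_tmul']

end General

section Primitive


theorem exists_primitive {R : Type*} [CommRing R] [IsDomain R] [IsPrincipalIdealRing R]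
    {M : Type*} [AddCommGroup M] [Module R M] [Module.Free R M] [Module.Finite R M]
    (m : M) (hm : m ≠ 0) :
    ∃ (d : R) (e : M) (l : M →ₗ[R] R), d ≠ 0 ∧ m = d • e ∧ l e = 1 := by
  classical
  let b := Module.Free.chooseBasis R M
  set c : Module.Free.ChooseBasisIndex R M → R := fun j => b.repr m j with hc
  obtain ⟨d, hd⟩ := (IsPrincipalIdealRing.principal (Ideal.span (Set.range c))).principal
  have hcj : ∀ j, c j ∈ Ideal.span (Set.range c) := fun j => Ideal.subset_span ⟨j, rfl⟩
  have hd0 : d ≠ 0 := by
    rintro rfl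
    apply hm
    apply b.repr.injective
    ext j
    have := hcj j
    rw [hd] at this
    simp only [Ideal.submodule_span_eq, Set.singleton_zero, Ideal.span_zero, Ideal.mem_bot] at this
    simpa [hc] using this
  have hdiv : ∀ j, ∃ c' : R, c j = d * c' := by
    intro j
    have := hcj j
    rw [hd] at this
    obtain ⟨c', hc'⟩ := Ideal.mem_span_singleton'.mp this
    exact ⟨c', by rw [← hc', mul_comm]⟩
  choose c' hc' using hdiv
  have hdmem : d ∈ Ideal.span (Set.range c) := by
    rw [hd]; exact Ideal.mem_span_singleton_self d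
  obtain ⟨a, ha⟩ := (Ideal.mem_span_range_iff_exists_fun).mp hdmem
  refine ⟨d, ∑ j, c' j • b j, ∑ j, a j • b.coord j, hd0, ?_, ?_⟩
  · rw [Finset.smul_sum]
    conv_lhs => rw [← b.sum_repr m]
    refine Finset.sum_congr rfl fun j _ => ?_
    rw [smul_smul, ← hc']
  · have h1 : (∑ j, a j • b.coord j) (∑ j, c' j • b j) = ∑ j, a j * c' j := by
      rw [LinearMap.sum_apply]
      refine Finset.sum_congr rfl fun j _ => ?_
      rw [LinearMap.smul_apply, map_sum, smul_eq_mul]
      congr 1
      rw [Finset.sum_eq_single j]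
      · simp
      · intro i _ hij
        simp [Finsupp.single_apply, hij]
      · intro h; exact absurd (Finset.mem_univ j) h
    rw [h1]
    apply mul_left_cancel₀ hd0
    rw [mul_one, Finset.mul_sum]
    conv_rhs => rw [← ha]
    refine Finset.sum_congr rfl fun j _ => ?_
    rw [hc' j]; ring

end Primitive

section Integral

variable (R : Type*) (K : Type*) [CommRing R] [IsDomain R] [Field K] [Algebra R K] [IsFractionRing R K]
variable (H : Type*) [AddCommGroup H] [Module R H] [Coalgebra R H]
variable {M : Type*} [AddCommGroup M] [Module R M] [c : HopfRep.Comod R H M]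

theorem mk_one_injective_of_flat (N : Type*) [AddCommGroup N] [Module R N] [Module.Flat R N] :
    Function.Injective (TensorProduct.mk R K N 1) := by
  have h1 : Function.Injective ((Algebra.linearMap R K).rTensor N) :=
    Module.Flat.rTensor_preserves_injective_linearMap _ (IsFractionRing.injective R K)
  have h2 : (TensorProduct.mk R K N 1) =
      (Algebra.linearMap R K).rTensor N ∘ₗ (TensorProduct.lid R N).symm.toLinearMap := by
    ext n
    simp
  rw [h2]
  exact h1.comp (TensorProduct.lid R N).symm.injective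

theorem coact_eq_of_baseChange_eigen [Module.Flat R (M ⊗[R] H)] (e : M) (l : M →ₗ[R] R) (hl : l e = 1)
    (χ : K ⊗[R] H)
    (hχ : (CoactBr.Comod.baseChange R K H M).coact ((1 : K) ⊗ₜ[R] e) = ((1 : K) ⊗ₜ[R] e) ⊗ₜ[K] χ) :
    ∃ g : H, c.coact e = e ⊗ₜ[R] g ∧ χ = (1 : K) ⊗ₜ[R] g := by
  set lK : K ⊗[R] M →ₗ[K] K := ((Algebra.linearMap R K) ∘ₗ l).liftBaseChange K with hlK
  set Λ : (K ⊗[R] M) ⊗[K] (K ⊗[R] H) →ₗ[K] K ⊗[R] H :=
    (TensorProduct.lid K (K ⊗[R] H)).toLinearMap ∘ₗ lK.rTensor (K ⊗[R] H) with hΛ
  have key : ∀ s : M ⊗[R] H, Λ (theta R K H M ((1 : K) ⊗ₜ[R] s)) =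
      (1 : K) ⊗ₜ[R] (TensorProduct.lid R H (l.rTensor H s)) := by
    intro s
    induction s using TensorProduct.induction_on with
    | zero => simp
    | tmul v a =>
      rw [theta_tmul_tmul, hΛ, LinearMap.comp_apply, LinearMap.rTensor_tmul, LinearEquiv.coe_coe,
        TensorProduct.lid_tmul, hlK, LinearMap.liftBaseChange_tmul, one_smul, LinearMap.comp_apply,
        LinearMap.rTensor_tmul, TensorProduct.lid_tmul, TensorProduct.tmul_smul,
        Algebra.linearMap_apply, TensorProduct.smul_tmul', Algebra.smul_def, mul_one,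
        TensorProduct.smul_tmul', Algebra.smul_def (l v) (1 : K), mul_one]
      rfl
    | add a b ha hb =>
      rw [TensorProduct.tmul_add, map_add, map_add, ha, hb, map_add, map_add, TensorProduct.tmul_add]
  set t := c.coact e with ht
  set g : H := TensorProduct.lid R H (l.rTensor H t) with hg
  have h1 : theta R K H M ((1 : K) ⊗ₜ[R] t) = ((1 : K) ⊗ₜ[R] e) ⊗ₜ[K] χ := by
    rw [← hχ, baseChange_coact_eq, LinearMap.baseChange_tmul]
  have h2 : χ = (1 : K) ⊗ₜ[R] g := by
    have := key t
    rw [h1, hΛ, LinearMap.comp_apply, LinearMap.rTensor_tmul, LinearEquiv.coe_coe,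
      TensorProduct.lid_tmul, hlK, LinearMap.liftBaseChange_tmul, one_smul, LinearMap.comp_apply, hl,
      Algebra.linearMap_apply, map_one, one_smul] at this
    exact this
  refine ⟨g, ?_, h2⟩
  apply mk_one_injective_of_flat R K (M ⊗[R] H)
  apply (theta R K H M).injective
  change theta R K H M ((1 : K) ⊗ₜ[R] t) = theta R K H M ((1 : K) ⊗ₜ[R] (e ⊗ₜ[R] g))
  rw [h1, h2, theta_tmul_tmul]

end Integral

section QuotFree


theorem quot_span_free {R : Type*} [CommRing R] [IsDomain R] [IsPrincipalIdealRing R]
    {M : Type*} [AddCommGroup M] [Module R M] [Module.Free R M] [Module.Finite R M]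
    (e : M) (l : M →ₗ[R] R) (hl : l e = 1) :
    Module.Free R (M ⧸ Submodule.span R {e}) ∧
      Module.finrank R (M ⧸ Submodule.span R {e}) + 1 = Module.finrank R M := by
  have heL : e ∈ Submodule.span R {e} := Submodule.mem_span_singleton_self e
  have he0 : e ≠ 0 := by
    rintro rfl
    rw [map_zero] at hl
    exact zero_ne_one hl
  let f : M →ₗ[R] Submodule.span R {e} := l.smulRight (⟨e, heL⟩ : Submodule.span R {e})
  have hf : ∀ x : Submodule.span R {e}, f x = x := by
    rintro ⟨x, hx⟩
    obtain ⟨a, rfl⟩ := Submodule.mem_span_singleton.mp hx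
    apply Subtype.ext
    simp only [f, LinearMap.smulRight_apply, map_smul, hl]
    simp
  have hcompl : IsCompl (Submodule.span R {e}) (LinearMap.ker f) := LinearMap.isCompl_of_proj hf
  have hfree : Module.Free R (LinearMap.ker f) := by
    have : Module.IsTorsionFree R (LinearMap.ker f) := inferInstance
    have : Module.Finite R (LinearMap.ker f) := inferInstance
    exact Module.free_of_finite_type_torsion_free'
  constructor
  · exact Module.Free.of_equiv (Submodule.quotientEquivOfIsCompl _ (LinearMap.ker f) hcompl).symm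
  · have h1 := Submodule.finrank_quotient_add_finrank (Submodule.span R {e})
    have h2 : Module.finrank R (Submodule.span R {e}) = 1 := by
      rw [← (LinearEquiv.toSpanNonzeroSingleton R M e he0).finrank_eq, Module.finrank_self]
    rw [h2] at h1
    exact h1

end QuotFree

section Main

variable (R : Type u) [CommRing R] [IsDomain R] [IsDiscreteValuationRing R]
  (K : Type u) [Field K] [Algebra R K] [IsFractionRing R K]
  (H : Type u) [CommRing H] [Bialgebra R H] [Module.Flat R H]

theorem isSubcomod_span_singleton_of_eigen' {M : Type*} [AddCommGroup M] [Module R M]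
    [c : HopfRep.Comod R H M] (v : M) (a : H)
    (h : c.coact v = v ⊗ₜ[R] a) :
    HopfRep.IsSubcomod (k := R) (A := H) (Submodule.span R {v}) := by
  intro x hx
  obtain ⟨b, rfl⟩ := Submodule.mem_span_singleton.mp hx
  refine ⟨(b • (⟨v, Submodule.mem_span_singleton_self v⟩ : Submodule.span R {v})) ⊗ₜ[R] a, ?_⟩
  rw [map_smul, h, LinearMap.rTensor_tmul, TensorProduct.smul_tmul']
  rfl

theorem mem_F_baseChange_residue (hK : HopfRep.IsTrigonalizable K (K ⊗[R] H)) :
    ∀ (r : ℕ) (M : Type u) [AddCommGroup M] [Module R M] [Module.Free R M] [Module.Finite R M]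
      (c : HopfRep.Comod R H M), Module.finrank R M = r →
      ∀ x : IsLocalRing.ResidueField R ⊗[R] M,
        x ∈ ComodFilt.F (TrigFilt.nA (IsLocalRing.ResidueField R) (IsLocalRing.ResidueField R ⊗[R] H))
          (@CoactBr.Comod.baseChange R (IsLocalRing.ResidueField R) _ _ _ H _ _ _ M _ _ c) r := by
  intro r
  induction r with
  | zero =>
    intro M _ _ _ _ c hr x
    have hM : Subsingleton M := (Module.finrank_zero_iff (R := R)).1 hr
    have : Subsingleton (IsLocalRing.ResidueField R ⊗[R] M) := inferInstance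
    rw [Subsingleton.elim x 0]
    exact Submodule.zero_mem _
  | succ r ih =>
    intro M _ _ _ _ c hr x
    letI := c
    let cK : HopfRep.Comod K (K ⊗[R] H) (K ⊗[R] M) := CoactBr.Comod.baseChange R K H M
    haveI : Nontrivial (K ⊗[R] M) := by
      apply Module.nontrivial_of_finrank_pos (R := K)
      rw [Module.finrank_baseChange]
      omega
    obtain ⟨y, hy0, χ, hy⟩ := TrigFilt.exists_eigen_of_isTrigonalizable hK cK
    obtain ⟨⟨m, s⟩, hms⟩ := IsLocalizedModule.surj (nonZeroDivisors R) (TensorProduct.mk R K M 1) y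
    simp only [TensorProduct.mk_apply] at hms
    have hs0 : algebraMap R K (s : R) ≠ 0 := by
      intro h
      exact (nonZeroDivisors.ne_zero s.2) ((IsFractionRing.injective R K) (by rw [h, map_zero]))
    have hms' : (1 : K) ⊗ₜ[R] m = algebraMap R K (s : R) • y := by
      rw [← hms, algebraMap_smul]
      rfl
    have hm0 : m ≠ 0 := by
      rintro rfl
      rw [TensorProduct.tmul_zero] at hms'
      exact (smul_ne_zero hs0 hy0) hms'.symm
    obtain ⟨d, e, l, hd0, hmde, hle⟩ := exists_primitive (R := R) m hm0
    have hdK : algebraMap R K d ≠ 0 := by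
      intro h
      exact hd0 ((IsFractionRing.injective R K) (by rw [h, map_zero]))
    have he1 : (1 : K) ⊗ₜ[R] e = ((algebraMap R K d)⁻¹ * algebraMap R K (s : R)) • y := by
      rw [mul_smul, ← hms', hmde, TensorProduct.tmul_smul, ← algebraMap_smul K d ((1 : K) ⊗ₜ[R] e),
        smul_smul, inv_mul_cancel₀ hdK, one_smul]
    have hχe : cK.coact ((1 : K) ⊗ₜ[R] e) = ((1 : K) ⊗ₜ[R] e) ⊗ₜ[K] χ := by
      rw [he1, map_smul, hy, TensorProduct.smul_tmul']
    obtain ⟨g, hg, hχg⟩ := coact_eq_of_baseChange_eigen R K H e l hle χ hχe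
    -- the line spanned by `e`
    have hL : HopfRep.IsSubcomod (k := R) (A := H) (Submodule.span R {e}) :=
      isSubcomod_span_singleton_of_eigen' R H e g hg
    obtain ⟨hQfree, hQrank⟩ := quot_span_free (R := R) e l hle
    let cQ : HopfRep.Comod R H (M ⧸ Submodule.span R {e}) :=
      ComodSub.Comod.quot c (Submodule.span R {e}) hL
    have hQr : Module.finrank R (M ⧸ Submodule.span R {e}) = r := by omega
    have ihQ := ih (M ⧸ Submodule.span R {e}) cQ hQr
    -- the reduction of the projection
    set qκ : IsLocalRing.ResidueField R ⊗[R] M →ₗ[IsLocalRing.ResidueField R]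
        IsLocalRing.ResidueField R ⊗[R] (M ⧸ Submodule.span R {e}) :=
      (Submodule.span R {e}).mkQ.baseChange (IsLocalRing.ResidueField R) with hqκ
    have hcomod : ∀ v, (@CoactBr.Comod.baseChange R (IsLocalRing.ResidueField R) _ _ _ H _ _ _
          (M ⧸ Submodule.span R {e}) _ _ cQ).coact (qκ v) =
        qκ.rTensor (IsLocalRing.ResidueField R ⊗[R] H)
          ((@CoactBr.Comod.baseChange R (IsLocalRing.ResidueField R) _ _ _ H _ _ _ M _ _ c).coact v) :=
      fun v => baseChange_isComodHom R (IsLocalRing.ResidueField R) H (c := c) (d := cQ)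
        (Submodule.span R {e}).mkQ (fun w => ComodSub.quot_coact_mk c _ hL w) v
    -- the reduction of `e` is a nonzero eigenvector
    have heκ0 : (1 : IsLocalRing.ResidueField R) ⊗ₜ[R] e ≠ 0 := by
      intro h
      have h2 := congrArg (((Algebra.linearMap R (IsLocalRing.ResidueField R)) ∘ₗ l).liftBaseChange
        (IsLocalRing.ResidueField R)) h
      rw [LinearMap.liftBaseChange_tmul, map_zero, one_smul, LinearMap.comp_apply, hle,
        Algebra.linearMap_apply, map_one] at h2
      exact one_ne_zero h2
    have hgl : IsGroupLikeElem (IsLocalRing.ResidueField R)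
        ((1 : IsLocalRing.ResidueField R) ⊗ₜ[R] g : IsLocalRing.ResidueField R ⊗[R] H) :=
      ChevalleyChar.isGroupLikeElem_of_coact
        (@CoactBr.Comod.baseChange R (IsLocalRing.ResidueField R) _ _ _ H _ _ _ M _ _ c) _ heκ0 _
        (baseChange_coact_eigen R (IsLocalRing.ResidueField R) H e g hg 1)
    have hker : LinearMap.ker qκ ≤ ComodFilt.F
        (TrigFilt.nA (IsLocalRing.ResidueField R) (IsLocalRing.ResidueField R ⊗[R] H))
        (@CoactBr.Comod.baseChange R (IsLocalRing.ResidueField R) _ _ _ H _ _ _ M _ _ c) 1 := by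
      have hall : ∀ w : IsLocalRing.ResidueField R ⊗[R] (Submodule.span R {e}),
          (Submodule.span R {e}).subtype.lTensor (IsLocalRing.ResidueField R) w ∈ ComodFilt.F
            (TrigFilt.nA (IsLocalRing.ResidueField R) (IsLocalRing.ResidueField R ⊗[R] H))
            (@CoactBr.Comod.baseChange R (IsLocalRing.ResidueField R) _ _ _ H _ _ _ M _ _ c) 1 := by
        intro w
        induction w using TensorProduct.induction_on with
        | zero => rw [map_zero]; exact Submodule.zero_mem _
        | tmul a w =>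
          obtain ⟨w, hw⟩ := w
          obtain ⟨b, rfl⟩ := Submodule.mem_span_singleton.mp hw
          rw [LinearMap.lTensor_tmul]
          refine TrigFilt.eigen_mem_F_one _ _ _ hgl ?_
          exact baseChange_coact_eigen R (IsLocalRing.ResidueField R) H (b • e) g
            (by rw [map_smul, hg, TensorProduct.smul_tmul']) a
        | add w₁ w₂ h₁ h₂ => rw [map_add]; exact Submodule.add_mem _ h₁ h₂
      intro z hz
      have hex : Function.Exact ((Submodule.span R {e}).subtype.lTensor (IsLocalRing.ResidueField R))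
          ((Submodule.span R {e}).mkQ.lTensor (IsLocalRing.ResidueField R)) :=
        lTensor_exact _ (LinearMap.exact_subtype_mkQ _) (Submodule.mkQ_surjective _)
      have hz' : (Submodule.span R {e}).mkQ.lTensor (IsLocalRing.ResidueField R) z = 0 := hz
      obtain ⟨w, rfl⟩ := (hex z).1 hz'
      exact hall w
    exact ComodFilt.mem_F_succ_of_map_mem qκ hcomod hker (ihQ (qκ x))

end Main

end Groth.Agent.Lib.Helper68.TrigDVR
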