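import Mathlib

open Polynomial

namespace Groth.Agent.Lib.Helper68.TruncPoly

variable {k : Type*} [Field k] (N : ℕ)

local notation "R" => AdjoinRoot ((X : k[X]) ^ (N + 1))
local notation "u" => AdjoinRoot.root ((X : k[X]) ^ (N + 1))

lemma u_pow_succ : (u) ^ (N + 1) = 0 := by
  have := AdjoinRoot.eval₂_root ((X : k[X]) ^ (N + 1))
  simpa using this

lemma isNilpotent_u : IsNilpotent (u) := ⟨N + 1, u_pow_succ N⟩

lemma exists_const_add (g : R) : ∃ (c : k) (g' : R), g = algebraMap k R c + u * g' := by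
  induction g using AdjoinRoot.induction_on with
  | ih p =>
    refine ⟨p.coeff 0, AdjoinRoot.mk _ p.divX, ?_⟩
    conv_lhs => rw [← X_mul_divX_add p]
    rw [map_add, map_mul, AdjoinRoot.mk_X, AdjoinRoot.mk_C, AdjoinRoot.algebraMap_eq]
    exact add_comm _ _

lemma not_pow_succ_dvd {j : ℕ} (hj : j ≤ N) : ¬ (u) ^ (j + 1) ∣ (u) ^ j := by
  rintro ⟨g, hg⟩
  -- `u^j (1 - u g) = 0` so `u^j = 0`
  have h1 : (u) ^ j * (1 + (u) * (-g)) = 0 := by
    rw [mul_add, mul_one, ← mul_assoc, ← pow_succ, mul_neg, ← hg, add_neg_cancel]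
  have hunit : IsUnit (1 + (u) * (-g)) :=
    IsNilpotent.isUnit_one_add ((Commute.all _ _).isNilpotent_mul_right (isNilpotent_u N))
  have h2 : (u) ^ j = 0 := by
    have := congrArg (· * (↑hunit.unit⁻¹ : R)) h1
    simpa [mul_assoc] using this
  rw [← AdjoinRoot.mk_X, ← map_pow, AdjoinRoot.mk_eq_zero] at h2
  have := natDegree_le_of_dvd h2 (pow_ne_zero _ X_ne_zero)
  rw [natDegree_X_pow, natDegree_X_pow] at this
  omega

/-- The inverse of `1 + u`. -/
noncomputable def v : R := ↑((isNilpotent_u (k := k) N).isUnit_one_add.unit⁻¹)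

lemma v_mul : v N * (1 + u) = (1 : R) := by
  have := (isNilpotent_u (k := k) N).isUnit_one_add.unit.inv_mul
  exact this

lemma u_sq_dvd_v_pow (m : ℕ) : ∃ w : R, (v N) ^ m - (1 - (m : R) * u) = (u) ^ 2 * w := by
  induction m with
  | zero => exact ⟨0, by simp⟩
  | succ m ih =>
    obtain ⟨w, hw⟩ := ih
    refine ⟨v N * w + (1 + (m : R)) * v N, ?_⟩
    have hv := v_mul (k := k) N
    push_cast
    linear_combination (v N) * hw + (1 - ((m : R) + 1) * u) * hv

/-- The substitution `u ↦ u / (1 + u)`. -/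
noncomputable def σ : R →ₐ[k] R :=
  AdjoinRoot.liftAlgHom _ (Algebra.ofId k R) (u * v N) (by
    rw [eval₂_pow, eval₂_X, mul_pow, u_pow_succ, zero_mul])

lemma σ_u : σ N (u) = u * v N := by
  rw [σ, AdjoinRoot.liftAlgHom_root]

lemma σ_spec : σ N (u) * (1 + algebraMap k R 1 * u) = u := by
  rw [σ_u, map_one, one_mul, mul_assoc, v_mul, mul_one]

lemma u_dvd_v_sub_one : (u) ∣ v N - 1 := by
  refine ⟨-v N, ?_⟩
  have hv := v_mul (k := k) N
  linear_combination hv

lemma u_dvd_σ_sub (g : R) : (u) ∣ σ N g - g := by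
  obtain ⟨c, g', rfl⟩ := exists_const_add N g
  refine ⟨v N * σ N g' - g', ?_⟩
  rw [map_add, map_mul, AlgHom.commutes, σ_u]
  ring

/-- `σ f - f` for `f ∈ (u^(m+1))` lies in `(u^(m+2))`. -/
lemma pow_dvd_σ_sub {m : ℕ} {r : R} (hr : (u) ^ (m + 1) ∣ r) : (u) ^ (m + 2) ∣ σ N r - r := by
  obtain ⟨g, rfl⟩ := hr
  obtain ⟨a, ha⟩ := u_dvd_σ_sub N g
  obtain ⟨b, hb⟩ := (sub_dvd_pow_sub_pow (v (k := k) N) 1 (m + 1))
  obtain ⟨c, hc⟩ := u_dvd_v_sub_one (k := k) N
  rw [one_pow] at hb
  refine ⟨(c * b) * σ N g + a, ?_⟩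
  rw [map_mul, map_pow, σ_u, mul_pow]
  have e1 : σ N g = g + u * a := by rw [← ha]; ring
  have e2 : (v N) ^ (m + 1) = 1 + u * c * b := by rw [← hc, ← hb]; ring
  rw [e2]
  rw [e1]
  ring

/-- Leading behaviour of `σ (u^m) - u^m`. -/
lemma σ_pow_sub (m : ℕ) : ∃ w : R, (σ N : R →ₐ[k] R) ((u) ^ m) - (u) ^ m = -(m : R) * (u) ^ (m + 1) + (u) ^ (m + 2) * w := by
  obtain ⟨w, hw⟩ := u_sq_dvd_v_pow (k := k) N m
  refine ⟨w, ?_⟩
  rw [map_pow, σ_u, mul_pow]
  have e : (v N) ^ m = 1 - (m : R) * u + (u) ^ 2 * w := by rw [← hw]; ring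
  rw [e]
  ring

section main

variable (A : Subalgebra k (AdjoinRoot ((X : k[X]) ^ (N + 1))))

/-- There is an element of `A` of exact order `m`. -/
def HasOrder (m : ℕ) : Prop := ∃ f ∈ A, (u) ^ m ∣ f ∧ ¬ (u) ^ (m + 1) ∣ f

lemma exists_lead {m : ℕ} {f : R} (hf : (u) ^ m ∣ f) :
    ∃ (c : k) (r : R), f = algebraMap k R c * (u) ^ m + r ∧ (u) ^ (m + 1) ∣ r := by
  obtain ⟨g, rfl⟩ := hf
  obtain ⟨c, g', rfl⟩ := exists_const_add N g
  exact ⟨c, (u) ^ (m + 1) * g', by ring, dvd_mul_right _ _⟩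

variable (hA : A.map (σ (k := k) N) ≤ A)

include hA in
lemma hasOrder_succ [CharZero k] {m : ℕ} (hm1 : 1 ≤ m) (hm : m + 1 ≤ N)
    (h : HasOrder N A m) : HasOrder N A (m + 1) := by
  obtain ⟨f, hfA, hfm, hfm'⟩ := h
  obtain ⟨c, r, rfl, hr⟩ := exists_lead N hfm
  have hc : c ≠ 0 := by
    rintro rfl
    apply hfm'
    simpa using hr
  obtain ⟨w, hw⟩ := σ_pow_sub (k := k) N m
  obtain ⟨w', hw'⟩ := pow_dvd_σ_sub N hr
  have e : σ N (algebraMap k R c * (u) ^ m + r) - (algebraMap k R c * (u) ^ m + r) =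
      algebraMap k R (-(m : k) * c) * (u) ^ (m + 1) +
        (u) ^ (m + 2) * (algebraMap k R c * w + w') := by
    rw [map_add, map_mul, AlgHom.commutes, map_mul, map_neg, map_natCast]
    linear_combination (algebraMap k R c) * hw + hw'
  refine ⟨σ N (algebraMap k R c * (u) ^ m + r) - (algebraMap k R c * (u) ^ m + r),
    A.sub_mem (hA (Subalgebra.mem_map.mpr ⟨_, hfA, rfl⟩)) hfA, ?_, ?_⟩
  · rw [e]
    exact dvd_add (dvd_mul_left _ _) (dvd_mul_of_dvd_left (pow_dvd_pow _ (by omega)) _)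
  · rw [e]
    intro hd
    have h1 : (u) ^ (m + 1 + 1) ∣ algebraMap k R (-(m : k) * c) * (u) ^ (m + 1) :=
      (dvd_add_left (dvd_mul_right _ _)).mp hd
    have hne : -(m : k) * c ≠ 0 :=
      mul_ne_zero (neg_ne_zero.mpr (Nat.cast_ne_zero.mpr (by omega))) hc
    have hunit : IsUnit (algebraMap k R (-(m : k) * c)) := (IsUnit.mk0 _ hne).map _
    exact not_pow_succ_dvd N hm ((hunit.dvd_mul_left).mp h1)

lemma pow_dvd_of_no_order (j : ℕ) (hj : 1 ≤ j)
    (hno : ∀ m, 1 ≤ m → m < j → ¬ HasOrder N A m) :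
    ∀ f ∈ A, (u) ∣ f → (u) ^ j ∣ f := by
  induction j, hj using Nat.le_induction with
  | base => intro f _ hf; simpa using hf
  | succ j hj ih =>
    intro f hfA hf
    have h1 := ih (fun m hm1 hmj => hno m hm1 (by omega)) f hfA hf
    by_contra hcon
    exact hno j hj (by omega) ⟨f, hfA, h1, hcon⟩

include hA in
theorem main [CharZero k] : ∃ n : ℕ, 1 ≤ n ∧ n ≤ N + 1 ∧
    Subalgebra.toSubmodule A =
      Submodule.span k {1} ⊔ (Ideal.span {(u) ^ n}).restrictScalars k := by
  classical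
  -- the candidate `n`
  obtain ⟨n, hn1, hnN, hno, hsup⟩ : ∃ n : ℕ, 1 ≤ n ∧ n ≤ N + 1 ∧
      (∀ m, 1 ≤ m → m < n → ¬ HasOrder N A m) ∧ (∀ f : R, (u) ^ n ∣ f → f ∈ A) := by
    by_cases hex : ∃ m, 1 ≤ m ∧ m ≤ N ∧ HasOrder N A m
    · obtain ⟨hn1, hnN, hPn⟩ := Nat.find_spec hex
      refine ⟨Nat.find hex, hn1, by omega, ?_, ?_⟩
      · intro m hm1 hmn hPm
        exact Nat.find_min hex hmn ⟨hm1, by omega, hPm⟩
      · -- all orders between `n` and `N` occur
        have hall : ∀ m, Nat.find hex ≤ m → m ≤ N → HasOrder N A m := by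
          intro m hm
          induction m, hm using Nat.le_induction with
          | base => intro _; exact hPn
          | succ m hm ih =>
            intro hmN
            exact hasOrder_succ N A hA (by omega) hmN (ih (by omega))
        -- descending induction
        have hdesc : ∀ d, d ≤ N + 1 - Nat.find hex → ∀ f : R, (u) ^ (N + 1 - d) ∣ f → f ∈ A := by
          intro d
          induction d with
          | zero =>
            intro _ f hf
            rw [Nat.sub_zero, u_pow_succ, zero_dvd_iff] at hf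
            rw [hf]
            exact A.zero_mem
          | succ d ih =>
            intro hd f hf
            have ih' := ih (by omega)
            obtain ⟨f₀, hf₀A, hf₀m, hf₀m'⟩ := hall (N + 1 - (d + 1)) (by omega) (by omega)
            have hsucc : N + 1 - (d + 1) + 1 = N + 1 - d := by omega
            obtain ⟨c, r, rfl, hr⟩ := exists_lead N hf₀m
            have hc : c ≠ 0 := by
              rintro rfl
              apply hf₀m'
              simpa using hr
            rw [hsucc] at hr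
            have hrA : r ∈ A := ih' r hr
            have h1 : algebraMap k R c * (u) ^ (N + 1 - (d + 1)) ∈ A := by
              have := A.sub_mem hf₀A hrA
              simpa using this
            have h2 : (u) ^ (N + 1 - (d + 1)) ∈ A := by
              have := A.mul_mem (A.algebraMap_mem c⁻¹) h1
              rwa [← mul_assoc, ← map_mul, inv_mul_cancel₀ hc, map_one, one_mul] at this
            obtain ⟨c', r', rfl, hr'⟩ := exists_lead N hf
            rw [hsucc] at hr'
            exact A.add_mem (A.mul_mem (A.algebraMap_mem c') h2) (ih' r' hr')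
        intro f hf
        have := hdesc (N + 1 - Nat.find hex) le_rfl f
        rw [Nat.sub_sub_self (by omega)] at this
        exact this hf
    · refine ⟨N + 1, by omega, le_rfl, ?_, ?_⟩
      · intro m hm1 hmN hPm
        exact hex ⟨m, hm1, by omega, hPm⟩
      · intro f hf
        rw [u_pow_succ, zero_dvd_iff] at hf
        rw [hf]
        exact A.zero_mem
  refine ⟨n, hn1, hnN, ?_⟩
  have hsub := pow_dvd_of_no_order N A n hn1 hno
  ext f
  rw [Subalgebra.mem_toSubmodule, Submodule.mem_sup]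
  constructor
  · intro hfA
    obtain ⟨c, g', rfl⟩ := exists_const_add N f
    have h1 : (u) * g' ∈ A := by
      have := A.sub_mem hfA (A.algebraMap_mem c)
      simpa using this
    refine ⟨algebraMap k R c, ?_, (u) * g', ?_, rfl⟩
    · rw [Algebra.algebraMap_eq_smul_one]
      exact Submodule.smul_mem _ _ (Submodule.subset_span rfl)
    · rw [Submodule.restrictScalars_mem, Ideal.mem_span_singleton]
      exact hsub _ h1 (dvd_mul_right _ _)
  · rintro ⟨y, hy, z, hz, rfl⟩
    rw [Submodule.mem_span_singleton] at hy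
    obtain ⟨c, rfl⟩ := hy
    rw [Submodule.restrictScalars_mem, Ideal.mem_span_singleton] at hz
    refine A.add_mem ?_ (hsup z hz)
    rw [← Algebra.algebraMap_eq_smul_one]
    exact A.algebraMap_mem c

end main

end Groth.Agent.Lib.Helper68.TruncPoly
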