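import Groth.Prelude.Def_Twist2
import Groth.Prelude.Def_ProjUP

open CategoryTheory AlgebraicGeometry TopologicalSpace Opposite TopCat

universe u

namespace Groth.Agent.Lib.Helper68.TwistStalk

variable {R A : Type u} [CommRing R] [CommRing A] [Algebra R A] {𝒜 : ℕ → Submodule R A} [GradedAlgebra 𝒜]

set_option backward.isDefEq.respectTransparency.types false in
/-- The section `a / s` of the structure sheaf of `Proj` over an open where `s` vanishes nowhere. -/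
def fracSection {i : ℕ} (a s : 𝒜 i) (W : Opens (ProjectiveSpectrum.top 𝒜))
    (hs : ∀ y : W, s.1 ∉ y.1.asHomogeneousIdeal) : Twist.O (𝒜 := 𝒜) (op W) :=
  ⟨fun y => HomogeneousLocalization.mk ⟨i, a, s, hs y⟩,
    fun y => ⟨W, y.2, 𝟙 _, i, a, s, hs, fun _ => rfl⟩⟩

set_option backward.isDefEq.respectTransparency.types false in
theorem fracSection_val {i : ℕ} (a s : 𝒜 i) (W : Opens (ProjectiveSpectrum.top 𝒜))
    (hs : ∀ y : W, s.1 ∉ y.1.asHomogeneousIdeal) (y : W) :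
    ((fracSection a s W hs).1 y).val = Localization.mk a.1 ⟨s.1, hs y⟩ := by
  simp only [fracSection, HomogeneousLocalization.val_mk]

theorem one_not_mem (y : ProjectiveSpectrum 𝒜) : (1 : A) ∉ y.asHomogeneousIdeal :=
  fun h => y.isPrime.ne_top ((Ideal.eq_top_iff_one _).mpr h)

/-- Locally, a section of `O(n)` (`n ≥ 0`) is a multiple of `g^n / 1` wherever `g ∈ 𝒜 1` does not
vanish. -/
theorem exists_smul_globalOf_pow (n : ℕ) {U : Opens (ProjectiveSpectrum.top 𝒜)}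
    (s : Twist.sectN (𝒜 := 𝒜) (n : ℤ) (op U)) (x : ProjectiveSpectrum.top 𝒜) (hx : x ∈ U)
    (g : A) (hgx : g ∉ x.asHomogeneousIdeal) (hgn : g ^ n ∈ 𝒜 n) :
    ∃ (W : Opens (ProjectiveSpectrum.top 𝒜)) (_ : x ∈ W) (hWU : W ≤ U) (c : Twist.O (𝒜 := 𝒜) (op W)),
      ∀ y : W, ((s.1 ⟨y.1, hWU y.2⟩ : Twist.twistAt 𝒜 (n : ℤ) y.1) : Twist.Loc 𝒜 y.1) =
        (c.1 y).val * Localization.mk (g ^ n) ⟨1, one_not_mem y.1⟩ := by
  obtain ⟨V, hxV, iV, i, j, a, d, nin, hdeg, w⟩ := s.2 ⟨x, hx⟩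
  let W : Opens (ProjectiveSpectrum.top 𝒜) := V ⊓ ProjectiveSpectrum.basicOpen 𝒜 g
  have hxW : x ∈ W := ⟨hxV, hgx⟩
  have hWU : W ≤ U := le_trans inf_le_left (leOfHom iV)
  rcases hdeg with hdeg | ha0
  · have hij : i = j + n := by exact_mod_cast hdeg
    have hden : d.1 * g ^ n ∈ 𝒜 (j + n) := SetLike.mul_mem_graded d.2 hgn
    have hnin : ∀ y : W, d.1 * g ^ n ∉ y.1.asHomogeneousIdeal := by
      intro y hy
      rcases y.1.isPrime.mem_or_mem hy with h | h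
      · exact nin ⟨y.1, y.2.1⟩ h
      · exact y.2.2 (y.1.isPrime.mem_of_pow_mem _ h)
    refine ⟨W, hxW, hWU, fracSection ⟨a.1, hij ▸ a.2⟩ ⟨d.1 * g ^ n, hden⟩ W hnin, fun y => ?_⟩
    have hw := w ⟨y.1, y.2.1⟩
    rw [fracSection_val, Localization.mk_mul]
    refine Eq.trans hw ?_
    rw [Localization.mk_eq_mk_iff, Localization.r_iff_exists]
    exact ⟨1, by simp; ring⟩
  · refine ⟨W, hxW, hWU, 0, fun y => ?_⟩
    have hw := w ⟨y.1, y.2.1⟩
    refine Eq.trans hw ?_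
    rw [ha0, Localization.mk_zero]
    have : ((0 : Twist.O (𝒜 := 𝒜) (op W)).1 y) = 0 := rfl
    rw [this, HomogeneousLocalization.val_zero, zero_mul]

/-- If `Proj 𝒜` is covered by the `D₊(g)`, `g ∈ 𝒜 1`, then `O(n)` (`n ≥ 0`) is generated by the global
sections `b / 1`, `b ∈ 𝒜 n`. -/
theorem generatedBy_twist_of_cover (𝒜 : ℕ → Submodule R A) [GradedAlgebra 𝒜]
    (hcov : (⨆ g : 𝒜 1, Proj.basicOpen 𝒜 (g : A)) = ⊤) (n : ℕ) :
    ProjUP.GeneratedBy (Twist.twist 𝒜 (n : ℤ))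
      (fun b : 𝒜 n => (Twist.globalOf 𝒜 b : ProjUP.Γm (Twist.twist 𝒜 (n : ℤ)))) := by
  intro x
  rw [eq_top_iff]
  rintro t -
  obtain ⟨U, hxU, s, rfl⟩ := TopCat.Presheaf.exists_germ_eq (Twist.twist 𝒜 (n : ℤ)).presheaf t
  have hx : x ∈ (⨆ g : 𝒜 1, Proj.basicOpen 𝒜 (g : A)) := hcov ▸ trivial
  obtain ⟨g, hg⟩ := Opens.mem_iSup.mp hx
  have hgn : (g : A) ^ n ∈ 𝒜 n := by
    have := SetLike.pow_mem_graded n g.2
    simpa using this
  obtain ⟨W, hxW, hWU, c, hc⟩ := exists_smul_globalOf_pow n s x hxU g.1 hg hgn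
  let t₀ : ProjUP.Γm (Twist.twist 𝒜 (n : ℤ)) := Twist.globalOf 𝒜 ⟨(g : A) ^ n, hgn⟩
  have h1 : ((Twist.twist 𝒜 (n : ℤ)).presheaf.germ U x hxU).hom s =
      ((Twist.twist 𝒜 (n : ℤ)).presheaf.germ W x hxW).hom
        (((Twist.twist 𝒜 (n : ℤ)).presheaf.map (homOfLE hWU).op).hom s) :=
    (TopCat.Presheaf.germ_res_apply (Twist.twist 𝒜 (n : ℤ)).presheaf (homOfLE hWU) x hxW s).symm
  have h3 : ((Twist.twist 𝒜 (n : ℤ)).presheaf.germ ⊤ x trivial).hom t₀ =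
      ((Twist.twist 𝒜 (n : ℤ)).presheaf.germ W x hxW).hom
        (((Twist.twist 𝒜 (n : ℤ)).presheaf.map (homOfLE (le_top : W ≤ ⊤)).op).hom t₀) :=
    (TopCat.Presheaf.germ_res_apply (Twist.twist 𝒜 (n : ℤ)).presheaf
      (homOfLE (le_top : W ≤ ⊤)) x hxW t₀).symm
  let M : PresheafOfModules ((Proj 𝒜).presheaf ⋙ forget₂ CommRingCat RingCat) :=
    (Twist.twist 𝒜 (n : ℤ)).val
  let r : ((Proj 𝒜).presheaf.obj (op W)) := c
  let m : M.obj (op W) :=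
    ((Twist.twist 𝒜 (n : ℤ)).presheaf.map (homOfLE (le_top : W ≤ ⊤)).op).hom t₀
  have h2 : ((Twist.twist 𝒜 (n : ℤ)).presheaf.map (homOfLE hWU).op).hom s =
      (r • m : M.obj (op W)) := by
    apply Subtype.ext
    funext y
    apply Subtype.ext
    refine (hc y).trans ?_
    exact (Twist.coe_smul_val (n : ℤ) y.1 (c.1 y) (m.1 y)).symm
  have h4 := PresheafOfModules.germ_smul M x W hxW r m
  have h5 : ((Twist.twist 𝒜 (n : ℤ)).presheaf.germ U x hxU).hom s =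
      (((Proj 𝒜).presheaf.germ W x hxW).hom r) •
        ((Twist.twist 𝒜 (n : ℤ)).presheaf.germ ⊤ x trivial).hom t₀ := by
    rw [h1, h2, h3]
    exact h4
  have h6 := Submodule.smul_mem (Submodule.span ((Proj 𝒜).presheaf.stalk x)
      (Set.range fun b : 𝒜 n => ((Twist.twist 𝒜 (n : ℤ)).presheaf.germ ⊤ x trivial).hom
        (Twist.globalOf 𝒜 b : ProjUP.Γm (Twist.twist 𝒜 (n : ℤ)))))
    (((Proj 𝒜).presheaf.germ W x hxW).hom r)
    (Submodule.subset_span ⟨⟨(g : A) ^ n, hgn⟩, rfl⟩)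
  rw [← h5] at h6
  exact h6

end Groth.Agent.Lib.Helper68.TwistStalk
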