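import Mathlib

/-!
# Modules over the minimal central order of a family of Weil numbers (helper68)

`hPoly q g = X^N g(X, q/X)`, divisibility by the product of distinct minimal polynomials,
and the ring map `ℤ[F,V]/ker → End T` for `(T, F_T, V_T)` with `P_w(F_T) = 0`, `F_T V_T = q`.
-/

set_option autoImplicit false
set_option linter.unusedSectionVars false
set_option linter.style.haveILetI false
universe u
open Polynomial
open scoped IsMulCommutative

namespace Groth.Agent.Lib.Helper68.WeilMod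

/-- `h(X) = X^N g(X, q/X)` with `N = totalDegree g`. -/
noncomputable def hPoly (q : ℤ) (g : MvPolynomial (Fin 2) ℤ) : Polynomial ℤ :=
  ∑ s ∈ g.support, Polynomial.C (g.coeff s * q ^ (s 1)) *
    Polynomial.X ^ (s 0 + g.totalDegree - s 1)

theorem aeval_hPoly {A : Type*} [CommRing A] (x y : A) (q : ℤ) (hxy : x * y = (q : A))
    (g : MvPolynomial (Fin 2) ℤ) :
    Polynomial.aeval x (hPoly q g) = x ^ g.totalDegree * MvPolynomial.aeval ![x, y] g := by
  unfold hPoly
  rw [map_sum, MvPolynomial.aeval_def, MvPolynomial.eval₂_eq', Finset.mul_sum]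
  refine Finset.sum_congr rfl (fun s hs => ?_)
  have hs1 : s 1 ≤ g.totalDegree := by
    have h1 := MvPolynomial.le_totalDegree hs
    have h2 : s 1 ≤ s.sum (fun _ e => e) := by
      rw [Finsupp.sum_fintype _ _ (fun _ => rfl), Fin.sum_univ_two]
      omega
    exact le_trans h2 h1
  rw [Fin.prod_univ_two, map_mul (Polynomial.aeval x), Polynomial.aeval_C, map_pow,
    Polynomial.aeval_X]
  simp only [Matrix.cons_val_zero, Matrix.cons_val_one, eq_intCast, Int.cast_mul, Int.cast_pow]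
  have h3 : s 0 + g.totalDegree - s 1 = s 0 + (g.totalDegree - s 1) := by omega
  have h4 : x ^ g.totalDegree = x ^ (g.totalDegree - s 1) * x ^ s 1 := by
    rw [← pow_add]; congr 1; omega
  rw [h3, h4, pow_add, ← hxy, mul_pow]
  ring

section Dvd
variable {ι : Type} [Fintype ι] {K : ι → Type u} [∀ i, Field (K i)] [∀ i, CharZero (K i)]
  (π : ∀ i, K i) (hint : ∀ i, IsIntegral ℤ (π i))
  (hinj : ∀ i j, minpoly ℤ (π i) = minpoly ℤ (π j) → i = j)

include hint hinj in
theorem prod_minpoly_dvd (h : Polynomial ℤ) (hh : ∀ i, Polynomial.aeval (π i) h = 0) :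
    ∏ i, minpoly ℤ (π i) ∣ h := by
  apply Finset.prod_dvd_of_isRelPrime
  · intro i _ j _ hij
    change IsRelPrime (minpoly ℤ (π i)) (minpoly ℤ (π j))
    rw [(minpoly.irreducible (hint i)).isRelPrime_iff_not_dvd]
    intro hdvd
    have hass : Associated (minpoly ℤ (π i)) (minpoly ℤ (π j)) :=
      (minpoly.irreducible (hint i)).associated_of_dvd (minpoly.irreducible (hint j)) hdvd
    exact hij (hinj i j (Polynomial.eq_of_monic_of_associated (minpoly.monic (hint i))
      (minpoly.monic (hint j)) hass))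
  · intro i _
    exact minpoly.isIntegrallyClosed_dvd (hint i) (hh i)

end Dvd

section Mod
variable {T : Type} [AddCommGroup T] [Module.Finite ℤ T] [Module.Free ℤ T]
  (FT VT : T →ₗ[ℤ] T) (q : ℤ) (hq : q ≠ 0) (hFV : FT ∘ₗ VT = q • LinearMap.id)

include hq hFV in
theorem injective_FT : Function.Injective FT := by
  classical
  let b := Module.Free.chooseBasis ℤ T
  have hdet : LinearMap.det FT * LinearMap.det VT = q ^ Module.finrank ℤ T := by
    rw [← LinearMap.det_comp, hFV, LinearMap.det_smul, LinearMap.det_id, mul_one]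
  have hdet0 : (LinearMap.toMatrix b b FT).det ≠ 0 := by
    rw [LinearMap.det_toMatrix]
    intro h0
    rw [h0, zero_mul] at hdet
    exact pow_ne_zero _ hq hdet.symm
  rw [injective_iff_map_eq_zero]
  intro t ht
  have h1 : (LinearMap.toMatrix b b FT).mulVec (b.repr t) = 0 := by
    rw [LinearMap.toMatrix_mulVec_repr, ht, map_zero]
    rfl
  have h2 := Matrix.eq_zero_of_mulVec_eq_zero hdet0 h1
  have h3 : b.repr t = 0 := by
    ext i
    exact congrFun h2 i
  exact b.repr.map_eq_zero_iff.1 h3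

include hq hFV in
theorem VT_comp_FT : VT ∘ₗ FT = q • LinearMap.id := by
  have hinj := injective_FT FT VT q hq hFV
  ext t
  apply hinj
  have h1 : FT (VT (FT t)) = q • FT t := LinearMap.congr_fun hFV (FT t)
  simp only [LinearMap.comp_apply, LinearMap.smul_apply, LinearMap.id_apply, map_smul]
  exact h1

end Mod


section Ker
variable {ι : Type} [Fintype ι] {K : ι → Type u} [∀ i, Field (K i)] [∀ i, CharZero (K i)]
  (π c : ∀ i, K i) (q : ℤ) (hq : q ≠ 0) (hπc : ∀ i, π i * c i = (q : K i))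
  (hint : ∀ i, IsIntegral ℤ (π i))
  (hinj : ∀ i j, minpoly ℤ (π i) = minpoly ℤ (π j) → i = j)
  {T : Type} [AddCommGroup T] [Module.Finite ℤ T] [Module.Free ℤ T]
  (FT VT : T →ₗ[ℤ] T) (hFV : FT ∘ₗ VT = q • LinearMap.id)
  (hP : Polynomial.aeval FT (∏ i, minpoly ℤ (π i)) = 0)

omit [Fintype ι] [∀ i, CharZero (K i)] in
theorem Psi_apply (g : MvPolynomial (Fin 2) ℤ) (i : ι) :
    (MvPolynomial.aeval ![π, c] g : (i : ι) → K i) i = MvPolynomial.aeval ![π i, c i] g := by
  have h := MvPolynomial.comp_aeval (R := ℤ) ![π, c] (Pi.evalAlgHom ℤ K i)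
  have h2 := AlgHom.congr_fun h g
  simp only [AlgHom.comp_apply, Pi.evalAlgHom_apply] at h2
  rw [h2]
  have h3 : (fun j => (![π, c] j) i) = ![π i, c i] := by
    funext j
    fin_cases j <;> rfl
  rw [h3]

include hq hπc hint hinj hFV hP in
theorem exists_ringHom :
    ∃ ρ : (MvPolynomial.aeval ![π, c] :
        MvPolynomial (Fin 2) ℤ →ₐ[ℤ] ((i : ι) → K i)).range →+* Module.End ℤ T,
      ρ ⟨(MvPolynomial.aeval ![π, c] : MvPolynomial (Fin 2) ℤ →ₐ[ℤ] ((i : ι) → K i))
        (MvPolynomial.X 0), AlgHom.mem_range_self _ _⟩ = FT := by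
  classical
  have hVF := VT_comp_FT FT VT q hq hFV
  have hinjF := injective_FT FT VT q hq hFV
  have hcomm : FT * VT = VT * FT := by
    rw [Module.End.mul_eq_comp, Module.End.mul_eq_comp, hFV, hVF]
  let s : Set (Module.End ℤ T) := {FT, VT}
  have hs : ∀ a ∈ s, ∀ b ∈ s, a * b = b * a := by
    intro a ha b hb
    rcases ha with rfl | rfl <;> rcases hb with rfl | rfl
    · rfl
    · exact hcomm
    · exact hcomm.symm
    · rfl
  haveI : IsMulCommutative (Algebra.adjoin ℤ s) := Algebra.isMulCommutative_adjoin ℤ hs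
  let x : Algebra.adjoin ℤ s := ⟨FT, Algebra.subset_adjoin (by simp [s])⟩
  let y : Algebra.adjoin ℤ s := ⟨VT, Algebra.subset_adjoin (by simp [s])⟩
  have hxy : x * y = (q : Algebra.adjoin ℤ s) := by
    apply Subtype.ext
    change FT * VT = ((q : Algebra.adjoin ℤ s) : Module.End ℤ T)
    rw [Module.End.mul_eq_comp, hFV, SubringClass.coe_intCast]
    ext t
    simp
  let Ψ : MvPolynomial (Fin 2) ℤ →ₐ[ℤ] ((i : ι) → K i) := MvPolynomial.aeval ![π, c]
  let Φ : MvPolynomial (Fin 2) ℤ →ₐ[ℤ] Algebra.adjoin ℤ s := MvPolynomial.aeval ![x, y]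
  have key : ∀ g, Ψ g = 0 → Φ g = 0 := by
    intro g hg
    have h1 : ∀ i, Polynomial.aeval (π i) (hPoly q g) = 0 := by
      intro i
      rw [aeval_hPoly (π i) (c i) q (hπc i), ← Psi_apply π c g i]
      have : (MvPolynomial.aeval ![π, c] g : (i : ι) → K i) = 0 := hg
      rw [this]
      simp
    obtain ⟨r, hr⟩ := prod_minpoly_dvd π hint hinj _ h1
    have h2 : Polynomial.aeval FT (hPoly q g) = 0 := by
      rw [hr, map_mul, hP, zero_mul]
    have h3 : Polynomial.aeval x (hPoly q g) = x ^ g.totalDegree * Φ g :=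
      aeval_hPoly x y q hxy g
    have h4 : ((Polynomial.aeval x (hPoly q g) : Algebra.adjoin ℤ s) : Module.End ℤ T) =
        Polynomial.aeval FT (hPoly q g) := Polynomial.aeval_subalgebra_coe _ _ _
    rw [h3, h2] at h4
    have h5 : FT ^ g.totalDegree * ((Φ g : Algebra.adjoin ℤ s) : Module.End ℤ T) = 0 := h4
    apply Subtype.ext
    change ((Φ g : Algebra.adjoin ℤ s) : Module.End ℤ T) = 0
    ext t
    have h6 := LinearMap.congr_fun h5 t
    rw [Module.End.mul_apply, LinearMap.zero_apply] at h6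
    have hinjN : Function.Injective (FT ^ g.totalDegree) := by
      rw [Module.End.coe_pow]
      exact hinjF.iterate _
    apply hinjN
    rw [h6]
    simp
  have hsurj : Function.Surjective (Ψ.rangeRestrict : MvPolynomial (Fin 2) ℤ →+* Ψ.range) :=
    Ψ.rangeRestrict_surjective
  have hker : RingHom.ker (Ψ.rangeRestrict : MvPolynomial (Fin 2) ℤ →+* Ψ.range) ≤
      RingHom.ker (((Algebra.adjoin ℤ s).val : Algebra.adjoin ℤ s →+* Module.End ℤ T).comp
        (Φ : MvPolynomial (Fin 2) ℤ →+* Algebra.adjoin ℤ s)) := by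
    intro g hg
    rw [RingHom.mem_ker] at hg ⊢
    have hg' : Ψ g = 0 := congrArg Subtype.val hg
    have := key g hg'
    simp only [RingHom.comp_apply]
    change ((Algebra.adjoin ℤ s).val (Φ g)) = 0
    rw [this, map_zero]
  refine ⟨RingHom.liftOfSurjective _ hsurj ⟨_, hker⟩, ?_⟩
  have hF : (⟨Ψ (MvPolynomial.X 0), AlgHom.mem_range_self _ _⟩ : Ψ.range) =
      (Ψ.rangeRestrict : MvPolynomial (Fin 2) ℤ →+* Ψ.range) (MvPolynomial.X 0) := rfl
  change RingHom.liftOfSurjective _ hsurj ⟨_, hker⟩ ⟨Ψ (MvPolynomial.X 0), _⟩ = FT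
  rw [hF, RingHom.liftOfSurjective_comp_apply]
  change ((Φ (MvPolynomial.X 0) : Algebra.adjoin ℤ s) : Module.End ℤ T) = FT
  simp [Φ, x]

end Ker


section Fwd
variable {ι : Type} [Fintype ι] {K : ι → Type u} [∀ i, Field (K i)] [∀ i, CharZero (K i)]
  (π c : ∀ i, K i) (q : ℤ) (hπc : ∀ i, π i * c i = (q : K i))
  {T : Type} [AddCommGroup T] (FT : T →ₗ[ℤ] T)

include hπc in
theorem of_module' (Ψ : MvPolynomial (Fin 2) ℤ →ₐ[ℤ] ((i : ι) → K i))
    (hΨ0 : Ψ (MvPolynomial.X 0) = π) (hΨ1 : Ψ (MvPolynomial.X 1) = c)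
    (inst : Module Ψ.range T)
    (hF : ∀ t : T, (⟨Ψ (MvPolynomial.X 0), AlgHom.mem_range_self _ _⟩ : Ψ.range) • t = FT t) :
    Polynomial.aeval FT (∏ i, minpoly ℤ (π i)) = 0 ∧
      ∃ VT : T →ₗ[ℤ] T, FT ∘ₗ VT = q • LinearMap.id := by
  classical
  obtain ⟨Fw, hFw⟩ : ∃ Fw : Ψ.range, Fw = ⟨Ψ (MvPolynomial.X 0), AlgHom.mem_range_self _ _⟩ :=
    ⟨_, rfl⟩
  obtain ⟨Vw, hVw⟩ : ∃ Vw : Ψ.range, Vw = ⟨Ψ (MvPolynomial.X 1), AlgHom.mem_range_self _ _⟩ :=
    ⟨_, rfl⟩
  rw [← hFw] at hF
  have hFwc : (Fw : (i : ι) → K i) = π := by rw [hFw]; exact hΨ0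
  have hVwc : (Vw : (i : ι) → K i) = c := by rw [hVw]; exact hΨ1
  have hFVw : Fw * Vw = (q : Ψ.range) := by
    apply Subtype.ext
    rw [SubringClass.coe_intCast, Subalgebra.coe_mul, hFwc, hVwc]
    funext i
    simp [hπc i]
  have hpow : ∀ (n : ℕ) (t : T), (FT ^ n) t = Fw ^ n • t := by
    intro n
    induction n with
    | zero => intro t; simp
    | succ n ih =>
      intro t
      rw [pow_succ, Module.End.mul_apply, ← hF t, ih, pow_succ, mul_smul]
  have key : ∀ (P : Polynomial ℤ) (t : T),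
      (Polynomial.aeval FT P) t = (Polynomial.aeval Fw P) • t := by
    intro P
    induction P using Polynomial.induction_on' with
    | add P Q hP hQ =>
      intro t
      rw [map_add, map_add, LinearMap.add_apply, hP, hQ, add_smul]
    | monomial n a =>
      intro t
      rw [Polynomial.aeval_monomial, Polynomial.aeval_monomial, Module.End.mul_apply, hpow,
        mul_smul, eq_intCast, eq_intCast, Int.cast_smul_eq_zsmul]
      simp
  refine ⟨?_, ?_⟩
  · ext t
    rw [key, LinearMap.zero_apply]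
    have h0 : Polynomial.aeval Fw (∏ i, minpoly ℤ (π i)) = 0 := by
      apply Subtype.ext
      rw [Polynomial.aeval_subalgebra_coe, hFwc]
      funext i
      have h1 := Polynomial.aeval_algHom_apply (Pi.evalAlgHom ℤ K i) π
        (∏ i, minpoly ℤ (π i))
      simp only [Pi.evalAlgHom_apply] at h1
      change (Polynomial.aeval π (∏ i, minpoly ℤ (π i))) i = 0
      rw [← h1, map_prod]
      exact Finset.prod_eq_zero (Finset.mem_univ i) (minpoly.aeval ℤ (π i))
    rw [h0, zero_smul]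
  · refine ⟨AddMonoidHom.toIntLinearMap (DistribSMul.toAddMonoidHom T Vw), ?_⟩
    ext t
    simp only [LinearMap.comp_apply, AddMonoidHom.coe_toIntLinearMap,
      DistribSMul.toAddMonoidHom_apply, LinearMap.smul_apply, LinearMap.id_apply]
    rw [← hF, ← mul_smul, hFVw, Int.cast_smul_eq_zsmul]

end Fwd


end Groth.Agent.Lib.Helper68.WeilMod
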