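import Mathlib

open MvPolynomial

namespace Groth.Agent.Lib.Helper68.WittAddHom

variable (p : ℕ) [hp : Fact p.Prime]

/-- weights: the variable `(i, k)` has weight `p ^ k`. -/
def wt : Fin 2 × ℕ → ℕ := fun v => p ^ v.2

theorem wittAdd_rec (n : ℕ) :
    ∑ i ∈ Finset.range (n + 1), C ((p : ℤ) ^ i) * (WittVector.wittAdd p i) ^ (p ^ (n - i)) =
      ∑ i ∈ Finset.range (n + 1), C ((p : ℤ) ^ i) *
        ((X (0, i) : MvPolynomial (Fin 2 × ℕ) ℤ) ^ (p ^ (n - i)) + X (1, i) ^ (p ^ (n - i))) := by
  have hprop := wittStructureInt_prop p (X 0 + X 1 : MvPolynomial (Fin 2) ℤ) n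
  have hL : bind₁ (WittVector.wittAdd p) (wittPolynomial p ℤ n) =
      ∑ i ∈ Finset.range (n + 1), C ((p : ℤ) ^ i) * (WittVector.wittAdd p i) ^ (p ^ (n - i)) := by
    rw [wittPolynomial_eq_sum_C_mul_X_pow, map_sum]
    refine Finset.sum_congr rfl fun i _ => ?_
    simp only [map_mul, map_pow, bind₁_C_right, bind₁_X_right]
  have hR : bind₁ (fun i => rename (Prod.mk i) (wittPolynomial p ℤ n))
      (X 0 + X 1 : MvPolynomial (Fin 2) ℤ) =
      ∑ i ∈ Finset.range (n + 1), C ((p : ℤ) ^ i) *
        ((X (0, i) : MvPolynomial (Fin 2 × ℕ) ℤ) ^ (p ^ (n - i)) + X (1, i) ^ (p ^ (n - i))) := by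
    rw [map_add, bind₁_X_right, bind₁_X_right, wittPolynomial_eq_sum_C_mul_X_pow, map_sum, map_sum,
      ← Finset.sum_add_distrib]
    refine Finset.sum_congr rfl fun i _ => ?_
    simp only [map_mul, map_pow, rename_C, rename_X]
    ring
  rw [← hL, ← hR]
  exact hprop

theorem wittAdd_isWeightedHomogeneous (n : ℕ) :
    IsWeightedHomogeneous (wt p) (WittVector.wittAdd p n) (p ^ n) := by
  induction n using Nat.strong_induction_on with
  | _ n ih =>
    have hrec := wittAdd_rec p n
    rw [Finset.sum_range_succ, Finset.sum_range_succ, Nat.sub_self, pow_zero, pow_one, pow_one,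
      pow_one] at hrec
    have hX : ∀ (j : Fin 2) (i : ℕ), i ≤ n →
        IsWeightedHomogeneous (wt p) ((X (j, i) : MvPolynomial (Fin 2 × ℕ) ℤ) ^ (p ^ (n - i)))
          (p ^ n) := by
      intro j i hi
      have h1 := (isWeightedHomogeneous_X ℤ (wt p) (j, i)).pow (p ^ (n - i))
      have h2 : p ^ (n - i) • wt p (j, i) = p ^ n := by
        show p ^ (n - i) * p ^ i = p ^ n
        rw [← pow_add, Nat.sub_add_cancel hi]
      rwa [h2] at h1
    have hS : ∀ i, i < n →
        IsWeightedHomogeneous (wt p) ((WittVector.wittAdd p i) ^ (p ^ (n - i))) (p ^ n) := by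
      intro i hi
      have h1 := (ih i hi).pow (p ^ (n - i))
      have h2 : p ^ (n - i) • p ^ i = p ^ n := by
        show p ^ (n - i) * p ^ i = p ^ n
        rw [← pow_add, Nat.sub_add_cancel hi.le]
      rwa [h2] at h1
    have hmain : IsWeightedHomogeneous (wt p)
        (C ((p : ℤ) ^ n) * WittVector.wittAdd p n) (p ^ n) := by
      have : C ((p : ℤ) ^ n) * WittVector.wittAdd p n =
          (∑ i ∈ Finset.range n, C ((p : ℤ) ^ i) *
            ((X (0, i) : MvPolynomial (Fin 2 × ℕ) ℤ) ^ (p ^ (n - i)) + X (1, i) ^ (p ^ (n - i))) +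
            C ((p : ℤ) ^ n) * (X (0, n) + X (1, n))) -
          ∑ i ∈ Finset.range n, C ((p : ℤ) ^ i) * (WittVector.wittAdd p i) ^ (p ^ (n - i)) := by
        rw [← hrec]; ring
      rw [this]
      refine IsWeightedHomogeneous.sub (IsWeightedHomogeneous.add ?_ ?_) ?_
      · refine IsWeightedHomogeneous.sum _ _ _ fun i hi => ?_
        have hi' := Finset.mem_range.mp hi
        exact ((hX 0 i hi'.le).add (hX 1 i hi'.le)).C_mul _
      · have h0 := hX 0 n le_rfl
        have h1 := hX 1 n le_rfl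
        rw [Nat.sub_self, pow_zero, pow_one] at h0 h1
        exact (h0.add h1).C_mul _
      · refine IsWeightedHomogeneous.sum _ _ _ fun i hi => ?_
        exact (hS i (Finset.mem_range.mp hi)).C_mul _
    intro d hd
    apply hmain
    rw [coeff_C_mul]
    exact mul_ne_zero (pow_ne_zero _ (by exact_mod_cast hp.out.ne_zero)) hd

section Eval

variable {T : Type*} [CommRing T]

/-- the evaluation point attached to two coefficient sequences -/
def val (x y : ℕ → T) : Fin 2 × ℕ → T := Function.uncurry ![x, y]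

theorem val_zero (x y : ℕ → T) (k : ℕ) : val x y (0, k) = x k := rfl

theorem val_one (x y : ℕ → T) (k : ℕ) : val x y (1, k) = y k := rfl

/-- value of a monomial -/
noncomputable def mv (x y : ℕ → T) (d : Fin 2 × ℕ →₀ ℕ) : T :=
  ∏ v ∈ d.support, val x y v ^ d v

theorem peval_eq_sum (φ : MvPolynomial (Fin 2 × ℕ) ℤ) (x y : ℕ → T) :
    WittVector.peval φ ![x, y] = ∑ d ∈ φ.support, ((φ.coeff d : ℤ) : T) * mv x y d := by
  rw [WittVector.peval, aeval_def, eval₂_eq]
  refine Finset.sum_congr rfl fun d _ => ?_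
  rw [eq_intCast]
  rfl

/-- the special monomial `X (j, n)` -/
noncomputable def e (j : Fin 2) (n : ℕ) : Fin 2 × ℕ →₀ ℕ := Finsupp.single (j, n) 1

theorem mv_e (x y : ℕ → T) (j : Fin 2) (n : ℕ) : mv x y (e j n) = val x y (j, n) := by
  classical
  rw [mv, e, Finsupp.support_single_ne_zero _ one_ne_zero, Finset.prod_singleton,
    Finsupp.single_eq_same, pow_one]

theorem e_ne (n : ℕ) : e 0 n ≠ e 1 n := by
  intro h
  have := congrArg (fun f => f ((0 : Fin 2), n)) h
  simp [e, Finsupp.single_apply] at this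

theorem peval_wittAdd_eq (x y : ℕ → T) (n : ℕ)
    (hvan : ∀ d : Fin 2 × ℕ →₀ ℕ, Finsupp.weight (wt p) d = p ^ n → d ≠ e 0 n → d ≠ e 1 n →
      mv x y d = 0) :
    WittVector.peval (WittVector.wittAdd p n) ![x, y] =
      (((WittVector.wittAdd p n).coeff (e 0 n) : ℤ) : T) * x n +
      (((WittVector.wittAdd p n).coeff (e 1 n) : ℤ) : T) * y n := by
  classical
  rw [peval_eq_sum]
  set φ := WittVector.wittAdd p n with hφ
  have h1 : ∑ d ∈ φ.support, ((φ.coeff d : ℤ) : T) * mv x y d =
      ∑ d ∈ φ.support ∪ {e 0 n, e 1 n}, ((φ.coeff d : ℤ) : T) * mv x y d := by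
    refine Finset.sum_subset Finset.subset_union_left fun d _ hd => ?_
    rw [MvPolynomial.notMem_support_iff.mp hd, Int.cast_zero, zero_mul]
  have h2 : ∑ d ∈ ({e 0 n, e 1 n} : Finset (Fin 2 × ℕ →₀ ℕ)), ((φ.coeff d : ℤ) : T) * mv x y d =
      ∑ d ∈ φ.support ∪ {e 0 n, e 1 n}, ((φ.coeff d : ℤ) : T) * mv x y d := by
    refine Finset.sum_subset Finset.subset_union_right fun d hd hd' => ?_
    rw [Finset.mem_insert, Finset.mem_singleton, not_or] at hd'
    rcases Finset.mem_union.mp hd with hd1 | hd1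
    · have hw := wittAdd_isWeightedHomogeneous p n (MvPolynomial.mem_support_iff.mp hd1)
      rw [hvan d hw hd'.1 hd'.2, mul_zero]
    · rw [Finset.mem_insert, Finset.mem_singleton] at hd1
      exact absurd hd1 (not_or.mpr hd')
  rw [h1, ← h2, Finset.sum_pair (e_ne n), mv_e, mv_e, val_zero, val_one]

end Eval

section Weight

theorem weight_eq_sum (d : Fin 2 × ℕ →₀ ℕ) :
    Finsupp.weight (wt p) d = ∑ v ∈ d.support, d v * p ^ v.2 := by
  rw [Finsupp.weight_apply, Finsupp.sum]
  rfl

theorem weight_analysis (n : ℕ) (d : Fin 2 × ℕ →₀ ℕ) (hw : Finsupp.weight (wt p) d = p ^ n)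
    (h0 : d ≠ e 0 n) (h1 : d ≠ e 1 n) :
    (∀ v ∈ d.support, v.2 < n) ∧ p ≤ ∑ v ∈ d.support, d v := by
  classical
  have hp2 : 2 ≤ p := hp.out.two_le
  have hp0 : 0 < p := by omega
  rw [weight_eq_sum] at hw
  have hlow : ∀ v ∈ d.support, v.2 < n := by
    intro v hv
    have hdv : 1 ≤ d v := Nat.one_le_iff_ne_zero.mpr (Finsupp.mem_support_iff.mp hv)
    have hterm : d v * p ^ v.2 ≤ p ^ n := by
      rw [← hw]
      exact Finset.single_le_sum (f := fun v => d v * p ^ v.2) (fun _ _ => Nat.zero_le _) hv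
    have hle : v.2 ≤ n := by
      have : p ^ v.2 ≤ p ^ n := le_trans (Nat.le_mul_of_pos_left _ hdv) hterm
      exact (Nat.pow_le_pow_iff_right hp2).mp this
    rcases Nat.lt_or_ge v.2 n with hlt | hge
    · exact hlt
    exfalso
    have hvn : v.2 = n := le_antisymm hle hge
    rw [hvn] at hterm
    have hdv1 : d v = 1 := by
      have hpn : 0 < p ^ n := Nat.pos_of_ne_zero (pow_ne_zero _ hp0.ne')
      have : d v ≤ 1 := by
        by_contra hcon
        push Not at hcon
        have : 2 * p ^ n ≤ d v * p ^ n := Nat.mul_le_mul_right _ hcon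
        omega
      omega
    -- the other terms vanish
    have hrest : ∑ u ∈ d.support.erase v, d u * p ^ u.2 = 0 := by
      have := Finset.add_sum_erase d.support (fun u => d u * p ^ u.2) hv
      rw [hw, hvn, hdv1, one_mul] at this
      omega
    have hsupp : d.support = {v} := by
      ext u
      rw [Finset.mem_singleton]
      constructor
      · intro hu
        by_contra hne
        have hu' : u ∈ d.support.erase v := Finset.mem_erase.mpr ⟨hne, hu⟩
        have := (Finset.sum_eq_zero_iff.mp hrest) u hu'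
        have hdu : d u ≠ 0 := Finsupp.mem_support_iff.mp hu
        have hpu : p ^ u.2 ≠ 0 := pow_ne_zero _ hp0.ne'
        exact (mul_ne_zero hdu hpu) this
      · rintro rfl
        exact hv
    have hd : d = Finsupp.single v 1 := by
      ext u
      by_cases huv : u = v
      · rw [huv, Finsupp.single_eq_same, hdv1]
      · rw [Finsupp.single_eq_of_ne huv]
        have : u ∉ d.support := by rw [hsupp, Finset.mem_singleton]; exact huv
        exact Finsupp.notMem_support_iff.mp this
    obtain ⟨j, k⟩ := v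
    simp only at hvn
    subst hvn
    fin_cases j
    · exact h0 hd
    · exact h1 hd
  refine ⟨hlow, ?_⟩
  -- n ≥ 1
  have hne : d.support.Nonempty := by
    by_contra hcon
    rw [Finset.not_nonempty_iff_eq_empty] at hcon
    rw [hcon, Finset.sum_empty] at hw
    exact (pow_ne_zero n hp0.ne') hw.symm
  obtain ⟨v0, hv0⟩ := hne
  have hn1 : 1 ≤ n := by have := hlow v0 hv0; omega
  have hbound : p ^ n ≤ (∑ v ∈ d.support, d v) * p ^ (n - 1) := by
    rw [← hw, Finset.sum_mul]
    refine Finset.sum_le_sum fun v hv => ?_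
    have : v.2 ≤ n - 1 := by have := hlow v hv; omega
    exact Nat.mul_le_mul_left _ (Nat.pow_le_pow_right hp0 this)
  have hpn : p ^ n = p * p ^ (n - 1) := by
    rw [← pow_succ', Nat.sub_add_cancel hn1]
  rw [hpn] at hbound
  exact Nat.le_of_mul_le_mul_right hbound (Nat.pos_of_ne_zero (pow_ne_zero _ hp0.ne'))

end Weight

section Coeff

theorem mv_eq_zero_of_low {T : Type*} [CommRing T] (x y : ℕ → T) (n : ℕ)
    (hx : ∀ k, k < n → x k = 0) (hy : ∀ k, k < n → y k = 0)
    (d : Fin 2 × ℕ →₀ ℕ) (hw : Finsupp.weight (wt p) d = p ^ n)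
    (h0 : d ≠ e 0 n) (h1 : d ≠ e 1 n) : mv x y d = 0 := by
  obtain ⟨hlow, hsum⟩ := weight_analysis p n d hw h0 h1
  have hne : d.support.Nonempty := by
    by_contra hcon
    rw [Finset.not_nonempty_iff_eq_empty] at hcon
    rw [hcon, Finset.sum_empty] at hsum
    have := hp.out.two_le
    omega
  obtain ⟨v, hv⟩ := hne
  refine Finset.prod_eq_zero hv ?_
  have hval : val x y v = 0 := by
    obtain ⟨i, k⟩ := v
    have hk : k < n := hlow _ hv
    fin_cases i
    · exact hx k hk
    · exact hy k hk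
  rw [hval, zero_pow (Finsupp.mem_support_iff.mp hv)]

theorem coeff_e (j : Fin 2) (n : ℕ) : (WittVector.wittAdd p n).coeff (e j n) = 1 := by
  classical
  let δ : ℕ → ℤ := fun k => if k = n then 1 else 0
  have hδ : ∀ k, k < n → δ k = 0 := fun k hk => if_neg (by omega)
  have hδn : δ n = 1 := if_pos rfl
  have hz : ∀ k, k < n → (0 : ℕ → ℤ) k = 0 := fun _ _ => rfl
  fin_cases j
  · have key := peval_wittAdd_eq p δ 0 n (mv_eq_zero_of_low p δ 0 n hδ hz)
    have hadd := WittVector.add_coeff (WittVector.mk p δ) (0 : WittVector p ℤ) n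
    have hzero : (0 : WittVector p ℤ).coeff = 0 := funext (WittVector.zero_coeff p ℤ)
    rw [add_zero, hzero] at hadd
    have hmk : (WittVector.mk p δ).coeff = δ := rfl
    rw [hmk] at hadd
    rw [← hadd, hδn] at key
    simpa using key.symm
  · have key := peval_wittAdd_eq p 0 δ n (mv_eq_zero_of_low p 0 δ n hz hδ)
    have hadd := WittVector.add_coeff (0 : WittVector p ℤ) (WittVector.mk p δ) n
    have hzero : (0 : WittVector p ℤ).coeff = 0 := funext (WittVector.zero_coeff p ℤ)
    rw [zero_add, hzero] at hadd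
    have hmk : (WittVector.mk p δ).coeff = δ := rfl
    rw [hmk] at hadd
    rw [← hadd, hδn] at key
    simpa using key.symm

/-- Main evaluation statement: if all monomials of degree `≥ p` in the variables of index `< n`
vanish at `(x, y)`, then the `n`-th Witt addition polynomial evaluates to `x n + y n`. -/
theorem peval_wittAdd_of_vanish {T : Type*} [CommRing T] (x y : ℕ → T) (n : ℕ)
    (H : ∀ d : Fin 2 × ℕ →₀ ℕ, (∀ v ∈ d.support, v.2 < n) → p ≤ ∑ v ∈ d.support, d v →
      mv x y d = 0) :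
    WittVector.peval (WittVector.wittAdd p n) ![x, y] = x n + y n := by
  rw [peval_wittAdd_eq p x y n, coeff_e, coeff_e]
  · simp
  · intro d hw h0 h1
    obtain ⟨hlow, hsum⟩ := weight_analysis p n d hw h0 h1
    exact H d hlow hsum

end Coeff

section DVR

open IsDiscreteValuationRing

theorem addVal_prod_pow {R : Type*} [CommRing R] [IsDomain R] [IsDiscreteValuationRing R]
    {ι : Type*} (s : Finset ι) (r : ι → R) (m : ι → ℕ) :
    addVal R (∏ i ∈ s, r i ^ m i) = ∑ i ∈ s, m i • addVal R (r i) := by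
  classical
  induction s using Finset.induction_on with
  | empty => simp
  | insert a s ha ih =>
    rw [Finset.prod_insert ha, Finset.sum_insert ha, addVal_mul, addVal_pow, ih]

omit hp in
theorem dvd_prod_pow_of_dvd_pow {R : Type*} [CommRing R] [IsDomain R] [IsDiscreteValuationRing R]
    (lam : R) (hp0 : p ≠ 0) {ι : Type*} (s : Finset ι) (r : ι → R) (m : ι → ℕ)
    (hm : p ≤ ∑ i ∈ s, m i) (hr : ∀ i ∈ s, lam ∣ r i ^ p) :
    lam ∣ ∏ i ∈ s, r i ^ m i := by
  rw [← addVal_le_iff_dvd, addVal_prod_pow]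
  have h1 : ∀ i ∈ s, addVal R lam ≤ p • addVal R (r i) := by
    intro i hi
    rw [← addVal_pow, addVal_le_iff_dvd]
    exact hr i hi
  have h2 : (p : ℕ∞) * addVal R lam ≤ (p : ℕ∞) * ∑ i ∈ s, m i • addVal R (r i) := by
    calc (p : ℕ∞) * addVal R lam ≤ ((∑ i ∈ s, m i : ℕ) : ℕ∞) * addVal R lam := by
          gcongr
      _ = ∑ i ∈ s, m i • addVal R lam := by
          rw [Nat.cast_sum, Finset.sum_mul]
          refine Finset.sum_congr rfl fun i _ => ?_
          rw [nsmul_eq_mul]
      _ ≤ ∑ i ∈ s, m i • (p • addVal R (r i)) := by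
          refine Finset.sum_le_sum fun i hi => ?_
          exact nsmul_le_nsmul_right (h1 i hi) _
      _ = (p : ℕ∞) * ∑ i ∈ s, m i • addVal R (r i) := by
          rw [Finset.mul_sum]
          refine Finset.sum_congr rfl fun i _ => ?_
          simp only [nsmul_eq_mul]
          ring
  exact (ENat.mul_le_mul_left_iff (by exact_mod_cast hp0) (ENat.coe_ne_top p)).mp h2

end DVR

end Groth.Agent.Lib.Helper68.WittAddHom
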